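import Cfsg.Agent.Lib.HHS57.ExactBasics

/-!
# `gZ` of order four (helper18)

The fixed elements of `gM` act semiregularly through a cyclic group.
-/

set_option autoImplicit false
set_option linter.style.haveILetI false
set_option linter.unusedSectionVars false

namespace Cfsg.Agent.Lib.HHS57

open Cfsg Cfsg.Agent.Lib
open Subgroup
open scoped commutatorElement

universe u

variable {H : Type u} [Group H] [Finite H] {p r : ℕ} {α : MulAut H} {V : Type u} [CommGroup V]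
  [Finite V] {ψ : H →* MulAut V} {e : MulAut V}

variable (h : Min p r α ψ e) (T : Sylow 2 H) (hT : Stb α (T : Subgroup H))

include h hT

/-- Four elements: semiregular. -/
theorem Min.semiregular_four (hnm : FixedNoMove α T) (hq : Nat.card (gZ α T) = 4) :
    ∀ a ∈ gM α T, qAut α a = a → ∀ z ∈ gZ α T, z ≠ 1 → a * z = z * a →
      ∀ z' ∈ gZ α T, a * z' = z' * a := by
  intro a ha haf z hz hz1 haz y hy
  rcases eq_or_ne y 1 with rfl | hy1
  · simp
  rcases eq_or_ne y z with rfl | hyz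
  · exact haz
  have hX : ∀ b ∈ zpowers a, b ∈ gM α T ∧ qAut α b = b ∧ b * z = z * b := by
    intro b hb
    obtain ⟨i, rfl⟩ := Subgroup.mem_zpowers_iff.1 hb
    exact ⟨zpow_mem ha i, by rw [map_zpow, haf], (show Commute a z from haz).zpow_left i⟩
  refine (mem_centralizer_singleton_iff.1 (mem_of_parts (K := Subgroup.centralizer {y})
    (fun b hb hb2 => mem_centralizer_singleton_iff.2 ?_) fun b hb hbo => ?_ : a ∈ _))
  · exact h.comm_gZ_of_not_moves T hT (hX b hb).1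
      ((h.not_moves_iff T hT (hX b hb).1).2 (h.twoEl_trivOn T hT hnm (hX b hb).1 hb2)) y hy
  · obtain ⟨hb1, hb2, hb3⟩ := hX b hb
    rcases h.gZ_four_cases T hT hq hz hy hz1 hy1 (Ne.symm hyz) (h.gZ_conj T hT hb1 hy) with e1 | e1 | e1 | e1
    · exact absurd (by simpa using e1) hy1
    · refine absurd ?_ hyz
      rw [show y = b⁻¹ * (b * y * b⁻¹) * b by group, e1, mul_assoc, ← hb3, inv_mul_cancel_left]
    · exact mem_centralizer_singleton_iff.2 (mul_inv_eq_iff_eq_mul.1 e1)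
    · refine mem_of_sq_mem hbo (mem_centralizer_singleton_iff.2 (mul_inv_eq_iff_eq_mul.1 ?_))
      calc b * b * y * (b * b)⁻¹ = b * (b * y * b⁻¹) * b⁻¹ := by group
        _ = b * (z * y) * b⁻¹ := by rw [e1]
        _ = b * z * b⁻¹ * (b * y * b⁻¹) := by group
        _ = z * (z * y) := by rw [e1, hb3, mul_inv_cancel_right]
        _ = y := by rw [← mul_assoc, h.gZ_sq T hT hz, one_mul]

/-- Four elements: a transitive element. -/
theorem Min.exists_cycle {Λ : Subgroup (H ⧸ Subgroup.center H)} (hΛ : TransOdd α T Λ)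
    (hq : Nat.card (gZ α T) = 4) : ∃ γ ∈ Λ, ∃ z ∈ gZ α T, z ≠ 1 ∧
      (γ * z * γ⁻¹ ≠ z ∧ γ ^ 3 * z * (γ ^ 3)⁻¹ = z) ∧
      ∀ y ∈ gZ α T, y ≠ 1 → ∃ i : ℕ, γ ^ i * z * (γ ^ i)⁻¹ = y := by
  obtain ⟨z, hz, hz1⟩ : ∃ z ∈ gZ α T, z ≠ 1 := by
    by_contra hh
    push Not at hh
    rw [(Subgroup.eq_bot_iff_forall _).2 hh, Subgroup.card_bot] at hq
    norm_num at hq
  obtain ⟨w, hw, hw1, hwz⟩ : ∃ w ∈ gZ α T, w ≠ 1 ∧ w ≠ z := by
    classical
    by_contra hh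
    push Not at hh
    haveI := Fintype.ofFinite (gZ α T)
    have h1 : (Finset.univ : Finset (gZ α T)) ⊆ {1, ⟨z, hz⟩} := fun y _ => by
      by_cases hy1 : (y : H ⧸ Subgroup.center H) = 1
      · simp [Subtype.ext_iff, hy1]
      · simp [Subtype.ext_iff, hh y y.2 hy1]
    have h2 := (Finset.card_le_card h1).trans Finset.card_le_two
    rw [Finset.card_univ, ← Nat.card_eq_fintype_card, hq] at h2
    omega
  obtain ⟨γ, hγ, e1⟩ := hΛ.trans z hz hz1 w hw hw1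
  have hγM := hΛ.le hγ
  refine ⟨γ, hγ, z, hz, hz1, ?_⟩
  have hne : γ * z * γ⁻¹ ≠ z := e1 ▸ hwz
  set v := γ * w * γ⁻¹ with hv
  have hvZ : v ∈ gZ α T := h.gZ_conj T hT hγM hw
  have hv1 : v ≠ 1 := fun e2 => hw1 (by simpa [hv] using e2)
  have hvw : v ≠ w := fun e2 => by
    have e3 : γ * w * γ⁻¹ = γ * z * γ⁻¹ := by rw [← hv, e2, e1]
    exact hwz (by simpa using e3)
  have hsq : γ ^ 2 * z * (γ ^ 2)⁻¹ = v := by rw [hv, ← e1, pow_two]; group
  have hodd : Odd (orderOf γ) := by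
    rw [← Nat.not_even_iff_odd, even_iff_two_dvd]
    exact fun hd => (Nat.not_even_iff_odd.2 hΛ.odd) (even_iff_two_dvd.2
      (hd.trans (Subgroup.orderOf_dvd_natCard Λ hγ)))
  have hvz : v ≠ z := fun e2 => hne (by
    have h2 : γ * γ ∈ Subgroup.centralizer {z} := mem_centralizer_singleton_iff.2
      (mul_inv_eq_iff_eq_mul.1 (by rw [← pow_two, hsq, e2]))
    exact mul_inv_eq_iff_eq_mul.2 (mem_centralizer_singleton_iff.1 (mem_of_sq_mem hodd h2)))
  have hv3 : v = z * w := by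
    rcases h.gZ_four_cases T hT hq hz hw hz1 hw1 (Ne.symm hwz) hvZ with e2 | e2 | e2 | e2
    · exact absurd e2 hv1
    · exact absurd e2 hvz
    · exact absurd e2 hvw
    · exact e2
  refine ⟨⟨hne, ?_⟩, fun y hy hy1 => ?_⟩
  · calc γ ^ 3 * z * (γ ^ 3)⁻¹ = γ * v * γ⁻¹ := by rw [← hsq]; group
      _ = γ * z * γ⁻¹ * (γ * w * γ⁻¹) := by rw [hv3]; group
      _ = w * (z * w) := by rw [e1, ← hv, hv3]
      _ = z := by
          rw [← mul_assoc, h.gZ_comm T hT hw (h.gZ_le_gD T hT hz), mul_assoc, h.gZ_sq T hT hw, mul_one]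
  · rcases h.gZ_four_cases T hT hq hz hw hz1 hw1 (Ne.symm hwz) hy with e2 | e2 | e2 | e2
    · exact absurd e2 hy1
    · exact ⟨0, by rw [e2]; simp⟩
    · exact ⟨1, by rw [e2, pow_one, e1]⟩
    · exact ⟨2, by rw [e2, hsq, hv3]⟩

/-- Four elements: the image on `gZ` is cyclic. -/
theorem Min.cyclic_four (hnm : FixedNoMove α T) {Λ : Subgroup (H ⧸ Subgroup.center H)}
    (hΛ : TransOdd α T Λ) (hq : Nat.card (gZ α T) = 4) :
    ∃ γ ∈ gM α T, qAut α γ = γ ∧ ∀ c ∈ gM α T, qAut α c = c → ∃ i : ℕ,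
      ∀ z ∈ gZ α T, c * z * c⁻¹ = γ ^ i * z * (γ ^ i)⁻¹ := by
  obtain ⟨γ, hγ, z, hz, hz1, -, hi⟩ := h.exists_cycle T hT hΛ hq
  refine ⟨γ, hΛ.le hγ, hΛ.fixed γ hγ, fun c hc hcf => ?_⟩
  obtain ⟨i, e1⟩ := hi (c * z * c⁻¹) (h.gZ_conj T hT hc hz) (fun e => hz1 (by simpa using e))
  refine ⟨i, fun y hy => ?_⟩
  set a := (γ ^ i)⁻¹ * c with ha
  have h2 := h.semiregular_four T hT hnm hq a (mul_mem (inv_mem (pow_mem (hΛ.le hγ) i)) hc)
    (by rw [ha, map_mul, map_inv, map_pow, hΛ.fixed γ hγ, hcf]) z hz hz1 (mul_inv_eq_iff_eq_mul.1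
      (by rw [show a * z * a⁻¹ = (γ ^ i)⁻¹ * (c * z * c⁻¹) * γ ^ i by rw [ha]; group, ← e1]; group)) y hy
  calc c * y * c⁻¹ = γ ^ i * (a * y * a⁻¹) * (γ ^ i)⁻¹ := by rw [ha]; group
    _ = γ ^ i * y * (γ ^ i)⁻¹ := by rw [h2, mul_inv_cancel_right]

end Cfsg.Agent.Lib.HHS57
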