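import Mathlib.Algebra.Module.ZMod
import Mathlib.FieldTheory.Finiteness
import Mathlib.Algebra.Field.ZMod
import Mathlib.GroupTheory.Perm.Cycle.Type
import Mathlib.RingTheory.IntegralDomain
import Mathlib.Algebra.Ring.Subring.Basic
import Mathlib.Dynamics.PeriodicPts.Lemmas

/-!
# A fixed-point-free module over `F_2` for `r = 2 ^ m + 1` prime (helper42)

Invariant subgroups have order `2 ^ (2 m j)`; on a line (order `2 ^ (2 m)`) the endomorphisms
commuting with `a` form a field of polynomials in `a`, the adjoint of `b` for an invariant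
alternating form is `b ^ 2 ^ m`.
-/

set_option autoImplicit false
set_option linter.style.haveILetI false
set_option linter.unusedSectionVars false

namespace Cfsg.Agent.Lib.HHS57

universe u

variable {W : Type u} [AddCommGroup W] [Finite W]

/-- An invariant additive subgroup. -/
def AStb (a : W ≃+ W) (L : AddSubgroup W) : Prop := ∀ x ∈ L, a x ∈ L

/-- The module. -/
structure FpfMod (r m : ℕ) (a : W ≃+ W) : Prop where
  prime : r.Prime
  eq : r = 2 ^ m + 1
  pos : 0 < m
  two : ∀ x : W, x + x = 0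
  pow : ∀ x : W, a^[r] x = x
  fpf : ∀ x : W, a x = x → x = 0

/-- An invariant alternating form; its radical is `f.ker`. -/
structure InvForm (a : W ≃+ W) (f : W →+ W →+ ZMod 2) : Prop where
  alt : ∀ x, f x x = 0
  inv : ∀ x y, f (a x) (a y) = f x y

/-- An elementary abelian `2`-group has `2`-power order. -/
theorem exists_card_eq_two_pow {L : Type*} [AddCommGroup L] [Finite L] (h : ∀ x : L, x + x = 0) :
    ∃ k, Nat.card L = 2 ^ k := by
  letI : Module (ZMod 2) L := AddCommGroup.zmodModule fun x => by rw [two_nsmul, h]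
  exact ⟨_, by rw [Module.natCard_eq_pow_finrank (K := ZMod 2), Nat.card_zmod]⟩

/-- For `r = 2 ^ m + 1` prime, `2 ^ i = 1 (mod r)` gives `2 m ∣ i`. -/
theorem two_mul_dvd_of_modEq {r m i : ℕ} (hm : 0 < m) (hr : r = 2 ^ m + 1)
    (h : 2 ^ i ≡ 1 [MOD r]) : 2 * m ∣ i := by
  have h2 : 2 ^ (2 * m) ≡ 1 [MOD r] := by
    have h1 : 1 ≤ 2 ^ (2 * m) := Nat.one_le_two_pow
    refine ((Nat.modEq_iff_dvd' h1).2 ?_).symm
    refine ⟨2 ^ m - 1, ?_⟩
    rw [hr, two_mul, pow_add]
    obtain ⟨k, hk⟩ := Nat.exists_eq_add_of_le (Nat.one_le_two_pow (n := m))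
    rw [hk, Nat.add_sub_cancel_left]
    have : (1 + k) * (1 + k) = (1 + k + 1) * k + 1 := by ring
    omega
  set j := i % (2 * m) with hj
  have hjlt : j < 2 * m := Nat.mod_lt _ (by omega)
  have hj1 : 2 ^ j ≡ 1 [MOD r] := by
    refine Nat.ModEq.trans ?_ h
    conv_rhs => rw [← Nat.mod_add_div i (2 * m), pow_add, pow_mul, ← hj]
    simpa using ((h2.pow (i / (2 * m))).mul_left (2 ^ j)).symm
  refine Nat.dvd_of_mod_eq_zero ?_
  by_contra hne
  have hlt : ∀ k, 0 < k → k ≤ m → ¬ 2 ^ k ≡ 1 [MOD r] := by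
    intro k hk hkm hc
    have h3 : 2 ^ k ≤ 2 ^ m := Nat.pow_le_pow_right (by omega) hkm
    have h4 : 2 ≤ 2 ^ k := by
      calc 2 = 2 ^ 1 := rfl
        _ ≤ 2 ^ k := Nat.pow_le_pow_right (by omega) hk
    have := Nat.ModEq.eq_of_lt_of_lt hc (by omega) (by omega)
    omega
  rcases Nat.lt_or_ge m j with hmj | hjm
  · -- `2 ^ (2 m - j) = 1`
    refine hlt (2 * m - j) (by omega) (by omega) ?_
    have e : 2 ^ (2 * m - j) * 2 ^ j = 2 ^ (2 * m) := by
      rw [← pow_add]; congr 1; omega
    calc 2 ^ (2 * m - j) = 2 ^ (2 * m - j) * 1 := (mul_one _).symm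
      _ ≡ 2 ^ (2 * m - j) * 2 ^ j [MOD r] := (hj1.mul_left _).symm
      _ = 2 ^ (2 * m) := e
      _ ≡ 1 [MOD r] := h2
  · exact hlt j (Nat.pos_of_ne_zero hne) hjm hj1

variable {r m : ℕ} {a : W ≃+ W}

namespace FpfMod

variable (h : FpfMod r m a)

include h

theorem iterate_mem {L : AddSubgroup W} (hL : AStb a L) {x : W} (hx : x ∈ L) (i : ℕ) :
    a^[i] x ∈ L := by
  induction i with
  | zero => exact hx
  | succ i ih => rw [Function.iterate_succ_apply']; exact hL _ ih

/-- C1. -/
theorem card_stb {L : AddSubgroup W} (hL : AStb a L) :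
    ∃ j, Nat.card L = 2 ^ (2 * m * j) := by
  classical
  obtain ⟨k, hk⟩ := exists_card_eq_two_pow (L := L) fun x => Subtype.ext (h.two _)
  haveI := Fact.mk h.prime
  haveI := Fintype.ofFinite L
  let f : Function.End L := fun x => ⟨a x, hL _ x.2⟩
  have hfi : ∀ (i : ℕ) (x : L), ((f ^ i) x : W) = a^[i] x := by
    intro i
    induction i with
    | zero => intro x; rfl
    | succ i ih =>
      intro x
      rw [pow_succ', Function.iterate_succ_apply', ← ih]
      rfl
  have hf : f ^ r ^ 1 = 1 := by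
    rw [pow_one]
    exact funext fun x => Subtype.ext ((hfi r x).trans (h.pow _))
  have hmod := Equiv.Perm.card_fixedPoints_modEq hf
  have hone : Fintype.card (Function.fixedPoints f) = 1 := by
    rw [Fintype.card_eq_one_iff]
    exact ⟨⟨0, Subtype.ext (map_zero a)⟩, fun x => Subtype.ext (Subtype.ext
      (h.fpf _ (congrArg Subtype.val x.2)))⟩
  rw [hone, ← Nat.card_eq_fintype_card, hk] at hmod
  obtain ⟨j, rfl⟩ := two_mul_dvd_of_modEq h.pos h.eq hmod
  exact ⟨j, hk⟩

/-- C2. -/
theorem eq_bot_or_top (hW : Nat.card W = 2 ^ (2 * m)) {L : AddSubgroup W} (hL : AStb a L) :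
    L = ⊥ ∨ L = ⊤ := by
  obtain ⟨j, hj⟩ := h.card_stb hL
  have hle : Nat.card L ≤ Nat.card W := Nat.card_le_card_of_injective _ L.subtype_injective
  rw [hj, hW] at hle
  have hle' := (Nat.pow_le_pow_iff_right (by omega)).1 hle
  rcases Nat.eq_zero_or_pos j with rfl | hj0
  · exact Or.inl (AddSubgroup.eq_bot_of_card_eq L (by simpa using hj))
  · right
    have hj1 : j = 1 := by
      have := h.pos
      nlinarith
    exact AddSubgroup.eq_top_of_card_eq L (by rw [hj, hW, hj1, mul_one])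

variable (hW : Nat.card W = 2 ^ (2 * m))

include hW

theorem exists_ne_zero : ∃ x : W, x ≠ 0 := by
  by_contra! hh
  haveI : Subsingleton W := ⟨fun x y => by rw [hh x, hh y]⟩
  have h1 : Nat.card W = 1 := Nat.card_unique
  rw [hW] at h1
  have := h.pos
  rcases Nat.pow_eq_one.1 h1 with h2 | h2 <;> omega

/-- Endomorphisms commuting with `a` that agree at one nonzero vector are equal. -/
theorem ext_at {b b' : W →+ W} (hb : ∀ x, b (a x) = a (b x)) (hb' : ∀ x, b' (a x) = a (b' x))
    {x : W} (hx : x ≠ 0) (he : b x = b' x) : b = b' := by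
  let E : AddSubgroup W := (b - b').ker
  have hE : AStb a E := fun y hy => by
    show (b - b') (a y) = 0
    have hy' : b y - b' y = 0 := hy
    rw [AddMonoidHom.sub_apply, hb, hb', ← map_sub, hy', map_zero]
  rcases h.eq_bot_or_top hW hE with h1 | h1
  · exact absurd (show x ∈ E by show (b - b') x = 0; rw [AddMonoidHom.sub_apply, he, sub_self])
      (by rw [h1]; exact fun hc => hx ((AddSubgroup.mem_bot).1 hc))
  · refine AddMonoidHom.ext fun y => sub_eq_zero.1 ?_
    have : y ∈ E := h1 ▸ AddSubgroup.mem_top y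
    exact this

/-- Endomorphisms commuting with `a` are polynomials in `a`. -/
theorem poly_induction {P : (W →+ W) → Prop} (h0 : P 0) (hid : P (AddMonoidHom.id W))
    (hadd : ∀ c d, (∀ x, c (a x) = a (c x)) → (∀ x, d (a x) = a (d x)) → P c → P d → P (c + d))
    (ha : ∀ c, (∀ x, c (a x) = a (c x)) → P c → P (a.toAddMonoidHom.comp c))
    (b : W →+ W) (hb : ∀ x, b (a x) = a (b x)) : P b := by
  obtain ⟨x, hx⟩ := h.exists_ne_zero hW
  let S : Set W := {y | ∃ c : W →+ W, P c ∧ (∀ z, c (a z) = a (c z)) ∧ c x = y}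
  have hneg : ∀ y : W, -y = y := fun y => neg_eq_of_add_eq_zero_left (h.two y)
  let E : AddSubgroup W :=
    { carrier := S
      add_mem' := by
        rintro y z ⟨c, hc, hca, rfl⟩ ⟨d, hd, hda, rfl⟩
        exact ⟨c + d, hadd c d hca hda hc hd,
          fun w => by simp only [AddMonoidHom.add_apply, hca, hda, map_add], rfl⟩
      zero_mem' := ⟨0, h0, fun w => (map_zero a).symm, rfl⟩
      neg_mem' := fun {y} hy => by rw [hneg y]; exact hy }
  have hE : AStb a E := by
    rintro y ⟨c, hc, hca, rfl⟩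
    exact ⟨a.toAddMonoidHom.comp c, ha c hca hc, fun w => by simp [hca], rfl⟩
  rcases h.eq_bot_or_top hW hE with h1 | h1
  · have hxE : x ∈ E := ⟨AddMonoidHom.id W, hid, fun w => rfl, rfl⟩
    rw [h1] at hxE
    exact absurd ((AddSubgroup.mem_bot).1 hxE) hx
  · obtain ⟨c, hc, hca, hcx⟩ : b x ∈ E := h1 ▸ AddSubgroup.mem_top _
    rwa [h.ext_at hW hca hb hx hcx] at hc

/-- C3. -/
theorem commute (b b' : W →+ W) (hb : ∀ x, b (a x) = a (b x)) (hb' : ∀ x, b' (a x) = a (b' x)) :
    ∀ x, b (b' x) = b' (b x) :=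
  h.poly_induction hW (P := fun c => ∀ x, c (b' x) = b' (c x)) (fun x => by simp)
    (fun x => rfl) (fun c d _ _ hc hd x => by simp [hc x, hd x])
    (fun c _ hc x => by simp [hc x, hb']) b hb

/-- The endomorphisms commuting with `a`. -/
abbrev Cen (a : W ≃+ W) : Subring (AddMonoid.End W) :=
  Subring.centralizer {(a.toAddMonoidHom : AddMonoid.End W)}

omit h hW in
theorem mem_cen {b : AddMonoid.End W} : b ∈ Cen a ↔ ∀ x, b (a x) = a (b x) := by
  refine Iff.trans Subring.mem_centralizer_iff ?_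
  constructor
  · intro hb x
    exact (DFunLike.congr_fun (hb _ rfl) x).symm
  · rintro hb g rfl
    exact AddMonoidHom.ext fun x => (hb x).symm

theorem cen_isDomain : IsDomain (Cen a) := by
  obtain ⟨x, hx⟩ := h.exists_ne_zero hW
  haveI : Nontrivial (Cen a) := ⟨⟨0, 1, fun e => hx ?_⟩⟩
  · refine @NoZeroDivisors.to_isDomain _ _ _ ⟨fun {b c} hbc => ?_⟩
    by_cases hc : c = 0
    · exact Or.inr hc
    left
    obtain ⟨y, hy⟩ : ∃ y, (c : W →+ W) y ≠ 0 := by
      by_contra! hh
      exact hc (Subtype.ext (AddMonoidHom.ext hh))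
    exact Subtype.ext (h.ext_at hW (mem_cen.1 b.2) (fun w => (map_zero a).symm) hy
      (DFunLike.congr_fun (congrArg Subtype.val hbc) y))
  · exact (DFunLike.congr_fun (congrArg Subtype.val e) x).symm

/-- C4. -/
theorem isCyclic {Γ : Type u} [Group Γ] [Finite Γ] (θ : Γ → W →+ W) (hθ1 : ∀ x, θ 1 x = x)
    (hθ : ∀ g g' x, θ (g * g') x = θ g (θ g' x)) (hinj : Function.Injective θ)
    (hcomm : ∀ g x, θ g (a x) = a (θ g x)) : IsCyclic Γ := by
  haveI := h.cen_isDomain hW
  letI : CommRing (Cen a) :=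
    { (inferInstance : Ring (Cen a)) with
      mul_comm := fun b c => Subtype.ext (AddMonoidHom.ext
        (h.commute hW _ _ (mem_cen.1 b.2) (mem_cen.1 c.2))) }
  let f : Γ →* Cen a :=
    { toFun := fun g => ⟨θ g, mem_cen.2 (hcomm g)⟩
      map_one' := Subtype.ext (AddMonoidHom.ext hθ1)
      map_mul' := fun g g' => Subtype.ext (AddMonoidHom.ext (hθ g g')) }
  exact isCyclic_of_injective_ringHom f fun g g' e => hinj (congrArg Subtype.val e)

/-- C5. -/
theorem eq_id_of_two (b : W →+ W) (hb : ∀ x, b (a x) = a (b x)) (j : ℕ)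
    (hj : ∀ x, b^[2 ^ j] x = x) : ∀ x, b x = x := by
  set N : W →+ W := b + AddMonoidHom.id W with hN
  have hNN : ∀ k x, N^[2 ^ k] x = b^[2 ^ k] x + x := by
    intro k
    induction k with
    | zero => intro x; simp [hN]
    | succ k ih =>
      intro x
      rw [pow_succ, mul_two, Function.iterate_add_apply, Function.iterate_add_apply, ih, ih,
        iterate_map_add, add_assoc, ← add_assoc (b^[2 ^ k] x) (b^[2 ^ k] x), h.two, zero_add]
  have hker : ∃ y, y ≠ 0 ∧ N y = 0 := by
    by_contra! hc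
    have hinj : Function.Injective N := fun x y e => by
      by_contra hne
      exact hc (x - y) (sub_ne_zero.2 hne) (by rw [map_sub, e, sub_self])
    obtain ⟨x, hx⟩ := h.exists_ne_zero hW
    refine hx ((hinj.iterate (2 ^ j)) ?_)
    rw [hNN j x, hj, h.two, iterate_map_zero]
  obtain ⟨y, hy, hNy⟩ := hker
  have e : b = AddMonoidHom.id W := by
    refine h.ext_at hW hb (fun x => rfl) hy ?_
    rw [AddMonoidHom.id_apply]
    calc b y = b y + (y + y) := by rw [h.two, add_zero]
      _ = N y + y := by rw [hN, AddMonoidHom.add_apply, AddMonoidHom.id_apply, add_assoc]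
      _ = y := by rw [hNy, zero_add]
  intro x
  rw [e, AddMonoidHom.id_apply]

omit hW in
theorem comm_iterate {b : W →+ W} (hb : ∀ x, b (a x) = a (b x)) (i : ℕ) :
    ∀ x, b^[i] (a x) = a (b^[i] x) := by
  induction i with
  | zero => intro x; rfl
  | succ i ih => intro x; rw [Function.iterate_succ_apply, hb, ih, ← Function.iterate_succ_apply]

/-- The Frobenius is additive. -/
theorem iterate_two_pow_add (c d : W →+ W) (hc : ∀ x, c (a x) = a (c x))
    (hd : ∀ x, d (a x) = a (d x)) (k : ℕ) :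
    ∀ x, (c + d)^[2 ^ k] x = c^[2 ^ k] x + d^[2 ^ k] x := by
  induction k with
  | zero => intro x; simp
  | succ k ih =>
    intro x
    have hcd : Function.Commute (c : W → W) d := h.commute hW c d hc hd
    rw [pow_succ, mul_two, Function.iterate_add_apply, Function.iterate_add_apply,
      Function.iterate_add_apply, ih, ih, iterate_map_add, iterate_map_add,
      (hcd.iterate_iterate _ _) x]
    rw [add_assoc, ← add_assoc (d^[2 ^ k] (c^[2 ^ k] x)), h.two, zero_add]

/-- C6. -/
theorem adjoint {f : W →+ W →+ ZMod 2} (hf : InvForm a f) (b : W →+ W)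
    (hb : ∀ x, b (a x) = a (b x)) : ∀ x y, f (b x) y = f x (b^[2 ^ m] y) := by
  refine h.poly_induction hW (P := fun c => ∀ x y, f (c x) y = f x (c^[2 ^ m] y)) ?_ ?_ ?_ ?_ b hb
  · intro x y
    obtain ⟨n, hn⟩ := Nat.exists_eq_succ_of_ne_zero (Nat.two_pow_pos m).ne'
    rw [hn, Function.iterate_succ_apply']
    simp
  · intro x y
    rw [AddMonoidHom.coe_id, Function.iterate_id]
    rfl
  · intro c d hc hd h1 h2 x y
    rw [AddMonoidHom.add_apply, map_add, AddMonoidHom.add_apply, h1, h2, ← map_add,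
      h.iterate_two_pow_add hW c d hc hd]
  · intro c hc h1 x y
    have hca : Function.Commute (c : W → W) a := hc
    have e1 : ∀ y, (a.toAddMonoidHom.comp c)^[2 ^ m] y = a^[2 ^ m] (c^[2 ^ m] y) := fun y =>
      congrFun ((hca.symm).comp_iterate (2 ^ m)) y
    have e2 : a^[2 ^ m + 1] y = y := h.eq ▸ h.pow y
    rw [e1, AddMonoidHom.comp_apply]
    show f (a (c x)) y = f x (a^[2 ^ m] (c^[2 ^ m] y))
    conv_lhs => rw [← e2, Function.iterate_succ_apply']
    rw [hf.inv, h1, ← (hca.iterate_iterate (2 ^ m) (2 ^ m)) y]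

omit hW in
theorem form_symm {f : W →+ W →+ ZMod 2} (hf : InvForm a f) (x y : W) : f x y = f y x := by
  have h1 := hf.alt (x + y)
  simp only [map_add, AddMonoidHom.add_apply, hf.alt, zero_add, add_zero] at h1
  exact (CharTwo.add_eq_zero.1 h1).symm

omit hW in
theorem stb_ker {f : W →+ W →+ ZMod 2} (hf : InvForm a f) : AStb a f.ker := fun x hx => by
  refine AddMonoidHom.ext fun y => ?_
  obtain ⟨y', rfl⟩ := a.surjective y
  rw [hf.inv, AddMonoidHom.mem_ker.1 hx]
  rfl

/-- A nonzero invariant form on a line is nondegenerate. -/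
theorem ker_eq_bot {f : W →+ W →+ ZMod 2} (hf : InvForm a f) (hf0 : f ≠ 0) : f.ker = ⊥ := by
  rcases h.eq_bot_or_top hW (h.stb_ker hf) with h1 | h1
  · exact h1
  · exact absurd (AddMonoidHom.ker_eq_top_iff.1 h1) hf0

/-- C7. -/
theorem eq_id_of_isometry {f : W →+ W →+ ZMod 2} (hf : InvForm a f) (hf0 : f ≠ 0) (b : W →+ W)
    (hb : ∀ x, b (a x) = a (b x)) (n : ℕ) (hn : n.Coprime r) (hbn : ∀ x, b^[n] x = x)
    (hiso : ∀ x y, f (b x) (b y) = f x y) : ∀ x, b x = x := by
  intro y
  have hr : b^[r] y = y := by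
    have hmem : b^[r] y - y ∈ f.ker := by
      refine AddMonoidHom.mem_ker.2 (AddMonoidHom.ext fun x => ?_)
      rw [h.form_symm hf, map_sub, AddMonoidHom.zero_apply, sub_eq_zero, h.eq,
        Function.iterate_succ_apply, ← h.adjoint hW hf b hb, hiso]
    rw [h.ker_eq_bot hW hf hf0, AddSubgroup.mem_bot, sub_eq_zero] at hmem
    exact hmem
  have := Function.IsPeriodicPt.gcd (f := (b : W → W)) (hbn y) hr
  rwa [Nat.coprime_iff_gcd_eq_one.1 hn] at this

end FpfMod

end Cfsg.Agent.Lib.HHS57
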