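import Cfsg.Agent.Lib.HHS57.Points
import Mathlib.GroupTheory.PGroup
import Mathlib.Algebra.BigOperators.Fin

/-!
# Node A: no singular pair (helper42)

See `notes/coprime_fpf_sylow_nodes.md`.
-/

set_option autoImplicit false
set_option linter.style.haveILetI false
set_option linter.unusedSectionVars false

open scoped commutatorElement

namespace Cfsg.Agent.Lib.HHS57

open MulAction

universe u

variable {G : Type u} [Group G] {M Z : Subgroup G}

local notation "o₁" => ((QuotientGroup.mk (1 : G)) : G ⧸ M)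

/-- The hypotheses on one element of a singular pair. -/
structure Single (M Z : Subgroup G) (v : G) : Prop where
  mem : v ∈ M
  sq : v * v = 1
  notZ : v ∉ Z
  cenZ : ∀ z ∈ Z, v * z = z * v

theorem Single.translate (h : OnePoint M Z) {v : G} (hv : Single M Z v) {z : G} (hz : z ∈ Z) :
    Single M Z (v * z) where
  mem := mul_mem hv.mem (h.leM hz)
  sq := by
    rw [mul_assoc, ← mul_assoc z v z, ← hv.cenZ z hz, mul_assoc v z z, h.sq z hz, mul_one, hv.sq]
  notZ e := hv.notZ (by simpa using mul_mem e (inv_mem hz))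
  cenZ z' hz' := by
    have hc : z * z' = z' * z := by
      have := h.pts.commute ((h.mem_zAt_one z).2 hz) ((h.mem_zAt_one z').2 hz')
      exact this
    exact (Commute.mul_left (show Commute v z' from hv.cenZ z' hz') hc).eq

theorem SingularPair.single₁ {v₁ v₂ : G} (h : SingularPair M Z v₁ v₂) : Single M Z v₁ :=
  ⟨h.mem₁, h.sq₁, h.notZ₁, h.cenZ₁⟩

theorem SingularPair.single₂ {v₁ v₂ : G} (h : SingularPair M Z v₁ v₂) : Single M Z v₂ :=
  ⟨h.mem₂, h.sq₂, h.notZ₂, h.cenZ₂⟩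

theorem SingularPair.symm {v₁ v₂ : G} (h : SingularPair M Z v₁ v₂) : SingularPair M Z v₂ v₁ where
  toOnePoint := h.toOnePoint
  four_le := h.four_le
  oddIndex := h.oddIndex
  oddInv := h.oddInv
  mem₁ := h.mem₂
  mem₂ := h.mem₁
  sq₁ := h.sq₂
  sq₂ := h.sq₁
  notZ₁ := h.notZ₂
  notZ₂ := h.notZ₁
  cenZ₁ := h.cenZ₂
  cenZ₂ := h.cenZ₁
  commMem m hm := by
    have h1 := h.conjZ m hm _ (inv_mem (h.commMem m⁻¹ (inv_mem hm)))
    convert h1 using 1
    rw [commutatorElement_def, commutatorElement_def]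
    group
  commNe m hm := by
    intro e
    refine h.commNe m⁻¹ (inv_mem hm) ?_
    have h1 := congrArg (fun y => m⁻¹ * y⁻¹ * m) e
    simp only [inv_one, mul_one, inv_mul_cancel] at h1
    rw [← h1, commutatorElement_def, commutatorElement_def]
    group

namespace Single

variable [Finite G] {v : G} (hv : Single M Z v)

include hv

omit [Finite G] in
theorem ne_one : v ≠ 1 := fun e => hv.notZ (e ▸ one_mem _)

omit [Finite G] in
theorem fix_one : v • o₁ = o₁ := (fix_one_iff v).2 hv.mem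

variable (h : OnePoint M Z)

include h

omit [Finite G] in
theorem not_mem (w : G ⧸ M) : v ∉ zAt M Z w := fun hw => by
  have := h.pts.one hw hv.ne_one hv.fix_one
  subst this
  exact hv.notZ ((h.mem_zAt_one v).1 hw)

variable (hZ : Z ≠ ⊥)

include hZ

/-- Outside the fixed points of `v` every point is fixed by some `v y`. -/
theorem exists_pair {u : G ⧸ M} (hu : v • u ≠ u) :
    ∃ w : G ⧸ M, ∃ y ∈ zAt M Z w, y ≠ 1 ∧ v * y = y * v ∧ v • w = w ∧ (v * y) • u = u := by
  obtain ⟨z, hz, hz1⟩ := h.exists_ne_one hZ u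
  have hzz := h.pts.sq hz
  by_cases hodd : Odd (orderOf (z * v))
  · obtain ⟨g, hg, -, -⟩ := exists_mover hzz hv.sq hodd
    exact absurd (hg ▸ h.pts.equiv g hz) (hv.not_mem h _)
  obtain ⟨j, hj1, hjj, hjz, hjv, g, hg | hg⟩ :=
    exists_central hzz hv.sq (Nat.not_odd_iff_even.1 hodd)
  · have hju := h.pts.fix_of_commute hz hz1 hjz
    have hf : (g * z * g⁻¹) • u = u := by rw [← hg, mul_smul, h.pts.fix hz, hju]
    have hj : j ∈ zAt M Z u := by
      have := mul_mem (hg.symm ▸ (h.pts.conj_mem hz hz1 hf).2 : j * z ∈ zAt M Z u) hz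
      rwa [mul_assoc, hzz, mul_one] at this
    exact absurd (h.pts.fix_of_commute hj hj1 hjv.symm) hu
  · have hju := h.pts.fix_of_commute hz hz1 hjz
    refine ⟨g • u, j * v, hg ▸ h.pts.equiv g hz, ?_, ?_, ?_, ?_⟩
    · rw [hg]; exact fun e => hz1 (conj_eq_one_iff.1 e)
    · rw [← mul_assoc, ← hjv, mul_assoc]
    · refine h.pts.fix_of_commute (hg ▸ h.pts.equiv g hz : j * v ∈ zAt M Z (g • u)) ?_ ?_
      · rw [hg]; exact fun e => hz1 (conj_eq_one_iff.1 e)
      · rw [← mul_assoc, ← hjv, mul_assoc]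
    · rw [← mul_assoc, ← hjv, mul_assoc, hv.sq, mul_one, hju]

/-- `C(v)` is transitive on the fixed points of `v`. -/
theorem exists_cen {w : G ⧸ M} (hw : v • w = w) : ∃ c : G, c * v = v * c ∧ c • o₁ = w := by
  by_cases hwo : w = o₁
  · exact ⟨1, by rw [one_mul, mul_one], by rw [one_smul, hwo]⟩
  obtain ⟨y, hy, hy1, hvy⟩ : ∃ y ∈ zAt M Z w, y ≠ 1 ∧ v * y = y * v := by
    obtain ⟨y, hy, hy1⟩ := h.exists_ne_one hZ w
    by_cases hc : v * y = y * v
    · exact ⟨y, hy, hy1, hc⟩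
    have hy' : v * y * v⁻¹ ∈ zAt M Z w := by
      have := h.pts.equiv v hy; rwa [hw] at this
    refine ⟨y * (v * y * v⁻¹), mul_mem hy hy', fun e => hc ?_, ?_⟩
    · have : v * y * v⁻¹ = y := by
        rw [eq_inv_of_mul_eq_one_right e, inv_eq_of_mul_eq_one_right (h.pts.sq hy)]
      exact mul_inv_eq_iff_eq_mul.1 this
    · have hvi : v⁻¹ = v := inv_eq_of_mul_eq_one_right hv.sq
      have hc' := h.pts.commute hy hy'
      rw [hvi] at hc' ⊢
      calc v * (y * (v * y * v)) = (v * y * v * y) * v := by group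
        _ = y * (v * y * v) * v := by rw [hc']
  obtain ⟨z, hz, hz1⟩ := h.exists_ne_one hZ o₁
  obtain ⟨g, -, hgo, -, hg⟩ := h.pts.exists_mover_pt hz hz1 hy hy1 (Ne.symm hwo)
  exact ⟨g, (hg v (hv.cenZ z ((h.mem_zAt_one z).1 hz)) hvy).symm, hgo⟩

/-- `v` centralises `Z_w` for every fixed point `w`. -/
theorem cen_all {w : G ⧸ M} (hw : v • w = w) {y : G} (hy : y ∈ zAt M Z w) : v * y = y * v := by
  obtain ⟨c, hcv, rfl⟩ := hv.exists_cen h hZ hw
  have hy' : c⁻¹ * y * c ∈ Z := by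
    have := h.pts.equiv c⁻¹ hy
    rw [inv_smul_smul, inv_inv, h.mem_zAt_one] at this
    exact this
  have h1 := hv.cenZ _ hy'
  have h2 : v * c = c * v := hcv.symm
  calc v * y = v * c * (c⁻¹ * y * c) * c⁻¹ := by group
    _ = c * (v * (c⁻¹ * y * c)) * c⁻¹ := by rw [h2, mul_assoc c]
    _ = c * ((c⁻¹ * y * c) * v) * c⁻¹ := by rw [h1]
    _ = y * (c * v) * c⁻¹ := by group
    _ = y * v := by rw [← h2]; group

/-- Conjugates of `v` in `M` are `M`-conjugates. -/
theorem conj_mem {g : G} (hg : g * v * g⁻¹ ∈ M) :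
    ∃ m ∈ M, m * v * m⁻¹ = g * v * g⁻¹ := by
  have hw : v • ((g⁻¹ : G) : G ⧸ M) = ((g⁻¹ : G) : G ⧸ M) := by
    rw [mk_smul_eq_iff, inv_inv]; exact hg
  obtain ⟨c, hcv, hc⟩ := hv.exists_cen h hZ hw
  refine ⟨g * c, ?_, ?_⟩
  · rw [← fix_one_iff, mul_smul, hc, MulAction.Quotient.smul_mk, smul_eq_mul, mul_inv_cancel]
  · calc g * c * v * (g * c)⁻¹ = g * (c * v) * c⁻¹ * g⁻¹ := by group
      _ = g * v * g⁻¹ := by rw [hcv]; group

/-- The pair of `exists_pair` is unique. -/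
theorem pair_unique
    (oddInv : ∀ e ∈ M, e ≠ 1 → Odd (orderOf e) → ∀ j ∈ M, j * j = 1 → j * e * j = e⁻¹ →
      ∀ g : G, g * e * g⁻¹ = e⁻¹ → g ∈ M)
    {u w w' : G ⧸ M} {y y' : G} (hu : v • u ≠ u) (hw : v • w = w) (hw' : v • w' = w')
    (hy : y ∈ zAt M Z w) (hy1 : y ≠ 1) (hyu : (v * y) • u = u) (hy' : y' ∈ zAt M Z w')
    (hy1' : y' ≠ 1) (hyu' : (v * y') • u = u) : w = w' ∧ y = y' := by
  have hvy := hv.cen_all h hZ hw hy
  have hvy' := hv.cen_all h hZ hw' hy'
  have hyy := h.pts.sq hy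
  have hyy' := h.pts.sq hy'
  by_cases he : y * y' = 1
  · have hyy2 : y = y' := by
      rw [eq_inv_of_mul_eq_one_left he, inv_eq_of_mul_eq_one_right hyy']
    subst hyy2
    exact ⟨h.pts.one hy' hy1' (h.pts.fix hy), rfl⟩
  exfalso
  have hprod : (v * y) * (v * y') = y * y' := by
    rw [hvy, mul_assoc y v, ← mul_assoc v v, hv.sq, one_mul]
  have heu : (y * y') • u = u := by rw [← hprod, mul_smul, hyu', hyu]
  by_cases hww : w = w'
  · subst hww
    exact hu (by rw [h.pts.one (mul_mem hy hy') he heu, hw])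
  obtain ⟨k, rfl⟩ := QuotientGroup.mk_surjective u
  have hodd := h.pts.odd_prod hy hy1 hy' hy1' hww
  have hinv : (y * y')⁻¹ = y' * y := by
    rw [mul_inv_rev, inv_eq_of_mul_eq_one_right hyy, inv_eq_of_mul_eq_one_right hyy']
  have hjj : (v * y) * (v * y) = 1 := by
    rw [mul_assoc, ← mul_assoc y v y, ← hvy, mul_assoc v y y, hyy, mul_one, hv.sq]
  have hje : (v * y) * (y * y') * (v * y) = (y * y')⁻¹ := by
    rw [hinv, mul_assoc v y, ← mul_assoc y y y', hyy, one_mul, ← mul_assoc (v * y') v y, hvy',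
      mul_assoc y' v v, hv.sq, mul_one]
  rw [mk_smul_eq_iff] at heu hyu
  have hmem := oddInv _ heu (fun e => he (by
      have e2 := congrArg (fun x => k * x * k⁻¹) e
      simpa [mul_assoc] using e2))
    (by
      have e3 : k⁻¹ * (y * y') * k = MulAut.conj k⁻¹ (y * y') := by simp
      rw [e3, MulEquiv.orderOf_eq]; exact hodd)
    _ hyu (by
      have e2 := congrArg (fun x => k⁻¹ * x * k) hjj
      simpa [mul_assoc] using e2)
    (by
      have e2 := congrArg (fun x => k⁻¹ * x * k) hje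
      simpa [mul_assoc] using e2)
    (k⁻¹ * y * k) (by
      have e2 : y * (y * y') * y⁻¹ = (y * y')⁻¹ := by
        rw [hinv, ← mul_assoc, hyy, one_mul, inv_eq_of_mul_eq_one_right hyy]
      have e3 := congrArg (fun x => k⁻¹ * x * k) e2
      simpa [mul_assoc] using e3)
  rw [← mk_smul_eq_iff] at hmem
  exact hu (by rw [h.pts.one hy hy1 hmem, hw])

end Single

/-- The number of fixed points of `x` other than the base point. -/
noncomputable def numFix (M : Subgroup G) (x : G) : ℕ :=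
  Nat.card {u : G ⧸ M // u ≠ ((1 : G) : G ⧸ M) ∧ x • u = u}

variable [Finite G]

theorem card_fix {x : G} (hx : x • o₁ = o₁) :
    Nat.card {u : G ⧸ M // x • u = u} = numFix M x + 1 := by
  classical
  have e : {u : G ⧸ M // x • u = u} ≃ Option {u : G ⧸ M // u ≠ o₁ ∧ x • u = u} :=
    { toFun := fun u => if h : (u : G ⧸ M) = o₁ then none else some ⟨u, h, u.2⟩
      invFun := fun o => o.elim ⟨o₁, hx⟩ fun u => ⟨u, u.2.2⟩
      left_inv := fun u => by
        by_cases h : (u : G ⧸ M) = o₁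
        · simp [h, Subtype.ext_iff]
        · simp [h]
      right_inv := fun o => by
        rcases o with _ | u
        · simp
        · simp [u.2.1] }
  rw [Nat.card_congr e, Finite.card_option, numFix]

/-- The sum of `numFix` over the coset `v Z`. -/
noncomputable def cosetSum (M Z : Subgroup G) (v : G) : ℕ :=
  Nat.card {p : Z × (G ⧸ M) // p.2 ≠ ((1 : G) : G ⧸ M) ∧ (v * p.1) • p.2 = p.2}

/-- The count of points by the pairs of `exists_pair`. -/
theorem Single.card_points {v : G} (hv : Single M Z v) (h : OnePoint M Z) (hZ : Z ≠ ⊥)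
    (oddInv : ∀ e ∈ M, e ≠ 1 → Odd (orderOf e) → ∀ j ∈ M, j * j = 1 → j * e * j = e⁻¹ →
      ∀ g : G, g * e * g⁻¹ = e⁻¹ → g ∈ M) :
    ∃ T : ℕ, cosetSum M Z v = numFix M v + T ∧
      Nat.card (G ⧸ M) = (numFix M v + 1) * (T + 1) := by
  classical
  let P : Type u := {p : Z × (G ⧸ M) //
    (p.1 : G) ≠ 1 ∧ p.2 ≠ o₁ ∧ (v * p.1) • p.2 = p.2}
  refine ⟨Nat.card P, ?_, ?_⟩
  · have e : {p : Z × (G ⧸ M) // p.2 ≠ o₁ ∧ (v * p.1) • p.2 = p.2} ≃
        {u : G ⧸ M // u ≠ o₁ ∧ v • u = u} ⊕ P :=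
      { toFun := fun p => if hp : (p.1.1 : G) = 1 then
            Sum.inl ⟨p.1.2, p.2.1, by have := p.2.2; rwa [hp, mul_one] at this⟩
          else Sum.inr ⟨p.1, hp, p.2⟩
        invFun := fun s => s.elim (fun u => ⟨(1, u.1), u.2.1, by simpa using u.2.2⟩)
          fun p => ⟨p.1, p.2.2⟩
        left_inv := fun p => by
          obtain ⟨⟨z, u⟩, hp⟩ := p
          by_cases hz : (z : G) = 1
          · have : z = 1 := Subtype.ext hz
            subst this
            simp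
          · simp [hz]
        right_inv := fun s => by
          rcases s with u | p
          · simp
          · have := p.2.1
            simp [this] }
    rw [cosetSum, Nat.card_congr e, Nat.card_sum, numFix]
  · have hc : ∀ w : {u : G ⧸ M // v • u = u}, ∃ c : G, c * v = v * c ∧ c • o₁ = (w : G ⧸ M) :=
      fun w => hv.exists_cen h hZ w.2
    choose c hcv hco using hc
    have hy : ∀ (w : {u : G ⧸ M // v • u = u}) (p : P),
        c w * (p.1.1 : G) * (c w)⁻¹ ∈ zAt M Z (w : G ⧸ M) ∧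
        c w * (p.1.1 : G) * (c w)⁻¹ ≠ 1 ∧
        (v * (c w * (p.1.1 : G) * (c w)⁻¹)) • c w • p.1.2 = c w • p.1.2 := fun w p => by
      refine ⟨?_, fun e => p.2.1 (conj_eq_one_iff.1 e), ?_⟩
      · have := h.pts.equiv (c w) ((h.mem_zAt_one _).2 p.1.1.2)
        rwa [hco] at this
      · have e : v * (c w * (p.1.1 : G) * (c w)⁻¹) * c w = c w * (v * p.1.1) := by
          calc v * (c w * (p.1.1 : G) * (c w)⁻¹) * c w = v * c w * (p.1.1 : G) := by group
            _ = _ := by rw [← hcv, mul_assoc]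
        rw [← mul_smul, e, mul_smul, p.2.2.2]
    have hnf : ∀ (w : {u : G ⧸ M // v • u = u}) (p : P), v • c w • p.1.2 ≠ c w • p.1.2 := by
      intro w p he
      obtain ⟨h1, h2, h3⟩ := hy w p
      rw [hv.cen_all h hZ w.2 h1, mul_smul, he] at h3
      have := h.pts.one h1 h2 h3
      exact p.2.2.1 (MulAction.injective (c w) (this.trans (hco w).symm))
    let f : {u : G ⧸ M // v • u = u} × P → {u : G ⧸ M // ¬ v • u = u} :=
      fun wp => ⟨c wp.1 • wp.2.1.2, hnf wp.1 wp.2⟩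
    have hbij : Function.Bijective f := by
      constructor
      · rintro ⟨w, p⟩ ⟨w', p'⟩ e
        have e' : c w • p.1.2 = c w' • p'.1.2 := congrArg Subtype.val e
        obtain ⟨h1, h2, h3⟩ := hy w p
        obtain ⟨h1', h2', h3'⟩ := hy w' p'
        rw [← e'] at h3'
        obtain ⟨hw, hyy⟩ := hv.pair_unique h hZ oddInv (hnf w p) w.2 w'.2 h1 h2 h3 h1' h2' h3'
        have hw' : w = w' := Subtype.ext hw
        subst hw'
        exact Prod.ext rfl (Subtype.ext (Prod.ext (Subtype.ext (mul_left_cancel (mul_right_cancel hyy)))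
          (MulAction.injective _ e')))
      · rintro ⟨u, hu⟩
        obtain ⟨w, y, hy', hy1, -, hw, hyu⟩ := hv.exists_pair h hZ hu
        set w₀ : {u : G ⧸ M // v • u = u} := ⟨w, hw⟩ with hw₀
        have hz : (c w₀)⁻¹ * y * c w₀ ∈ Z := by
          have := h.pts.equiv (c w₀)⁻¹ hy'
          rwa [inv_inv, show w = c w₀ • o₁ from (hco w₀).symm, inv_smul_smul, h.mem_zAt_one] at this
        refine ⟨(w₀, ⟨(⟨_, hz⟩, (c w₀)⁻¹ • u), fun e => hy1 ?_, fun e => hu ?_, ?_⟩),
          Subtype.ext (smul_inv_smul _ _)⟩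
        · have e2 := congrArg (fun x => c w₀ * x * (c w₀)⁻¹) e
          simpa [mul_assoc] using e2
        · rw [inv_smul_eq_iff.1 e, hco]; exact hw
        · show (v * ((c w₀)⁻¹ * y * c w₀)) • (c w₀)⁻¹ • u = (c w₀)⁻¹ • u
          have e : v * ((c w₀)⁻¹ * y * c w₀) * (c w₀)⁻¹ = (c w₀)⁻¹ * (v * y) := by
            calc v * ((c w₀)⁻¹ * y * c w₀) * (c w₀)⁻¹ = v * (c w₀)⁻¹ * y := by group
              _ = _ := by rw [← (show Commute (c w₀) v from hcv w₀).inv_left.eq, mul_assoc]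
          rw [← mul_smul, e, mul_smul, hyu]
    have hsplit := Nat.card_congr (Equiv.sumCompl (fun u : G ⧸ M => v • u = u))
    rw [Nat.card_sum, ← Nat.card_eq_of_bijective f hbij, Nat.card_prod,
      card_fix hv.fix_one] at hsplit
    rw [← hsplit]
    ring

theorem cosetSum_translate (v : G) {z : G} (hz : z ∈ Z) :
    cosetSum M Z (v * z) = cosetSum M Z v :=
  Nat.card_congr (Equiv.subtypeEquiv (Equiv.prodCongr (Equiv.mulLeft (⟨z, hz⟩ : Z)) (Equiv.refl _))
    fun p => by simp [mul_assoc])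

theorem cosetSum_eq [Fintype Z] (v : G) : cosetSum M Z v = ∑ z : Z, numFix M (v * z) := by
  have e : {p : Z × (G ⧸ M) // p.2 ≠ o₁ ∧ (v * p.1) • p.2 = p.2} ≃
      Σ z : Z, {u : G ⧸ M // u ≠ o₁ ∧ (v * z) • u = u} :=
    { toFun := fun p => ⟨p.1.1, p.1.2, p.2⟩
      invFun := fun s => ⟨(s.1, s.2.1), s.2.2⟩
      left_inv := fun p => rfl
      right_inv := fun s => rfl }
  rw [cosetSum, Nat.card_congr e, Nat.card_sigma]
  rfl

namespace SingularPair

variable {v₁ v₂ : G} (h : SingularPair M Z v₁ v₂)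

include h

omit [Finite G] in
theorem Z_ne_bot : Z ≠ ⊥ := fun e => by
  have := h.four_le
  rw [e, Subgroup.card_bot] at this
  omega

/-- The commutator of `v₁` and a conjugate of `v₂` at a common fixed point. -/
theorem comm_mem {y : G} (hy : IsConj v₂ y) {w : G ⧸ M} (hw : v₁ • w = w) (hyw : y • w = w) :
    ⁅v₁, y⁆ ∈ zAt M Z w ∧ ⁅v₁, y⁆ ≠ 1 := by
  have hP := h.toOnePoint
  obtain ⟨c, hcv, rfl⟩ := h.single₁.exists_cen hP h.Z_ne_bot hw
  obtain ⟨g, rfl⟩ := isConj_iff.1 hy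
  have hgM : (c⁻¹ * g) * v₂ * (c⁻¹ * g)⁻¹ ∈ M := by
    rw [← fix_one_iff, show c⁻¹ * g * v₂ * (c⁻¹ * g)⁻¹ = c⁻¹ * (g * v₂ * g⁻¹) * c by group,
      mul_smul, mul_smul, hyw, inv_smul_smul]
  obtain ⟨m, hm, hme⟩ := h.single₂.conj_mem hP h.Z_ne_bot hgM
  have hc1 : c * v₁ * c⁻¹ = v₁ := by rw [hcv, mul_inv_cancel_right]
  have e : ⁅v₁, g * v₂ * g⁻¹⁆ = c * ⁅v₁, m * v₂ * m⁻¹⁆ * c⁻¹ := by
    rw [hme]
    conv_lhs => rw [← hc1]
    rw [commutatorElement_def, commutatorElement_def]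
    group
  rw [e]
  exact ⟨hP.pts.equiv c ((hP.mem_zAt_one _).2 (h.commMem m hm)),
    fun e => h.commNe m hm (conj_eq_one_iff.1 e)⟩

/-- Two conjugate involutions have a unique common fixed point. -/
theorem common_unique {y : G} (hy : IsConj v₂ y) {w w' : G ⧸ M} (hw : v₁ • w = w)
    (hyw : y • w = w) (hw' : v₁ • w' = w') (hyw' : y • w' = w') : w' = w := by
  obtain ⟨h1, h2⟩ := h.comm_mem hy hw hyw
  exact h.pts.one h1 h2 (h.pts.fix (h.comm_mem hy hw' hyw').1)

omit [Finite G] in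
theorem sq_of_conj {y : G} (hy : IsConj v₂ y) : y * y = 1 ∧ y ≠ 1 := by
  obtain ⟨g, rfl⟩ := isConj_iff.1 hy
  refine ⟨?_, fun e => h.single₂.ne_one (conj_eq_one_iff.1 e)⟩
  calc g * v₂ * g⁻¹ * (g * v₂ * g⁻¹) = g * (v₂ * v₂) * g⁻¹ := by group
    _ = 1 := by rw [h.sq₂, mul_one, mul_inv_cancel]

/-- A common fixed point exists. -/
theorem exists_common {y : G} (hy : IsConj v₂ y) : ∃ w : G ⧸ M, v₁ • w = w ∧ y • w = w := by
  classical
  obtain ⟨hyy, hy1⟩ := h.sq_of_conj hy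
  have hv := h.sq₁
  set c := v₁ * y with hc
  obtain ⟨a, l, hl, hord⟩ : ∃ a l : ℕ, Odd l ∧ orderOf c = 2 ^ a * l := by
    obtain ⟨a, l, hl, e⟩ := Nat.exists_eq_two_pow_mul_odd (orderOf_pos c).ne'
    exact ⟨a, l, hl, e⟩
  set y' := v₁ * c ^ l with hy'
  have hy'c : IsConj v₂ y' := by
    obtain ⟨i, rfl⟩ := hl
    refine hy.trans (isConj_iff.2 ⟨(c ^ i)⁻¹, ?_⟩)
    have h3 : y * (y * v₁) ^ i = c ^ i * y := by
      have := semiconj_pow hyy hv i
      have h4 : ((y * v₁) ^ i)⁻¹ = c ^ i := by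
        rw [← inv_pow, mul_inv_rev, inv_eq_of_mul_eq_one_right hyy,
          inv_eq_of_mul_eq_one_right hv]
      rw [h4] at this
      calc y * (y * v₁) ^ i = y * ((y * v₁) ^ i * y) * y := by
            rw [mul_assoc, mul_assoc _ y y, hyy, mul_one]
        _ = y * (y * c ^ i) * y := by rw [this]
        _ = c ^ i * y := by rw [← mul_assoc y y, hyy, one_mul]
    have h5 : (c ^ i)⁻¹ = (y * v₁) ^ i := by
      rw [← inv_pow, hc, mul_inv_rev, inv_eq_of_mul_eq_one_right hyy,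
        inv_eq_of_mul_eq_one_right hv]
    rw [inv_inv, h5]
    have h6 : (y * v₁) ^ i * y = y * c ^ i := by
      have := semiconj_pow hyy hv i
      rw [← inv_pow, mul_inv_rev, inv_eq_of_mul_eq_one_right hyy,
        inv_eq_of_mul_eq_one_right hv] at this
      exact this.symm
    rw [h6, hy', mul_assoc, ← pow_add, ← two_mul, pow_succ', ← mul_assoc, hc, ← mul_assoc, hv,
      one_mul]
  obtain ⟨hyy', hy1'⟩ := h.sq_of_conj hy'c
  have hvy' : v₁ * y' = c ^ l := by rw [hy', ← mul_assoc, hv, one_mul]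
  have hpow : orderOf (v₁ * y') = 2 ^ a := by
    rw [hvy', orderOf_pow, hord, Nat.gcd_mul_left_left,
      Nat.mul_div_cancel _ (Odd.pos hl)]
  set D := Subgroup.closure ({v₁, y'} : Set G) with hD
  have hDp : IsPGroup 2 D := by
    refine IsPGroup.of_card (n := a + 1) ?_
    rw [hD, Involutions.Basic.card_closure_pair (Involutions.Basic.invol_iff.2 ⟨hv, h.single₁.ne_one⟩)
      (Involutions.Basic.invol_iff.2 ⟨hyy', hy1'⟩), hpow, pow_succ']
  haveI : Fact (Nat.Prime 2) := ⟨Nat.prime_two⟩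
  have hmod := hDp.card_modEq_card_fixedPoints (G ⧸ M)
  have hne : Nonempty (MulAction.fixedPoints D (G ⧸ M)) := by
    by_contra hem
    rw [not_nonempty_iff] at hem
    rw [Nat.card_of_isEmpty (α := MulAction.fixedPoints D (G ⧸ M)), ← Subgroup.index_eq_card] at hmod
    exact h.oddIndex ((Nat.modEq_zero_iff_dvd).1 hmod)
  obtain ⟨⟨w, hw⟩⟩ := hne
  have hvw : v₁ • w = w := hw ⟨v₁, Subgroup.subset_closure (Set.mem_insert _ _)⟩
  have hyw : y' • w = w :=
    hw ⟨y', Subgroup.subset_closure (Set.mem_insert_of_mem _ (Set.mem_singleton _))⟩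
  obtain ⟨h1, h2⟩ := h.comm_mem hy'c hvw hyw
  have e1 : ⁅v₁, y'⁆ = c ^ (2 * l) := by
    rw [commutatorElement_def, inv_eq_of_mul_eq_one_right hv, inv_eq_of_mul_eq_one_right hyy',
      mul_assoc (v₁ * y'), hvy', ← pow_add, two_mul]
  rw [e1] at h1 h2
  refine ⟨w, hvw, h.pts.fix_of_commute h1 h2 ?_⟩
  have hinv : (c ^ (2 * l))⁻¹ = c ^ (2 * l) := inv_eq_of_mul_eq_one_right (h.pts.sq h1)
  have h7 : (y * v₁) ^ (2 * l) = c ^ (2 * l) := by
    rw [← hinv, ← inv_pow, hc, mul_inv_rev, inv_eq_of_mul_eq_one_right hyy,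
      inv_eq_of_mul_eq_one_right hv]
  have h8 := semiconj_pow hyy hv (2 * l)
  rw [h7, hinv] at h8
  exact h8

/-- Some `v₁ z` has a second fixed point. -/
theorem one_le_numFix {z : G} (hz : z ∈ Z) : 1 ≤ numFix M (v₁ * z) := by
  by_contra hlt
  have hP := h.toOnePoint
  have h0 : ∀ u : G ⧸ M, u ≠ o₁ → (v₁ * z) • u ≠ u := fun u hu he => by
    have : 0 < numFix M (v₁ * z) :=
      haveI : Nonempty {u : G ⧸ M // u ≠ o₁ ∧ (v₁ * z) • u = u} := ⟨⟨u, hu, he⟩⟩
      Nat.card_pos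
    omega
  have hv₁ := h.single₁.translate hP hz
  -- every other point is fixed by some element of `v₁ Z`
  have hcov : ∀ u : G ⧸ M, u ≠ o₁ → ∃ z' ∈ Z, (v₁ * z') • u = u := fun u hu => by
    obtain ⟨w, y, hy, -, -, hw, hyu⟩ := hv₁.exists_pair hP h.Z_ne_bot (h0 u hu)
    have hwo : w = o₁ := by
      by_contra hc
      exact h0 w hc hw
    subst hwo
    exact ⟨z * y, mul_mem hz ((hP.mem_zAt_one y).1 hy), by rwa [← mul_assoc]⟩
  obtain ⟨u, hu⟩ := hP.exists_ne
  -- so `v₂ Z` fixes nothing else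
  have hno : ∀ z₂ ∈ Z, ∀ u : G ⧸ M, u ≠ o₁ → (v₂ * z₂) • u ≠ u := by
    intro z₂ hz₂ u hu he
    obtain ⟨z₁, hz₁, hz₁u⟩ := hcov u hu
    have hmem := h.commMem 1 (one_mem _)
    have hne := h.commNe 1 (one_mem _)
    rw [one_mul, inv_one, mul_one] at hmem hne
    have e : ⁅v₁ * z₁, v₂ * z₂⁆ = ⁅v₁, v₂⁆ := by
      rw [commutatorElement_def, commutatorElement_def, mul_inv_rev, mul_inv_rev]
      have c1 : Commute z₁ (v₂ * z₂) :=
        Commute.mul_right (h.cenZ₂ _ hz₁).symm (hP.pts.commute ((hP.mem_zAt_one _).2 hz₁)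
          ((hP.mem_zAt_one _).2 hz₂))
      have c2 : Commute z₂ v₁⁻¹ := ((show Commute v₁ z₂ from h.cenZ₁ _ hz₂).symm).inv_right
      calc v₁ * z₁ * (v₂ * z₂) * (z₁⁻¹ * v₁⁻¹) * (z₂⁻¹ * v₂⁻¹)
          = v₁ * (z₁ * (v₂ * z₂)) * z₁⁻¹ * v₁⁻¹ * z₂⁻¹ * v₂⁻¹ := by group
        _ = v₁ * v₂ * (z₂ * v₁⁻¹) * z₂⁻¹ * v₂⁻¹ := by rw [c1.eq]; group
        _ = v₁ * v₂ * v₁⁻¹ * v₂⁻¹ := by rw [c2.eq]; group
    refine hu (hP.pts.one ((hP.mem_zAt_one _).2 hmem) hne ?_)
    have hx := Subgroup.mul_mem (MulAction.stabilizer G u)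
      (mul_mem (mul_mem (MulAction.mem_stabilizer_iff.2 hz₁u) (MulAction.mem_stabilizer_iff.2 he))
        (inv_mem (MulAction.mem_stabilizer_iff.2 hz₁u))) (inv_mem (MulAction.mem_stabilizer_iff.2 he))
    rw [← e]
    exact MulAction.mem_stabilizer_iff.1 hx
  have hne2 : v₂ • u ≠ u := by
    have := hno 1 (one_mem _) u hu
    rwa [mul_one] at this
  obtain ⟨w, y, hy, -, -, hw, hyu⟩ := h.single₂.exists_pair hP h.Z_ne_bot hne2
  have hwo : w = o₁ := by
    by_contra hc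
    exact hno 1 (one_mem _) w hc (by rwa [mul_one])
  subst hwo
  exact hno y ((hP.mem_zAt_one y).1 hy) u hu hyu

/-- All of `v₁ Z` have equally many fixed points, whence the number of points. -/
theorem card_eq : ∃ g : ℕ, 1 ≤ g ∧ numFix M v₁ = g ∧
    Nat.card (G ⧸ M) + (g + 1) * g = (g + 1) * (Nat.card Z * g + 1) := by
  classical
  haveI := Fintype.ofFinite Z
  set S := cosetSum M Z v₁ with hSdef
  set n := Nat.card (G ⧸ M) with hn
  have key : ∀ z : Z, ∃ T, S = numFix M (v₁ * z) + T ∧ n = (numFix M (v₁ * z) + 1) * (T + 1) := by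
    intro z
    obtain ⟨T, h1, h2⟩ := (h.single₁.translate h.toOnePoint z.2).card_points h.toOnePoint
      h.Z_ne_bot h.oddInv
    rw [cosetSum_translate v₁ z.2] at h1
    exact ⟨T, h1, h2⟩
  choose T hT hnT using key
  have hconst : ∀ z z' : Z, numFix M (v₁ * z) = numFix M (v₁ * z') := by
    intro z z'
    by_contra hne
    obtain ⟨z'', h1, h2⟩ : ∃ z'' : Z, z'' ≠ z ∧ z'' ≠ z' := by
      by_contra hall
      push Not at hall
      have h1 : (Finset.univ : Finset Z) ⊆ {z, z'} := fun x _ => by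
        by_cases hx : x = z
        · simp [hx]
        · simp [hall x hx]
      have h2 := (Finset.card_le_card h1).trans Finset.card_le_two
      rw [Finset.card_univ, ← Nat.card_eq_fintype_card] at h2
      have := h.four_le
      omega
    have hsum : numFix M (v₁ * z) + numFix M (v₁ * z') + numFix M (v₁ * z'') ≤ S := by
      rw [hSdef, cosetSum_eq]
      have hzz : z ≠ z' := fun e => hne (by rw [e])
      refine le_trans (le_of_eq ?_) (Finset.sum_le_univ_sum_of_nonneg (fun _ => Nat.zero_le _)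
        (s := {z, z', z''}))
      rw [Finset.sum_insert (by simp [hzz, h1.symm]), Finset.sum_insert (by simp [h2.symm]),
        Finset.sum_singleton, add_assoc]
    have hpos := h.one_le_numFix z''.2
    have e1 := hnT z
    have e2 := hnT z'
    have t1 := hT z
    have t2 := hT z'
    set a := numFix M (v₁ * z)
    set b := numFix M (v₁ * z')
    have : ((a : ℤ) - b) * (S - a - b) = 0 := by
      have e3 : ((a : ℤ) + 1) * (T z + 1) = (b + 1) * (T z' + 1) := by exact_mod_cast e1.symm.trans e2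
      have t1' : (T z : ℤ) = S - a := by omega
      have t2' : (T z' : ℤ) = S - b := by omega
      rw [t1', t2'] at e3
      linarith [e3]
    rcases mul_eq_zero.1 this with h3 | h3
    · exact hne (by omega)
    · omega
  refine ⟨numFix M v₁, ?_, rfl, ?_⟩
  · have := h.one_le_numFix (one_mem Z)
    rwa [mul_one] at this
  · have e1 := hnT 1
    have t1 := hT 1
    rw [OneMemClass.coe_one, mul_one] at e1 t1
    have hS : S = Nat.card Z * numFix M v₁ := by
      rw [hSdef, cosetSum_eq, Finset.sum_congr rfl (fun z _ => hconst z 1),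
        OneMemClass.coe_one, mul_one, Finset.sum_const, Finset.card_univ,
        Nat.card_eq_fintype_card, smul_eq_mul]
    rw [e1, ← hS, t1]
    ring

/-- Double counting of fixed pairs gives `n = F₁ F₂`. -/
theorem card_mul : Nat.card (G ⧸ M) = (numFix M v₁ + 1) * (numFix M v₂ + 1) := by
  classical
  have hP := h.toOnePoint
  let N : Type u := {y : G // IsConj v₂ y ∧ y ∈ M}
  let R : Type u := {p : G × (G ⧸ M) // IsConj v₂ p.1 ∧ p.1 • p.2 = p.2}
  let K : Type u := {y : G // IsConj v₂ y}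
  haveI : Nonempty N := ⟨⟨v₂, IsConj.refl _, h.mem₂⟩⟩
  have hfixconj : ∀ (k : G) (x : G) (u : G ⧸ M),
      (k * x * k⁻¹) • (k • u) = k • u ↔ x • u = u := fun k x u => by
    rw [mul_smul, mul_smul, inv_smul_smul]
    exact ⟨fun e => MulAction.injective k e, fun e => by rw [e]⟩
  -- by points
  have e1 : Nat.card R = Nat.card (G ⧸ M) * Nat.card N := by
    rw [← Nat.card_prod]
    refine (Nat.card_eq_of_bijective (fun q : (G ⧸ M) × N =>
      (⟨(q.1.out * q.2.1 * q.1.out⁻¹, q.1), q.2.2.1.trans (isConj_iff.2 ⟨_, rfl⟩), ?_⟩ : R))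
      ⟨?_, ?_⟩).symm
    · have := (hfixconj q.1.out q.2.1 o₁).2 ((fix_one_iff _).2 q.2.2.2)
      rwa [MulAction.Quotient.smul_mk, smul_eq_mul, mul_one, QuotientGroup.out_eq'] at this
    · rintro ⟨u, y⟩ ⟨u', y'⟩ e
      obtain ⟨e2, rfl⟩ := Prod.mk.injEq .. |>.mp (congrArg Subtype.val e)
      exact Prod.ext rfl (Subtype.ext (mul_left_cancel (mul_right_cancel e2)))
    · rintro ⟨⟨y, u⟩, hy, hyu⟩
      refine ⟨(u, ⟨u.out⁻¹ * y * u.out, hy.trans (isConj_iff.2 ⟨u.out⁻¹, by group⟩), ?_⟩), ?_⟩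
      · rw [← fix_one_iff, ← hfixconj u.out, MulAction.Quotient.smul_mk, smul_eq_mul, mul_one,
          QuotientGroup.out_eq', show u.out * (u.out⁻¹ * y * u.out) * u.out⁻¹ = y by group]
        exact hyu
      · exact Subtype.ext (Prod.ext (by group) rfl)
  -- by elements
  have e2 : Nat.card R = Nat.card K * (numFix M v₂ + 1) := by
    rw [← card_fix (M := M) h.single₂.fix_one, ← Nat.card_prod]
    have hg : ∀ y : K, ∃ g : G, g * v₂ * g⁻¹ = y := fun y => isConj_iff.1 y.2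
    choose g hg using hg
    refine (Nat.card_eq_of_bijective (fun q : K × {u : G ⧸ M // v₂ • u = u} =>
      (⟨((q.1 : G), g q.1 • (q.2 : G ⧸ M)), q.1.2, by
        rw [← hg q.1]; exact (hfixconj _ _ _).2 q.2.2⟩ : R)) ⟨?_, ?_⟩).symm
    · rintro ⟨y, u⟩ ⟨y', u'⟩ e
      obtain ⟨e3, e4⟩ := Prod.mk.injEq .. |>.mp (congrArg Subtype.val e)
      obtain rfl : y = y' := Subtype.ext e3
      exact Prod.ext rfl (Subtype.ext (MulAction.injective _ e4))
    · rintro ⟨⟨y, u⟩, hy, hyu⟩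
      refine ⟨(⟨y, hy⟩, ⟨(g ⟨y, hy⟩)⁻¹ • u, ?_⟩), Subtype.ext (Prod.ext rfl (smul_inv_smul _ _))⟩
      rw [← hfixconj (g ⟨y, hy⟩), hg, smul_inv_smul]
      exact hyu
  -- the class
  have e3 : Nat.card K = (numFix M v₁ + 1) * Nat.card N := by
    rw [← card_fix (M := M) h.single₁.fix_one, ← Nat.card_prod]
    have hc : ∀ w : {u : G ⧸ M // v₁ • u = u}, ∃ c : G, c * v₁ = v₁ * c ∧ c • o₁ = (w : G ⧸ M) :=
      fun w => h.single₁.exists_cen hP h.Z_ne_bot w.2
    choose c hcv hco using hc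
    refine (Nat.card_eq_of_bijective (fun q : {u : G ⧸ M // v₁ • u = u} × N =>
      (⟨c q.1 * q.2.1 * (c q.1)⁻¹, q.2.2.1.trans (isConj_iff.2 ⟨_, rfl⟩)⟩ : K)) ⟨?_, ?_⟩).symm
    · rintro ⟨w, y⟩ ⟨w', y'⟩ e
      have e' : c w * y.1 * (c w)⁻¹ = c w' * y'.1 * (c w')⁻¹ := congrArg Subtype.val e
      have hf : ∀ (w : {u : G ⧸ M // v₁ • u = u}) (y : N),
          (c w * y.1 * (c w)⁻¹) • (w : G ⧸ M) = (w : G ⧸ M) := fun w y => by
        rw [← hco w]; exact (hfixconj _ _ _).2 ((fix_one_iff _).2 y.2.2)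
      have hw : (w : G ⧸ M) = w' :=
        h.common_unique (y.2.1.trans (isConj_iff.2 ⟨_, rfl⟩)) w'.2 (e' ▸ hf w' y') w.2 (hf w y)
      obtain rfl : w = w' := Subtype.ext hw
      exact Prod.ext rfl (Subtype.ext (mul_left_cancel (mul_right_cancel e')))
    · rintro ⟨y, hy⟩
      obtain ⟨w, hw, hyw⟩ := h.exists_common hy
      refine ⟨(⟨w, hw⟩, ⟨(c ⟨w, hw⟩)⁻¹ * y * c ⟨w, hw⟩,
        hy.trans (isConj_iff.2 ⟨(c ⟨w, hw⟩)⁻¹, by group⟩), ?_⟩), Subtype.ext (by group)⟩
      rw [← fix_one_iff, mul_smul, mul_smul, hco, hyw, inv_smul_eq_iff]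
      exact (hco ⟨w, hw⟩).symm
  have : Nat.card (G ⧸ M) * Nat.card N = (numFix M v₁ + 1) * (numFix M v₂ + 1) * Nat.card N := by
    rw [← e1, e2, e3]; ring
  exact Nat.eq_of_mul_eq_mul_right Nat.card_pos this

end SingularPair

/-- Node A: there is no singular pair. -/
theorem singular_false {v₁ v₂ : G} (h : SingularPair M Z v₁ v₂) : False := by
  obtain ⟨a, ha, hae, ha'⟩ := h.card_eq
  obtain ⟨b, hb, hbe, hb'⟩ := h.symm.card_eq
  have h1 := h.card_mul
  rw [hae, hbe] at h1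
  have hq := h.four_le
  generalize Nat.card (G ⧸ M) = n at *
  generalize Nat.card Z = q at *
  subst h1
  have e1 : b + 1 + a = q * a + 1 := by
    have : (a + 1) * (b + 1 + a) = (a + 1) * (q * a + 1) := by rw [← ha']; ring
    exact Nat.eq_of_mul_eq_mul_left (by omega) this
  have e2 : a + 1 + b = q * b + 1 := by
    have : (b + 1) * (a + 1 + b) = (b + 1) * (q * b + 1) := by rw [← hb']; ring
    exact Nat.eq_of_mul_eq_mul_left (by omega) this
  nlinarith

end Cfsg.Agent.Lib.HHS57
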