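import Cfsg.Agent.Lib.HHS57.FLine
import Cfsg.Agent.Lib.HHS57.Singular
import Cfsg.Agent.Lib.HHS57.LineAlg

/-!
# A stable abelian line gives a singular pair (helper18)

A fixed element stabilising an abelian line centralises its moved part (it is an isometry of the lifted
commutator form); then `singular_false` applies if some involution of `gD` does not commute with it.
-/

set_option autoImplicit false
set_option linter.style.haveILetI false
set_option linter.unusedSectionVars false

namespace Cfsg.Agent.Lib.HHS57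

open Cfsg Cfsg.Agent.Lib
open Subgroup
open scoped commutatorElement

universe u

variable {H : Type u} [Group H] [Finite H] {p r : ℕ} {α : MulAut H} {V : Type u} [CommGroup V]
  [Finite V] {ψ : H →* MulAut V} {e : MulAut V}

variable (h : Min p r α ψ e) (T : Sylow 2 H) (hT : Stb α (T : Subgroup H))

include h hT

/-- An isometry of a lifted commutator form on a line is trivial. -/
theorem Min.line_pointwise (hneg : CenNeg ψ) {m : ℕ} (hm : r = 2 ^ m + 1)
    {U : Subgroup (H ⧸ Subgroup.center H)} (hUD : U ≤ gD α T) (hUα : Stb (qAut α) U)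
    (hcm : cm (qAut α) U = U) (hcomm : ∀ a ∈ U, ∀ b ∈ U, a * b = b * a)
    {c : H ⧸ Subgroup.center H} (hcf : qAut α c = c) (hcU : ∀ u ∈ U, c * u * c⁻¹ ∈ U) :
    ∀ u ∈ U, c * u = u * c := by
  classical
  by_cases hU1 : U = ⊥
  · intro u hu
    rw [hU1, Subgroup.mem_bot] at hu
    rw [hu, mul_one, one_mul]
  obtain ⟨hfixU, hexpU⟩ := h.gAbelian_facts T hT hUD hUα hcm hcomm
  have hcard := h.gAbelian_card T hT hneg hm hUD hUα hcm hcomm hU1
  letI : CommGroup U :=
    { (inferInstance : Group U) with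
      mul_comm := fun a b => Subtype.ext (hcomm a a.2 b b.2) }
  choose sec hsec using QuotientGroup.mk'_surjective (Subgroup.center H)
  let κ : U → U → H := fun u v => ⁅sec u, sec v⁆
  have hκc : ∀ u v, κ u v ∈ Subgroup.center H := fun u v => by
    rw [← QuotientGroup.eq_one_iff]
    show qHom H ⁅sec u, sec v⁆ = 1
    rw [map_commutatorElement, hsec, hsec, commutatorElement_eq_one_iff_mul_comm]
    exact hcomm u u.2 v v.2
  have hκeq : ∀ (u v : U) (x y : H), qHom H x = u → qHom H y = v → κ u v = ⁅x, y⁆ := by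
    intro u v x y hx hy
    obtain ⟨s, hs, rfl⟩ : ∃ s ∈ Subgroup.center H, x = sec u * s :=
      ⟨(sec u)⁻¹ * x, QuotientGroup.eq.1 ((hsec _).trans hx.symm), by group⟩
    obtain ⟨t, ht, rfl⟩ : ∃ t ∈ Subgroup.center H, y = sec v * t :=
      ⟨(sec v)⁻¹ * y, QuotientGroup.eq.1 ((hsec _).trans hy.symm), by group⟩
    have hs' : ∀ g, g * s = s * g := mem_center_iff.1 hs
    have ht' : ∀ g, g * t = t * g := mem_center_iff.1 ht
    symm
    calc ⁅sec (u : H ⧸ Subgroup.center H) * s, sec (v : H ⧸ Subgroup.center H) * t⁆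
        = sec u * (s * (sec v * t) * s⁻¹) * (sec u)⁻¹ * (sec v * t)⁻¹ := by
          simp only [commutatorElement_def]; group
      _ = sec u * sec v * (t * (sec u)⁻¹ * t⁻¹) * (sec v)⁻¹ := by
          rw [← hs', mul_inv_cancel_right]; group
      _ = κ u v := by
          rw [← ht', mul_inv_cancel_right]; rfl
  have hκl : ∀ u u' v, κ (u * u') v = κ u v * κ u' v := fun u u' v => by
    rw [hκeq (u * u') v (sec u * sec u') (sec v) (by rw [map_mul, hsec, hsec]; rfl) (hsec _),
      show ⁅sec (u : H ⧸ Subgroup.center H) * sec u', sec v⁆ =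
        (sec u * ⁅sec (u' : H ⧸ Subgroup.center H), sec v⁆ * (sec u)⁻¹) * ⁅sec (u : H ⧸ Subgroup.center H), sec v⁆ by
          simp only [commutatorElement_def]; group]
    show sec u * κ u' v * (sec u)⁻¹ * κ u v = _
    rw [mem_center_iff.1 (hκc u' v) (sec u), mul_inv_cancel_right, mem_center_iff.1 (hκc u v)]
  have hκr : ∀ u v v', κ u (v * v') = κ u v * κ u v' := fun u v v' => by
    have h1 := hκl v v' u
    have h2 : ∀ a b, κ a b = (κ b a)⁻¹ := fun a b => (commutatorElement_inv _ _).symm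
    rw [h2, h1, mul_inv_rev, ← h2, ← h2, mem_center_iff.1 (hκc u v)]
  have hκ1 : ∀ v, κ 1 v = 1 := fun v => by
    have := hκl 1 1 v
    rwa [one_mul, left_eq_mul] at this
  have hκsq : ∀ u v, κ u v * κ u v = 1 := fun u v => by
    rw [← hκl, show u * u = (1 : U) from Subtype.ext (hexpU u u.2), hκ1]
  have hκone : ∀ u v u' v', κ u v ≠ 1 → κ u' v' ≠ 1 → κ u v = κ u' v' := fun u v u' v' h1 h2 =>
    h.eq_of_cenNeg hneg (hκc _ _) (hκc _ _) (hκsq _ _) (hκsq _ _) h1 h2
  let bit : H → ZMod 2 := fun x => if x = 1 then 0 else 1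
  have hbit : ∀ u v u' v', bit (κ u v * κ u' v') = bit (κ u v) + bit (κ u' v') := by
    intro u v u' v'
    by_cases h1 : κ u v = 1
    · simp [bit, h1]
    by_cases h2 : κ u' v' = 1
    · simp [bit, h2]
    rw [hκone u v u' v' h1 h2, hκsq]
    simp [bit, h2]
    rfl
  let W := Additive U
  let a : W ≃+ W := MulEquiv.toAdditive (resA (qAut α) U hUα)
  let f : W →+ W →+ ZMod 2 := AddMonoidHom.mk'
    (fun x => AddMonoidHom.mk' (fun y => bit (κ x.toMul y.toMul))
      (fun y y' => by show bit (κ _ (_ * _)) = _; rw [hκr, hbit]))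
    (fun x x' => AddMonoidHom.ext fun y => by show bit (κ (_ * _) _) = _; rw [hκl, hbit]; rfl)
  have hW : Nat.card W = 2 ^ (2 * m) := (Nat.card_congr Additive.toMul).trans hcard
  have hiter : ∀ (n : ℕ) (x : W), a^[n] x = Additive.ofMul ((resA (qAut α) U hUα ^ n) x.toMul) := by
    intro n
    induction n with
    | zero => intro x; rfl
    | succ n ih =>
      intro x
      rw [Function.iterate_succ_apply', ih, pow_succ', MulAut.mul_apply]
      rfl
  have hmod : FpfMod r m a :=
    { prime := h.hr, eq := hm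
      pos := Nat.pos_of_ne_zero fun h0 => h.r_ne_two T hT (by rw [hm, h0]; rfl)
      two := fun x => congrArg Additive.ofMul (Subtype.ext (hexpU _ x.toMul.2) : x.toMul * x.toMul = 1)
      pow := fun x => by rw [hiter, resA_pow_r h.qPow]; rfl
      fpf := fun x hx => congrArg Additive.ofMul
        (Subtype.ext (hfixU _ x.toMul.2 (congrArg (fun y : W => (y.toMul : H ⧸ Subgroup.center H)) hx))) }
  have hform : InvForm a f :=
    { alt := fun x => by show bit (κ x.toMul x.toMul) = 0; simp [κ, bit]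
      inv := fun x y => by
        show bit (κ _ _) = bit (κ _ _)
        rw [hκeq _ _ (α (sec x.toMul)) (α (sec y.toMul)) (by rw [← qAut_mk, hsec]; rfl)
          (by rw [← qAut_mk, hsec]; rfl), ← map_commutatorElement, h.center_fixed (hκc _ _)] }
  have hf0 : f ≠ 0 := by
    obtain ⟨u, hu, hu1⟩ : ∃ u ∈ U, u ≠ 1 := by
      by_contra hh
      push Not at hh
      exact hU1 ((Subgroup.eq_bot_iff_forall U).2 hh)
    obtain ⟨v, hv, hnc⟩ := h.exists_liftNC T hT hUD hUα hcm hcomm
      (mul_mem (inv_mem hu) (hUα u hu)) (fun hh => hu1 (hfixU u hu hh))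
    intro e1
    have h2 : bit (κ ⟨u, hu⟩ ⟨v, hv⟩) = 0 :=
      DFunLike.congr_fun (DFunLike.congr_fun e1 (Additive.ofMul (⟨u, hu⟩ : U))) (Additive.ofMul ⟨v, hv⟩)
    obtain ⟨u', v', hu', hv', hne⟩ := hnc
    rw [hκeq ⟨u, hu⟩ ⟨v, hv⟩ u' v' hu' hv'] at h2
    simp [bit, hne] at h2
  let b : W →+ W := AddMonoidHom.mk' (fun x => Additive.ofMul ⟨c * x.toMul * c⁻¹, hcU _ x.toMul.2⟩)
    (fun x y => congrArg Additive.ofMul (Subtype.ext (by
      show c * ((x.toMul : H ⧸ Subgroup.center H) * (y.toMul : H ⧸ Subgroup.center H)) * c⁻¹ =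
        (c * x.toMul * c⁻¹) * (c * y.toMul * c⁻¹)
      group)))
  have hbiter : ∀ (n : ℕ) (x : W),
      ((b^[n] x).toMul : H ⧸ Subgroup.center H) = c ^ n * x.toMul * (c ^ n)⁻¹ := by
    intro n
    induction n with
    | zero => intro x; simp
    | succ n ih =>
      intro x
      rw [Function.iterate_succ_apply']
      show c * ((b^[n] x).toMul : H ⧸ Subgroup.center H) * c⁻¹ = _
      rw [ih, pow_succ']; group
  have hbid := hmod.eq_id_of_isometry hW hform hf0 b
    (fun x => congrArg Additive.ofMul (Subtype.ext (by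
      show c * qAut α _ * c⁻¹ = qAut α (c * _ * c⁻¹)
      rw [map_mul, map_mul, map_inv, hcf])))
    (orderOf c) ((h.hr.coprime_iff_not_dvd.2 fun hd => h.qCo (hd.trans (orderOf_dvd_natCard c))).symm)
    (fun x => congrArg Additive.ofMul (Subtype.ext (by
      rw [hbiter, pow_orderOf_eq_one]; group) : (b^[orderOf c] x).toMul = x.toMul))
    (fun x y => by
      obtain ⟨c', rfl⟩ := QuotientGroup.mk'_surjective (Subgroup.center H) c
      show bit (κ _ _) = bit (κ _ _)
      rw [hκeq _ _ (c' * sec x.toMul * c'⁻¹) (c' * sec y.toMul * c'⁻¹)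
        (by rw [map_mul, map_mul, map_inv, hsec]; rfl) (by rw [map_mul, map_mul, map_inv, hsec]; rfl),
        show ⁅c' * sec (x.toMul : H ⧸ Subgroup.center H) * c'⁻¹,
          c' * sec (y.toMul : H ⧸ Subgroup.center H) * c'⁻¹⁆ =
          c' * κ x.toMul y.toMul * c'⁻¹ by simp only [κ, commutatorElement_def]; group,
        mem_center_iff.1 (hκc _ _) c', mul_inv_cancel_right])
  intro u hu
  have h1 := congrArg (fun y : W => (y.toMul : H ⧸ Subgroup.center H)) (hbid (Additive.ofMul ⟨u, hu⟩))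
  exact mul_inv_eq_iff_eq_mul.1 h1

/-- A stable abelian line with a noncommuting involution of `gD`. -/
theorem Min.singular_case (hneg : CenNeg ψ) {m : ℕ} (hm : r = 2 ^ m + 1)
    (hP : OnePoint (gM α T) (gZ α T)) (hq : 4 ≤ Nat.card (gZ α T))
    {L : Subgroup (H ⧸ Subgroup.center H)} (hZL : gZ α T ≤ L) (hLD : L ≤ gD α T) (hL : Stb (qAut α) L)
    (hcomm : ∀ a ∈ L, ∀ b ∈ L, a * b = b * a)
    (hstab : ∀ c ∈ gM α T, qAut α c = c → ∀ l ∈ L, c * l * c⁻¹ ∈ L)
    (hinv : ∀ j ∈ gM α T, j * j = 1 → ∀ d ∈ gD α T, j * d * j⁻¹ * d⁻¹ ∈ L)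
    {u v : H ⧸ Subgroup.center H} (hu : u ∈ cm (qAut α) L) (hv : v ∈ gD α T) (hvv : v * v = 1)
    (huv : u * v ≠ v * u) : False := by
  set U := cm (qAut α) L with hU
  have hUL : U ≤ L := cm_le hL
  have hUc : ∀ a ∈ U, ∀ b ∈ U, a * b = b * a := fun a ha b hb => hcomm a (hUL ha) b (hUL hb)
  have hUcm : cm (qAut α) U = U := cm_cm h.hr h.qPow h.qCo hL
  obtain ⟨-, hU2⟩ := h.gAbelian_facts T hT (hUL.trans hLD) (stb_cm hL) hUcm hUc
  have hcU : ∀ c ∈ gM α T, qAut α c = c → ∀ a ∈ U, c * a = a * c := fun c hc hcf =>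
    h.line_pointwise T hT hneg hm (hUL.trans hLD) (stb_cm hL) hUcm hUc hcf fun a ha => by
      refine (?_ : U ≤ U.comap (MulAut.conj c).toMonoidHom) ha
      refine cm_le_iff.2 fun l hl => ?_
      rw [Subgroup.mem_comap]
      simp only [MulEquiv.coe_toMonoidHom, MulAut.conj_apply]
      rw [show c * (l⁻¹ * qAut α l) * c⁻¹ = (c * l * c⁻¹)⁻¹ * qAut α (c * l * c⁻¹) by
        rw [map_mul, map_mul, map_inv, hcf]; group]
      exact mem_cm (hstab c hc hcf l hl)
  have hLmem : ∀ m ∈ gM α T, ∀ l ∈ L, m * l * m⁻¹ * l⁻¹ ∈ gZ α T := by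
    intro m₀ hm₀ l hl
    obtain ⟨c, hc, hcf, d, hd, rfl⟩ := h.gM_eq T hT hm₀
    obtain ⟨k, hk, hkf, a, ha, rfl⟩ := exists_fixed_mul_cm h.hr h.qPow h.qCo hL hl
    have hkZ : k ∈ gZ α T := h.gD_fixed T hT (hLD hk) hkf
    have h1 := h.gZ_conj T hT hc (h.gD_commutator T hT hd (hLD hl))
    rw [show c * d * (k * a) * (c * d)⁻¹ * (k * a)⁻¹ =
      (c * (d * (k * a) * d⁻¹ * (k * a)⁻¹) * c⁻¹) * ((c * k * c⁻¹) * (c * a * c⁻¹) * a⁻¹ * k⁻¹) by group]
    refine mul_mem (by simpa [commutatorElement_def] using h1) ?_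
    rw [hcU c hc hcf a ha, mul_inv_cancel_right, mul_inv_cancel_right]
    exact mul_mem (h.gZ_conj T hT hc hkZ) (inv_mem hkZ)
  have huD : u ∈ gD α T := hLD (hUL hu)
  have huZ : u ∉ gZ α T := fun e1 => huv (h.gZ_comm T hT e1 hv)
  have hvZ : v ∉ gZ α T := fun e1 => huv (h.gZ_comm T hT e1 huD).symm
  have hodd : ¬ 2 ∣ (gM α T).index := by
    haveI : Fact (Nat.Prime 2) := ⟨Nat.prime_two⟩
    obtain ⟨P, hP'⟩ := (h.gD_isPGroup T hT).exists_le_sylow
    exact fun hd => P.not_dvd_index (hd.trans (Subgroup.index_dvd_of_le (h.two_le_gM T hT P.isPGroup' hP')))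
  refine singular_false (M := gM α T) (Z := gZ α T) (v₁ := u) (v₂ := v) ?_
  exact
    { toOnePoint := hP
      four_le := hq
      oddIndex := hodd
      oddInv := fun x hx hx1 hxo j hj hjj hjx g hg => by
        -- the odd element centralises `gD`
        let K₁ : Subgroup (H ⧸ Subgroup.center H) :=
          { carrier := {y | y ∈ gM α T ∧ ∀ d ∈ gD α T, y * d * y⁻¹ * d⁻¹ ∈ L}
            one_mem' := ⟨one_mem _, fun d _ => by simp⟩
            mul_mem' := fun {a b} ha hb => ⟨mul_mem ha.1 hb.1, fun d hd => by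
              rw [show a * b * d * (a * b)⁻¹ * d⁻¹ =
                a * (b * d * b⁻¹ * d⁻¹) * a⁻¹ * (a * d * a⁻¹ * d⁻¹) by group]
              refine mul_mem ?_ (ha.2 d hd)
              rw [show a * (b * d * b⁻¹ * d⁻¹) * a⁻¹ =
                (a * (b * d * b⁻¹ * d⁻¹) * a⁻¹ * (b * d * b⁻¹ * d⁻¹)⁻¹) * (b * d * b⁻¹ * d⁻¹) by group]
              exact mul_mem (hZL (hLmem a ha.1 _ (hb.2 d hd))) (hb.2 d hd)⟩
            inv_mem' := fun {a} ha => ⟨inv_mem ha.1, fun d hd => by
              have hd' : a⁻¹ * d * a ∈ gD α T := by simpa using h.gD_conj T hT (inv_mem ha.1) hd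
              have := inv_mem (ha.2 _ hd')
              simpa [mul_assoc] using this⟩ }
        have hjK : j ∈ K₁ := ⟨hj, hinv j hj hjj⟩
        have hconjK : ∀ m ∈ gM α T, ∀ y ∈ K₁, m * y * m⁻¹ ∈ K₁ := fun m₀ hm₀ y hy =>
          ⟨mul_mem (mul_mem hm₀ hy.1) (inv_mem hm₀), fun d hd => by
            have hd' : m₀⁻¹ * d * m₀ ∈ gD α T := by simpa using h.gD_conj T hT (inv_mem hm₀) hd
            have h1 := hy.2 _ hd'
            have h2 := mul_mem (hZL (hLmem m₀ hm₀ _ h1)) h1
            simpa [mul_assoc] using h2⟩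
        have hji : j⁻¹ = j := inv_eq_of_mul_eq_one_right hjj
        have hx2K : x * x ∈ K₁ := by
          have h1 := mul_mem (hconjK x hx j hjK) (inv_mem hjK)
          rwa [hji, show x * j * x⁻¹ * j = x * (j * x⁻¹ * j) by group,
            show j * x⁻¹ * j = x by rw [← hjx, show j * (j * x * j) * j = (j * j) * x * (j * j) by group, hjj,
              one_mul, mul_one]] at h1
        have hhalf : ∀ (y : H ⧸ Subgroup.center H) (P : Subgroup (H ⧸ Subgroup.center H)),
            Odd (orderOf y) → y * y ∈ P → y ∈ P := by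
          intro y P hy hyP
          obtain ⟨n, hn⟩ := hy
          have h1 := pow_mem hyP (n + 1)
          rwa [← pow_two, ← pow_mul, show 2 * (n + 1) = orderOf y + 1 by omega, pow_succ, pow_orderOf_eq_one,
            one_mul] at h1
        have hxK := hhalf x K₁ hxo hx2K
        let K₂ : Subgroup (H ⧸ Subgroup.center H) :=
          { carrier := {y | y ∈ gM α T ∧ ∀ d ∈ gD α T, y * d * y⁻¹ * d⁻¹ ∈ gZ α T}
            one_mem' := ⟨one_mem _, fun d _ => by simp⟩
            mul_mem' := fun {a b} ha hb => ⟨mul_mem ha.1 hb.1, fun d hd => by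
              rw [show a * b * d * (a * b)⁻¹ * d⁻¹ =
                a * (b * d * b⁻¹ * d⁻¹) * a⁻¹ * (a * d * a⁻¹ * d⁻¹) by group]
              exact mul_mem (h.gZ_conj T hT ha.1 (hb.2 d hd)) (ha.2 d hd)⟩
            inv_mem' := fun {a} ha => ⟨inv_mem ha.1, fun d hd => by
              have hd' : a⁻¹ * d * a ∈ gD α T := by simpa using h.gD_conj T hT (inv_mem ha.1) hd
              have := inv_mem (ha.2 _ hd')
              simpa [mul_assoc] using this⟩ }
        have hx2 : x * x ∈ K₂ := ⟨mul_mem hx hx, fun d hd => by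
          set l := x * d * x⁻¹ * d⁻¹ with hl
          have hlL : l ∈ L := hxK.2 d hd
          rw [show x * x * d * (x * x)⁻¹ * d⁻¹ = (x * l * x⁻¹ * l⁻¹) * (l * l) by rw [hl]; group]
          exact mul_mem (hLmem x hx l hlL) (h.gD_sq T hT (hLD hlL))⟩
        have hxnm : ¬ MovesD α T x := fun ⟨d, hd, hne⟩ => hne ((hhalf x K₂ hxo hx2).2 d hd)
        obtain ⟨c, hc, hcf, d, hd, hcd⟩ := h.gM_eq T hT hx
        have hcnm : ¬ MovesD α T c := by
          rintro ⟨y, hy, hne⟩
          refine hxnm ⟨y, hy, fun hh => hne ?_⟩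
          have hk : c * (d * y * d⁻¹ * y⁻¹) * c⁻¹ ∈ gZ α T := h.gZ_conj T hT hc (h.gD_commutator T hT hd hy)
          rw [hcd, show c * d * y * (c * d)⁻¹ * y⁻¹ =
            (c * (d * y * d⁻¹ * y⁻¹) * c⁻¹) * (c * y * c⁻¹ * y⁻¹) by group] at hh
          exact (Subgroup.mul_mem_cancel_left _ hk).1 hh
        have hcD := h.exact_of_not_moves T hT hcf hcnm
        obtain ⟨n, hn⟩ := hxo
        have hdn : d ^ orderOf x ∈ gZ α T := by
          have h1 : (c * d) ^ orderOf x = 1 := hcd ▸ pow_orderOf_eq_one x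
          rw [(show Commute c d from hcD d hd).mul_pow] at h1
          exact h.gD_fixed T hT (pow_mem hd _)
            (by rw [eq_inv_of_mul_eq_one_right h1, map_inv, map_pow, hcf])
        have hdZ : d ∈ gZ α T := by
          rw [hn, pow_succ, pow_mul, pow_two] at hdn
          exact (Subgroup.mul_mem_cancel_left _ (pow_mem (h.gD_sq T hT hd) n)).1 hdn
        have hxf : qAut α x = x := by rw [hcd, map_mul, hcf, h.gZ_fixed T hT hdZ]
        have hxD : ∀ y ∈ gD α T, x * y = y * x := fun y hy => by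
          rw [hcd, mul_assoc, h.gZ_comm T hT hdZ hy, ← mul_assoc, hcD y hy, mul_assoc]
        set X := Subgroup.zpowers x with hX
        have hXα : Stb (qAut α) X := fun y hy => by
          obtain ⟨i, rfl⟩ := Subgroup.mem_zpowers_iff.1 hy
          rw [map_zpow, hxf]
          exact Subgroup.zpow_mem _ (Subgroup.mem_zpowers x) i
        have hne : Subgroup.normalizer (X : Set (H ⧸ Subgroup.center H)) ≠ ⊤ := by
          intro e1
          haveI := Subgroup.normalizer_eq_top_iff.1 e1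
          rcases h.gNormal T hT hXα with h2 | h2
          · exact hx1 (Subgroup.mem_bot.1 (h2 ▸ Subgroup.mem_zpowers x))
          · exact h.gM_ne_top T hT (top_le_iff.1 (h2 ▸ Subgroup.zpowers_le.2 hx))
        refine h.le_gM T hT hXα.normalizer hne (fun y hy => ?_) (?_ : g ∈ _)
        · refine Lib.FS.mem_normalizer_of_conj_mem fun w hw => ?_
          obtain ⟨i, rfl⟩ := Subgroup.mem_zpowers_iff.1 hw
          rw [← conj_zpow, show y * x * y⁻¹ = x by rw [← hxD y hy, mul_inv_cancel_right]]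
          exact Subgroup.zpow_mem _ (Subgroup.mem_zpowers x) i
        · refine Lib.FS.mem_normalizer_of_conj_mem fun w hw => ?_
          obtain ⟨i, rfl⟩ := Subgroup.mem_zpowers_iff.1 hw
          rw [← conj_zpow, hg]
          exact Subgroup.zpow_mem _ (inv_mem (Subgroup.mem_zpowers x)) i
      mem₁ := h.gD_le_gM T hT huD
      mem₂ := h.gD_le_gM T hT hv
      sq₁ := hU2 u hu
      sq₂ := hvv
      notZ₁ := huZ
      notZ₂ := hvZ
      cenZ₁ := fun z hz => (h.gZ_comm T hT hz huD).symm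
      cenZ₂ := fun z hz => (h.gZ_comm T hT hz hv).symm
      commMem := fun m₀ hm₀ => h.gD_commutator T hT huD (h.gD_conj T hT hm₀ hv)
      commNe := fun m₀ hm₀ => by
        obtain ⟨c, hc, hcf, d, hd, rfl⟩ := h.gM_eq T hT hm₀
        intro e1
        rw [commutatorElement_eq_one_iff_mul_comm] at e1
        set k := d * v * d⁻¹ * v⁻¹ with hk
        have hkZ : k ∈ gZ α T := by
          simpa [commutatorElement_def, hk] using h.gD_commutator T hT hd hv
        rw [show c * d * v * (c * d)⁻¹ = c * (k * v) * c⁻¹ by rw [hk]; group] at e1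
        have h2 : u * (k * v) = k * v * u := by
          have h3 : c⁻¹ * (u * (c * (k * v) * c⁻¹)) * c = c⁻¹ * (c * (k * v) * c⁻¹ * u) * c := by rw [e1]
          have hci : c⁻¹ * u * c = u := by
            rw [mul_assoc, ← hcU c hc hcf u hu, inv_mul_cancel_left]
          calc u * (k * v) = c⁻¹ * u * c * (k * v) := by rw [hci]
            _ = c⁻¹ * (u * (c * (k * v) * c⁻¹)) * c := by group
            _ = c⁻¹ * (c * (k * v) * c⁻¹ * u) * c := h3
            _ = k * v * (c⁻¹ * u * c) := by group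
            _ = k * v * u := by rw [hci]
        refine huv (mul_left_cancel (a := k) ?_)
        rw [← mul_assoc, h.gZ_comm T hT hkZ huD, mul_assoc, h2, mul_assoc] }

end Cfsg.Agent.Lib.HHS57
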