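import Cfsg.Agent.Lib.HHS57.FixSquare
import Cfsg.Agent.Lib.HHS57.Four
import Cfsg.Agent.Lib.HHS57.SingLine

/-!
# The case where no fixed `2`-element moves `gD` (helper18)

Every subcase ends in a singular pair or in a last configuration.
-/

set_option autoImplicit false
set_option linter.style.haveILetI false
set_option linter.unusedSectionVars false

namespace Cfsg.Agent.Lib.HHS57

open Cfsg Cfsg.Agent.Lib
open Subgroup
open scoped commutatorElement

universe u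

variable {H : Type u} [Group H] [Finite H] {p r : ℕ} {α : MulAut H} {V : Type u} [CommGroup V]
  [Finite V] {ψ : H →* MulAut V} {e : MulAut V}

variable (h : Min p r α ψ e) (T : Sylow 2 H) (hT : Stb α (T : Subgroup H))

include h hT

/-- One layer: semiregular. -/
theorem Min.semiregular_one (hneg : CenNeg ψ) {m : ℕ} (hm : r = 2 ^ m + 1) (hnm : FixedNoMove α T)
    (hk : Nat.card (gD α T) ≤ Nat.card (gZ α T) * 2 ^ (2 * m))
    {Λ : Subgroup (H ⧸ Subgroup.center H)} (hΛ : TransOdd α T Λ) (hq : 4 ≤ Nat.card (gZ α T)) :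
    ∀ a ∈ gM α T, qAut α a = a → ∀ z ∈ gZ α T, z ≠ 1 → a * z = z * a →
      ∀ z' ∈ gZ α T, a * z' = z' * a := by
  intro a ha haf z hz hz1 haz
  have hX : ∀ b ∈ zpowers a, b ∈ gM α T ∧ qAut α b = b ∧ b * z = z * b := by
    intro b hb
    obtain ⟨i, rfl⟩ := Subgroup.mem_zpowers_iff.1 hb
    exact ⟨zpow_mem ha i, by rw [map_zpow, haf], (show Commute a z from haz).zpow_left i⟩
  refine h.comm_gZ_of_not_moves T hT ha ((h.not_moves_iff T hT ha).2
    (mem_of_parts (fun b hb hb2 => h.twoEl_trivOn T hT hnm (hX b hb).1 hb2) fun b hb hbo => ?_))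
  obtain ⟨hb1, hb2, hb3⟩ := hX b hb
  refine (h.not_moves_iff T hT hb1).1 fun hmv => ?_
  have hS : zpowers b ≤ gM α T := zpowers_le.2 hb1
  set F := fixL α T (zpowers b) with hF
  have hne := h.fixL_ne_gZ_of_odd T hT hneg hΛ hq hb1 hb2 hbo hz hz1 hb3
  have h1 := h.gLayer T hT hm le_rfl (h.gZ_le_fixL T hT hS) (h.fixL_le T hT hS) (h.gZ_stb T hT)
    (h.fixL_stb T hT hS) (Ne.symm hne)
  exact h.fixL_ne_gD T hT hS (mem_zpowers b) hmv
    (Subgroup.eq_of_le_of_card_ge (h.fixL_le T hT hS) (hk.trans h1))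

/-- No fixed `2`-element moves `gD`: impossible. -/
theorem Min.false_of_fixedNoMove (hneg : CenNeg ψ) {m : ℕ} (hm : r = 2 ^ m + 1)
    (hnm : FixedNoMove α T) (hP : OnePoint (gM α T) (gZ α T)) (hq : 4 ≤ Nat.card (gZ α T))
    (hC : ∃ c, qAut α c = c ∧ c ∉ gM α T) : False := by
  have hZ : gZ α T ≠ ⊥ := fun e1 => by rw [e1, Subgroup.card_bot] at hq; omega
  have hnl : ¬ MovingLines α T m := fun ⟨_, _, c, hc, hcf, hc2, hmv⟩ => hnm c hc hcf hc2 hmv
  obtain ⟨Λ, hΛf, hΛM, hΛo, hΛt⟩ := h.exists_pairStab T hT hP hneg hm hnl hZ hC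
  have hΛ : TransOdd α T Λ := ⟨hΛf, hΛM, hΛo, hΛt⟩
  by_cases h0 : ∀ z ∈ zGrp α T, z ∈ Subgroup.center H → z = 1
  · have hk := (h.card_le_of_orbit T hT hneg hm hΛ hq).1 h0
    have hle := h.gZ_card_le T hT hneg hm hnm hk hΛf hΛM hΛo hΛt hq h0
    rcases hle.lt_or_eq with hlt | heq
    · exact h.false_of_singMate T hT hnm hP hq
        (h.singMate_one T hT hneg hm hnm hk hΛf hΛM hΛo hΛt hq h0 hlt)
    · refine h.false_of_semiregular T hT hneg hm hnm hP hC hΛ ?_ heq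
        (h.semiregular_one T hT hneg hm hnm hk hΛ hq) (h.cyclic_one T hT hneg hm hnm hk)
      rw [heq, show 4 = 2 ^ 2 from rfl] at hq
      exact (Nat.pow_le_pow_iff_right (by norm_num)).1 hq
  push Not at h0
  obtain ⟨z₀, hz₀, hz₀c, hz₀1⟩ := h0
  by_cases hk : Nat.card (gD α T) ≤ Nat.card (gZ α T) * 2 ^ (2 * m)
  · exact h.false_one_center T hT hneg hm hnm hk hΛf hΛM hΛo hΛt hq hz₀ hz₀c hz₀1
  rw [not_le] at hk
  have hCM : cgM α T ≤ gM α T := inf_le_left
  set P := fixL α T (cgM α T) with hPdef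
  by_cases hP1 : P = gZ α T
  · obtain ⟨hq4, hk2⟩ := h.fixL_all_dichotomy T hT hneg hm hnm hk hΛf hΛM hΛo hΛt hq hP1
    by_cases hm3 : 3 ≤ m
    · exact h.false_of_singMate T hT hnm hP hq
        (h.singMate_four T hT hneg hm hnm hk hk2 hΛf hΛM hΛo hΛt hq4 hP1 hm3)
    have hm0 : 1 ≤ m := by
      rcases Nat.eq_zero_or_pos m with rfl | h1
      · exact absurd (hm ▸ h.hr) (by norm_num at * <;> omega)
      · exact h1
    rcases (show m = 1 ∨ m = 2 by omega) with rfl | rfl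
    · obtain ⟨γ, hγ, z, hz, hz1, ⟨hne, h3⟩, -⟩ := h.exists_cycle T hT hΛ hq4
      refine h.qCo ?_
      rw [hm, show 2 ^ 1 + 1 = 3 from rfl]
      refine dvd_trans ?_ (orderOf_dvd_natCard γ)
      by_contra h3'
      have hco : Nat.Coprime 3 (orderOf γ) := (Nat.prime_three.coprime_iff_not_dvd).2 h3'
      obtain ⟨i, hi⟩ := exists_pow_eq_self_of_coprime hco
      have h4 : γ ∈ Subgroup.centralizer {z} := by
        rw [← hi]
        exact pow_mem (mem_centralizer_singleton_iff.2 (mul_inv_eq_iff_eq_mul.1 h3)) i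
      exact hne (mul_inv_eq_iff_eq_mul.2 (mem_centralizer_singleton_iff.1 h4))
    · exact h.false_of_semiregular T hT hneg hm hnm hP hC hΛ le_rfl hq4
        (h.semiregular_four T hT hnm hq4) (h.cyclic_four T hT hnm hΛ hq4)
  have hsq : ∀ a ∈ P, a * a = 1 := fun a ha => h.fixL_sq T hT hnm hP ha
  have hcomm : ∀ a ∈ P, ∀ b ∈ P, a * b = b * a := fun a ha b hb => by
    calc a * b = a⁻¹ * b⁻¹ := by
          rw [inv_eq_of_mul_eq_one_right (hsq a ha), inv_eq_of_mul_eq_one_right (hsq b hb)]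
      _ = b * a := by rw [← mul_inv_rev, inv_eq_of_mul_eq_one_right (hsq _ (mul_mem hb ha))]
  obtain ⟨u, hu, v, hv, hvv, huv⟩ := h.exists_mate T hT hneg hm hnm hk hΛf hΛM hΛo hΛt hq hP1 hcomm
  refine h.singular_case T hT hneg hm hP hq (h.gZ_le_fixL T hT hCM) (h.fixL_le T hT hCM)
    (h.fixL_stb T hT hCM) hcomm (fun c hc hcf => h.fixL_conj T hT hCM c (mem_cgM.2 ⟨hc, hcf⟩))
    (fun j hj hjj d hd => h.gZ_le_fixL T hT hCM ((mem_trivOn.1 (h.twoEl_trivOn T hT hnm hj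
      ⟨1, by rw [pow_one, pow_two, hjj]⟩)).2.2 d hd)) hu hv hvv huv

end Cfsg.Agent.Lib.HHS57
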