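import Cfsg.Agent.Lib.HHS57.Moving
import Cfsg.Agent.Lib.HHS57.Exact

/-!
# Coprime fixed-point-free action on a module (helper57)

If `α` of prime order `r` acts coprimely on `H` and compatibly without fixed points on a faithful
elementary abelian `p`-module `V`, and `O_p(H) = 1`, then `[H, α]` is a `2`-group.  So a perfect
group `G = [G, β]` acts trivially on such a module.
-/

set_option autoImplicit false
set_option linter.style.haveILetI false
set_option linter.unusedSectionVars false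

namespace Cfsg.Agent.Lib.HHS57

open Cfsg Cfsg.Agent.Lib
open Cfsg.Agent.Lib.FpfAut (exists_invariant_sylow)
open Subgroup

universe u

variable {H : Type u} [Group H] [Finite H] {p r : ℕ} {α : MulAut H} {V : Type u} [CommGroup V]
  [Finite V] {ψ : H →* MulAut V} {e : MulAut V}

/-- There is no minimal configuration with `CenNeg`. -/
theorem Min.false_of_cenNeg (h : Min p r α ψ e) (T : Sylow 2 H) (hT : Stb α (T : Subgroup H))
    (hneg : CenNeg ψ) : False := by
  obtain ⟨m, -, hm⟩ := h.exists_m T hT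
  obtain ⟨b, hb, hb1, hF⟩ := h.exists_oneFix T hT hneg (h.gZ_ne_bot T hT hneg)
  have hP := h.gOnePoint T hT hb hb1 hF
  have hC := h.exists_fixed_not_mem T hT hb hb1 hF
  have hq := h.four_le_gZ T hT hb hb1 hF
  by_cases hml : MovingLines α T m
  · obtain ⟨hk, hab, c, hc, hcf, hc2, hmv⟩ := hml
    exact h.false_of_movingLines T hT hm hk hneg hP hq (h.gZ_trans T hT hb hb1 hF) hab hc hcf hc2 hmv
  · exact h.false_of_fixedNoMove T hT hneg hm (h.fixed_not_moves T hT hneg hm hml hP hq hC) hP hq hC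

/-- `[H, α]` is a `2`-group in every configuration. -/
theorem below_all : ∀ n : ℕ, Below.{u} n := by
  intro n
  induction n with
  | zero => intro H _ _ V _ _ p r α ψ e hlt; exact absurd hlt (Nat.not_lt_zero _)
  | succ n ih =>
    intro H _ _ V _ _ p r α ψ e hlt hcfg
    rcases (Nat.lt_succ_iff.1 hlt).lt_or_eq with h1 | h1
    · exact ih H V p r α ψ e h1 hcfg
    by_contra hmoved
    have hmin : Min p r α ψ e := { toCfg := hcfg, below := h1 ▸ ih, moved := hmoved }
    obtain ⟨V', _, _, ψ', e', hmin', hneg⟩ := hmin.exists_irred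
    haveI : Fact (Nat.Prime 2) := ⟨Nat.prime_two⟩
    obtain ⟨T, hT⟩ := exists_invariant_sylow hmin.hr hmin.hα hmin.hco 2
    exact hmin'.false_of_cenNeg T hT hneg

/-- In characteristic two `[G, β]` acts as a `2`-group. -/
theorem isPGroup_two_of_char_two {G : Type u} [Group G] [Finite G] {r : ℕ} (hr : r.Prime)
    {β : MulAut G} (hβ : β ^ r = 1) (hco : ¬ r ∣ Nat.card G) {V : Type u} [CommGroup V] [Finite V]
    (φ : G →* MulAut V) {e : MulAut V} (hexp : ∀ v : V, v ^ 2 = 1) (he : e ^ r = 1)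
    (hfpf : ∀ v, e v = v → v = 1) (hcompat : ∀ g, φ (β g) = e * φ g * e⁻¹) :
    ∀ x ∈ cm β (⊤ : Subgroup G), ∃ k, φ x ^ 2 ^ k = 1 := by
  haveI : Fact (Nat.Prime 2) := ⟨Nat.prime_two⟩
  by_cases hV : ∃ v : V, v ≠ 1
  swap
  · push Not at hV
    exact fun x _ => ⟨0, by
      rw [pow_zero, pow_one]
      exact MulEquiv.ext fun v => by rw [hV v, map_one, map_one]⟩
  haveI : Finite (MulAut V) := FpfAut.finite_aut
  have hr2 : r ≠ 2 := by
    rintro rfl
    obtain ⟨v, hv⟩ := hV
    exact not_dvd_card_of_fpf hr he hfpf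
      ((orderOf_eq_prime (hexp v) hv) ▸ orderOf_dvd_natCard v)
  obtain ⟨T, hT⟩ := exists_invariant_sylow hr hβ hco 2
  let K := φ.ker
  -- odd invariant Sylow subgroups are centralised modulo the kernel
  have hodd : ∀ (q : ℕ) [Fact q.Prime], q ≠ 2 → ∀ Q : Sylow q G, Stb β (Q : Subgroup G) →
      ∀ x ∈ (Q : Subgroup G), x⁻¹ * β x ∈ K := by
    intro q hq hq2 Q hQ x hx
    set Qb := (Q : Subgroup G).map φ with hQb
    obtain ⟨n, hn⟩ := IsPGroup.iff_card.1 (Q.isPGroup'.map φ)
    have h2 : ¬ 2 ∣ Nat.card Qb := by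
      rw [hQb, hn]
      exact fun hd => hq2 ((Nat.prime_dvd_prime_iff_eq Nat.prime_two hq.out).1
        (Nat.prime_two.dvd_of_dvd_pow hd)).symm
    have hrQ : ¬ r ∣ Nat.card Qb := fun hd =>
      not_dvd_sub hco (Q : Subgroup G) (hd.trans ((Q : Subgroup G).card_map_dvd φ))
    have hst : ∀ k ∈ Qb, e * k * e⁻¹ ∈ Qb := by
      rintro _ ⟨y, hy, rfl⟩
      exact ⟨β y, hQ y hy, hcompat y⟩
    have h1 := FpfAut.commE_isPGroup Nat.prime_two hr hr2.symm hexp he hfpf hV Qb hst h2 hrQ
    have hmem : φ (x⁻¹ * β x) ∈ FpfAut.commE Qb e :=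
      subset_closure ⟨φ x, ⟨x, hx, rfl⟩, by rw [map_mul, map_inv, hcompat]⟩
    obtain ⟨k, hk⟩ := h1 ⟨_, hmem⟩
    refine MonoidHom.mem_ker.2 ?_
    refine eq_one_of_isPGroup_of_not_dvd hq.out (Q.isPGroup'.map φ)
      (FpfAut.commE_le Qb hst hmem) fun hd => ?_
    exact hq2 ((Nat.prime_dvd_prime_iff_eq hq.out Nat.prime_two).1 (hq.out.dvd_of_dvd_pow
      (hd.trans (orderOf_dvd_of_pow_eq_one (congrArg Subtype.val hk)))))
  -- `G = C(β) T` modulo the kernel
  have hKβ : Stb β K := fun x hx => by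
    rw [MonoidHom.mem_ker] at hx ⊢
    rw [hcompat, hx, mul_one, mul_inv_cancel]
  let L := (T : Subgroup G) ⊔ K
  have hLβ : Stb β L := Stb.sup hT hKβ
  have hcard : Nat.card (⊤ : Subgroup G) * Nat.card (L ⊓ fixG β : Subgroup G) ≤
      Nat.card ((⊤ : Subgroup G) ⊓ fixG β : Subgroup G) * Nat.card L := by
    rw [top_inf_eq, Subgroup.card_top]
    refine Nat.le_of_dvd (Nat.mul_pos Nat.card_pos Nat.card_pos) ?_
    refine (Nat.factorization_le_iff_dvd (mul_ne_zero Nat.card_pos.ne' Nat.card_pos.ne')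
      (mul_ne_zero Nat.card_pos.ne' Nat.card_pos.ne')).1 fun q => ?_
    by_cases hq : q.Prime
    swap
    · simp [Nat.factorization_eq_zero_of_not_prime _ hq]
    rw [Nat.factorization_mul Nat.card_pos.ne' Nat.card_pos.ne',
      Nat.factorization_mul Nat.card_pos.ne' Nat.card_pos.ne', Finsupp.add_apply, Finsupp.add_apply]
    haveI := Fact.mk hq
    by_cases hq2 : q = 2
    · subst hq2
      have h1 : (Nat.card G).factorization 2 ≤ (Nat.card L).factorization 2 := by
        refine (hq.pow_dvd_iff_le_factorization Nat.card_pos.ne').1 ?_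
        rw [← T.card_eq_multiplicity]
        exact Subgroup.card_dvd_of_le le_sup_left
      have h2 := (Nat.factorization_le_iff_dvd Nat.card_pos.ne' Nat.card_pos.ne').2
        (Subgroup.card_dvd_of_le (inf_le_right : L ⊓ fixG β ≤ fixG β)) 2
      omega
    obtain ⟨Q, hQ⟩ := exists_invariant_sylow hr hβ hco q
    -- an invariant Sylow subgroup of `K` extends to one of `G`
    obtain ⟨QL, hQL⟩ := exists_invariant_sylow hr (resA_pow_r hβ hLβ) (not_dvd_sub hco L) q
    obtain ⟨P, hQP, hP⟩ := exists_invariant_sylow_ge hr hβ hco (QL.isPGroup'.map L.subtype)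
      (stb_map_subtype (fun x => resA_apply hLβ x) hQL)
    have hPC := card_fixG_factorization hr hβ hco P hP
    have hQC := card_fixG_factorization hr (resA_pow_r hβ hLβ) (not_dvd_sub hco L) QL hQL
    -- `P = C_P(β) (P ∩ L)`
    have hprod : Nat.card P * Nat.card ((QL : Subgroup L) ⊓ fixG (resA β L hLβ) : Subgroup L) ≤
        Nat.card ((P : Subgroup G) ⊓ fixG β : Subgroup G) * Nat.card QL := by
      have hcov : ∀ x ∈ (P : Subgroup G), ∃ c ∈ ((P : Subgroup G) ⊓ fixG β : Subgroup G),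
          ∃ d : L, d ∈ (QL : Subgroup L) ∧ x = c * d := by
        intro x hx
        obtain ⟨c, hc1, hc2, d, hd, rfl⟩ := exists_fixed_mul_cm hr hβ hco hP hx
        have hdK : d ∈ K := (cm_le_iff.2 fun y hy => hodd q hq2 P hP y hy) hd
        have hdP : d ∈ (P : Subgroup G) := cm_le hP hd
        refine ⟨c, ⟨hc1, hc2⟩, ⟨d, mem_sup_right hdK⟩, ?_, rfl⟩
        exact (QL.is_maximal' (Q := (P : Subgroup G).subgroupOf L) (P.isPGroup'.comap_of_injective
          L.subtype L.subtype_injective) (fun y hy => hQP ⟨y, hy, rfl⟩)).le hdP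
      choose c hc d hd he' using hcov
      rw [← Nat.card_prod, ← Nat.card_prod]
      refine Nat.card_le_card_of_injective
        (fun t : ↥(P : Subgroup G) × ↥((QL : Subgroup L) ⊓ fixG (resA β L hLβ) : Subgroup L) =>
          ((⟨c t.1 t.1.2 * ((t.2 : L) : G), mul_mem (hc t.1 t.1.2) ⟨hQP ⟨_, t.2.2.1, rfl⟩,
              congrArg Subtype.val t.2.2.2⟩⟩ : ((P : Subgroup G) ⊓ fixG β : Subgroup G)),
            (⟨(t.2 : L)⁻¹ * d t.1 t.1.2, mul_mem (inv_mem t.2.2.1) (hd t.1 t.1.2)⟩ : QL))) ?_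
      rintro ⟨x, i⟩ ⟨y, j⟩ e1
      simp only [Prod.mk.injEq, Subtype.mk.injEq] at e1
      have hx : (x : G) = y := by
        rw [he' x x.2, he' y y.2]
        have e2 := congrArg Subtype.val e1.2
        simp only [Subgroup.coe_mul, Subgroup.coe_inv] at e2
        calc c x x.2 * (d x x.2 : G) = c x x.2 * ((i : L) : G) * (((i : L) : G)⁻¹ * (d x x.2 : G)) := by group
          _ = c y y.2 * ((j : L) : G) * (((j : L) : G)⁻¹ * (d y y.2 : G)) := by rw [e1.1, e2]
          _ = _ := by group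
      have hx' : x = y := Subtype.ext hx
      subst hx'
      exact Prod.ext rfl (Subtype.ext (Subtype.ext (mul_left_cancel e1.1)))
    have hfixL : Nat.card (fixG (resA β L hLβ)) = Nat.card (L ⊓ fixG β : Subgroup G) := by
      have e2 : (fixG (resA β L hLβ)).map L.subtype = L ⊓ fixG β := by
        ext x
        constructor
        · rintro ⟨y, hy, rfl⟩; exact ⟨y.2, congrArg Subtype.val hy⟩
        · rintro ⟨h1, h2⟩; exact ⟨⟨x, h1⟩, Subtype.ext h2, rfl⟩
      rw [← e2, Subgroup.card_map_of_injective L.subtype_injective]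
    rw [P.card_eq_multiplicity, hPC, hQC, QL.card_eq_multiplicity, hfixL, ← pow_add, ← pow_add,
      Nat.pow_le_pow_iff_right hq.two_le] at hprod
    exact hprod
  have hle : cm β (⊤ : Subgroup G) ≤ L := cm_le_iff.2 fun x _ => by
    obtain ⟨c, hc, k, hk, rfl⟩ := exists_fixed_mul_of_card le_top hcard (mem_top x)
    rw [map_mul, hc, show (c * k)⁻¹ * (c * β k) = k⁻¹ * β k by group]
    exact L.mul_mem (L.inv_mem hk) (hLβ k hk)
  intro x hx
  obtain ⟨t, ht, k, hk, rfl⟩ := Subgroup.mem_sup_of_normal_right.1 (hle hx)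
  obtain ⟨n, hn⟩ := T.isPGroup' ⟨t, ht⟩
  exact ⟨n, by
    rw [map_mul, MonoidHom.mem_ker.1 hk, mul_one, ← map_pow,
      show t ^ 2 ^ n = 1 from congrArg Subtype.val hn, map_one]⟩

/-- A perfect group `G = [G, β]` acts trivially on a module without nontrivial fixed points of
`β`. -/
theorem eq_one_of_perfect {G : Type u} [Group G] [Finite G] {p r : ℕ} (hp : p.Prime) (hr : r.Prime)
    {β : MulAut G} (hβ : β ^ r = 1) (hco : ¬ r ∣ Nat.card G) (hperf : commutator G = ⊤)
    (hgen : cm β (⊤ : Subgroup G) = ⊤) {V : Type u} [CommGroup V] [Finite V]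
    (φ : G →* MulAut V) {e : MulAut V} (hexp : ∀ v : V, v ^ p = 1) (he : e ^ r = 1)
    (hfpf : ∀ v, e v = v → v = 1) (hcompat : ∀ g, φ (β g) = e * φ g * e⁻¹) (g : G) : φ g = 1 := by
  have key : ∀ (s : ℕ) [Fact s.Prime] (N : Subgroup G) [N.Normal], IsPGroup s (G ⧸ N) → N = ⊤ := by
    intro s _ N _ hN
    haveI := hN.isNilpotent
    by_contra hne
    haveI : Nontrivial (G ⧸ N) := QuotientGroup.nontrivial_iff.2 hne
    haveI : Group.IsSolvable (G ⧸ N) := inferInstance
    refine (Group.IsSolvable.commutator_lt_top_of_nontrivial (G := G ⧸ N)).ne ?_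
    rw [commutator_def, ← Subgroup.map_top_of_surjective (QuotientGroup.mk' N) (QuotientGroup.mk'_surjective N),
      ← Subgroup.map_commutator, ← commutator_def, hperf]
  haveI : Fact (Nat.Prime 2) := ⟨Nat.prime_two⟩
  by_cases hp2 : p = 2
  · subst hp2
    have h2 := isPGroup_two_of_char_two hr hβ hco φ hexp he hfpf hcompat
    rw [hgen] at h2
    have hker : φ.ker = ⊤ := key 2 _ fun x => QuotientGroup.induction_on x fun y => by
      obtain ⟨k, hk⟩ := h2 y (mem_top y)
      refine ⟨k, ?_⟩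
      rw [← QuotientGroup.mk_pow]
      exact (QuotientGroup.eq_one_iff _).2 (MonoidHom.mem_ker.2 (by rw [map_pow, hk]))
    exact MonoidHom.mem_ker.1 (hker ▸ mem_top g)
  · haveI := Fact.mk hp
    obtain ⟨W, hWn, -, hKW, hWp, hW2⟩ := exists_twoMod (below_all (Nat.card G + 1)) hp hp2 hr
      (Nat.lt_succ_self _) hβ hco (Nat.card V) V φ e rfl hexp he hfpf hcompat
    haveI := hWn
    rw [hgen] at hW2
    have hWtop : W = ⊤ := key 2 W fun x => QuotientGroup.induction_on x fun y => by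
      obtain ⟨k, hk⟩ := hW2 y (mem_top y)
      exact ⟨k, by rw [← QuotientGroup.mk_pow]; exact (QuotientGroup.eq_one_iff _).2 hk⟩
    have hker : φ.ker = ⊤ := key p _ fun x => QuotientGroup.induction_on x fun y => by
      obtain ⟨k, hk⟩ := hWp y (hWtop ▸ mem_top y)
      exact ⟨k, by rw [← QuotientGroup.mk_pow]; exact (QuotientGroup.eq_one_iff _).2 hk⟩
    exact MonoidHom.mem_ker.1 (hker ▸ mem_top g)

end Cfsg.Agent.Lib.HHS57
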