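import Cfsg.Agent.Lib.HHS57.Basics
import Cfsg.Agent.Lib.Tech42.FpfAut.Stab
import Mathlib.GroupTheory.PGroup

/-!
# The configuration `(H, V)` without a hypothesis on the fixed points (helper57)

`Cfg` : `H` acts faithfully on the elementary abelian `p`-group `V`, `α` is a coprime automorphism of
prime order of `H` extended by the fixed-point-free `e` on `V`, `O_p(H) = 1`.  If `[H, α]` is a
`2`-group for all such `H` of order `< n`, then for every group of order `< n` acting on a module
`[G, α]` is a `2`-group modulo a normal subgroup acting as a `p`-group.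
-/

set_option autoImplicit false
set_option linter.style.haveILetI false

namespace Cfsg.Agent.Lib.HHS57

open Cfsg Cfsg.Agent.Lib
open Cfsg.Agent.Lib.FpfAut (exists_fixed_mul stabS resS mem_stabS resS_apply)

universe u

/-- The configuration. -/
structure Cfg {H : Type u} [Group H] (p r : ℕ) (α : MulAut H) {V : Type u} [CommGroup V]
    (ψ : H →* MulAut V) (e : MulAut V) : Prop where
  hp : p.Prime
  hp2 : p ≠ 2
  hr : r.Prime
  hα : α ^ r = 1
  hco : ¬ r ∣ Nat.card H
  hexp : ∀ v : V, v ^ p = 1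
  he : e ^ r = 1
  hfpf : ∀ v, e v = v → v = 1
  inj : Function.Injective ψ
  compat : ∀ h, ψ (α h) = e * ψ h * e⁻¹
  core : pCore p H = ⊥

/-- `[H, α]` is a `2`-group in all configurations of order less than `n`. -/
def Below (n : ℕ) : Prop :=
  ∀ (H : Type u) [Group H] [Finite H] (V : Type u) [CommGroup V] [Finite V] (p r : ℕ)
    (α : MulAut H) (ψ : H →* MulAut V) (e : MulAut V),
    Nat.card H < n → Cfg p r α ψ e → IsPGroup 2 (cm α (⊤ : Subgroup H))

/-- An element of `p`-power order and of order prime to `p` is trivial. -/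
theorem eq_one_of_isPGroup_of_not_dvd {G : Type u} [Group G] {p : ℕ} (hp : p.Prime) {N : Subgroup G}
    (hN : IsPGroup p N) {x : G} (hx : x ∈ N) (h : ¬ p ∣ orderOf x) : x = 1 := by
  obtain ⟨k, hk⟩ := hN ⟨x, hx⟩
  have h1 : x ^ p ^ k = 1 := congrArg Subtype.val hk
  obtain ⟨j, -, hj⟩ := (Nat.dvd_prime_pow hp).1 (orderOf_dvd_of_pow_eq_one h1)
  rcases Nat.eq_zero_or_pos j with rfl | hj0
  · exact orderOf_eq_one_iff.1 (by simpa using hj)
  · exact absurd (hj ▸ dvd_pow_self p hj0.ne') h

/-- A group whose elements of order prime to `p` are trivial is a `p`-group. -/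
theorem isPGroup_of_forall {G : Type u} [Group G] [Finite G] {p : ℕ} (hp : p.Prime) (N : Subgroup G)
    (h : ∀ x ∈ N, ¬ p ∣ orderOf x → x = 1) : IsPGroup p N := by
  haveI := Fact.mk hp
  refine IsPGroup.iff_card.2 ⟨_, Nat.eq_prime_pow_of_unique_prime_dvd Nat.card_pos.ne' ?_⟩
  intro s hs hsd
  by_contra hsp
  haveI := Fact.mk hs
  obtain ⟨c, hc⟩ := exists_prime_orderOf_dvd_card' (G := N) s hsd
  have h1 := h c c.2 (by
    rw [Subgroup.orderOf_coe, hc]
    exact fun hd => hsp ((Nat.prime_dvd_prime_iff_eq hp hs).1 hd).symm)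
  rw [show c = 1 from Subtype.ext h1, orderOf_one] at hc
  exact hs.one_lt.ne hc

theorem congr_pow {G : Type u} [Group G] {N : Subgroup G} [N.Normal] (β : MulAut G)
    (hN : N.map β.toMonoidHom = N) (k : ℕ) (g : G) :
    ((QuotientGroup.congr N N β hN) ^ k : MulAut (G ⧸ N)) (QuotientGroup.mk g) =
      QuotientGroup.mk ((β ^ k) g) := by
  induction k generalizing g with
  | zero => rfl
  | succ k ih => rw [pow_succ, pow_succ, MulAut.mul_apply, MulAut.mul_apply, ← ih]; rfl

/-- A fixed-point-free automorphism of prime order has coprime order. -/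
theorem not_dvd_card_of_fpf {V : Type u} [Group V] [Finite V] {r : ℕ} (hr : r.Prime) {e : MulAut V}
    (he : e ^ r = 1) (hfpf : ∀ v, e v = v → v = 1) : ¬ r ∣ Nat.card V := fun hd => by
  have h1 := FpfAut.card_modEq_one hr he hfpf
  rw [Nat.ModEq, Nat.mod_eq_zero_of_dvd hd, Nat.one_mod_eq_one.2 hr.one_lt.ne'] at h1
  exact zero_ne_one h1

/-- `[G, β]` is a `2`-group modulo a normal subgroup acting as a `p`-group, by induction on `|V|`. -/
theorem exists_twoMod {n : ℕ} (hB : Below.{u} n) {p r : ℕ} (hp : p.Prime) (hp2 : p ≠ 2)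
    (hr : r.Prime) {G : Type u} [Group G] [Finite G] (hn : Nat.card G < n) {β : MulAut G}
    (hβ : β ^ r = 1) (hco : ¬ r ∣ Nat.card G) :
    ∀ (m : ℕ) (V : Type u) [CommGroup V] [Finite V] (φ : G →* MulAut V) (e : MulAut V),
      Nat.card V = m → (∀ v : V, v ^ p = 1) → e ^ r = 1 → (∀ v, e v = v → v = 1) →
      (∀ g, φ (β g) = e * φ g * e⁻¹) →
      ∃ W : Subgroup G, W.Normal ∧ Stb β W ∧ φ.ker ≤ W ∧
        (∀ w ∈ W, ∃ k, w ^ p ^ k ∈ φ.ker) ∧ ∀ x ∈ cm β (⊤ : Subgroup G), ∃ k, x ^ 2 ^ k ∈ W := by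
  intro m
  induction m using Nat.strong_induction_on with
  | _ m ih =>
  intro V _ _ φ e hm hexp he hfpf hcompat
  haveI := Fact.mk hp
  set K := φ.ker with hK
  have hKβ : Stb β K := fun x hx => by
    rw [hK, MonoidHom.mem_ker] at hx ⊢
    rw [hcompat, hx, mul_one, mul_inv_cancel]
  set βb : MulAut (G ⧸ K) := QuotientGroup.congr K K β hKβ.map_eq with hβb
  by_cases hO : pCore p (G ⧸ K) = ⊥
  · have hcfg : Cfg p r βb (QuotientGroup.lift K φ le_rfl) e :=
      { hp := hp, hp2 := hp2, hr := hr, hexp := hexp, he := he, hfpf := hfpf, core := hO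
        hα := MulEquiv.ext fun x => QuotientGroup.induction_on x fun g => by
          rw [congr_pow, hβ]; rfl
        hco := fun hd => hco (hd.trans K.card_quotient_dvd_card)
        inj := QuotientGroup.kerLift_injective φ
        compat := fun x => QuotientGroup.induction_on x fun g => hcompat g }
    have h2 := hB (G ⧸ K) V p r βb _ e
      ((Nat.le_of_dvd Nat.card_pos K.card_quotient_dvd_card).trans_lt hn) hcfg
    refine ⟨K, inferInstance, hKβ, le_rfl, fun w hw => ⟨0, by simpa using hw⟩, fun x hx => ?_⟩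
    have hle : (cm β (⊤ : Subgroup G)).map (QuotientGroup.mk' K) ≤ cm βb ⊤ := by
      rw [Subgroup.map_le_iff_le_comap, cm_le_iff]
      intro g _
      rw [Subgroup.mem_comap, map_mul, map_inv]
      exact mem_cm (Subgroup.mem_top (QuotientGroup.mk' K g))
    obtain ⟨k, hk⟩ := h2 ⟨_, hle (Subgroup.mem_map_of_mem _ hx)⟩
    refine ⟨k, (QuotientGroup.eq_one_iff _).1 ?_⟩
    rw [QuotientGroup.mk_pow]
    exact congrArg Subtype.val hk
  · set O := (pCore p (G ⧸ K)).comap (QuotientGroup.mk' K) with hOdef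
    let U : Subgroup V :=
      { carrier := {v | ∀ g ∈ O, φ g v = v}
        one_mem' := fun g _ => map_one _
        mul_mem' := fun {a b} ha hb g hg => by rw [map_mul, ha g hg, hb g hg]
        inv_mem' := fun {a} ha g hg => by rw [map_inv, ha g hg] }
    have hUne : U ≠ ⊤ := fun htop => hO ((Subgroup.eq_bot_iff_forall _).2 fun x => by
      refine QuotientGroup.induction_on x fun g hg => (QuotientGroup.eq_one_iff g).2 ?_
      rw [hK, MonoidHom.mem_ker]
      exact MulEquiv.ext fun v => (htop ▸ Subgroup.mem_top v : v ∈ U) g hg)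
    -- the fixed points of a `p`-group on a `p`-group
    have hUbot : U ≠ ⊥ := by
      intro hbot
      have hR : IsPGroup p (O.map φ : Subgroup (MulAut V)) := by
        rintro ⟨_, g, hg, rfl⟩
        obtain ⟨k, hk⟩ := Cores.pCore_isPGroup (G := G ⧸ K) p ⟨_, hg⟩
        refine ⟨k, Subtype.ext ?_⟩
        have h1 : (QuotientGroup.mk (g ^ p ^ k) : G ⧸ K) = 1 := by
          rw [QuotientGroup.mk_pow]; exact congrArg Subtype.val hk
        show φ g ^ p ^ k = 1
        rw [← map_pow]
        exact MonoidHom.mem_ker.1 ((QuotientGroup.eq_one_iff _).1 h1)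
      have hVd : p ∣ Nat.card V := by
        obtain ⟨v, -, hv⟩ := SetLike.exists_of_lt (lt_top_iff_ne_top.2 hUne)
        have hv1 : v ≠ 1 := fun e1 => hv (e1 ▸ U.one_mem)
        exact (orderOf_eq_prime (hexp v) hv1) ▸ orderOf_dvd_natCard v
      have h1 : (1 : V) ∈ MulAction.fixedPoints (O.map φ : Subgroup (MulAut V)) V :=
        fun a => map_one (a : MulAut V)
      obtain ⟨v, hv, hv1⟩ := hR.exists_fixed_point_of_prime_dvd_card_of_fixed_point V hVd h1
      exact hv1 (Subgroup.mem_bot.1 (hbot ▸ (fun g hg => hv ⟨φ g, g, hg, rfl⟩ : v ∈ U))).symm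
    have hOβ : ∀ g, g ∈ O → β g ∈ O := fun g hg => by
      rw [hOdef, Subgroup.mem_comap] at hg ⊢
      have h1 := (Cores.map_pCore_equiv (p := p) βb).le ⟨_, hg, rfl⟩
      exact h1
    have hUe : ∀ v ∈ U, e v ∈ U := fun v hv g hg => by
      obtain ⟨g', rfl⟩ := β.surjective g
      have hg' : g' ∈ O := (Stb.mem_iff (N := O) hOβ).1 hg
      rw [hcompat, MulAut.mul_apply, MulAut.mul_apply, MulAut.inv_apply_self, hv g' hg']
    have hUg : ∀ x : G, ∀ v ∈ U, φ x v ∈ U := fun x v hv g hg => by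
      have h1 : x⁻¹ * g * x ∈ O := by
        simpa using (inferInstance : O.Normal).conj_mem g hg x⁻¹
      have h2 := congrArg (φ x) (hv _ h1)
      rwa [← MulAut.mul_apply, ← map_mul, show x * (x⁻¹ * g * x) = g * x by group, map_mul,
        MulAut.mul_apply] at h2
    have hrV := not_dvd_card_of_fpf hr he hfpf
    -- on `U`
    let φ₁ : G →* MulAut U := (resS U).comp (φ.codRestrict _ fun g => mem_stabS (hUg g))
    let e₁ : MulAut U := resS U ⟨e, mem_stabS hUe⟩
    have hlt₁ : Nat.card U < m := hm ▸ lt_of_le_of_ne U.card_le_card_group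
      fun hc => hUne (Subgroup.eq_top_of_card_eq U hc)
    obtain ⟨W₁, hW₁n, hW₁β, hW₁k, hW₁p, hW₁2⟩ := ih _ hlt₁ U φ₁ e₁ rfl
      (fun v => Subtype.ext (hexp _))
      (by rw [← map_pow, show (⟨e, mem_stabS hUe⟩ : stabS U) ^ r = 1 from Subtype.ext he, map_one])
      (fun v hv => Subtype.ext (hfpf _ (congrArg Subtype.val hv)))
      (fun g => MulEquiv.ext fun v => Subtype.ext (DFunLike.congr_fun (hcompat g) (v : V)))
    -- on `V ⧸ U`
    haveI : U.Normal := inferInstance
    have hmap : ∀ a : MulAut V, (∀ v ∈ U, a v ∈ U) → U.map a.toMonoidHom = U := fun a ha => by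
      refine Subgroup.eq_of_le_of_card_ge ?_ ?_
      · rintro _ ⟨v, hv, rfl⟩; exact ha v hv
      · rw [← Nat.card_congr (U.equivMapOfInjective a.toMonoidHom a.injective).toEquiv]
    let φ₂ : G →* MulAut (V ⧸ U) :=
      { toFun := fun g => QuotientGroup.congr U U (φ g) (hmap _ (hUg g))
        map_one' := MulEquiv.ext fun x => QuotientGroup.induction_on x fun v => by
          show (QuotientGroup.mk (φ 1 v) : V ⧸ U) = QuotientGroup.mk v
          rw [map_one]; rfl
        map_mul' := fun a b => MulEquiv.ext fun x => QuotientGroup.induction_on x fun v => by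
          show (QuotientGroup.mk (φ (a * b) v) : V ⧸ U) = QuotientGroup.mk (φ a (φ b v))
          rw [map_mul]; rfl }
    let e₂ : MulAut (V ⧸ U) := QuotientGroup.congr U U e (hmap e hUe)
    have hlt₂ : Nat.card (V ⧸ U) < m := by
      rw [← hm, U.card_eq_card_quotient_mul_card_subgroup]
      exact lt_mul_of_one_lt_right Nat.card_pos ((Subgroup.one_lt_card_iff_ne_bot U).2 hUbot)
    obtain ⟨W₂, hW₂n, hW₂β, hW₂k, hW₂p, hW₂2⟩ := ih _ hlt₂ (V ⧸ U) φ₂ e₂ rfl
      (fun v => QuotientGroup.induction_on v fun y => by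
        rw [← QuotientGroup.mk_pow, hexp, QuotientGroup.mk_one])
      (MulEquiv.ext fun x => QuotientGroup.induction_on x fun v => by
        rw [congr_pow, he]; rfl)
      (fun x => QuotientGroup.induction_on x fun v hv => by
        obtain ⟨u', hu', hf⟩ := exists_fixed_mul hr he hUe
          (fun hd => hrV (hd.trans U.card_subgroup_dvd_card))
          (QuotientGroup.eq.1 (show (QuotientGroup.mk v : V ⧸ U) = QuotientGroup.mk (e v) from hv.symm))
        rw [QuotientGroup.eq_one_iff, eq_inv_of_mul_eq_one_left (hfpf _ hf)]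
        exact U.inv_mem hu')
      (fun g => MulEquiv.ext fun x => QuotientGroup.induction_on x fun v => by
        obtain ⟨v, rfl⟩ := e.surjective v
        show (QuotientGroup.mk (φ (β g) (e v)) : V ⧸ U) = e₂ (φ₂ g (e₂.symm (QuotientGroup.mk (e v))))
        rw [show (QuotientGroup.mk (e v) : V ⧸ U) = e₂ (QuotientGroup.mk v) from rfl,
          MulEquiv.symm_apply_apply, hcompat, MulAut.mul_apply, MulAut.mul_apply, MulAut.inv_apply_self]
        rfl)
    haveI := hW₁n
    haveI := hW₂n
    refine ⟨W₁ ⊓ W₂, inferInstance, hW₁β.inf hW₂β, ?_, fun w hw => ?_, fun x hx => ?_⟩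
    · intro g hg
      have hg1 : φ g = 1 := MonoidHom.mem_ker.1 hg
      refine ⟨?_, ?_⟩
      · exact hW₁k (MonoidHom.mem_ker.2 (MulEquiv.ext fun v => Subtype.ext (by
          show φ g (v : V) = v
          rw [hg1]; rfl)))
      · exact hW₂k (MonoidHom.mem_ker.2 (MulEquiv.ext fun y =>
          QuotientGroup.induction_on y fun v => by
            show (QuotientGroup.mk (φ g v) : V ⧸ U) = QuotientGroup.mk v
            rw [hg1]; rfl))
    · obtain ⟨k₁, hk₁⟩ := hW₁p w hw.1
      obtain ⟨k₂, hk₂⟩ := hW₂p w hw.2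
      set g := w ^ p ^ (k₁ + k₂) with hg
      have hg₁ : g ∈ φ₁.ker := by rw [hg, pow_add, pow_mul]; exact pow_mem hk₁ _
      have hg₂ : g ∈ φ₂.ker := by rw [hg, pow_add, mul_comm, pow_mul]; exact pow_mem hk₂ _
      refine ⟨k₁ + k₂ + 1, ?_⟩
      rw [pow_succ, pow_mul, ← hg, hK, MonoidHom.mem_ker, map_pow]
      refine MulEquiv.ext fun v => ?_
      have hv : v⁻¹ * φ g v ∈ U := by
        have h1 := DFunLike.congr_fun (MonoidHom.mem_ker.1 hg₂) (QuotientGroup.mk v)
        exact QuotientGroup.eq.1 (show (QuotientGroup.mk v : V ⧸ U) = QuotientGroup.mk (φ g v) from h1.symm)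
      have hfix : φ g (v⁻¹ * φ g v) = v⁻¹ * φ g v :=
        congrArg Subtype.val (DFunLike.congr_fun (MonoidHom.mem_ker.1 hg₁) (⟨_, hv⟩ : U))
      rw [FpfAut.pow_apply_step (by rw [mul_inv_cancel_left]) hfix p, hexp, mul_one]
      rfl
    · obtain ⟨k₁, hk₁⟩ := hW₁2 x hx
      obtain ⟨k₂, hk₂⟩ := hW₂2 x hx
      refine ⟨k₁ + k₂, ?_, ?_⟩
      · rw [pow_add, pow_mul]; exact pow_mem hk₁ _
      · rw [pow_add, mul_comm, pow_mul]; exact pow_mem hk₂ _

end Cfsg.Agent.Lib.HHS57
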