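import Mathlib.Algebra.Module.ZMod
import Mathlib.FieldTheory.Finiteness
import Mathlib.Algebra.Field.ZMod
import Mathlib.Algebra.BigOperators.Fin
import Mathlib.LinearAlgebra.Dimension.Free

/-!
# Quadratic maps between elementary abelian `2`-groups have nonzero zeros (helper42)

C11, the theorem of Chevalley and Warning for `k` quadrics in more than `2 k` variables over `F_2`,
by derivatives: a function of degree `d` sums to zero over a cube of dimension greater than `d`.
-/

set_option autoImplicit false
set_option linter.style.haveILetI false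
set_option linter.unusedSectionVars false

namespace Cfsg.Agent.Lib.HHS57

universe u

/-- `F` has degree at most `d`: all `d + 1`-fold derivatives vanish. -/
def DegLE {X : Type*} [AddCommGroup X] : ℕ → (X → ZMod 2) → Prop
  | 0, F => ∀ x, F x = F 0
  | d + 1, F => ∀ v, DegLE d fun x => F (x + v) + F x

namespace DegLE

variable {X : Type*} [AddCommGroup X]

theorem succ : ∀ {d : ℕ} {F : X → ZMod 2}, DegLE d F → DegLE (d + 1) F
  | 0, F, hF => fun v x => by
    show F (x + v) + F x = F (0 + v) + F 0
    rw [hF (x + v), hF (0 + v), hF x]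
  | _ + 1, _, hF => fun v => (hF v).succ

theorem mono {d e : ℕ} (hde : d ≤ e) {F : X → ZMod 2} (hF : DegLE d F) : DegLE e F := by
  induction hde with
  | refl => exact hF
  | step _ ih => exact ih.succ

theorem zero_fun : ∀ d : ℕ, DegLE d fun _ : X => (0 : ZMod 2) := fun d =>
  mono (Nat.zero_le d) (fun _ => rfl)

theorem add : ∀ {d : ℕ} {F G : X → ZMod 2}, DegLE d F → DegLE d G → DegLE d fun x => F x + G x
  | 0, F, G, hF, hG => fun x => by show F x + G x = F 0 + G 0; rw [hF, hG]
  | d + 1, F, G, hF, hG => fun v => by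
    convert (hF v).add (hG v) using 2 with x
    show F (x + v) + G (x + v) + (F x + G x) = F (x + v) + F x + (G (x + v) + G x)
    ring

theorem translate : ∀ {d : ℕ} {F : X → ZMod 2} (w : X), DegLE d F → DegLE d fun x => F (x + w)
  | 0, F, w, hF => fun x => by show F (x + w) = F (0 + w); rw [hF, hF (0 + w)]
  | d + 1, F, w, hF => fun v => by
    convert (hF v).translate w using 2 with x
    rw [add_right_comm]

theorem const_mul {d : ℕ} (c : ZMod 2) {F : X → ZMod 2} (hF : DegLE d F) :
    DegLE d fun x => c * F x := by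
  rcases (by decide : ∀ c : ZMod 2, c = 0 ∨ c = 1) c with rfl | rfl
  · simpa using zero_fun d
  · simpa using hF

theorem mul : ∀ {N d e : ℕ} {F G : X → ZMod 2}, d + e = N → DegLE d F → DegLE e G →
    DegLE N fun x => F x * G x
  | _, 0, e, F, G, hN, hF, hG => by
    rw [show (fun x => F x * G x) = fun x => F 0 * G x from funext fun x => by rw [hF x]]
    exact mono (by omega) (hG.const_mul _)
  | _, d + 1, 0, F, G, hN, hF, hG => by
    rw [show (fun x => F x * G x) = fun x => G 0 * F x from funext fun x => by rw [hG x, mul_comm]]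
    exact mono (by omega) (hF.const_mul _)
  | N, d + 1, e + 1, F, G, hN, hF, hG => by
    obtain ⟨M, rfl⟩ : ∃ M, N = M + 1 := ⟨d + e + 1, by omega⟩
    intro v
    have h1 := mul (N := M) (d := d) (e := e + 1) (by omega) (hF v) (hG.translate v)
    have h2 := mul (N := M) (d := d + 1) (e := e) (by omega) hF (hG v)
    convert h1.add h2 using 2 with x
    have : ∀ p q s t : ZMod 2, p * q + s * t = (p + s) * q + s * (q + t) := by decide
    exact this _ _ _ _
  termination_by N => N

theorem prod {ι : Type*} {d : ℕ} (s : Finset ι) {F : ι → X → ZMod 2} (hF : ∀ i ∈ s, DegLE d (F i)) :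
    DegLE (s.card * d) fun x => ∏ i ∈ s, F i x := by
  classical
  induction s using Finset.induction with
  | empty => exact mono (Nat.zero_le _) (fun _ => rfl)
  | @insert i t hi ih =>
    simp only [Finset.prod_insert hi]
    refine mul (by rw [Finset.card_insert_of_notMem hi]; ring) (hF i (Finset.mem_insert_self i t))
      (ih fun j hj => hF j (Finset.mem_insert_of_mem hj))

theorem comp {Y : Type*} [AddCommGroup Y] (φ : Y →+ X) : ∀ {d : ℕ} {F : X → ZMod 2}, DegLE d F →
    DegLE d fun y => F (φ y)
  | 0, F, hF => fun y => by show F (φ y) = F (φ 0); rw [hF (φ y), hF (φ 0)]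
  | d + 1, F, hF => fun v => by
    convert (hF (φ v)).comp φ using 2 with y
    simp only [map_add]

/-- A function of degree less than `n` sums to zero on `F_2 ^ n`. -/
theorem sum_eq_zero : ∀ {n d : ℕ} {F : (Fin n → ZMod 2) → ZMod 2}, d < n → DegLE d F →
    ∑ x, F x = 0
  | 0, _, _, h, _ => absurd h (Nat.not_lt_zero _)
  | n + 1, d, F, hd, hF => by
    rw [← (Fin.consEquiv fun _ : Fin (n + 1) => ZMod 2).sum_comp, Fintype.sum_prod_type,
      show (Finset.univ : Finset (ZMod 2)) = {0, 1} from by decide, Finset.sum_pair (by decide),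
      ← Finset.sum_add_distrib]
    show ∑ y, (F (Fin.cons 0 y) + F (Fin.cons 1 y)) = 0
    cases d with
    | zero =>
      refine Finset.sum_eq_zero fun y _ => ?_
      rw [hF (Fin.cons 0 y), hF (Fin.cons 1 y)]
      exact (by decide : ∀ c : ZMod 2, c + c = 0) _
    | succ d =>
      let φ : (Fin n → ZMod 2) →+ (Fin (n + 1) → ZMod 2) :=
        { toFun := fun y => Fin.cons 0 y
          map_zero' := funext fun i => by cases i using Fin.cases <;> rfl
          map_add' := fun y z => funext fun i => by cases i using Fin.cases <;> simp }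
      have h1 := sum_eq_zero (by omega) ((hF (Fin.cons 1 0)).comp φ)
      refine Eq.trans ?_ h1
      refine Finset.sum_congr rfl fun y _ => ?_
      have e : φ y + Fin.cons 1 0 = Fin.cons 1 y := funext fun i => by
        cases i using Fin.cases <;> simp [φ]
      show F (Fin.cons 0 y) + F (Fin.cons 1 y) = F (φ y + Fin.cons 1 0) + F (φ y)
      rw [e, add_comm]
      rfl

end DegLE

/-- Coordinates of an elementary abelian `2`-group. -/
theorem exists_coord {L : Type*} [AddCommGroup L] [Finite L] (h : ∀ x : L, x + x = 0) {n : ℕ}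
    (hn : Nat.card L = 2 ^ n) : Nonempty (L ≃+ (Fin n → ZMod 2)) := by
  letI : Module (ZMod 2) L := AddCommGroup.zmodModule fun x => by rw [two_nsmul, h]
  have hr : Module.finrank (ZMod 2) L = n := Nat.pow_right_injective le_rfl (by
    show 2 ^ Module.finrank (ZMod 2) L = 2 ^ n
    rw [← hn, Module.natCard_eq_pow_finrank (K := ZMod 2) (V := L), Nat.card_zmod])
  exact ⟨(Module.finBasisOfFinrankEq (ZMod 2) L hr).equivFun.toAddEquiv⟩

variable {W : Type u} [AddCommGroup W] [Finite W]

/-- C11. Chevalley-Warning. -/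
theorem exists_singular {Z : Type u} [AddCommGroup Z] [Finite Z] (hW2 : ∀ x : W, x + x = 0)
    (hZ2 : ∀ z : Z, z + z = 0) (Q : W → Z) (B : W →+ W →+ Z)
    (hQ : ∀ x y, Q (x + y) = Q x + Q y + B x y) {n k : ℕ} (hn : Nat.card W = 2 ^ n)
    (hk : Nat.card Z = 2 ^ k) (hlt : 2 * k < n) : ∃ x, x ≠ 0 ∧ Q x = 0 := by
  classical
  obtain ⟨e⟩ := exists_coord hW2 hn
  obtain ⟨f⟩ := exists_coord hZ2 hk
  by_contra! hh
  have hQ0 : Q 0 = 0 := by
    have := hQ 0 0
    simp only [map_zero, add_zero] at this
    exact left_eq_add.1 this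
  let G : (Fin n → ZMod 2) → ZMod 2 := fun c => ∏ j, (1 + f (Q (e.symm c)) j)
  have hdeg : DegLE (2 * k) G := by
    have hj : ∀ j, DegLE 2 (fun x : W => 1 + f (Q x) j) := fun j v w x => by
      show (1 + f (Q (x + w + v)) j + (1 + f (Q (x + w)) j)) + (1 + f (Q (x + v)) j + (1 + f (Q x) j)) =
        (1 + f (Q (0 + w + v)) j + (1 + f (Q (0 + w)) j)) + (1 + f (Q (0 + v)) j + (1 + f (Q 0) j))
      simp only [zero_add, hQ, map_add, AddMonoidHom.add_apply, Pi.add_apply, hQ0, map_zero,
        Pi.zero_apply]
      have : ∀ a b c d e g : ZMod 2,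
          1 + (a + b + g + c + (d + e)) + (1 + (a + b + g)) + (1 + (a + c + d) + (1 + a)) =
            1 + (b + c + e) + (1 + b) + (1 + c + (1 + 0)) := by decide
      exact this _ _ _ _ _ _
    have hp := DegLE.prod Finset.univ (fun j (_ : j ∈ Finset.univ) => hj j)
    rw [Finset.card_univ, Fintype.card_fin, mul_comm] at hp
    exact hp.comp e.symm.toAddMonoidHom
  have hsum := DegLE.sum_eq_zero hlt hdeg
  rw [Finset.sum_eq_single 0 (fun c _ hc => ?_) (fun h0 => absurd (Finset.mem_univ _) h0)] at hsum
  · simp [G, hQ0] at hsum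
  · have hz : f (Q (e.symm c)) ≠ 0 := fun h0 => hh _ (fun e0 => hc (by
      simpa using congrArg e e0)) (f.injective (h0.trans (map_zero f).symm))
    obtain ⟨j, hj⟩ := Function.ne_iff.1 hz
    refine Finset.prod_eq_zero (Finset.mem_univ j) ?_
    rw [(by decide : ∀ z : ZMod 2, z ≠ 0 → z = 1) _ hj]
    rfl

end Cfsg.Agent.Lib.HHS57
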