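import Cfsg.Agent.Lib.HHS57.Patterns
import Cfsg.Agent.Lib.HHS57.Warning
import Mathlib.RingTheory.LittleWedderburn

/-!
# The fixed elements of `gM` on `D / Z` (node I, common part; helper42)

`IsAct` packs the module `W = D / Z(D)` with the action `θ` of the fixed elements of `gM`.  On a stable
line the image of an element satisfies `b ^ 2 ^ m = b`: it is a square of a self-adjoint element, so
commutators on the line are only moved inside their orbit (`IsAct.comm_conj`).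
-/

set_option autoImplicit false
set_option linter.style.haveILetI false
set_option linter.unusedSectionVars false

namespace Cfsg.Agent.Lib.HHS57

open Cfsg Cfsg.Agent.Lib
open Subgroup
open scoped commutatorElement

universe u

/-- No fixed `2`-element of `gM` moves `gD`. -/
def FixedNoMove {H : Type u} [Group H] (α : MulAut H) (T : Sylow 2 H) : Prop :=
  ∀ c ∈ gM α T, qAut α c = c → TwoEl c → ¬ MovesD α T c

/-- A pair of involutions of `gD` as needed by `singular_false`. -/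
def SingMate {H : Type u} [Group H] (α : MulAut H) (T : Sylow 2 H) : Prop :=
  ∃ v ∈ gD α T, ∃ v₂ ∈ gD α T, v * v = 1 ∧ v₂ * v₂ = 1 ∧
    ∀ c ∈ gM α T, qAut α c = c → v * (c * v₂ * c⁻¹) ≠ c * v₂ * c⁻¹ * v

section Algebra

variable {W : Type u} [AddCommGroup W] [Finite W] {r m : ℕ} {a : W ≃+ W}

/-- An element of finite order prime to `r` on a line is fixed by the `m`-th Frobenius. -/
theorem FpfMod.iterate_pow_eq (h : FpfMod r m a) (hW : Nat.card W = 2 ^ (2 * m)) (b : W →+ W)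
    (hb : ∀ x, b (a x) = a (b x)) {n : ℕ} (hn0 : n ≠ 0) (hn : n.Coprime r)
    (hbn : ∀ x, b^[n] x = x) : ∀ x, b^[2 ^ m] x = b x := by
  haveI := h.cen_isDomain hW
  haveI : Finite (FpfMod.Cen a) := Nat.finite_of_card_ne_zero (by rw [h.card_cen hW]; positivity)
  have hu : Nat.card (FpfMod.Cen a)ˣ = 2 ^ (2 * m) - 1 := by
    letI : CommRing (FpfMod.Cen a) :=
      { (inferInstance : Ring (FpfMod.Cen a)) with
        mul_comm := fun b d => Subtype.ext (AddMonoidHom.ext
          (h.commute hW _ _ (FpfMod.mem_cen.1 b.2) (FpfMod.mem_cen.1 d.2))) }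
    rw [← h.card_cen hW]
    letI := Fintype.ofFinite (FpfMod.Cen a)
    letI : DecidableEq (FpfMod.Cen a) := Classical.decEq _
    letI : Field (FpfMod.Cen a) := Fintype.fieldOfDomain (FpfMod.Cen a)
    exact Nat.card_units (FpfMod.Cen a)
  let B : FpfMod.Cen a := ⟨(b : AddMonoid.End W), FpfMod.mem_cen.2 hb⟩
  have hBv : ∀ (i : ℕ) x, ((B ^ i : FpfMod.Cen a) : AddMonoid.End W) x = b^[i] x := fun i x => by
    rw [SubmonoidClass.coe_pow, AddMonoid.End.coe_pow]
    rfl
  have hB : B ^ n = 1 := Subtype.ext (AddMonoidHom.ext fun x => (hBv n x).trans (hbn x))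
  set u := Units.ofPowEqOne B n hB hn0
  have h1 : orderOf u ∣ n := orderOf_dvd_of_pow_eq_one (Units.ext hB)
  have h2 : orderOf u ∣ (2 ^ m - 1) * r := by
    have e : 2 ^ (2 * m) - 1 = (2 ^ m - 1) * r := by
      rw [h.eq, two_mul, pow_add]
      obtain ⟨k, hk⟩ := Nat.exists_eq_add_of_le (Nat.one_le_two_pow (n := m))
      rw [hk, Nat.add_sub_cancel_left]
      have : (1 + k) * (1 + k) = k * (1 + k + 1) + 1 := by ring
      omega
    rw [← e, ← hu]
    exact orderOf_dvd_natCard u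
  have h3 : u ^ (2 ^ m - 1) = 1 :=
    orderOf_dvd_iff_pow_eq_one.1 ((Nat.Coprime.coprime_dvd_left h1 hn).dvd_of_dvd_mul_right h2)
  intro x
  have h4 : B ^ (2 ^ m) = B := by
    rw [← Nat.sub_add_cancel (Nat.one_le_two_pow (n := m)), pow_succ]
    have h5 : B ^ (2 ^ m - 1) = 1 := congrArg Units.val h3
    rw [h5, one_mul]
  rw [← hBv, h4]
  rfl

end Algebra

/-- `W = D / Z` with the action of the fixed elements of `gM`. -/
structure IsAct {H : Type u} [Group H] (α : MulAut H) (T : Sylow 2 H) (r m : ℕ) {W : Type u}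
    [AddCommGroup W] [Finite W] (a : W ≃+ W) (π : dGrp α T → W)
    (θ : (gM α T ⊓ fixG (qAut α) : Subgroup (H ⧸ Subgroup.center H)) →* AddMonoid.End W) : Prop where
  surj : Function.Surjective π
  add : ∀ x y, π (x * y) = π x + π y
  ker : ∀ x, π x = 0 ↔ (x : H) ∈ zGrp α T
  act : ∀ d e : dGrp α T, (e : H) = α d → a (π d) = π e
  mod : FpfMod r m a
  cardD : Nat.card W * Nat.card (zGrp α T) = Nat.card (dGrp α T)
  card : Nat.card W * Nat.card (gZ α T) = Nat.card (gD α T)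
  comm : ∀ c w, θ c (a w) = a (θ c w)
  conj : ∀ (c : (gM α T ⊓ fixG (qAut α) : Subgroup (H ⧸ Subgroup.center H))) (x : H) (d e : dGrp α T),
    qHom H x = c → (e : H) = x * d * x⁻¹ → θ c (π d) = π e

variable {H : Type u} [Group H] [Finite H] {p r : ℕ} {α : MulAut H} {V : Type u} [CommGroup V]
  [Finite V] {ψ : H →* MulAut V} {e : MulAut V}
  (h : Min p r α ψ e) (T : Sylow 2 H) (hT : Stb α (T : Subgroup H))

include h hT

/-- Elements of `Z` with the same values on all occurring patterns are equal. -/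
theorem Min.eq_of_occ {u v : H} (hu : u ∈ zGrp α T) (hv : v ∈ zGrp α T)
    (hall : ∀ K, Occ α ψ T K → chiK K u = chiK K v) : u = v := by
  by_contra hne
  obtain ⟨K, hK, hn⟩ := h.exists_occ T hT (mul_mem hu (inv_mem hv)) fun e1 => hne (mul_inv_eq_one.1 e1)
  have h1 := chiK_mul hK.two (mul_mem hu (inv_mem hv)) hv
  rw [inv_mul_cancel_right, chiK_eq_one.2 hn, hall K hK] at h1
  exact (by decide : ∀ x : ZMod 2, x ≠ 1 + x) _ h1

/-- An element centralising `D` modulo the centre centralises `Z`. -/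
theorem Min.conj_Z_of_exact {y : H} (hy : ∀ d ∈ dGrp α T, ⁅y, d⁆ ∈ Subgroup.center H) :
    ∀ z ∈ zGrp α T, y * z * y⁻¹ = z := by
  intro z hz
  refine (?_ : zGrp α T ≤ MonoidHom.eqLocus (MulAut.conj y).toMonoidHom (MonoidHom.id H)) hz
  refine (h.zGrp_le_closure T hT).trans ((closure_le _).2 ?_)
  rintro _ ⟨a, ha, b, hb, rfl⟩
  show y * ⁅a, b⁆ * y⁻¹ = ⁅a, b⁆
  obtain ⟨s, hs, hsa⟩ : ∃ s ∈ Subgroup.center H, y * a * y⁻¹ = s * a :=
    ⟨_, hy a ha, by simp only [commutatorElement_def]; group⟩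
  obtain ⟨t, ht, htb⟩ : ∃ t ∈ Subgroup.center H, y * b * y⁻¹ = t * b :=
    ⟨_, hy b hb, by simp only [commutatorElement_def]; group⟩
  have hs' : ∀ g, g * s = s * g := mem_center_iff.1 hs
  have ht' : ∀ g, g * t = t * g := mem_center_iff.1 ht
  calc y * ⁅a, b⁆ * y⁻¹ = ⁅y * a * y⁻¹, y * b * y⁻¹⁆ := by simp only [commutatorElement_def]; group
    _ = s * (a * t * b * a⁻¹) * s⁻¹ * b⁻¹ * t⁻¹ := by
      rw [hsa, htb]; simp only [commutatorElement_def]; group
    _ = a * t * b * a⁻¹ * b⁻¹ * t⁻¹ := by rw [← hs', mul_inv_cancel_right]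
    _ = t * (a * b * a⁻¹ * b⁻¹) * t⁻¹ := by rw [ht' a]; group
    _ = ⁅a, b⁆ := by rw [← ht', mul_inv_cancel_right]; rfl

theorem Min.exists_fixed_lift (c : (gM α T ⊓ fixG (qAut α) : Subgroup (H ⧸ Subgroup.center H))) :
    ∃ x : H, qHom H x = c ∧ α x = x ∧ x ∈ mGrp α T := by
  obtain ⟨x, hx⟩ := QuotientGroup.mk'_surjective (Subgroup.center H) (c : H ⧸ Subgroup.center H)
  refine ⟨x, hx, h.qFix_iff.1 ?_, (h.mem_gM_iff T hT).1 (hx ▸ c.2.1)⟩
  rw [hx]
  exact c.2.2

/-- The bridge. -/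
theorem Min.exists_action {m : ℕ} (hm : r = 2 ^ m + 1) :
    ∃ (W : Type u) (_ : AddCommGroup W) (_ : Finite W) (a : W ≃+ W) (π : dGrp α T → W)
      (θ : (gM α T ⊓ fixG (qAut α) : Subgroup (H ⧸ Subgroup.center H)) →* AddMonoid.End W),
      IsAct α T r m a π θ := by
  obtain ⟨W, _, _, a, π, hs, hadd, hker, ha, hmod, hWc⟩ := h.exists_mod T hT hm (R := zGrp α T) le_rfl
    inf_le_left fun w hw => ⟨stb_dGrp T hT w hw.1, stb_fixG w hw.2⟩
  choose ℓ hℓ hℓf hℓM using fun c => h.exists_fixed_lift T hT c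
  choose b hba hbit using fun c => h.exists_conjEnd T hT hs hadd hker ha (hℓM c) (hℓf c)
    (fun z hz => h.conj_mem_zGrp T hT (hℓM c) hz)
  have hconj : ∀ (c : (gM α T ⊓ fixG (qAut α) : Subgroup (H ⧸ Subgroup.center H))) (x : H)
      (d e : dGrp α T), qHom H x = c → (e : H) = x * d * x⁻¹ → b c (π d) = π e :=
    fun c x d e hx he => hbit c 1 d e (by rw [he, pow_one]; exact conj_eq_of_qHom (hx.trans (hℓ c).symm) _)
  have hmem : ∀ {x : H}, x ∈ mGrp α T → ∀ d : dGrp α T, x * d * x⁻¹ ∈ dGrp α T := fun hx d =>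
    (Subgroup.mem_normalizer_iff.1 hx d).1 d.2
  let θ : (gM α T ⊓ fixG (qAut α) : Subgroup (H ⧸ Subgroup.center H)) →* AddMonoid.End W :=
    { toFun := fun c => b c
      map_one' := AddMonoidHom.ext fun w => by
        obtain ⟨d, rfl⟩ := hs w
        exact hconj 1 1 d d (map_one _) (by rw [one_mul, inv_one, mul_one])
      map_mul' := fun c c' => AddMonoidHom.ext fun w => by
        obtain ⟨d, rfl⟩ := hs w
        set e₁ : dGrp α T := ⟨ℓ c' * d * (ℓ c')⁻¹, hmem (hℓM c') d⟩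
        show b (c * c') (π d) = b c (b c' (π d))
        rw [hconj c' _ d e₁ (hℓ c') rfl, hconj c _ e₁ ⟨_, hmem (hℓM c) e₁⟩ (hℓ c) rfl]
        refine hconj _ (ℓ c * ℓ c') d _ (by rw [map_mul, hℓ, hℓ, Subgroup.coe_mul]) ?_
        show ℓ c * (ℓ c' * d * (ℓ c')⁻¹) * (ℓ c)⁻¹ = _
        group }
  have hD : Nat.card W * Nat.card (zGrp α T) = Nat.card (dGrp α T) := by
    have e := ((zGrp α T).subgroupOf (dGrp α T)).index_mul_card
    have hZD : zGrp α T ≤ dGrp α T := inf_le_left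
    rw [Nat.card_congr (Subgroup.subgroupOfEquivOfLe hZD).toEquiv] at e
    rw [hWc]
    exact e
  refine ⟨W, _, _, a, π, θ, hs, hadd, hker, fun d e he => by
    rw [ha]; exact congrArg π (Subtype.ext he.symm), hmod, hD, ?_, fun c => hba c, hconj⟩
  have e1 := h.card_map_mul T hT (X := dGrp α T) inf_le_left le_rfl
  rw [show (dGrp α T).map (qHom H) = gD α T from rfl, ← hD] at e1
  refine Nat.eq_of_mul_eq_mul_right (Nat.card_pos (α := zGrp α T)) ?_
  rw [← e1]
  ring

section Act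

variable {m : ℕ} {W : Type u} [AddCommGroup W] [Finite W] {a : W ≃+ W} {π : dGrp α T → W}
  {θ : (gM α T ⊓ fixG (qAut α) : Subgroup (H ⧸ Subgroup.center H)) →* AddMonoid.End W}
  (hA : IsAct α T r m a π θ)

include hA

omit h hT in
theorem IsAct.eq_iff {x y : dGrp α T} : π x = π y ↔ (x : H) * (y : H)⁻¹ ∈ zGrp α T := by
  have h1 := hA.add (x * y⁻¹) y
  rw [inv_mul_cancel_right] at h1
  refine ⟨fun e1 => ?_, fun hz => ?_⟩
  · rw [e1] at h1
    exact (hA.ker (x * y⁻¹)).1 (right_eq_add.1 h1)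
  · rw [h1, (hA.ker (x * y⁻¹)).2 hz, zero_add]

omit h in
theorem IsAct.apply {c : (gM α T ⊓ fixG (qAut α) : Subgroup (H ⧸ Subgroup.center H))} {x : H}
    (hx : qHom H x = c) (hxM : x ∈ mGrp α T) (d : dGrp α T) :
    θ c (π d) = π ⟨x * d * x⁻¹, (Subgroup.mem_normalizer_iff.1 hxM d).1 d.2⟩ :=
  hA.conj c x d _ hx rfl

/-- Fixed classes are the fixed vectors. -/
theorem Min.act_eq_iff (c : (gM α T ⊓ fixG (qAut α) : Subgroup (H ⧸ Subgroup.center H))) (d : dGrp α T) :
    θ c (π d) = π d ↔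
      (c : H ⧸ Subgroup.center H) * qHom H d * (c : H ⧸ Subgroup.center H)⁻¹ * (qHom H d)⁻¹ ∈ gZ α T := by
  obtain ⟨x, hx, -, hxM⟩ := h.exists_fixed_lift T hT c
  rw [hA.apply T hT hx hxM, hA.eq_iff T, ← hx, ← map_inv, ← map_inv, ← map_mul, ← map_mul, ← map_mul]
  exact ⟨fun hz => mem_map_of_mem _ hz, fun hz => h.mem_of_map T hT le_rfl inf_le_left
    (mul_mem ((Subgroup.mem_normalizer_iff.1 hxM d).1 d.2) (inv_mem d.2)) hz⟩

/-- Trivial on `W`: not moving. -/
theorem Min.act_eq_one_iff (c : (gM α T ⊓ fixG (qAut α) : Subgroup (H ⧸ Subgroup.center H))) :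
    θ c = 1 ↔ ¬ MovesD α T c := by
  constructor
  · rintro h1 ⟨_, ⟨d, hd, rfl⟩, hne⟩
    exact hne ((h.act_eq_iff T hT hA c ⟨d, hd⟩).1 (by rw [h1]; rfl))
  · intro hmv
    refine AddMonoidHom.ext fun w => ?_
    obtain ⟨d, rfl⟩ := hA.surj w
    refine (h.act_eq_iff T hT hA c d).2 (by_contra fun hne => hmv ⟨_, mem_map_of_mem _ d.2, hne⟩)

/-- The action on `Z` factors through `θ`. -/
theorem Min.act_conj_Z {c c' : (gM α T ⊓ fixG (qAut α) : Subgroup (H ⧸ Subgroup.center H))}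
    (hcc : θ c = θ c') {x x' : H} (hx : qHom H x = c) (hx' : qHom H x' = c') :
    ∀ z ∈ zGrp α T, x * z * x⁻¹ = x' * z * x'⁻¹ := by
  have h1 : θ (c'⁻¹ * c) = 1 := by rw [map_mul, hcc, ← map_mul, inv_mul_cancel, map_one]
  have hex := h.exact_of_not_moves T hT (c'⁻¹ * c).2.2 ((h.act_eq_one_iff T hT hA _).1 h1)
  have hy : qHom H (x'⁻¹ * x) = ((c'⁻¹ * c : (gM α T ⊓ fixG (qAut α) :
      Subgroup (H ⧸ Subgroup.center H))) : H ⧸ Subgroup.center H) := by
    rw [map_mul, map_inv, hx, hx']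
    rfl
  intro z hz
  have h2 := h.conj_Z_of_exact T hT (y := x'⁻¹ * x) (fun d hd => by
    rw [← QuotientGroup.eq_one_iff]
    show qHom H ⁅x'⁻¹ * x, d⁆ = 1
    rw [map_commutatorElement, commutatorElement_eq_one_iff_mul_comm, hy]
    exact hex _ (mem_map_of_mem _ hd)) z hz
  calc x * z * x⁻¹ = x' * ((x'⁻¹ * x) * z * (x'⁻¹ * x)⁻¹) * x'⁻¹ := by group
    _ = _ := by rw [h2]

omit h hT hA in
theorem act_pow (c : (gM α T ⊓ fixG (qAut α) : Subgroup (H ⧸ Subgroup.center H))) (i : ℕ) (w : W) :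
    θ (c ^ i) w = (θ c : W → W)^[i] w := by
  rw [map_pow, AddMonoid.End.coe_pow]

omit hA in
/-- The orders of the acting elements are prime to `r`. -/
theorem Min.order_coprime (c : (gM α T ⊓ fixG (qAut α) : Subgroup (H ⧸ Subgroup.center H))) :
    (orderOf c).Coprime r :=
  ((h.hr.coprime_iff_not_dvd).2 fun hd => h.qCo
    ((hd.trans (orderOf_dvd_natCard c)).trans (Subgroup.card_subgroup_dvd_card _))).symm

/-- The form of a pattern on `W`. -/
theorem Min.exists_form {K : Subgroup H} (hKZ : K ≤ zGrp α T) (hK2 : K.relIndex (zGrp α T) = 2) :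
    ∃ f : W →+ W →+ ZMod 2, InvForm a f ∧ ∀ x y : dGrp α T, f (π x) (π y) = chiK K ⁅(x : H), y⁆ :=
  h.exists_patForm T hT hA.surj hA.add hA.ker
    (fun x => hA.act x _ (resA_apply (stb_dGrp T hT) x)) hKZ hK2 fun z hz => ⟨hz.1, fun y hy => by
      rw [commutatorElement_eq_one_iff_mul_comm.2 (h.zGrp_le_centralizer T hT hz hy)]
      exact one_mem _⟩

/-- The radical of a form, upstairs and in `W`. -/
theorem Min.form_rad_card {K R : Subgroup H} (hmR : ∀ d, d ∈ R ↔ d ∈ rad α T K) (hR : zGrp α T ≤ R)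
    {f : W →+ W →+ ZMod 2} (hf : ∀ x y : dGrp α T, f (π x) (π y) = chiK K ⁅(x : H), y⁆) :
    Nat.card f.ker * Nat.card (zGrp α T) = Nat.card R := by
  have hR' : R ≤ dGrp α T := fun d hd => ((hmR d).1 hd).1
  let φ : R →* Multiplicative f.ker := MonoidHom.mk'
    (fun x => Multiplicative.ofAdd ⟨π ⟨x, hR' x.2⟩, AddMonoidHom.mem_ker.2 (AddMonoidHom.ext fun w => by
      obtain ⟨y, rfl⟩ := hA.surj w
      rw [hf, AddMonoidHom.zero_apply, chiK_eq_zero]
      exact ((hmR x).1 x.2).2 y y.2)⟩)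
    (fun x y => congrArg Multiplicative.ofAdd (Subtype.ext (hA.add ⟨x, hR' x.2⟩ ⟨y, hR' y.2⟩)))
  have hs : Function.Surjective φ := fun w => by
    obtain ⟨d, hd⟩ := hA.surj (w.toAdd : W)
    refine ⟨⟨d, (hmR d).2 ⟨d.2, fun y hy => chiK_eq_zero.1 ?_⟩⟩, congrArg Multiplicative.ofAdd (Subtype.ext hd)⟩
    rw [← hf d ⟨y, hy⟩, hd, AddMonoidHom.mem_ker.1 w.toAdd.2]
    rfl
  have hk : φ.ker = (zGrp α T).subgroupOf R := by
    ext x
    rw [MonoidHom.mem_ker, Subgroup.mem_subgroupOf]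
    exact ⟨fun hx => (hA.ker ⟨x, hR' x.2⟩).1
        (congrArg (fun v : Multiplicative f.ker => ((Multiplicative.toAdd v : f.ker) : W)) hx),
      fun hx => congrArg Multiplicative.ofAdd (Subtype.ext ((hA.ker ⟨x, hR' x.2⟩).2 hx))⟩
  rw [Subgroup.card_eq_card_quotient_mul_card_subgroup φ.ker,
    Nat.card_congr (QuotientGroup.quotientKerEquivOfSurjective φ hs).toEquiv, hk,
    Nat.card_congr (Subgroup.subgroupOfEquivOfLe hR).toEquiv]
  rfl

/-- The kernel of the form of an occurring pattern. -/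
theorem Min.form_ker_card (hm : r = 2 ^ m + 1) {K : Subgroup H} (hK : Occ α ψ T K)
    {f : W →+ W →+ ZMod 2} (hf : ∀ x y : dGrp α T, f (π x) (π y) = chiK K ⁅(x : H), y⁆) :
    Nat.card f.ker * 2 ^ (2 * m) = Nat.card W := by
  obtain ⟨R, hmR, hR, hR', -, hiR⟩ := h.radFacts T hT hm hK
  have e2 := (R.subgroupOf (dGrp α T)).index_mul_card
  rw [Nat.card_congr (Subgroup.subgroupOfEquivOfLe hR').toEquiv, ← Subgroup.relIndex, hiR,
    ← h.form_rad_card T hT hA hmR hR hf, ← hA.cardD, ← mul_assoc] at e2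
  rw [mul_comm]
  exact Nat.eq_of_mul_eq_mul_right (Nat.card_pos (α := zGrp α T)) e2

/-- On a stable line: `θ c` is the square of a self-adjoint element. -/
theorem Min.comm_conj (P : AddSubgroup W) (hP : AStb a P) (hPc : Nat.card P = 2 ^ (2 * m))
    (hPθ : ∀ c, ∀ w ∈ P, θ c w ∈ P) (c : (gM α T ⊓ fixG (qAut α) : Subgroup (H ⧸ Subgroup.center H)))
    {v d e' : dGrp α T} (hv : π v ∈ P) (hd : π d ∈ P) {x : H} (hx : qHom H x = c)
    (he : (e' : H) = x * d * x⁻¹) :
    ∃ y : H, ⁅(v : H), (e' : H)⁆ = y * ⁅(v : H), (d : H)⁆ * y⁻¹ := by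
  set c' := c ^ 2 ^ (m - 1) with hc'
  obtain ⟨y, hy, -, hyM⟩ := h.exists_fixed_lift T hT c'
  refine ⟨y, h.eq_of_occ T hT (h.commutator_mem_zGrp T hT v.2 e'.2)
    (h.conj_mem_zGrp T hT hyM (h.commutator_mem_zGrp T hT v.2 d.2)) fun K hK => ?_⟩
  obtain ⟨f, hf, hfv⟩ := h.exists_form T hT hA hK.le hK.two
  have hl := hA.mod.restrict hP
  have hres : ∀ cc, ∃ b : P →+ P, (∀ w, (b w : W) = θ cc w) ∧
      (∀ w, b (resLine a P hP w) = resLine a P hP (b w)) ∧ (∀ w, b^[2 ^ m] w = b w) := fun cc => by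
    let b : P →+ P := ((θ cc : W →+ W).comp P.subtype).codRestrict P fun w => hPθ cc w w.2
    have hba : ∀ w, b (resLine a P hP w) = resLine a P hP (b w) := fun w =>
      Subtype.ext (hA.comm cc w)
    have hbi : ∀ (i : ℕ) w, ((b^[i] w : P) : W) = θ (cc ^ i) w := by
      intro i
      induction i with
      | zero => intro w; rw [pow_zero, map_one]; rfl
      | succ i ih =>
        intro w
        rw [Function.iterate_succ_apply', pow_succ', map_mul]
        show θ cc ((b^[i] w : P) : W) = θ cc (θ (cc ^ i) w)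
        rw [ih]
    refine ⟨b, fun w => rfl, hba, hl.iterate_pow_eq hPc b hba (orderOf_pos cc).ne'
      (h.order_coprime T hT cc) fun w => Subtype.ext ?_⟩
    rw [hbi, pow_orderOf_eq_one, map_one]
    rfl
  obtain ⟨B, hBv, hBa, hB2⟩ := hres c'
  obtain ⟨B₁, hB₁v, -, hB₁⟩ := hres c
  let g : P →+ P →+ ZMod 2 := pullForm P.subtype P.subtype f
  have hg : InvForm (resLine a P hP) g := ⟨fun w => hf.alt _, fun w w' => hf.inv _ _⟩
  have hsq : ∀ w : P, θ c' (θ c' w) = θ c w := fun w => by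
    show (θ c' * θ c') (w : W) = _
    rw [← map_mul, hc', ← pow_add, ← two_mul, ← pow_succ',
      Nat.sub_add_cancel hA.mod.pos, act_pow T]
    have hi : ∀ i, ((B₁^[i] w : P) : W) = (θ c : W → W)^[i] w := by
      intro i
      induction i with
      | zero => rfl
      | succ i ih => rw [Function.iterate_succ_apply', Function.iterate_succ_apply', ← ih]; exact hB₁v _
    rw [← hi, hB₁, hB₁v]
  have hadj := hl.adjoint hPc hg B hBa
  have hyD : ∀ w : dGrp α T, y * w * y⁻¹ ∈ dGrp α T := fun w => (Subgroup.mem_normalizer_iff.1 hyM w).1 w.2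
  calc chiK K ⁅(v : H), (e' : H)⁆ = f (π v) (π e') := (hfv v e').symm
    _ = g ⟨π v, hv⟩ (B (B ⟨π d, hd⟩)) := by
      show _ = f (π v) _
      rw [show P.subtype (B (B ⟨π d, hd⟩)) = π e' by
        show ((B (B ⟨π d, hd⟩) : P) : W) = _
        rw [hBv, hBv, hsq, hA.conj c x d e' hx he]]
    _ = g (B ⟨π v, hv⟩) (B ⟨π d, hd⟩) := by rw [hadj, hB2]
    _ = chiK K (y * ⁅(v : H), (d : H)⁆ * y⁻¹) := by
      show f _ _ = _
      rw [AddSubgroup.coe_subtype, hBv, hBv, hA.apply T hT hy hyM, hA.apply T hT hy hyM, hfv,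
        show y * ⁅(v : H), (d : H)⁆ * y⁻¹ = ⁅y * v * y⁻¹, y * d * y⁻¹⁆ by
          simp only [commutatorElement_def]; group]

/-- A nonabelian stable line with few fixed classes gives a mate. -/
theorem Min.singMate_line (P : AddSubgroup W) (hP : AStb a P) (hPc : Nat.card P = 2 ^ (2 * m))
    (hPθ : ∀ c, ∀ w ∈ P, θ c w ∈ P)
    (hnc : ∃ d e : dGrp α T, π d ∈ P ∧ π e ∈ P ∧ qHom H ⁅(d : H), (e : H)⁆ ≠ 1)
    (hlt : Nat.card (gZ α T) < 2 ^ m) : SingMate α T := by
  classical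
  letI : CommGroup (gZ α T) :=
    { (inferInstance : Group (gZ α T)) with
      mul_comm := fun z z' => Subtype.ext (h.gZ_comm T hT z.2 (h.gZ_le_gD T hT z'.2)) }
  let κ : dGrp α T → dGrp α T → Additive (gZ α T) := fun x y =>
    Additive.ofMul ⟨qHom H ⁅(x : H), (y : H)⁆, mem_map_of_mem _ (h.commutator_mem_zGrp T hT x.2 y.2)⟩
  have hκ0 : ∀ x y : dGrp α T, ⁅(x : H), (y : H)⁆ = 1 → κ x y = 0 := fun x y e1 =>
    congrArg Additive.ofMul (Subtype.ext (show qHom H ⁅(x : H), (y : H)⁆ = 1 by rw [e1, map_one]))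
  have hκr : ∀ x y y', κ x (y * y') = κ x y + κ x y' := fun x y y' =>
    congrArg Additive.ofMul (Subtype.ext (by
      show qHom H ⁅(x : H), (y : H) * y'⁆ = _
      rw [h.dComm_mul_right T hT y.2 y'.2 x.2, map_mul]
      rfl))
  have hκl : ∀ x x' y, κ (x * x') y = κ x y + κ x' y := fun x x' y =>
    congrArg Additive.ofMul (Subtype.ext (by
      show qHom H ⁅(x : H) * x', (y : H)⁆ = qHom H ⁅(x : H), (y : H)⁆ * qHom H ⁅(x' : H), (y : H)⁆
      rw [h.dComm_mul_left T hT x.2 x'.2 y.2, map_mul]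
      exact h.gZ_comm T hT (mem_map_of_mem _ (h.commutator_mem_zGrp T hT x'.2 y.2))
        (h.gZ_le_gD T hT (mem_map_of_mem _ (h.commutator_mem_zGrp T hT x.2 y.2)))))
  choose g hg using fun x : dGrp α T => exists_addHom π hA.surj hA.add (κ x) (hκr x) fun y hy => hκ0 x y
    (commutatorElement_eq_one_iff_mul_comm.2
      (h.zGrp_le_centralizer T hT ((hA.ker y).1 hy) x.2).symm)
  obtain ⟨B₀, hB₀⟩ := exists_addHom π hA.surj hA.add g
    (fun x x' => AddMonoidHom.ext fun w => by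
      obtain ⟨y, rfl⟩ := hA.surj w
      rw [AddMonoidHom.add_apply, hg, hg, hg, hκl])
    (fun x hx => AddMonoidHom.ext fun w => by
      obtain ⟨y, rfl⟩ := hA.surj w
      rw [hg, AddMonoidHom.zero_apply]
      exact hκ0 x y (commutatorElement_eq_one_iff_mul_comm.2
        (h.zGrp_le_centralizer T hT ((hA.ker x).1 hx) y.2)))
  have hB : ∀ x y, B₀ (π x) (π y) = κ x y := fun x y => by rw [hB₀, hg]
  have hBa : ∀ u w, B₀ (a u) (a w) = B₀ u w := fun u w => by
    obtain ⟨x, rfl⟩ := hA.surj u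
    obtain ⟨y, rfl⟩ := hA.surj w
    rw [hA.act x ⟨α x, stb_dGrp T hT x x.2⟩ rfl, hA.act y ⟨α y, stb_dGrp T hT y y.2⟩ rfl, hB, hB]
    refine congrArg Additive.ofMul (Subtype.ext ?_)
    show qHom H ⁅α x, α y⁆ = qHom H ⁅(x : H), (y : H)⁆
    rw [← map_commutatorElement, mem_fixG.1 (h.commutator_mem_zGrp T hT x.2 y.2).2]
  -- squares
  choose s hs' using fun w => hA.surj w
  let Q : P → Additive (gZ α T) := fun w =>
    Additive.ofMul ⟨qHom H ((s w : H) * s w), mem_map_of_mem _ (h.sq_mem_zGrp T hT (s w).2)⟩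
  have hsqv : ∀ (d : dGrp α T) (z : H), z ∈ zGrp α T → (d : H) * z * (d * z) = d * d := fun d z hz => by
    calc (d : H) * z * (d * z) = d * (z * d) * z := by group
      _ = d * d * (z * z) := by rw [h.zGrp_le_centralizer T hT hz d.2]; group
      _ = d * d := by rw [h.zGrp_sq T hT hz, mul_one]
  have hQv : ∀ (w : P) (d : dGrp α T), π d = w →
      Q w = Additive.ofMul ⟨qHom H ((d : H) * d), mem_map_of_mem _ (h.sq_mem_zGrp T hT d.2)⟩ := by
    intro w d hd
    refine congrArg Additive.ofMul (Subtype.ext (congrArg (qHom H) ?_))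
    have hz : (s w : H)⁻¹ * d ∈ zGrp α T := by
      refine (hA.ker ((s w)⁻¹ * d)).1 ?_
      have h1 := hA.add (s w) ((s w)⁻¹ * d)
      rw [mul_inv_cancel_left, hd, hs'] at h1
      exact left_eq_add.1 h1
    have := hsqv (s w) _ hz
    rw [mul_inv_cancel_left] at this
    exact this.symm
  let B : P →+ P →+ Additive (gZ α T) := AddMonoidHom.mk' (fun u => (B₀ u).comp P.subtype) fun u u' =>
    AddMonoidHom.ext fun w => by
      show B₀ ((u : W) + u') _ = _
      rw [map_add]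
      rfl
  have hQ : ∀ u w, Q (u + w) = Q u + Q w + B w u := fun u w => by
    rw [hQv (u + w) (s u * s w) (by rw [hA.add, hs', hs']; rfl)]
    show _ = Q u + Q w + B₀ (w : W) (u : W)
    rw [show B₀ (w : W) (u : W) = κ (s w) (s u) by rw [← hB, hs', hs']]
    refine congrArg Additive.ofMul (Subtype.ext ?_)
    show qHom H ((s u : H) * s w * ((s u : H) * s w)) =
      qHom H ((s u : H) * s u) * qHom H ((s w : H) * s w) * qHom H ⁅(s w : H), (s u : H)⁆
    rw [← map_mul, ← map_mul]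
    congr 1
    have hk := h.commutator_mem_zGrp T hT (s w).2 (s u).2
    have hs2 := h.sq_mem_zGrp T hT (s w).2
    calc (s u : H) * s w * ((s u : H) * s w)
        = s u * (⁅(s w : H), (s u : H)⁆ * (s u * (s w * s w))) := by
          simp only [commutatorElement_def]; group
      _ = s u * ((s u * (s w * s w)) * ⁅(s w : H), (s u : H)⁆) := by
          rw [h.zGrp_le_centralizer T hT hk (mul_mem (s u).2 hs2.1)]
      _ = _ := by group
  have hgz2 : ∀ z : Additive (gZ α T), z + z = 0 := fun z => congrArg Additive.ofMul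
    (show (z.toMul * z.toMul : gZ α T) = 1 from Subtype.ext (h.gZ_sq T hT z.toMul.2))
  obtain ⟨k, hk⟩ := exists_card_eq_two_pow (L := Additive (gZ α T)) hgz2
  obtain ⟨v, hv0, hQv0⟩ := exists_singular (W := P) (fun w => Subtype.ext (hA.mod.two _))
    hgz2
    Q B.flip (fun u w => hQ u w) hPc hk (by
      have e1 : Nat.card (gZ α T) = 2 ^ k := (Nat.card_congr Additive.ofMul).trans hk
      rw [e1] at hlt
      have := (Nat.pow_lt_pow_iff_right (by norm_num)).1 hlt
      omega)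
  set d := s v with hdd
  have hdv : π d = v := hs' v
  have hd2 : qHom H d * qHom H d = 1 := by
    rw [← map_mul]
    exact congrArg Subtype.val (congrArg Additive.toMul ((hQv v d hdv).symm.trans hQv0))
  -- some `α ^ j` moves `v` off its centraliser
  have hit : ∀ (i : ℕ) u w, B₀ (a^[i] u) (a^[i] w) = B₀ u w := by
    intro i
    induction i with
    | zero => intro u w; rfl
    | succ i ih => intro u w; rw [Function.iterate_succ_apply', Function.iterate_succ_apply', hBa, ih]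
  have hl := hA.mod.restrict hP
  obtain ⟨j, hj⟩ : ∃ j, B₀ v (a^[j] v) ≠ 0 := by
    by_contra! hall
    have hper : ∀ i u, a^[r * i] u = u := by
      intro i u
      induction i with
      | zero => rw [mul_zero]; rfl
      | succ i ih => rw [Nat.mul_succ, Function.iterate_add_apply, hA.mod.pow, ih]
    let C : AddSubgroup P :=
      { carrier := {w | ∀ i, B₀ (a^[i] v) w = 0}
        add_mem' := fun {u w} hu hw i => by rw [AddSubgroup.coe_add, map_add, hu i, hw i, add_zero]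
        zero_mem' := fun i => map_zero _
        neg_mem' := fun {u} hu i => by rw [AddSubgroup.coe_neg, map_neg, hu i, neg_zero] }
    have hvC : (v : P) ∈ C := fun i => by
      have h1 := hit i v (a^[r * i - i] v)
      rw [← Function.iterate_add_apply, Nat.add_sub_cancel' (Nat.le_mul_of_pos_left i h.hr.pos), hper] at h1
      rw [h1]
      exact hall _
    have hCa : AStb (resLine a P hP) C := fun w hw i => by
      show B₀ (a^[i] v) (a w) = 0
      have e1 : a^[i] (v : W) = a (a^[i + (r - 1)] v) := by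
        rw [← Function.iterate_succ_apply' a, show (i + (r - 1)).succ = i + r by have := h.hr.pos; omega,
          Function.iterate_add_apply, hA.mod.pow]
      rw [e1, hBa]
      exact hw _
    have hCtop : C = ⊤ := (hl.eq_bot_or_top hPc hCa).resolve_left fun e1 => hv0 (by
      rw [e1, AddSubgroup.mem_bot] at hvC
      exact hvC)
    let E : AddSubgroup P :=
      { carrier := {u | ∀ w : P, B₀ u w = 0}
        add_mem' := fun {u u'} hu hu' w => by
          rw [AddSubgroup.coe_add, map_add, AddMonoidHom.add_apply, hu w, hu' w, add_zero]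
        zero_mem' := fun w => by rw [AddSubgroup.coe_zero, map_zero]; rfl
        neg_mem' := fun {u} hu w => by
          rw [AddSubgroup.coe_neg, map_neg, AddMonoidHom.neg_apply, hu w, neg_zero] }
    have hvE : (v : P) ∈ E := fun w => (hCtop ▸ AddSubgroup.mem_top w : w ∈ C) 0
    have hEa : AStb (resLine a P hP) E := fun u hu w => by
      obtain ⟨w', rfl⟩ := (resLine a P hP).surjective w
      show B₀ (a u) (a w') = 0
      rw [hBa]
      exact hu w'
    have hEtop : E = ⊤ := (hl.eq_bot_or_top hPc hEa).resolve_left fun e1 => hv0 (by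
      rw [e1, AddSubgroup.mem_bot] at hvE
      exact hvE)
    obtain ⟨x, y, hx, hy, hxy⟩ := hnc
    have h1 : B₀ (π x) (π y) = 0 :=
      (hEtop ▸ AddSubgroup.mem_top (⟨π x, hx⟩ : P) : (⟨π x, hx⟩ : P) ∈ E) ⟨π y, hy⟩
    rw [hB] at h1
    exact hxy (congrArg Subtype.val (congrArg Additive.toMul h1))
  have hej : ∀ i, ∃ e : dGrp α T, π e = a^[i] (v : W) ∧ qHom H e * qHom H e = 1 := by
    intro i
    induction i with
    | zero => exact ⟨d, hdv, hd2⟩
    | succ i ih =>
      obtain ⟨e, he, he2⟩ := ih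
      refine ⟨⟨α e, stb_dGrp T hT e e.2⟩, ?_, ?_⟩
      · rw [Function.iterate_succ_apply', ← he]
        exact (hA.act e _ rfl).symm
      · show qHom H (α e) * qHom H (α e) = 1
        rw [← qAut_mk, ← map_mul (qAut α), he2, map_one]
  obtain ⟨e₂, he₂, he₂2⟩ := hej j
  refine ⟨qHom H d, mem_map_of_mem _ d.2, qHom H e₂, mem_map_of_mem _ e₂.2, hd2, he₂2, fun c hc hcf e1 => ?_⟩
  obtain ⟨x, hx, -, hxM⟩ := h.exists_fixed_lift T hT ⟨c, hc, hcf⟩
  set e₃ : dGrp α T := ⟨x * e₂ * x⁻¹, (Subgroup.mem_normalizer_iff.1 hxM e₂).1 e₂.2⟩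
  obtain ⟨y, hy⟩ := h.comm_conj T hT hA P hP hPc hPθ ⟨c, hc, hcf⟩ (v := d) (d := e₂) (e' := e₃)
    (hdv ▸ v.2) (he₂ ▸ hA.mod.iterate_mem hP v.2 j) hx rfl
  have hxc : qHom H x = c := hx
  rw [← hxc, ← map_inv, ← map_mul, ← map_mul] at e1
  have h2 : qHom H ⁅(d : H), (e₃ : H)⁆ = 1 := by
    rw [map_commutatorElement, commutatorElement_eq_one_iff_mul_comm]
    exact e1
  rw [hy, map_mul, map_mul, map_inv, mul_inv_eq_one, mul_eq_left] at h2
  refine hj ?_
  rw [← he₂, ← hdv, hB]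
  exact congrArg Additive.ofMul (Subtype.ext h2)

omit hA in
/-- An odd group of acting elements. -/
theorem Min.act_range_odd (hA : IsAct α T r m a π θ) (hnm : FixedNoMove α T) :
    Odd (Nat.card θ.toHomUnits.range) := by
  haveI : Fact (Nat.Prime 2) := ⟨Nat.prime_two⟩
  haveI : Finite (AddMonoid.End W) := Finite.of_injective _ DFunLike.coe_injective
  rw [← Nat.not_even_iff_odd, even_iff_two_dvd]
  intro hd
  obtain ⟨⟨u, c, rfl⟩, hu⟩ := exists_prime_orderOf_dvd_card' (G := θ.toHomUnits.range) 2 hd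
  rw [← Subgroup.orderOf_coe] at hu
  set n := ordCompl[2] (orderOf c) with hn
  have hodd : ¬ 2 ∣ n := Nat.not_dvd_ordCompl Nat.prime_two (orderOf_pos c).ne'
  have h2 : TwoEl ((c ^ n : (gM α T ⊓ fixG (qAut α) : Subgroup (H ⧸ Subgroup.center H))) :
      H ⧸ Subgroup.center H) := ⟨(orderOf c).factorization 2, by
    rw [← Subgroup.coe_pow, ← pow_mul, mul_comm, Nat.ordProj_mul_ordCompl_eq_self, pow_orderOf_eq_one,
      Subgroup.coe_one]⟩
  have h3 : θ.toHomUnits c ^ n = 1 := by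
    rw [← map_pow]
    exact Units.ext ((h.act_eq_one_iff T hT hA _).2 (hnm _ (c ^ n).2.1 (c ^ n).2.2 h2))
  exact hodd (hu ▸ orderOf_dvd_of_pow_eq_one h3)

/-- A nonzero fixed vector by averaging. -/
theorem Min.fixL_ne_of_parts (hnm : FixedNoMove α T) (N : AddSubgroup W) {w : W} (hw : w ∉ N)
    (Γ' : Subgroup (gM α T ⊓ fixG (qAut α) : Subgroup (H ⧸ Subgroup.center H)))
    (h1 : ∀ c ∈ Γ', θ c w - w ∈ N) (h2 : ∀ c, c ∉ Γ' → θ c w ∈ N) :
    fixL α T (gM α T ⊓ fixG (qAut α)) ≠ gZ α T := by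
  classical
  haveI : Finite (AddMonoid.End W) := Finite.of_injective _ DFunLike.coe_injective
  set G := θ.toHomUnits.range with hG
  letI := Fintype.ofFinite G
  set S := ∑ u : G, ((u : (AddMonoid.End W)ˣ) : AddMonoid.End W) w with hS
  have hfix : ∀ c, θ c S = S := fun c => by
    rw [hS, map_sum]
    exact Fintype.sum_equiv (Equiv.mulLeft (⟨θ.toHomUnits c, c, rfl⟩ : G)) _ _ fun u => rfl
  set G' := (Γ'.map θ.toHomUnits) with hG'
  have hG'G : G' ≤ G := map_le_range _ _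
  have hodd : Odd (Nat.card G') := Odd.of_dvd_nat (h.act_range_odd T hT hA hnm) (Subgroup.card_dvd_of_le hG'G)
  have hcnt : (Finset.univ.filter fun u : G => (u : (AddMonoid.End W)ˣ) ∈ G').card = Nat.card G' := by
    rw [← Fintype.card_subtype, ← Nat.card_eq_fintype_card]
    exact Nat.card_congr
      { toFun := fun u => ⟨u.1.1, u.2⟩
        invFun := fun u => ⟨⟨u.1, hG'G u.2⟩, u.2⟩
        left_inv := fun u => rfl
        right_inv := fun u => rfl }
  have hSN : S - w ∈ N := by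
    have e1 := Finset.sum_filter_add_sum_filter_not Finset.univ (fun u : G => (u : (AddMonoid.End W)ˣ) ∈ G')
      fun u => ((u : (AddMonoid.End W)ˣ) : AddMonoid.End W) w
    have e2 : w = ∑ _u ∈ Finset.univ.filter (fun u : G => (u : (AddMonoid.End W)ˣ) ∈ G'), w := by
      obtain ⟨k, hk⟩ := hodd
      rw [Finset.sum_const, hcnt, hk, succ_nsmul, mul_nsmul, two_nsmul, hA.mod.two, nsmul_zero, zero_add]
    rw [hS, ← e1, add_sub_right_comm]
    conv => arg 2; arg 1; arg 2; rw [e2]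
    rw [← Finset.sum_sub_distrib]
    refine N.add_mem (N.sum_mem fun u hu => ?_) (N.sum_mem fun u hu => ?_)
    · obtain ⟨c, hc, hcu⟩ := (Finset.mem_filter.1 hu).2
      rw [← hcu]
      exact h1 c hc
    · obtain ⟨c, hcu⟩ := u.2
      rw [← hcu]
      exact h2 c fun hc => (Finset.mem_filter.1 hu).2 (hcu ▸ mem_map_of_mem _ hc)
  have hS0 : S ≠ 0 := fun e1 => hw (by simpa [e1] using hSN)
  obtain ⟨d, hd⟩ := hA.surj S
  intro hP
  have hmem : qHom H d ∈ gZ α T := by
    rw [← hP]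
    refine (h.mem_fixL T hT inf_le_left).2 ⟨mem_map_of_mem _ d.2, fun c hc => ?_⟩
    exact (h.act_eq_iff T hT hA ⟨c, hc⟩ d).1 (by rw [hd]; exact hfix _)
  exact hS0 (hd ▸ (hA.ker d).2 (h.mem_of_map T hT le_rfl inf_le_left d.2 hmem))

end Act

end Cfsg.Agent.Lib.HHS57
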