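import Cfsg.Agent.Lib.HHS57.Layer

/-!
# A conjugate of an element of `Z̄` inside `gM` (helper18)

If `x = g b g⁻¹ ∈ gM` with `g ∉ gM`, then either a fixed `2`-element centralising `Z̄` moves `gD`
(`TCase`), or `x` centralises a moved abelian subgroup of `gD` some lift of which does not commute with
a lift of `x` (so `b` is conjugate to `b z₀` upstairs and some `2`-element of `gM` moves `gD`).
-/

set_option autoImplicit false
set_option linter.style.haveILetI false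
set_option linter.unusedSectionVars false

namespace Cfsg.Agent.Lib.HHS57

open Cfsg Cfsg.Agent.Lib
open Cfsg.Agent.Lib.FpfAut (exists_fixed_mul)
open Subgroup
open scoped commutatorElement

universe u

variable {H : Type u} [Group H] [Finite H] {p r : ℕ} {α : MulAut H} {V : Type u} [CommGroup V]
  [Finite V] {ψ : H →* MulAut V} {e : MulAut V}

/-- A fixed `2`-element centralising `gZ` and moving `gD`. -/
def TCase (α : MulAut H) (T : Sylow 2 H) : Prop :=
  ∃ c ∈ gM α T, qAut α c = c ∧ TwoEl c ∧ (∀ z ∈ gZ α T, c * z = z * c) ∧ MovesD α T c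

/-- Some lifts of `x` and `v` do not commute. -/
def LiftNC (x v : H ⧸ Subgroup.center H) : Prop :=
  ∃ x' v' : H, qHom H x' = x ∧ qHom H v' = v ∧ ⁅x', v'⁆ ≠ 1

omit [Finite H] in
theorem liftNC_iff {x' v' : H} : LiftNC (qHom H x') (qHom H v') ↔ ⁅x', v'⁆ ≠ 1 := by
  refine ⟨?_, fun hh => ⟨x', v', rfl, rfl, hh⟩⟩
  rintro ⟨a, b, ha, hb, hne⟩ hc
  obtain ⟨s, hs, rfl⟩ : ∃ s ∈ Subgroup.center H, a = x' * s :=
    ⟨x'⁻¹ * a, QuotientGroup.eq.1 ha.symm, by group⟩
  obtain ⟨t, ht, rfl⟩ : ∃ t ∈ Subgroup.center H, b = v' * t :=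
    ⟨v'⁻¹ * b, QuotientGroup.eq.1 hb.symm, by group⟩
  refine hne (commutatorElement_eq_one_iff_mul_comm.2 ?_)
  have h1 := commutatorElement_eq_one_iff_mul_comm.1 hc
  have hs' : ∀ g, g * s = s * g := mem_center_iff.1 hs
  have ht' : ∀ g, g * t = t * g := mem_center_iff.1 ht
  calc x' * s * (v' * t) = x' * (s * v') * t := by group
    _ = x' * v' * (s * t) := by rw [← hs' v']; group
    _ = v' * x' * (t * s) := by rw [h1, ht' s]
    _ = v' * (x' * t) * s := by group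
    _ = v' * t * (x' * s) := by rw [ht' x']; group

omit [Finite H] in
theorem LiftNC.symm {x v : H ⧸ Subgroup.center H} (hh : LiftNC x v) : LiftNC v x := by
  obtain ⟨x', v', hx, hv, hne⟩ := hh
  refine ⟨v', x', hv, hx, fun e1 => hne ?_⟩
  rw [← commutatorElement_inv, e1, inv_one]

omit [Finite H] in
theorem LiftNC.conj {x v : H ⧸ Subgroup.center H} (hh : LiftNC x v) (g : H ⧸ Subgroup.center H) :
    LiftNC (g * x * g⁻¹) (g * v * g⁻¹) := by
  obtain ⟨x', v', rfl, rfl, hne⟩ := hh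
  obtain ⟨g', rfl⟩ := QuotientGroup.mk'_surjective (Subgroup.center H) g
  rw [← map_inv, ← map_mul, ← map_mul, ← map_mul, ← map_mul, liftNC_iff]
  intro e1
  refine hne ?_
  rw [show ⁅g' * x' * g'⁻¹, g' * v' * g'⁻¹⁆ = g' * ⁅x', v'⁆ * g'⁻¹ by
    simp only [commutatorElement_def]; group] at e1
  exact conj_eq_one_iff.1 e1

variable (h : Min p r α ψ e) (T : Sylow 2 H) (hT : Stb α (T : Subgroup H))

include h hT

/-- Fixed elements of `gZ`-moved part. -/
theorem Min.fixed_of_moved {s : H ⧸ Subgroup.center H} (hs : s ∈ gM α T)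
    (hf : s⁻¹ * qAut α s ∈ gZ α T) : qAut α s = s := by
  obtain ⟨c, hc, hcf, d, hd, rfl⟩ := h.gM_eq T hT hs
  rw [map_mul, hcf, show (c * d)⁻¹ * (c * qAut α d) = d⁻¹ * qAut α d by group] at hf
  rw [map_mul, hcf, h.gZ_fixed T hT (h.gMem_gZ T hT hd hf)]

/-- A fixed conjugate in `gM` of an element of `gZ` at another point does not exist. -/
theorem Min.fixed_conj_absurd {g z x : H ⧸ Subgroup.center H} (hgM : g ∉ gM α T) (hz : z ∈ gZ α T)
    (hz1 : z ≠ 1) (hgx : g * z * g⁻¹ = x) (hx : x ∈ gM α T) (hxf : qAut α x = x) : False := by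
  obtain ⟨c, hcf, hc⟩ := exists_fixed_conjugator h.hr h.qPow h.qCo hxf (h.gZ_fixed T hT hz) hgx
  by_cases hcM : c ∈ gM α T
  · refine hgM (h.gTI T hT (h.gZ_conj T hT hcM hz) (fun e1 => hz1 (conj_eq_one_iff.1 e1)) hz ?_)
    rw [hgx, hc]
  · exact h.false_of_conj_mem T hT hcf hcM hz hz1 (hc ▸ hx)

/-- An offender is not fixed. -/
theorem Min.offender_moved {g b x : H ⧸ Subgroup.center H} (hgM : g ∉ gM α T) (hb : b ∈ gZ α T)
    (hb1 : b ≠ 1) (hgx : g * b * g⁻¹ = x) (hx : x ∈ gM α T) : x⁻¹ * qAut α x ∉ gZ α T := fun hf =>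
  h.fixed_conj_absurd T hT hgM hb hb1 hgx hx (h.fixed_of_moved T hT hx hf)

theorem Min.offender_sq {g b x : H ⧸ Subgroup.center H} (hb : b ∈ gZ α T) (hgx : g * b * g⁻¹ = x) :
    x * x = 1 := by
  rw [← hgx, show g * b * g⁻¹ * (g * b * g⁻¹) = g * (b * b) * g⁻¹ by group, h.gZ_sq T hT hb]; group

/-- Centralising modulo `gZ` and fixed: centralising. -/
theorem Min.exact_of_not_moves {c : H ⧸ Subgroup.center H} (hc : qAut α c = c)
    (hmv : ¬ MovesD α T c) : Exact α T c := by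
  intro d hd
  refine h.fixed_comm_cm T hT hc le_rfl (h.gD_stb T hT) (fun y hy => ?_) d (by rwa [h.cm_gD T hT])
  by_contra hne
  exact hmv ⟨y, hy, hne⟩

/-- A nonmoving element centralises `gZ`. -/
theorem Min.comm_gZ_of_not_moves {s : H ⧸ Subgroup.center H} (hs : s ∈ gM α T) (hmv : ¬ MovesD α T s) :
    ∀ z ∈ gZ α T, s * z = z * s := by
  obtain ⟨c, hc, hcf, d, hd, rfl⟩ := h.gM_eq T hT hs
  have hmc : ¬ MovesD α T c := by
    rintro ⟨y, hy, hne⟩
    refine hmv ⟨y, hy, fun hh => hne ?_⟩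
    have hk : c * (d * y * d⁻¹ * y⁻¹) * c⁻¹ ∈ gZ α T := h.gZ_conj T hT hc (h.gD_commutator T hT hd hy)
    rw [show c * d * y * (c * d)⁻¹ * y⁻¹ = (c * (d * y * d⁻¹ * y⁻¹) * c⁻¹) * (c * y * c⁻¹ * y⁻¹) by group] at hh
    exact (Subgroup.mul_mem_cancel_left _ hk).1 hh
  intro z hz
  rw [mul_assoc, ← h.gZ_comm T hT hz hd, ← mul_assoc,
    h.exact_of_not_moves T hT hcf hmc z (h.gZ_le_gD T hT hz), mul_assoc]

/-- A fixed part of a `2`-element of `gM` is a `2`-element. -/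
theorem Min.twoEl_fixed_part {c d : H ⧸ Subgroup.center H} (hc : c ∈ gM α T) (hcf : qAut α c = c)
    (hd : d ∈ gD α T) (hs : TwoEl (c * d)) : TwoEl c := by
  obtain ⟨k, hk⟩ := hs
  have hpow : ∀ n : ℕ, ∃ d' ∈ gD α T, (c * d) ^ n = c ^ n * d' := by
    intro n
    induction n with
    | zero => exact ⟨1, one_mem _, by simp⟩
    | succ n ih =>
      obtain ⟨d', hd', e1⟩ := ih
      refine ⟨c⁻¹ * d' * c * d, mul_mem (by simpa using h.gD_conj T hT (inv_mem hc) hd') hd, ?_⟩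
      rw [pow_succ, e1, pow_succ]; group
  obtain ⟨d', hd', e1⟩ := hpow (2 ^ k)
  have h1 : c ^ 2 ^ k ∈ gZ α T := h.gD_fixed T hT
    (by rw [eq_inv_of_mul_eq_one_left (e1.symm.trans hk)]; exact inv_mem hd') (by rw [map_pow, hcf])
  exact ⟨k + 1, by rw [pow_succ 2 k, pow_mul, pow_two, h.gZ_sq T hT h1]⟩

/-- An abelian moved invariant subgroup commuting with `x`, containing the moved part of `x`, has an
element whose lifts do not commute with those of `x`. -/
theorem Min.exists_liftNC {A : Subgroup (H ⧸ Subgroup.center H)} (hAD : A ≤ gD α T)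
    (hAα : Stb (qAut α) A) (hcm : cm (qAut α) A = A) (hcomm : ∀ a ∈ A, ∀ b ∈ A, a * b = b * a)
    {x : H ⧸ Subgroup.center H} (hxA : x⁻¹ * qAut α x ∈ A) (hxne : qAut α x ≠ x) :
    ∃ v ∈ A, LiftNC x v := by
  by_contra hh
  push Not at hh
  obtain ⟨R, hR, hRα, hRA⟩ := h.exists_lift_two ((h.gD_isPGroup T hT).to_le hAD) hAα
  set U := cm α R with hUdef
  have hUα : Stb α U := stb_cm hRα
  have hUA : ∀ y ∈ U, qHom H y ∈ A := fun y hy => hRA ▸ mem_map_of_mem _ (cm_le hRα hy)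
  obtain ⟨x', rfl⟩ := QuotientGroup.mk'_surjective (Subgroup.center H) x
  have hxU : ∀ y ∈ U, x' * y = y * x' := fun y hy => by
    by_contra hne
    exact hh _ (hUA y hy) (liftNC_iff.2 fun e1 => hne (commutatorElement_eq_one_iff_mul_comm.1 e1))
  obtain ⟨w, hw, hwx⟩ : qHom H x'⁻¹ * qAut α (qHom H x') ∈ U.map (qHom H) := by
    have hle : A ≤ U.map (qHom H) := by
      rw [← hcm]
      refine cm_le_iff.2 fun a ha => ?_
      obtain ⟨y, hy, rfl⟩ := hRA.symm ▸ ha
      rw [qAut_mk, ← map_inv, ← map_mul]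
      exact mem_map_of_mem _ (mem_cm hy)
    exact hle (by rwa [map_inv])
  obtain ⟨t, ht, htw⟩ : ∃ t ∈ Subgroup.center H, w = x'⁻¹ * α x' * t := by
    refine ⟨(x'⁻¹ * α x')⁻¹ * w, QuotientGroup.eq.1 ?_, by group⟩
    show qHom H (x'⁻¹ * α x') = qHom H w
    rw [hwx, map_mul, qAut_mk]
  have hU2 : IsPGroup 2 U := hR.to_le (cm_le hRα)
  obtain ⟨-, -, -, hcen⟩ := (h.fpfRep (h.r_ne_two T hT) hU2 hUα).classTwo
    (h.cm_resA_of_cm_eq hUα (cm_cm h.hr h.hα h.hco hRα))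
  have hwf : α w = w := congrArg Subtype.val ((hcen ⟨w, hw⟩).1 (mem_center_iff.2 fun y => Subtype.ext (by
    show (y : H) * w = w * y
    have h1 := hxU y y.2
    have h2 : α x' * y = y * α x' := by
      have := congrArg α (hxU _ (hUα.symm_mem y.2))
      rwa [map_mul, map_mul, α.apply_symm_apply] at this
    rw [htw]
    calc (y : H) * (x'⁻¹ * α x' * t) = (y * x'⁻¹) * α x' * t := by group
      _ = (x'⁻¹ * y) * α x' * t := by
        rw [show (y : H) * x'⁻¹ = x'⁻¹ * y from ((show Commute x' (y : H) from h1).inv_left).symm.eq]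
      _ = x'⁻¹ * (α x' * y) * t := by rw [h2]; group
      _ = x'⁻¹ * α x' * t * y := by rw [mul_assoc _ t, ← mem_center_iff.1 ht (y : H)]; group)))
  have h3 : (qHom H x')⁻¹ * qAut α (qHom H x') = 1 := by
    refine (h.gAbelian_facts T hT hAD hAα hcm hcomm).1 _ hxA ?_
    rw [← map_inv, ← hwx, qAut_mk, hwf]
  exact hxne (inv_mul_eq_one.1 h3).symm

/-- The elements of such a subgroup with noncommuting lifts generate it. -/
theorem Min.liftNC_gen {A : Subgroup (H ⧸ Subgroup.center H)} {x v : H ⧸ Subgroup.center H} (hv : v ∈ A)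
    (hvx : LiftNC x v) {a : H ⧸ Subgroup.center H} (ha : a ∈ A) (hna : ¬ LiftNC x a)
    (hxa : x * a = a * x) : a * v ∈ A ∧ LiftNC x (a * v) := by
  obtain ⟨x', v', rfl, rfl, hne⟩ := hvx
  obtain ⟨a', rfl⟩ := QuotientGroup.mk'_surjective (Subgroup.center H) a
  refine ⟨mul_mem ha hv, ?_⟩
  rw [← map_mul, liftNC_iff]
  have hc : ⁅x', a'⁆ = 1 := by
    by_contra e1
    exact hna (liftNC_iff.2 e1)
  rw [show ⁅x', a' * v'⁆ = ⁅x', a'⁆ * (a' * ⁅x', v'⁆ * a'⁻¹) by simp only [commutatorElement_def]; group,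
    hc, one_mul]
  exact fun e1 => hne (conj_eq_one_iff.1 e1)

/-- Either the case `TCase`, or an abelian subgroup as in `exists_liftNC`.  In both cases there are data. -/
theorem Min.offender_split {g b x : H ⧸ Subgroup.center H} (hgM : g ∉ gM α T) (hb : b ∈ gZ α T)
    (hb1 : b ≠ 1) (hgx : g * b * g⁻¹ = x) (hx : x ∈ gM α T) :
    (∃ a ∈ gD α T, x * a = a * x ∧ a * a ≠ 1) ∨
      ∃ A : Subgroup (H ⧸ Subgroup.center H), A ≤ gD α T ∧ Stb (qAut α) A ∧ cm (qAut α) A = A ∧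
        (∀ a ∈ A, ∀ a' ∈ A, a * a' = a' * a) ∧ (∀ a ∈ A, x * a = a * x) ∧
        A ≤ fixL α T (Subgroup.zpowers x) ∧ x⁻¹ * qAut α x ∈ A ∧
        ∀ L : Subgroup (H ⧸ Subgroup.center H), gZ α T ≤ L → L ≤ gD α T → Stb (qAut α) L →
          x⁻¹ * qAut α x ∈ L → A ≤ L := by
  have hxx := h.offender_sq T hT hb hgx
  set S := Subgroup.zpowers x with hS
  have hSM : S ≤ gM α T := Subgroup.zpowers_le.2 hx
  set P := fixL α T S with hP
  have hPα := h.fixL_stb T hT hSM
  have hPD := h.fixL_le T hT hSM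
  have hZP := h.gZ_le_fixL T hT hSM
  have hSx : ∀ s ∈ S, s = 1 ∨ s = x := by
    rintro _ ⟨i, rfl⟩
    rcases Int.even_or_odd' i with ⟨j, rfl | rfl⟩
    · left; show x ^ (2 * j) = 1; rw [zpow_mul, zpow_two, hxx, one_zpow]
    · right; show x ^ (2 * j + 1) = x; rw [zpow_add_one, zpow_mul, zpow_two, hxx, one_zpow, one_mul]
  have hfP : x⁻¹ * qAut α x ∈ P := (h.mem_fixL T hT hSM).2 ⟨h.gM_moved T hT hx, fun s hs => by
    rcases hSx s hs with rfl | rfl
    · simp
    · exact h.invol_moved T hT hx hxx⟩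
  obtain ⟨c₀, hc₀, hc₀f, d, hd, hxd⟩ := h.gM_eq T hT hx
  have hfd : x⁻¹ * qAut α x = d⁻¹ * qAut α d := by rw [hxd, map_mul, hc₀f]; group
  -- `d` lies in every invariant `L` containing its moved part
  have hdL : ∀ L : Subgroup (H ⧸ Subgroup.center H), gZ α T ≤ L → L ≤ gD α T → Stb (qAut α) L →
      d⁻¹ * qAut α d ∈ L → d ∈ L := by
    intro L hZL hLD hL hm
    obtain ⟨n, hn, hf⟩ := exists_fixed_mul h.hr h.qPow hL (fun hd' => h.qCo
      (hd'.trans (Subgroup.card_subgroup_dvd_card _))) (x := d) hm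
    simpa using mul_mem (hZL (h.gD_fixed T hT (mul_mem hd (hLD hn)) hf)) (inv_mem hn)
  have hdP : d ∈ P := hdL P hZP hPD hPα (hfd ▸ hfP)
  obtain ⟨k, hk, hkf, u, hu, hdu⟩ := exists_fixed_mul_cm h.hr h.qPow h.qCo hPα hdP
  have hkZ : k ∈ gZ α T := h.gD_fixed T hT (hPD hk) hkf
  set c := c₀ * k with hcdef
  have hcf : qAut α c = c := by rw [hcdef, map_mul, hc₀f, hkf]
  have hcM : c ∈ gM α T := mul_mem hc₀ (h.gD_le_gM T hT (hPD hk))
  have hxu : x = c * u := by rw [hxd, hdu, hcdef, mul_assoc]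
  have huD : u ∈ gD α T := hPD (cm_le hPα hu)
  have hfu : x⁻¹ * qAut α x = u⁻¹ * qAut α u := by rw [hxu, map_mul, hcf]; group
  have hcU : ∀ w ∈ cm (qAut α) P, c * w = w * c := by
    refine h.fixed_comm_cm T hT hcf hPD hPα fun l hl => ?_
    have h1 := ((h.mem_fixL T hT hSM).1 hl).2 x (Subgroup.mem_zpowers x)
    have h2 := h.gZ_conj T hT hcM (h.gD_commutator T hT huD (hPD hl))
    rw [hxu, show c * u * l * (c * u)⁻¹ * l⁻¹ = (c * (u * l * u⁻¹ * l⁻¹) * c⁻¹) * (c * l * c⁻¹ * l⁻¹) by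
      group] at h1
    exact (Subgroup.mul_mem_cancel_left _ h2).1 h1
  have hxw : ∀ w ∈ cm (qAut α) P, u * w = w * u → x * w = w * x := fun w hw huw => by
    rw [hxu, mul_assoc, huw, ← mul_assoc, hcU w hw, mul_assoc]
  by_cases hu2 : u * u = 1
  swap
  · exact Or.inl ⟨u, huD, hxw u hu rfl, hu2⟩
  have hUα : Stb (qAut α) (cm (qAut α) P) := stb_cm hPα
  have hpowU : ∀ (i : ℕ), (qAut α ^ i) u ∈ cm (qAut α) P := fun i => by
    induction i with
    | zero => simpa using hu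
    | succ i ih => rw [pow_succ', MulAut.mul_apply]; exact hUα _ ih
  by_cases hgood : ∃ j : ℕ, u * (qAut α ^ j) u ≠ (qAut α ^ j) u * u
  · refine Or.inl ?_
    obtain ⟨j, hj⟩ := hgood
    obtain ⟨i, hi⟩ : ∃ i : ℕ, qAut α ^ (i + i) = qAut α ^ j := by
      obtain ⟨n, hn⟩ := (h.hr.odd_of_ne_two (h.r_ne_two T hT)).add_odd odd_one
      exact ⟨j * n, by rw [← mul_add, ← hn, mul_add, mul_one, pow_add, mul_comm j r, pow_mul, h.qPow,
        one_pow, one_mul]⟩
    set β := qAut α ^ i with hβ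
    obtain ⟨i', hi'⟩ : ∃ i' : ℕ, β⁻¹ = qAut α ^ i' := ⟨(r - 1) * i, inv_eq_of_mul_eq_one_left (by
      rw [hβ, ← pow_add, show (r - 1) * i + i = r * i by
        conv_lhs => rw [show (r - 1) * i + i = ((r - 1) + 1) * i by ring]
        rw [Nat.sub_add_cancel h.hr.one_lt.le], pow_mul, h.qPow, one_pow])⟩
    set v := β u with hv
    set w := β⁻¹ u with hw
    have hwU : w ∈ cm (qAut α) P := by rw [hw, hi']; exact hpowU i'
    have hvU : v ∈ cm (qAut α) P := hpowU i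
    have hUD : cm (qAut α) P ≤ gD α T := (cm_le hPα).trans hPD
    have hfixpow : ∀ (n : ℕ), ∀ z ∈ gZ α T, (qAut α ^ n) z = z := fun n z hz => by
      induction n with
      | zero => simp
      | succ n ih => rw [pow_succ, MulAut.mul_apply, h.gZ_fixed T hT hz, ih]
    have hfixZ : ∀ z ∈ gZ α T, β z = z := fun z hz => hfixpow i z hz
    have hk1 := h.gD_commutator T hT (hUD hwU) huD
    have hk2 : ⁅u, v⁆ = ⁅w, u⁆ := by
      have h1 := hfixZ _ hk1
      rwa [map_commutatorElement, hw, MulAut.apply_inv_self] at h1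
    set k₀ := ⁅w, u⁆ with hk₀
    have hki : k₀⁻¹ = k₀ := inv_eq_of_mul_eq_one_right (h.gZ_sq T hT hk1)
    have huv : u * v = k₀ * (v * u) := by rw [← hk2]; simp only [commutatorElement_def]; group
    have huw : u * w = k₀ * (w * u) := by
      rw [← hki, hk₀, commutatorElement_inv]; simp only [commutatorElement_def]; group
    refine ⟨v * w, mul_mem (hUD hvU) (hUD hwU), hxw _ (mul_mem hvU hwU) ?_, fun e1 => hj ?_⟩
    · calc u * (v * w) = k₀ * v * (u * w) := by rw [← mul_assoc, huv]; group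
        _ = k₀ * (v * k₀) * (w * u) := by rw [huw]; group
        _ = v * w * u := by
          rw [← h.gZ_comm T hT hk1 (hUD hvU), ← mul_assoc k₀ k₀ v, h.gZ_sq T hT hk1]; group
    · have hvv : v * v = 1 := by rw [hv, ← map_mul, hu2, map_one]
      have hww : w * w = 1 := by rw [hw, ← map_mul, hu2, map_one]
      have h1 : v * w = w * v := by
        calc v * w = (v * w)⁻¹ := (inv_eq_of_mul_eq_one_right e1).symm
          _ = w⁻¹ * v⁻¹ := mul_inv_rev _ _
          _ = w * v := by rw [inv_eq_of_mul_eq_one_right hvv, inv_eq_of_mul_eq_one_right hww]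
      have h2 := congrArg β h1
      rw [map_mul, map_mul, hw, MulAut.apply_inv_self, hv, ← MulAut.mul_apply, ← pow_add, hi] at h2
      exact h2.symm
  · refine Or.inr ?_
    push Not at hgood
    set U₀ := closure {w | ∃ i : ℕ, w = (qAut α ^ i) u} with hU₀
    have hU₀α : Stb (qAut α) U₀ := stb_closure (by
      rintro _ ⟨i, rfl⟩
      exact subset_closure ⟨i + 1, by rw [pow_succ', MulAut.mul_apply]⟩)
    have hU₀le : U₀ ≤ cm (qAut α) P := (closure_le _).2 (by rintro _ ⟨i, rfl⟩; exact hpowU i)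
    have hcomm0 : ∀ i j : ℕ, (qAut α ^ i) u * (qAut α ^ j) u = (qAut α ^ j) u * (qAut α ^ i) u := by
      intro i j
      rcases le_total i j with hij | hij <;>
        obtain ⟨n, rfl⟩ := Nat.exists_eq_add_of_le hij <;>
        rw [pow_add, MulAut.mul_apply, ← map_mul, ← map_mul, hgood n]
    have hc1 : ∀ a ∈ U₀, ∀ i : ℕ, a * (qAut α ^ i) u = (qAut α ^ i) u * a := fun a ha i => by
      refine mem_centralizer_singleton_iff.1 ((?_ : U₀ ≤ Subgroup.centralizer {(qAut α ^ i) u}) ha)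
      exact (closure_le _).2 (by rintro _ ⟨j, rfl⟩; exact mem_centralizer_singleton_iff.2 (hcomm0 j i))
    have hcomm : ∀ a ∈ U₀, ∀ a' ∈ U₀, a * a' = a' * a := fun a ha a' ha' => by
      refine (mem_centralizer_singleton_iff.1 ((?_ : U₀ ≤ Subgroup.centralizer {a}) ha')).symm
      exact (closure_le _).2 (by
        rintro _ ⟨j, rfl⟩; exact mem_centralizer_singleton_iff.2 (hc1 a ha j).symm)
    set A := cm (qAut α) U₀ with hA
    have hAU : A ≤ U₀ := cm_le hU₀α
    have huU₀ : u ∈ U₀ := subset_closure ⟨0, by simp⟩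
    refine ⟨A, (hAU.trans hU₀le).trans ((cm_le hPα).trans hPD), stb_cm hU₀α,
      cm_cm h.hr h.qPow h.qCo hU₀α, fun a ha a' ha' => hcomm a (hAU ha) a' (hAU ha'),
      fun a ha => hxw a (hU₀le (hAU ha)) (hcomm u huU₀ a (hAU ha)),
      (hAU.trans hU₀le).trans (cm_le hPα), hfu ▸ mem_cm huU₀, fun L hZL hLD hL hfL => ?_⟩
    have hd' : d ∈ L := hdL L hZL hLD hL (hfd ▸ hfL)
    have huL : u ∈ L := by
      have := mul_mem (inv_mem (hZL hkZ)) hd'
      rwa [hdu, inv_mul_cancel_left] at this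
    refine hAU.trans ((closure_le _).2 ?_)
    rintro _ ⟨i, rfl⟩
    induction i with
    | zero => simpa using huL
    | succ i ih => rw [pow_succ', MulAut.mul_apply]; exact hL _ ih

/-- A conjugated element with noncommuting lifts moves `gD`. -/
theorem Min.moves_of_liftNC {g b x v : H ⧸ Subgroup.center H} (hb : b ∈ gZ α T) (hb1 : b ≠ 1)
    (hgx : g * b * g⁻¹ = x) (hxv : x * v = v * x) (hnc : LiftNC x v) :
    g⁻¹ * v * g ∈ gM α T ∧ MovesD α T (g⁻¹ * v * g) := by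
  have hcomm : g⁻¹ * v * g * b = b * (g⁻¹ * v * g) := by
    calc g⁻¹ * v * g * b = g⁻¹ * (v * x) * g := by rw [← hgx]; group
      _ = b * (g⁻¹ * v * g) := by rw [← hxv, ← hgx]; group
  have hM := h.gCent_le T hT hb hb1 hcomm
  refine ⟨hM, by_contra fun hmv => ?_⟩
  have hnc' : LiftNC b (g⁻¹ * v * g) := by
    have h1 := hnc.conj g⁻¹
    rwa [inv_inv, show g⁻¹ * x * g = b by rw [← hgx]; group] at h1
  obtain ⟨c, hc, hcf, d, hd, hcd⟩ := h.gM_eq T hT hM
  have hmc : ¬ MovesD α T c := by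
    rintro ⟨y, hy, hne⟩
    refine hmv ⟨y, hy, fun hh => hne ?_⟩
    have hk : c * (d * y * d⁻¹ * y⁻¹) * c⁻¹ ∈ gZ α T := h.gZ_conj T hT hc (h.gD_commutator T hT hd hy)
    rw [hcd, show c * d * y * (c * d)⁻¹ * y⁻¹ = (c * (d * y * d⁻¹ * y⁻¹) * c⁻¹) * (c * y * c⁻¹ * y⁻¹) by
      group] at hh
    exact (Subgroup.mul_mem_cancel_left _ hk).1 hh
  obtain ⟨c', rfl⟩ := QuotientGroup.mk'_surjective (Subgroup.center H) c
  obtain ⟨d', hd', rfl⟩ := hd
  obtain ⟨z, hz, rfl⟩ := hb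
  rw [hcd, ← map_mul, liftNC_iff] at hnc'
  have hcD := h.commute_of_trivial_mod T hT (h.qFix_iff.1 hcf) fun y hy => by
    have h1 := h.exact_of_not_moves T hT hcf hmc _ (mem_map_of_mem (qHom H) hy)
    have hy' : y⁻¹ * (c' * y * c'⁻¹) ∈ dGrp α T :=
      mul_mem (inv_mem hy) ((Subgroup.mem_normalizer_iff.1 ((h.mem_gM_iff T hT).1 hc) y).1 hy)
    refine ⟨hy', h.center_fixed ((QuotientGroup.eq_one_iff _).1 ?_)⟩
    show qHom H (y⁻¹ * (c' * y * c'⁻¹)) = 1
    rw [map_mul, map_inv, map_mul, map_mul, map_inv, h1]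
    group
  refine hnc' (commutatorElement_eq_one_iff_mul_comm.2 ?_)
  rw [← mul_assoc, ← hcD z hz.1, mul_assoc, h.zGrp_le_centralizer T hT hz hd', mul_assoc]

/-- A good offender gives `TCase`. -/
theorem Min.tCase_of_good {g b x : H ⧸ Subgroup.center H} (hgM : g ∉ gM α T) (hb : b ∈ gZ α T)
    (hb1 : b ≠ 1) (hgx : g * b * g⁻¹ = x) {a : H ⧸ Subgroup.center H} (ha : a ∈ gD α T)
    (hxa : x * a = a * x) (ha2 : a * a ≠ 1) : TCase α T := by
  by_contra hno
  have hgiM : g⁻¹ ∉ gM α T := fun e1 => hgM (inv_mem_iff.1 e1)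
  set a' := g⁻¹ * a * g with ha'
  have ha'M : a' ∈ gM α T := h.gCent_le T hT hb hb1 (by
    calc g⁻¹ * a * g * b = g⁻¹ * (a * x) * g := by rw [← hgx]; group
      _ = b * (g⁻¹ * a * g) := by rw [← hxa, ← hgx]; group)
  have hsq := h.gD_sq T hT ha
  set s := a' * a' with hs
  have hss : s = g⁻¹ * (a * a) * g⁻¹⁻¹ := by rw [hs, ha', inv_inv]; group
  have hsM : s ∈ gM α T := mul_mem ha'M ha'M
  have hnf : qAut α s ≠ s := fun hf => h.fixed_conj_absurd T hT hgiM hsq ha2 hss.symm hsM hf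
  have hs2 : s * s = 1 := h.offender_sq T hT hsq hss.symm
  have ha'2 : TwoEl a' := by
    obtain ⟨k, hk⟩ := h.gD_isPGroup T hT ⟨a, ha⟩
    refine ⟨k, ?_⟩
    rw [ha', show g⁻¹ * a * g = g⁻¹ * a * g⁻¹⁻¹ by group, conj_pow,
      show a ^ 2 ^ k = 1 from congrArg Subtype.val hk]
    group
  -- centralising the fixed elements of `s`
  have hfix : ∀ y ∈ gZ α T, s * y = y * s → a' * y = y * a' := by
    intro y hy hsy
    by_cases hy1 : y = 1
    · rw [hy1, mul_one, one_mul]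
    set y₁ := g * y * g⁻¹ with hy₁
    have hy₁M : y₁ ∈ gM α T := h.gCent_le T hT hsq ha2 (by
      calc g * y * g⁻¹ * (a * a) = g * (y * s) * g⁻¹ := by rw [hss]; group
        _ = a * a * (g * y * g⁻¹) := by rw [← hsy, hss]; group)
    set w := y₁ * a * y₁⁻¹ * a⁻¹ with hw
    have hwD : w ∈ gD α T := mul_mem (h.gD_conj T hT hy₁M ha) (inv_mem ha)
    have hwZ : g⁻¹ * w * g ∈ gZ α T := by
      rw [hw, hy₁, show g⁻¹ * (g * y * g⁻¹ * a * (g * y * g⁻¹)⁻¹ * a⁻¹) * g = y * (a' * y⁻¹ * a'⁻¹) by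
        rw [ha']; group]
      exact mul_mem hy (h.gZ_conj T hT ha'M (inv_mem hy))
    by_cases hw1 : w = 1
    · have : g⁻¹ * w * g = 1 := by rw [hw1]; group
      rw [hw, hy₁, show g⁻¹ * (g * y * g⁻¹ * a * (g * y * g⁻¹)⁻¹ * a⁻¹) * g = y * a' * y⁻¹ * a'⁻¹ by
        rw [ha']; group] at this
      exact (mul_inv_eq_iff_eq_mul.1 (mul_inv_eq_one.1 this)).symm
    exfalso
    have hgwg : g * (g⁻¹ * w * g) * g⁻¹ = w := by group
    have hwg1 : g⁻¹ * w * g ≠ 1 := fun e1 => hw1 (by rw [← hgwg, e1]; group)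
    have hback : ∀ z ∈ gZ α T, g⁻¹ * z * g ∈ gM α T := fun z hz =>
      h.gCent_le T hT hwZ hwg1 (by
        calc g⁻¹ * z * g * (g⁻¹ * w * g) = g⁻¹ * (z * w) * g := by group
          _ = g⁻¹ * w * g * (g⁻¹ * z * g) := by rw [h.gZ_comm T hT hz hwD]; group)
    have hcentral : ∀ z ∈ gZ α T, y₁ * z = z * y₁ := by
      intro z hz
      have hk : y₁ * z * y₁⁻¹ * z⁻¹ ∈ gZ α T := mul_mem (h.gZ_conj T hT hy₁M hz) (inv_mem hz)
      have hk' : g⁻¹ * (y₁ * z * y₁⁻¹ * z⁻¹) * g ∈ gZ α T := by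
        rw [hy₁, show g⁻¹ * (g * y * g⁻¹ * z * (g * y * g⁻¹)⁻¹ * z⁻¹) * g =
          y * ((g⁻¹ * z * g) * y⁻¹ * (g⁻¹ * z * g)⁻¹) by group]
        exact mul_mem hy (h.gZ_conj T hT (hback z hz) (inv_mem hy))
      by_contra hne
      refine hgM (h.gTI T hT hk (fun e1 => hne ?_) hk' (by group))
      exact mul_inv_eq_iff_eq_mul.1 (mul_inv_eq_one.1 e1)
    obtain ⟨c, hc, hcf, d, hd, hcd⟩ := h.gM_eq T hT hy₁M
    have hc2 : TwoEl c := h.twoEl_fixed_part T hT hc hcf hd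
      ⟨1, by rw [pow_one, ← hcd, hy₁, pow_two]; exact h.offender_sq T hT hy rfl⟩
    have hcZ : ∀ z ∈ gZ α T, c * z = z * c := fun z hz => by
      have h1 := hcentral z hz
      rw [hcd, mul_assoc, ← h.gZ_comm T hT hz hd, ← mul_assoc, ← mul_assoc] at h1
      exact mul_right_cancel h1
    have hex : ¬ MovesD α T c := fun hm => hno ⟨c, hc, hcf, hc2, hcZ, hm⟩
    have hwZ' : w ∈ gZ α T := by
      rw [hw, hcd, show c * d * a * (c * d)⁻¹ * a⁻¹ = (c * (d * a * d⁻¹ * a⁻¹) * c⁻¹) * (c * a * c⁻¹ * a⁻¹) by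
        group, h.exact_of_not_moves T hT hcf hex a ha]
      refine mul_mem (h.gZ_conj T hT hc (h.gD_commutator T hT hd ha)) ?_
      simp
    exact hgM (h.gTI T hT hwZ' hw1 hwZ hgwg)
  -- `a'` centralises `gZ`
  have hall : ∀ y ∈ gZ α T, a' * y = y * a' := by
    intro y hy
    letI : CommGroup (gZ α T) :=
      { (inferInstance : Group (gZ α T)) with
        mul_comm := fun a b => Subtype.ext (h.gZ_comm T hT a.2 (h.gZ_le_gD T hT b.2)) }
    let f : gZ α T →* gZ α T :=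
      { toFun := fun t => ⟨a' * t * a'⁻¹, h.gZ_conj T hT ha'M t.2⟩
        map_one' := Subtype.ext (by simp)
        map_mul' := fun t t' => Subtype.ext (by simp [mul_assoc]) }
    have hfv : ∀ t, (f t : H ⧸ Subgroup.center H) = a' * t * a'⁻¹ := fun t => rfl
    have hfix' : ∀ t, f (f t) = t → f t = t := fun t e1 => Subtype.ext (by
      rw [hfv]
      refine mul_inv_eq_iff_eq_mul.2 (hfix t t.2 (mul_inv_eq_iff_eq_mul.1 ?_))
      have h1 := congrArg Subtype.val e1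
      rw [hfv, hfv] at h1
      calc s * (t : H ⧸ Subgroup.center H) * s⁻¹
          = a' * (a' * (t : H ⧸ Subgroup.center H) * a'⁻¹) * a'⁻¹ := by rw [hs]; group
        _ = t := h1)
    have h4 : ∀ t, f (f (f (f t))) = t := fun t => Subtype.ext (by
      rw [hfv, hfv, hfv, hfv]
      calc a' * (a' * (a' * (a' * (t : H ⧸ Subgroup.center H) * a'⁻¹) * a'⁻¹) * a'⁻¹) * a'⁻¹
          = (s * s) * t * (s * s)⁻¹ := by rw [hs]; group
        _ = t := by rw [hs2]; group)
    have hexp : ∀ t : gZ α T, t * t = 1 := fun t => Subtype.ext (h.gZ_sq T hT t.2)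
    have hkey : f ⟨y, hy⟩ = ⟨y, hy⟩ := by
      set t : gZ α T := ⟨y, hy⟩
      have e1 : f t * f (f (f t)) = t * f (f t) := by
        have := hfix' (t * f (f t)) (by rw [map_mul, map_mul, h4, mul_comm])
        rwa [map_mul] at this
      have e2 : f (f t) * f (f (f t)) = t * f t := by
        calc f (f t) * f (f (f t)) = f (f t) * f (f (f t)) * (f t * f t) := by rw [hexp, mul_one]
          _ = f (f t) * (f t * f (f (f t))) * f t := by ac_rfl
          _ = f (f t) * f (f t) * (t * f t) := by rw [e1]; ac_rfl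
          _ = t * f t := by rw [hexp, one_mul]
      have e3 := hfix' (t * f t) (by rw [map_mul, map_mul, e2])
      rw [map_mul, mul_comm t] at e3
      exact hfix' t (mul_left_cancel e3)
    have h1 := congrArg Subtype.val hkey
    rw [hfv] at h1
    exact mul_inv_eq_iff_eq_mul.1 h1
  obtain ⟨c, hc, hcf, d, hd, hcd⟩ := h.gM_eq T hT ha'M
  have hcZ : ∀ z ∈ gZ α T, c * z = z * c := fun z hz => by
    have h1 := hall z hz
    rw [hcd, mul_assoc, ← h.gZ_comm T hT hz hd, ← mul_assoc, ← mul_assoc] at h1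
    exact mul_right_cancel h1
  have hex : ¬ MovesD α T c := fun hm =>
    hno ⟨c, hc, hcf, h.twoEl_fixed_part T hT hc hcf hd (hcd ▸ ha'2), hcZ, hm⟩
  refine hnf (h.fixed_of_moved T hT hsM ?_)
  have hcd' := h.exact_of_not_moves T hT hcf hex d hd
  have hse : s = c * c * (d * d) := by
    rw [hs, hcd, show c * d * (c * d) = c * (d * c) * d by group, ← hcd']; group
  rw [hse, map_mul, map_mul, hcf, h.gZ_fixed T hT (h.gD_sq T hT hd), inv_mul_cancel]
  exact one_mem _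

end Cfsg.Agent.Lib.HHS57
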