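import Mathlib.GroupTheory.PGroup
import Mathlib.GroupTheory.Sylow
import Mathlib.Algebra.Group.End

/-!
# If every involution is balanced then every sign pattern occurs (helper42)

Node D.  For a subgroup `B` not containing `ε` one has `|Fix B| ^ |B| = |V|`, by splitting the fixed
space of a subgroup of index `4` under the four sign patterns of two further involutions.
-/

set_option autoImplicit false
set_option linter.style.haveILetI false
set_option linter.unusedSectionVars false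

namespace Cfsg.Agent.Lib.HHS57

universe u

variable {A : Type u} [CommGroup A] {V : Type u} [CommGroup V] {p : ℕ}

/-- The common fixed points of `B`. -/
def fixPts (θ : A →* MulAut V) (B : Subgroup A) : Subgroup V where
  carrier := {v | ∀ x ∈ B, θ x v = v}
  one_mem' := fun x _ => map_one (θ x)
  mul_mem' := fun ha hb x hx => by rw [map_mul, ha x hx, hb x hx]
  inv_mem' := fun ha x hx => by rw [map_inv, ha x hx]

/-- The points fixed by `x`. -/
def posPts (θ : A →* MulAut V) (x : A) : Subgroup V := (θ x).toMonoidHom.eqLocus (MonoidHom.id V)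

/-- The points inverted by `x`. -/
def negPts (θ : A →* MulAut V) (x : A) : Subgroup V where
  carrier := {v | θ x v = v⁻¹}
  one_mem' := by simp
  mul_mem' := fun {a b} ha hb => show θ x (a * b) = (a * b)⁻¹ by
    rw [map_mul, show θ x a = a⁻¹ from ha, show θ x b = b⁻¹ from hb, mul_inv]
  inv_mem' := fun {a} ha => show θ x a⁻¹ = a⁻¹⁻¹ by rw [map_inv, show θ x a = a⁻¹ from ha]

/-- `S` extended by an element `x`. -/
def extSub (hA : ∀ y : A, y * y = 1) (S : Subgroup A) (x : A) : Subgroup A where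
  carrier := {y | y ∈ S ∨ y * x ∈ S}
  one_mem' := Or.inl S.one_mem
  mul_mem' := fun {y z} hy hz => by
    rcases hy with hy | hy <;> rcases hz with hz | hz
    · exact Or.inl (S.mul_mem hy hz)
    · exact Or.inr (by rw [mul_assoc]; exact S.mul_mem hy hz)
    · exact Or.inr (by rw [mul_assoc, mul_comm z, ← mul_assoc]; exact S.mul_mem hy hz)
    · refine Or.inl ?_
      have h1 := S.mul_mem hy hz
      rwa [mul_mul_mul_comm, hA, mul_one] at h1
  inv_mem' := fun {y} hy => by
    rw [show y⁻¹ = y from inv_eq_of_mul_eq_one_left (hA y)]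
    exact hy

theorem card_extSub (hA : ∀ y : A, y * y = 1) [Finite A] {S : Subgroup A} {x : A} (hx : x ∉ S) :
    Nat.card (extSub hA S x) = 2 * Nat.card S := by
  classical
  have e : Nat.card (S × Bool) = Nat.card (extSub hA S x) := by
    refine Nat.card_eq_of_bijective (fun t => ⟨if t.2 then (t.1 : A) * x else t.1, ?_⟩) ⟨?_, ?_⟩
    · by_cases h : t.2
      · simp only [h, if_true]
        exact Or.inr (by rw [mul_assoc, hA, mul_one]; exact t.1.2)
      · simp only [h]
        exact Or.inl t.1.2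
    · rintro ⟨s, b⟩ ⟨s', b'⟩ e1
      have e2 := congrArg Subtype.val e1
      cases b <;> cases b' <;> simp only [if_true, Bool.false_eq_true, if_false] at e2
      · exact Prod.ext (Subtype.ext e2) rfl
      · exact absurd (by rw [show x = (s' : A)⁻¹ * s by rw [e2, inv_mul_cancel_left]]
                         exact S.mul_mem (S.inv_mem s'.2) s.2) hx
      · exact absurd (by rw [show x = (s : A)⁻¹ * s' by rw [← e2, inv_mul_cancel_left]]
                         exact S.mul_mem (S.inv_mem s.2) s'.2) hx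
      · exact Prod.ext (Subtype.ext (mul_right_cancel e2)) rfl
    · rintro ⟨y, hy | hy⟩
      · exact ⟨(⟨y, hy⟩, false), rfl⟩
      · exact ⟨(⟨y * x, hy⟩, true), Subtype.ext (by simp [mul_assoc, hA])⟩
  rw [← e, Nat.card_prod, Nat.card_eq_fintype_card (α := Bool), Fintype.card_bool, mul_comm]

theorem extSub_le (hA : ∀ y : A, y * y = 1) {S B : Subgroup A} {x : A} (hS : S ≤ B) (hx : x ∈ B) :
    extSub hA S x ≤ B := fun y hy => hy.elim (fun h => hS h) fun h => by
  simpa [mul_assoc, hA] using B.mul_mem (hS h) hx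

theorem fixPts_extSub (hA : ∀ y : A, y * y = 1) (θ : A →* MulAut V) {S : Subgroup A} {x : A} :
    fixPts θ (extSub hA S x) = fixPts θ S ⊓ posPts θ x := by
  ext v
  constructor
  · intro hv
    exact ⟨fun y hy => hv y (Or.inl hy), hv x (Or.inr (by rw [hA]; exact S.one_mem))⟩
  · rintro ⟨hv, hvx⟩ y (hy | hy)
    · exact hv y hy
    · have e : y = y * x * x := by rw [mul_assoc, hA, mul_one]
      rw [e, map_mul, MulAut.mul_apply, show θ x v = v from hvx]
      exact hv _ hy

/-- An involution splits an invariant subgroup into fixed and inverted points. -/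
theorem card_split [Finite V] (hp : p.Prime) (hp2 : p ≠ 2) (hexp : ∀ v : V, v ^ p = 1)
    (hA : ∀ y : A, y * y = 1) (θ : A →* MulAut V) (x : A) (U : Subgroup V)
    (hU : ∀ v ∈ U, θ x v ∈ U) :
    Nat.card U = Nat.card (U ⊓ posPts θ x : Subgroup V) * Nat.card (U ⊓ negPts θ x : Subgroup V) := by
  obtain ⟨q, rfl⟩ := hp.odd_of_ne_two hp2
  have hh : ∀ v : V, (v * v) ^ (q + 1) = v := fun v => by
    rw [← sq, ← pow_mul, show 2 * (q + 1) = (2 * q + 1) + 1 from by ring, pow_succ, hexp, one_mul]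
  have hxx : ∀ v, θ x (θ x v) = v := fun v => by
    rw [← MulAut.mul_apply, ← map_mul, hA, map_one, MulAut.one_apply]
  rw [← Nat.card_prod]
  refine (Nat.card_eq_of_bijective (fun t : (U ⊓ posPts θ x : Subgroup V) ×
    (U ⊓ negPts θ x : Subgroup V) => (⟨(t.1 : V) * t.2, U.mul_mem t.1.2.1 t.2.2.1⟩ : U)) ⟨?_, ?_⟩).symm
  · rintro ⟨s, t⟩ ⟨s', t'⟩ e
    have e1 : (s : V) * t = s' * t' := congrArg Subtype.val e
    have e2 := congrArg (θ x) e1
    rw [map_mul, map_mul, show θ x (s : V) = s from s.2.2, show θ x (t : V) = (t : V)⁻¹ from t.2.2,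
      show θ x (s' : V) = s' from s'.2.2, show θ x (t' : V) = (t' : V)⁻¹ from t'.2.2] at e2
    have e3 : (s : V) * s = (s' : V) * s' := by
      calc (s : V) * s = ((s : V) * t) * (s * (t : V)⁻¹) := by
            rw [mul_mul_mul_comm, mul_inv_cancel, mul_one]
        _ = ((s' : V) * t') * (s' * (t' : V)⁻¹) := by rw [e1, e2]
        _ = (s' : V) * s' := by rw [mul_mul_mul_comm, mul_inv_cancel, mul_one]
    have e4 : s = s' := Subtype.ext (by rw [← hh (s : V), e3, hh])
    subst e4
    exact Prod.ext rfl (Subtype.ext (mul_left_cancel e1))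
  · rintro ⟨u, hu⟩
    refine ⟨(⟨(u * θ x u) ^ (q + 1), U.pow_mem (U.mul_mem hu (hU u hu)) _, ?_⟩,
      ⟨(u * (θ x u)⁻¹) ^ (q + 1), U.pow_mem (U.mul_mem hu (U.inv_mem (hU u hu))) _, ?_⟩), Subtype.ext ?_⟩
    · show θ x ((u * θ x u) ^ (q + 1)) = _
      rw [map_pow, map_mul, hxx, mul_comm]
      rfl
    · show θ x ((u * (θ x u)⁻¹) ^ (q + 1)) = _
      rw [map_pow, map_mul, map_inv, hxx, ← inv_pow, mul_inv, inv_inv, mul_comm]
    · show (u * θ x u) ^ (q + 1) * (u * (θ x u)⁻¹) ^ (q + 1) = u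
      rw [← mul_pow, mul_mul_mul_comm, mul_inv_cancel, mul_one, hh]

theorem fixPts_stb (θ : A →* MulAut V) (B : Subgroup A) (x : A) :
    ∀ v ∈ fixPts θ B, θ x v ∈ fixPts θ B := fun v hv y hy => by
  rw [← MulAut.mul_apply, ← map_mul, mul_comm, map_mul, MulAut.mul_apply, hv y hy]

theorem posPts_stb (θ : A →* MulAut V) (x y : A) : ∀ v ∈ posPts θ x, θ y v ∈ posPts θ x :=
  fun v hv => by
    show θ x (θ y v) = θ y v
    rw [← MulAut.mul_apply, ← map_mul, mul_comm, map_mul, MulAut.mul_apply, show θ x v = v from hv]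

theorem negPts_stb (θ : A →* MulAut V) (x y : A) : ∀ v ∈ negPts θ x, θ y v ∈ negPts θ x :=
  fun v hv => by
    show θ x (θ y v) = (θ y v)⁻¹
    rw [← MulAut.mul_apply, ← map_mul, mul_comm, map_mul, MulAut.mul_apply,
      show θ x v = v⁻¹ from hv, map_inv]

variable [Finite A] [Finite V]

/-- The orders of fixed spaces. -/
theorem card_fixPts_pow (hp : p.Prime) (hp2 : p ≠ 2) (hexp : ∀ v : V, v ^ p = 1)
    (hA : ∀ y : A, y * y = 1) (θ : A →* MulAut V) (ε : A)
    (hbal : ∀ x : A, x ≠ 1 → x ≠ ε → Nat.card {v : V // θ x v = v} ^ 2 = Nat.card V) :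
    ∀ B : Subgroup A, ε ∉ B → Nat.card (fixPts θ B) ^ Nat.card B = Nat.card V := by
  haveI : Fact (Nat.Prime 2) := ⟨Nat.prime_two⟩
  intro B
  induction hn : Nat.card B using Nat.strong_induction_on generalizing B with
  | _ n ih =>
  subst hn
  intro hε
  have hB : IsPGroup 2 B := fun y => ⟨1, by rw [pow_one, sq]; exact Subtype.ext (hA y)⟩
  obtain ⟨j, hj⟩ := IsPGroup.iff_card.1 hB
  have hbase : ∀ v : Subgroup A, Nat.card v = 1 → Nat.card (fixPts θ v) = Nat.card V := fun S hS => by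
    rw [Subgroup.eq_bot_of_card_eq S hS, show fixPts θ (⊥ : Subgroup A) = ⊤ from eq_top_iff.2
      fun v _ y hy => by rw [Subgroup.mem_bot.1 hy, map_one]; rfl, Subgroup.card_top]
  match j, hj with
  | 0, hj => rw [hj, pow_zero, pow_one]; exact hbase B (by simpa using hj)
  | 1, hj =>
    obtain ⟨b, hb, hb1⟩ : ∃ b ∈ B, b ≠ 1 := (Subgroup.bot_or_exists_ne_one B).resolve_left fun e => by
      rw [e, Subgroup.card_bot] at hj; omega
    have hBe : extSub hA ⊥ b = B := Subgroup.eq_of_le_of_card_ge (extSub_le hA bot_le hb) (by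
      rw [card_extSub hA (fun e => hb1 (Subgroup.mem_bot.1 e)), Subgroup.card_bot, hj]; norm_num)
    rw [← hBe, fixPts_extSub, show fixPts θ (⊥ : Subgroup A) = ⊤ from eq_top_iff.2
      fun v _ y hy => by rw [Subgroup.mem_bot.1 hy, map_one]; rfl, top_inf_eq,
      card_extSub hA (fun e => hb1 (Subgroup.mem_bot.1 e)), Subgroup.card_bot]
    exact hbal b hb1 fun e => hε (e ▸ hb)
  | j + 2, hj =>
    obtain ⟨S₀, hS₀⟩ := Sylow.exists_subgroup_card_pow_prime (G := B) 2 (n := j)
      (by rw [hj]; exact pow_dvd_pow 2 (by omega))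
    obtain ⟨S, hSB, hS⟩ : ∃ S : Subgroup A, S ≤ B ∧ Nat.card S = 2 ^ j :=
      ⟨S₀.map B.subtype, Subgroup.map_subtype_le _,
        by rw [Subgroup.card_map_of_injective B.subtype_injective, hS₀]⟩
    have hpos : 0 < 2 ^ j := Nat.two_pow_pos j
    have hex : ∀ R : Subgroup A, Nat.card R < Nat.card B → ∃ x ∈ B, x ∉ R := fun R hR => by
      by_contra! hc
      exact absurd (Subgroup.card_le_of_le hc) (by omega)
    obtain ⟨a, haB, haS⟩ := hex S (by rw [hS, hj, pow_add]; omega)
    obtain ⟨b, hbB, hb⟩ := hex (extSub hA S a) (by rw [card_extSub hA haS, hS, hj, pow_add]; omega)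
    have hbS : b ∉ S := fun h => hb (Or.inl h)
    have habS : a * b ∉ S := fun h => hb (Or.inr (by rwa [mul_comm]))
    have hBe : extSub hA (extSub hA S a) b = B :=
      Subgroup.eq_of_le_of_card_ge (extSub_le hA (extSub_le hA hSB haB) hbB) (by
        rw [card_extSub hA hb, card_extSub hA haS, hS, hj, pow_add]; omega)
    set U := fixPts θ S with hU
    have hUc : Nat.card U ^ 2 ^ j = Nat.card V := by
      have := ih (Nat.card S) (by rw [hS, hj, pow_add]; omega) S rfl fun h => hε (hSB h)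
      rwa [hS] at this
    have hhalf : ∀ x ∈ B, x ∉ S → Nat.card (U ⊓ posPts θ x : Subgroup V) ^ 2 = Nat.card U := by
      intro x hx hxS
      have hc := card_extSub hA hxS
      have := ih (Nat.card (extSub hA S x)) (by rw [hc, hS, hj, pow_add]; omega) _ rfl
        fun h => hε (extSub_le hA hSB hx h)
      rw [hc, hS, fixPts_extSub, pow_mul, ← hU, ← hUc] at this
      exact Nat.pow_left_injective hpos.ne' this
    -- the four parts
    have hsplit := fun x U hU => card_split hp hp2 hexp hA θ x U hU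
    set U₁ := U ⊓ posPts θ a
    set U₂ := U ⊓ negPts θ a
    have hU1 : Nat.card U = Nat.card U₁ * Nat.card U₂ := hsplit a U (fixPts_stb θ S a)
    have h1 : Nat.card U₁ = Nat.card (U₁ ⊓ posPts θ b : Subgroup V) *
        Nat.card (U₁ ⊓ negPts θ b : Subgroup V) :=
      hsplit b U₁ fun v hv => ⟨fixPts_stb θ S b v hv.1, posPts_stb θ a b v hv.2⟩
    have h2 : Nat.card U₂ = Nat.card (U₂ ⊓ posPts θ b : Subgroup V) *
        Nat.card (U₂ ⊓ negPts θ b : Subgroup V) :=
      hsplit b U₂ fun v hv => ⟨fixPts_stb θ S b v hv.1, negPts_stb θ a b v hv.2⟩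
    have h3 : Nat.card (U ⊓ posPts θ b : Subgroup V) = Nat.card (U₁ ⊓ posPts θ b : Subgroup V) *
        Nat.card (U₂ ⊓ posPts θ b : Subgroup V) := by
      rw [hsplit a (U ⊓ posPts θ b) fun v hv => ⟨fixPts_stb θ S a v hv.1, posPts_stb θ b a v hv.2⟩]
      simp only [U₁, U₂, inf_assoc, inf_comm (posPts θ b)]
    have h4 : Nat.card (U ⊓ posPts θ (a * b) : Subgroup V) = Nat.card (U₁ ⊓ posPts θ b : Subgroup V) *
        Nat.card (U₂ ⊓ negPts θ b : Subgroup V) := by
      rw [hsplit a (U ⊓ posPts θ (a * b)) fun v hv =>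
        ⟨fixPts_stb θ S a v hv.1, posPts_stb θ (a * b) a v hv.2⟩]
      have e1 : (U ⊓ posPts θ (a * b)) ⊓ posPts θ a = U₁ ⊓ posPts θ b := by
        ext v
        constructor
        · rintro ⟨⟨hvU, hab⟩, hva⟩
          refine ⟨⟨hvU, hva⟩, ?_⟩
          have hab' : θ (b * a) v = v := mul_comm a b ▸ hab
          rwa [map_mul, MulAut.mul_apply, show θ a v = v from hva] at hab'
        · rintro ⟨⟨hvU, hva⟩, hvb⟩
          refine ⟨⟨hvU, ?_⟩, hva⟩
          show θ (a * b) v = v
          rw [map_mul, MulAut.mul_apply, show θ b v = v from hvb, show θ a v = v from hva]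
      have e2 : (U ⊓ posPts θ (a * b)) ⊓ negPts θ a = U₂ ⊓ negPts θ b := by
        ext v
        constructor
        · rintro ⟨⟨hvU, hab⟩, hva⟩
          refine ⟨⟨hvU, hva⟩, ?_⟩
          have hab' : θ (b * a) v = v := mul_comm a b ▸ hab
          rw [map_mul, MulAut.mul_apply, show θ a v = v⁻¹ from hva, map_inv, inv_eq_iff_eq_inv] at hab'
          exact hab'
        · rintro ⟨⟨hvU, hva⟩, hvb⟩
          refine ⟨⟨hvU, ?_⟩, hva⟩
          show θ (a * b) v = v
          rw [map_mul, MulAut.mul_apply, show θ b v = v⁻¹ from hvb, map_inv,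
            show θ a v = v⁻¹ from hva, inv_inv]
      rw [e1, e2]
    have k1 := hhalf a haB haS
    have k2 := hhalf b hbB hbS
    have k3 := hhalf (a * b) (B.mul_mem haB hbB) habS
    rw [hj, ← hBe, fixPts_extSub, fixPts_extSub, ← hU, pow_add, mul_comm, pow_mul, ← hUc]
    congr 1
    rw [show (2 : ℕ) ^ 2 = 4 from rfl]
    set q := Nat.card (U₁ ⊓ posPts θ b : Subgroup V)
    set s := Nat.card U with hs
    have hs0 : 0 < s := Nat.card_pos
    refine Nat.pow_left_injective two_ne_zero (Nat.eq_of_mul_eq_mul_right (pow_pos hs0 1) ?_)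
    show (q ^ 4) ^ 2 * s ^ 1 = s ^ 2 * s ^ 1
    have key : (Nat.card U₁ * Nat.card (U ⊓ posPts θ b : Subgroup V) *
        Nat.card (U ⊓ posPts θ (a * b) : Subgroup V)) ^ 2 = s ^ 3 := by
      rw [mul_pow, mul_pow, k1, k2, k3]; ring
    have key2 : Nat.card U₁ * Nat.card (U ⊓ posPts θ b : Subgroup V) *
        Nat.card (U ⊓ posPts θ (a * b) : Subgroup V) = q ^ 2 * s := by
      rw [hU1, h1, h2, h3, h4]; ring
    rw [key2, mul_pow] at key
    have hq : q ^ 4 = s := Nat.eq_of_mul_eq_mul_right (pow_pos hs0 2) (by rw [← pow_mul] at key; rw [key]; ring)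
    rw [hq]

/-- D. -/
theorem exists_sign_vector {A : Type u} [CommGroup A] [Finite A] {V : Type u} [CommGroup V] [Finite V]
    [Nontrivial V] {p : ℕ} (hp : p.Prime) (hp2 : p ≠ 2) (hexp : ∀ v : V, v ^ p = 1)
    (hA : ∀ x : A, x * x = 1) (θ : A →* MulAut V) (ε : A) (hε : ∀ v, θ ε v = v⁻¹)
    (hbal : ∀ x : A, x ≠ 1 → x ≠ ε → Nat.card {v : V // θ x v = v} ^ 2 = Nat.card V)
    (K : Subgroup A) (hK : K.index = 2) (hεK : ε ∉ K) :
    ∃ v : V, v ≠ 1 ∧ (∀ x ∈ K, θ x v = v) ∧ ∀ x ∉ K, θ x v = v⁻¹ := by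
  have h1 := card_fixPts_pow hp hp2 hexp hA θ ε hbal K hεK
  obtain ⟨v, hv, hv1⟩ : ∃ v ∈ fixPts θ K, v ≠ 1 :=
    (Subgroup.bot_or_exists_ne_one _).resolve_left fun e => by
      rw [e, Subgroup.card_bot, one_pow] at h1
      exact Finite.one_lt_card.ne h1
  refine ⟨v, hv1, hv, fun x hx => ?_⟩
  have hxe : ε * x ∈ K := (Subgroup.mul_mem_iff_of_index_two hK).2 ⟨fun h => absurd h hεK, fun h => absurd h hx⟩
  calc θ x v = θ (ε * (ε * x)) v := by rw [← mul_assoc, hA, one_mul]
    _ = v⁻¹ := by rw [map_mul, MulAut.mul_apply, hv _ hxe, hε]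

end Cfsg.Agent.Lib.HHS57
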