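import Cfsg.Agent.Lib.Tech42.FpfAut.Basic
import Cfsg.Agent.Lib.Coprime.Action
import Cfsg.Agent.Lib.Coprime.Commutator
import Cfsg.Agent.Lib.Cores.Basic
import Mathlib.GroupTheory.Sylow

/-!
# A coprime automorphism of prime order: invariant subgroups and commutators (helper18)
-/

set_option autoImplicit false
set_option linter.style.haveILetI false
set_option linter.unusedSectionVars false

namespace Cfsg.Agent.Lib.HHS57

open Cfsg.Agent.Lib
open Cfsg.Agent.Lib.FpfAut (exists_fixed_mul exists_invariant_sylow zpow_mem_of_invariant)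
open Subgroup
open scoped Pointwise commutatorElement

universe u

variable {X : Type u} [Group X] {β : MulAut X} {r : ℕ}

/-- `N` is stabilised by `β`. -/
def Stb (β : MulAut X) (N : Subgroup X) : Prop := ∀ x ∈ N, β x ∈ N

/-- The fixed subgroup. -/
def fixG (β : MulAut X) : Subgroup X := β.toMonoidHom.eqLocus (MonoidHom.id X)

theorem mem_fixG {x : X} : x ∈ fixG β ↔ β x = x := Iff.rfl

theorem stb_fixG : Stb β (fixG β) := fun x hx => by rwa [mem_fixG.1 hx]

theorem stb_top : Stb β (⊤ : Subgroup X) := fun x _ => mem_top _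

theorem stb_bot : Stb β (⊥ : Subgroup X) := fun x hx => by
  rw [mem_bot] at hx ⊢; rw [hx, map_one]

theorem Stb.inf {A B : Subgroup X} (hA : Stb β A) (hB : Stb β B) : Stb β (A ⊓ B) :=
  fun x hx => ⟨hA x hx.1, hB x hx.2⟩

theorem stb_closure {S : Set X} (h : ∀ x ∈ S, β x ∈ closure S) : Stb β (closure S) := fun x hx =>
  (show closure S ≤ (closure S).comap β.toMonoidHom from (closure_le _).2 h) hx

theorem Stb.sup {A B : Subgroup X} (hA : Stb β A) (hB : Stb β B) : Stb β (A ⊔ B) := fun x hx =>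
  (sup_le (fun a ha => mem_sup_left (hA a ha)) (fun b hb => mem_sup_right (hB b hb)) :
    A ⊔ B ≤ (A ⊔ B).comap β.toMonoidHom) hx

theorem stb_map_subtype {N : Subgroup X} {βN : MulAut N} (hv : ∀ x : N, (βN x : X) = β x)
    {K : Subgroup N} (hK : Stb βN K) : Stb β (K.map N.subtype) := by
  rintro _ ⟨x, hx, rfl⟩
  exact ⟨_, hK x hx, hv x⟩

section Finite

variable [Finite X]

theorem Stb.map_eq {N : Subgroup X} (hN : Stb β N) : N.map β.toMonoidHom = N := by
  refine eq_of_le_of_card_ge ?_ ?_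
  · rintro _ ⟨x, hx, rfl⟩; exact hN x hx
  · rw [← Nat.card_congr (N.equivMapOfInjective β.toMonoidHom β.injective).toEquiv]

theorem Stb.mem_iff {N : Subgroup X} (hN : Stb β N) {x : X} : β x ∈ N ↔ x ∈ N := by
  refine ⟨fun h => ?_, hN x⟩
  rw [← hN.map_eq] at h
  obtain ⟨y, hy, e⟩ := h
  rwa [← β.injective e]

theorem Stb.symm_mem {N : Subgroup X} (hN : Stb β N) {x : X} (hx : x ∈ N) : β.symm x ∈ N := by
  rwa [← hN.mem_iff, β.apply_symm_apply]

/-- The restriction of `β`. -/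
noncomputable def resA (β : MulAut X) (N : Subgroup X) (hN : Stb β N) : MulAut N :=
  (β.subgroupMap N).trans (MulEquiv.subgroupCongr hN.map_eq)

theorem resA_apply {N : Subgroup X} (hN : Stb β N) (x : N) : (resA β N hN x : X) = β x := rfl

theorem resA_pow {N : Subgroup X} (hN : Stb β N) (k : ℕ) :
    ∀ x : N, ((resA β N hN ^ k) x : X) = (β ^ k) x := by
  induction k with
  | zero => intro x; rfl
  | succ k ih => intro x; rw [pow_succ, pow_succ, MulAut.mul_apply, MulAut.mul_apply, ih, resA_apply]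

theorem resA_pow_r (hβ : β ^ r = 1) {N : Subgroup X} (hN : Stb β N) : resA β N hN ^ r = 1 :=
  MulEquiv.ext fun x => Subtype.ext (by rw [resA_pow, hβ]; rfl)

theorem Stb.centralizer {N : Subgroup X} (hN : Stb β N) :
    Stb β (Subgroup.centralizer (N : Set X)) := fun x hx => by
  rw [mem_centralizer_iff] at hx ⊢
  intro y hy
  have := congrArg β (hx _ (hN.symm_mem hy))
  rwa [map_mul, map_mul, β.apply_symm_apply] at this

theorem Stb.normalizer {N : Subgroup X} (hN : Stb β N) :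
    Stb β (Subgroup.normalizer (N : Set X)) := fun x hx => by
  rw [Subgroup.mem_normalizer_iff] at hx ⊢
  intro y
  have := hx (β.symm y)
  rw [← hN.mem_iff, β.apply_symm_apply, ← hN.mem_iff (x := x * _ * _), map_mul, map_mul, map_inv,
    β.apply_symm_apply] at this
  exact this

theorem stb_centralizer_singleton {a : X} (ha : β a = a) : Stb β (Subgroup.centralizer {a}) :=
  fun x hx => by
    rw [mem_centralizer_singleton_iff] at hx ⊢
    nth_rw 1 [← ha]
    nth_rw 2 [← ha]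
    rw [← map_mul, ← map_mul, hx]

theorem stb_center : Stb β (Subgroup.center X) := fun x hx => by
  rw [mem_center_iff] at hx ⊢
  intro g
  rw [← β.apply_symm_apply g, ← map_mul, ← map_mul, hx]

theorem stb_char {N : Subgroup X} [N.Characteristic] : Stb β N := fun x hx =>
  (characteristic_iff_map_le.1 inferInstance β) ⟨x, hx, rfl⟩

theorem coprime_zpowers' (hr : r.Prime) (hβ : β ^ r = 1) (hco : ¬ r ∣ Nat.card X) :
    (Nat.card (Subgroup.zpowers β)).Coprime (Nat.card X) :=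
  FpfAut.coprime_zpowers hr hβ hco

theorem not_dvd_sub (hco : ¬ r ∣ Nat.card X) (N : Subgroup X) : ¬ r ∣ Nat.card N :=
  fun h => hco (h.trans N.card_subgroup_dvd_card)

/-- An invariant `q`-subgroup lies in an invariant Sylow `q`-subgroup. -/
theorem exists_invariant_sylow_ge (hr : r.Prime) (hβ : β ^ r = 1) (hco : ¬ r ∣ Nat.card X) {q : ℕ}
    [Fact q.Prime] {A : Subgroup X} (hA : IsPGroup q A) (hAβ : Stb β A) :
    ∃ P : Sylow q X, A ≤ P ∧ Stb β (P : Subgroup X) := by
  classical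
  obtain ⟨B, ⟨hB, hBβ, hAB⟩, hmax⟩ := wellFounded_gt.has_min
    {B : Subgroup X | IsPGroup q B ∧ Stb β B ∧ A ≤ B} ⟨A, hA, hAβ, le_rfl⟩
  set N := Subgroup.normalizer (B : Set X) with hN
  have hNβ : Stb β N := hBβ.normalizer
  obtain ⟨R, hR⟩ := exists_invariant_sylow (X := N) hr (resA_pow_r hβ hNβ) (not_dvd_sub hco N) q
  set R' := (R : Subgroup N).map N.subtype with hR'
  have hBR : B ≤ R' := by
    have h1 : B.subgroupOf N ≤ (R : Subgroup N) := by
      haveI : (B.subgroupOf N).Normal := normal_subgroupOf_of_le_normalizer le_rfl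
      exact le_trans (Cores.le_pCore (hB.of_equiv (subgroupOfEquivOfLe le_normalizer).symm))
        (Cores.pCore_le_sylow R)
    intro b hb
    exact ⟨⟨b, le_normalizer hb⟩, h1 hb, rfl⟩
  have hR'β : Stb β R' := stb_map_subtype (fun x => resA_apply hNβ x) hR
  have hR'p : IsPGroup q R' := R.isPGroup'.map _
  have hBeq : R' = B := by
    by_contra hne
    exact hmax R' ⟨hR'p, hR'β, hAB.trans hBR⟩ (lt_of_le_of_ne hBR (Ne.symm hne))
  obtain ⟨P, hBP⟩ := hB.exists_le_sylow
  refine ⟨P, hAB.trans hBP, ?_⟩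
  have hPB : (P : Subgroup X) = B := by
    by_contra hne
    have hlt : B.subgroupOf (P : Subgroup X) < ⊤ := lt_top_iff_ne_top.2 fun h1 => hne
      (le_antisymm (subgroupOf_eq_top.1 h1) hBP)
    haveI := P.isPGroup'.isNilpotent
    obtain ⟨⟨x, hxP⟩, hx, hxB⟩ := SetLike.exists_of_lt (Group.normalizerCondition_of_isNilpotent (G := (P : Subgroup X)) _ hlt)
    rw [mem_subgroupOf] at hxB
    have hxN : x ∈ N := by
      rw [hN, Subgroup.mem_normalizer_iff]
      intro y
      refine ⟨fun hy => ?_, fun hy => ?_⟩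
      · have := (mem_normalizer_iff.1 hx ⟨y, hBP hy⟩).1 hy
        exact this
      · have hyP : y ∈ (P : Subgroup X) := by
          have := mul_mem (mul_mem (inv_mem hxP) (hBP hy)) hxP
          simpa [mul_assoc] using this
        exact (mem_normalizer_iff.1 hx ⟨y, hyP⟩).2 hy
    obtain ⟨R₂, hR₂⟩ := (P.isPGroup'.comap_of_injective N.subtype N.subtype_injective).exists_le_sylow
    have hcard : Nat.card R₂ = Nat.card (R : Subgroup N) := by
      rw [R₂.card_eq_multiplicity, R.card_eq_multiplicity]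
    have hlt' : Nat.card (B.subgroupOf N) < Nat.card R₂ := by
      have hsub : B.subgroupOf N < (R₂ : Subgroup N) := lt_of_le_of_ne
        (le_trans (fun y hy => hBP hy) hR₂) fun e => hxB (by
          have : (⟨x, hxN⟩ : N) ∈ (R₂ : Subgroup N) := hR₂ hxP
          rw [← e] at this
          exact this)
      exact lt_of_le_of_ne (card_le_of_le hsub.le) fun e => hsub.ne (eq_of_le_of_card_ge hsub.le e.ge)
    rw [hcard, Nat.card_congr (subgroupOfEquivOfLe (le_normalizer (H := B))).toEquiv] at hlt'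
    rw [Nat.card_congr ((R : Subgroup N).equivMapOfInjective _ N.subtype_injective).toEquiv, ← hR',
      hBeq] at hlt'
    exact lt_irrefl _ hlt'
  rw [hPB]
  exact hBβ

/-- Invariant Sylow subgroups are conjugate by fixed elements. -/
theorem exists_fixed_conj (hr : r.Prime) (hβ : β ^ r = 1) (hco : ¬ r ∣ Nat.card X) {q : ℕ}
    [Fact q.Prime] (P Q : Sylow q X) (hP : Stb β (P : Subgroup X)) (hQ : Stb β (Q : Subgroup X)) :
    ∃ c : X, β c = c ∧ ∀ x, x ∈ (Q : Subgroup X) ↔ c⁻¹ * x * c ∈ (P : Subgroup X) := by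
  obtain ⟨c, hc, he⟩ := Coprime.Action.exists_conj_invariant_sylow (A := Subgroup.zpowers β)
    (coprime_zpowers' hr hβ hco) (Or.inl (Coprime.isSolvable_zpowers β)) P Q
    (fun a => zpow_mem_of_invariant hP a) (fun a => zpow_mem_of_invariant hQ a)
  refine ⟨c, hc ⟨β, mem_zpowers β⟩, fun x => ?_⟩
  rw [← he, Subgroup.mem_pointwise_smul_iff_inv_smul_mem]
  simp [MulAut.smul_def, mul_assoc]

end Finite

/-- The commutator `[N, β]`. -/
def cm (β : MulAut X) (N : Subgroup X) : Subgroup X :=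
  closure {y | ∃ x ∈ N, y = x⁻¹ * β x}

theorem mem_cm {N : Subgroup X} {x : X} (hx : x ∈ N) : x⁻¹ * β x ∈ cm β N :=
  subset_closure ⟨x, hx, rfl⟩

theorem cm_mono {N K : Subgroup X} (h : N ≤ K) : cm β N ≤ cm β K :=
  closure_mono fun _ ⟨x, hx, e⟩ => ⟨x, h hx, e⟩

theorem cm_le {N : Subgroup X} (hN : Stb β N) : cm β N ≤ N :=
  (closure_le _).2 fun _ ⟨x, hx, e⟩ => e ▸ mul_mem (inv_mem hx) (hN x hx)

theorem cm_le_iff {N K : Subgroup X} : cm β N ≤ K ↔ ∀ x ∈ N, x⁻¹ * β x ∈ K :=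
  ⟨fun h _ hx => h (mem_cm hx), fun h => (closure_le _).2 fun _ ⟨x, hx, e⟩ => e ▸ h x hx⟩

theorem stb_cm {N : Subgroup X} (hN : Stb β N) : Stb β (cm β N) := by
  refine stb_closure ?_
  rintro _ ⟨x, hx, rfl⟩
  refine subset_closure ⟨β x, hN x hx, ?_⟩
  rw [map_mul, map_inv]

/-- `N` normalises `[N, β]`. -/
theorem conj_mem_cm {N : Subgroup X} {n : X} (hn : n ∈ N) {y : X} (hy : y ∈ cm β N) :
    n⁻¹ * y * n ∈ cm β N := by
  induction hy using closure_induction with
  | mem y hy =>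
    obtain ⟨x, hx, rfl⟩ := hy
    rw [show n⁻¹ * (x⁻¹ * β x) * n = ((x * n)⁻¹ * β (x * n)) * (n⁻¹ * β n)⁻¹ by
      rw [map_mul]; group]
    exact mul_mem (mem_cm (mul_mem hx hn)) (inv_mem (mem_cm hn))
  | one => simp
  | mul a b _ _ ha hb =>
    rw [show n⁻¹ * (a * b) * n = (n⁻¹ * a * n) * (n⁻¹ * b * n) by group]
    exact mul_mem ha hb
  | inv a _ ha =>
    rw [show n⁻¹ * a⁻¹ * n = (n⁻¹ * a * n)⁻¹ by group]
    exact inv_mem ha

theorem conj_mem_cm' {N : Subgroup X} {n : X} (hn : n ∈ N) {y : X} (hy : y ∈ cm β N) :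
    n * y * n⁻¹ ∈ cm β N := by
  simpa using conj_mem_cm (N.inv_mem hn) hy

/-- Elements normalising `N` and fixed by `β` normalise `[N, β]`. -/
theorem conj_mem_cm_of_fixed {N : Subgroup X} {c : X} (hc : β c = c)
    (hcN : ∀ x ∈ N, c * x * c⁻¹ ∈ N) {y : X} (hy : y ∈ cm β N) : c * y * c⁻¹ ∈ cm β N := by
  refine (show cm β N ≤ (cm β N).comap (MulAut.conj c).toMonoidHom from ?_) hy
  rw [cm_le_iff]
  intro x hx
  show c * (x⁻¹ * β x) * c⁻¹ ∈ cm β N
  rw [show c * (x⁻¹ * β x) * c⁻¹ = (c * x * c⁻¹)⁻¹ * β (c * x * c⁻¹) by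
    rw [map_mul, map_mul, map_inv, hc]; group]
  exact mem_cm (hcN x hx)

variable [Finite X]

/-- `N = C_N(β) [N, β]`. -/
theorem exists_fixed_mul_cm (hr : r.Prime) (hβ : β ^ r = 1) (hco : ¬ r ∣ Nat.card X) {N : Subgroup X}
    (hN : Stb β N) {x : X} (hx : x ∈ N) : ∃ c ∈ N, β c = c ∧ ∃ d ∈ cm β N, x = c * d := by
  obtain ⟨d, hd, hf⟩ := exists_fixed_mul hr hβ (stb_cm hN) (not_dvd_sub hco _) (mem_cm hx)
  exact ⟨x * d, mul_mem hx (cm_le hN hd), hf, d⁻¹, inv_mem hd, by simp⟩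

/-- `[N, β] = [N, β, β]`. -/
theorem cm_cm (hr : r.Prime) (hβ : β ^ r = 1) (hco : ¬ r ∣ Nat.card X) {N : Subgroup X}
    (hN : Stb β N) : cm β (cm β N) = cm β N := by
  refine le_antisymm (cm_le (stb_cm hN)) ?_
  rw [cm_le_iff]
  intro x hx
  obtain ⟨c, -, hc, d, hd, rfl⟩ := exists_fixed_mul_cm hr hβ hco hN hx
  rw [map_mul, hc, show (c * d)⁻¹ * (c * β d) = d⁻¹ * β d by group]
  exact mem_cm hd

end Cfsg.Agent.Lib.HHS57
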