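import Cfsg.Agent.Lib.HHS57.Trichotomy

/-!
# Layers of `β`-invariant subgroups and conjugates of quasisimple subgroups (helper57)
-/

set_option autoImplicit false
set_option linter.style.haveILetI false
set_option linter.unusedSectionVars false

namespace Cfsg.Agent.Lib.HHS57

open Cfsg Cfsg.Agent.Lib Cfsg.Agent.Lib.Components
open Subgroup

universe u

variable {X : Type u} [Group X] [Finite X] {r : ℕ} {β : MulAut X}

theorem Fam.restrict {S : Set (Subgroup X)} (hS : Fam β S) {E : Subgroup X} (hE : Stb β E) :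
    Fam (resA β E hE) {M : Subgroup E | M.map E.subtype ∈ S} where
  qs M hM := Quasisimple.of_mulEquiv (hS.qs _ hM) (M.equivMapOfInjective _ E.subtype_injective).symm
  comm M hM M' hM' hne := by
    rw [← Subgroup.map_eq_bot_iff_of_injective _ E.subtype_injective, map_commutator]
    exact hS.comm _ hM _ hM' fun e => hne (Subgroup.map_injective E.subtype_injective e)
  stb M hM := by
    show (M.map (resA β E hE).toMonoidHom).map E.subtype ∈ S
    rw [map_map, show E.subtype.comp (resA β E hE).toMonoidHom = β.toMonoidHom.comp E.subtype from rfl,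
      ← map_map]
    exact hS.stb _ hM
  fixed M hM c hc := by
    show (M.map (MulAut.conj c).toMonoidHom).map E.subtype ∈ S
    rw [map_map, show E.subtype.comp (MulAut.conj c).toMonoidHom =
      (MulAut.conj (c : X)).toMonoidHom.comp E.subtype from rfl, ← map_map]
    exact hS.fixed _ hM _ (congrArg Subtype.val hc)

theorem component_map_aut {H : Subgroup X} {L : Subgroup H} (hL : IsComponent L) (σ : MulAut X)
    (hσ : Stb σ H) : ∃ L' : Subgroup H, IsComponent L' ∧
      L'.map H.subtype = (L.map H.subtype).map σ.toMonoidHom :=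
  ⟨L.map (resA σ H hσ).toMonoidHom, Component.map_equiv (resA σ H hσ) hL, by
    rw [map_map, map_map]; rfl⟩

theorem stb_conj {H : Subgroup X} {c : X} (hc : c ∈ Subgroup.normalizer (H : Set X)) :
    Stb (MulAut.conj c) H := fun y hy => (mem_normalizer_iff.1 hc y).1 hy

/-- If `H = [H, β]` is normalised by the fixed points of `β`, its layer lies in the layer. -/
theorem layer_map_le (hr : r.Prime) (hβ : β ^ r = 1) (hco : ¬ r ∣ Nat.card X) {H : Subgroup X}
    (hH : Stb β H) (hfix : fixG β ≤ Subgroup.normalizer (H : Set X)) (hgen : H ≤ cm β H) :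
    (layer ↥H).map H.subtype ≤ layer X := by
  set S : Set (Subgroup X) := {M | ∃ L : Subgroup H, IsComponent L ∧ M = L.map H.subtype} with hSdef
  have hS : Fam β S :=
    { qs := by
        rintro _ ⟨L, hL, rfl⟩
        exact Quasisimple.of_mulEquiv hL.2 (L.equivMapOfInjective _ H.subtype_injective)
      comm := by
        rintro _ ⟨L, hL, rfl⟩ _ ⟨L', hL', rfl⟩ hne
        rw [← map_commutator,
          (Component.eq_or_commutator_eq_bot hL hL').resolve_left (fun e => hne (e ▸ rfl)),
          Subgroup.map_bot]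
      stb := by
        rintro _ ⟨L, hL, rfl⟩
        obtain ⟨L', h1, h2⟩ := component_map_aut hL β hH
        exact ⟨L', h1, h2.symm⟩
      fixed := by
        rintro _ ⟨L, hL, rfl⟩ c hc
        obtain ⟨L', h1, h2⟩ := component_map_aut hL _ (stb_conj (hfix hc))
        exact ⟨L', h1, h2.symm⟩ }
  rw [map_le_iff_le_comap]
  refine sSup_le fun L hL => map_le_iff_le_comap.1 ?_
  by_contra hne
  set K0 : Subgroup X := sSup {M | M ∈ S ∧ ¬ M ≤ layer X}
  have hK0f : K0 ≤ fixG β := sSup_le fun M hM => by
    by_contra h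
    exact hM.2 (hS.le_layer hr hβ hco hM.1 h)
  have hconj : ∀ h ∈ H, ∀ k ∈ K0, h * k * h⁻¹ ∈ K0 := by
    intro h hh
    suffices h1 : K0 ≤ K0.comap (MulAut.conj h).toMonoidHom from fun k hk => h1 hk
    refine sSup_le ?_
    rintro M ⟨⟨L₀, hL₀, rfl⟩, hM⟩
    obtain ⟨L', h1, h2⟩ := component_map_aut hL₀ _ (stb_conj (le_normalizer hh))
    refine map_le_iff_le_comap.1 (le_sSup ⟨⟨L', h1, h2.symm⟩, fun hle => hM fun y hy => ?_⟩)
    have h3 : h * y * h⁻¹ ∈ layer X := hle ⟨y, hy, rfl⟩
    simpa [mul_assoc] using (Layer.layer_normal (G := X)).conj_mem _ h3 h⁻¹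
  have hHC : H ≤ Subgroup.centralizer (K0 : Set X) := hgen.trans (cm_le_iff.2 fun x hx =>
    mem_centralizer_iff.2 fun k hk => by
      have e1 : β x * k * (β x)⁻¹ = x * k * x⁻¹ := by
        have := mem_fixG.1 (hK0f (hconj x hx k hk))
        rwa [map_mul, map_mul, map_inv, mem_fixG.1 (hK0f hk)] at this
      calc k * (x⁻¹ * β x) = x⁻¹ * (x * k * x⁻¹) * β x := by group
        _ = x⁻¹ * (β x * k * (β x)⁻¹) * β x := by rw [e1]
        _ = x⁻¹ * β x * k := by group)
  have hmem : L.map H.subtype ≤ K0 := le_sSup ⟨⟨L, hL, rfl⟩, hne⟩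
  exact not_le_centralizer_of_qs (hS.qs _ ⟨L, hL, rfl⟩)
    ((map_subtype_le L).trans (hHC.trans (Subgroup.centralizer_le (SetLike.coe_subset_coe.2 hmem))))

/-- The layer of a group equal to its own layer. -/
theorem layer_layer : layer ↥(layer X) = ⊤ := by
  refine Subgroup.map_injective (layer X).subtype_injective ?_
  rw [FStarTools.map_layer_subnormal (Subgroup.Normal.isSubnormal inferInstance),
    ← MonoidHom.range_eq_map, Subgroup.range_subtype]
  exact le_antisymm (sSup_le fun M hM => hM.2)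
    (sSup_le fun M hM => le_sSup ⟨hM, Layer.component_le_layer hM⟩)

/-- A member not centralised by `β` is a component or lies in an invariant component. -/
theorem Fam.component_or_le {S : Set (Subgroup X)} (hS : Fam β S) (hr : r.Prime) (hβ : β ^ r = 1)
    (hco : ¬ r ∣ Nat.card X) {K : Subgroup X} (hK : K ∈ S) (hnf : ¬ K ≤ fixG β) :
    IsComponent K ∨ ∃ L, IsComponent L ∧ Stb β L ∧ K ≤ L := by
  have hKE := hS.le_layer hr hβ hco hK hnf
  have hE : Stb β (layer X) := stb_char
  have hsn : (layer X).IsSubnormal := Subgroup.Normal.isSubnormal inferInstance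
  have hmem : K.subgroupOf (layer X) ∈ {M : Subgroup ↥(layer X) | M.map (layer X).subtype ∈ S} := by
    show (K.subgroupOf (layer X)).map (layer X).subtype ∈ S
    rwa [map_subgroupOf_eq_of_le hKE]
  have hnf' : ¬ K.subgroupOf (layer X) ≤ fixG (resA β (layer X) hE) := fun h => hnf fun k hk =>
    congrArg Subtype.val (h (show (⟨k, hKE hk⟩ : layer X) ∈ K.subgroupOf (layer X) from hk))
  rcases (hS.restrict hE).component_or_contained hr (resA_pow_r hβ hE) (not_dvd_sub hco _)
    layer_layer hmem hnf' with h | ⟨L, hL, hLβ, hKL⟩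
  · exact Or.inl ((Component.subgroupOf_iff hsn hKE).1 h)
  · refine Or.inr ⟨L.map (layer X).subtype, Component.map_subtype hsn hL, ?_, ?_⟩
    · rintro _ ⟨y, hy, rfl⟩
      exact ⟨resA β (layer X) hE y, hLβ.le ⟨y, hy, rfl⟩, rfl⟩
    · exact fun k hk => ⟨⟨k, hKE hk⟩, hKL hk, rfl⟩

end Cfsg.Agent.Lib.HHS57
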