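import Cfsg.Agent.Lib.HHS57.Normal

/-!
# The centre of a minimal configuration (helper18)

`H` is perfect, `H / Z(H)` has trivial centre, central elements are fixed, and after replacing `V` by a
sign space every central involution inverts `V` (in particular there is at most one).
-/

set_option autoImplicit false
set_option linter.style.haveILetI false
set_option linter.unusedSectionVars false

namespace Cfsg.Agent.Lib.HHS57

open Cfsg Cfsg.Agent.Lib
open Cfsg.Agent.Lib.FpfAut (exists_invariant_sylow exists_fixed_mul stabS resS mem_stabS resS_apply)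
open Subgroup
open scoped commutatorElement

universe u

variable {H : Type u} [Group H] [Finite H] {p r : ℕ} {α : MulAut H} {V : Type u} [CommGroup V]
  [Finite V] {ψ : H →* MulAut V} {e : MulAut V}

variable (h : Min p r α ψ e)

include h

/-- `H` is perfect. -/
theorem Min.perfect : commutator H = ⊤ := by
  haveI : Fact (Nat.Prime 2) := ⟨Nat.prime_two⟩
  obtain ⟨T, hT⟩ := exists_invariant_sylow h.hr h.hα h.hco 2
  by_contra hne
  have hle := h.le_center T hT (N := commutator H) (fun x hx => stb_char x hx) hne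
  haveI : Group.IsNilpotent (H ⧸ Subgroup.center H) := by
    letI : CommGroup (H ⧸ Subgroup.center H) :=
      { (inferInstance : Group (H ⧸ Subgroup.center H)) with
        mul_comm := fun a b =>
          QuotientGroup.induction_on a fun x => QuotientGroup.induction_on b fun y => by
            rw [← QuotientGroup.mk_mul, ← QuotientGroup.mk_mul, QuotientGroup.eq]
            have := hle (commutator_mem_commutator (mem_top y⁻¹) (mem_top x⁻¹))
            simpa [commutatorElement_def, mul_assoc] using this }
    infer_instance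
  haveI : Group.IsNilpotent H :=
    Subgroup.isNilpotent_of_ker_le_center (QuotientGroup.mk' (Subgroup.center H)) (by rw [QuotientGroup.ker_mk'])
  exact h.not_normal_T T hT (Sylow.normal_of_normalizerCondition Group.normalizerCondition_of_isNilpotent T)

/-- A normal invariant subgroup with perfect non-trivial quotient, written elementwise. -/
theorem Min.eq_top_of_quotient_isPGroup {s : ℕ} [Fact s.Prime] {L : Subgroup H} [L.Normal]
    (hL : IsPGroup s (H ⧸ L)) : L = ⊤ := by
  haveI := hL.isNilpotent
  by_contra hne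
  haveI : Nontrivial (H ⧸ L) := QuotientGroup.nontrivial_iff.2 hne
  haveI : Group.IsSolvable (H ⧸ L) := inferInstance
  have h1 : commutator (H ⧸ L) ≠ ⊤ := fun e1 => by
    have := (Group.IsSolvable.commutator_lt_top_of_nontrivial (G := H ⧸ L))
    exact this.ne e1
  apply h1
  rw [commutator_def, ← Subgroup.map_top_of_surjective (QuotientGroup.mk' L) (QuotientGroup.mk'_surjective L),
    ← Subgroup.map_commutator, ← commutator_def, h.perfect]

/-- A sign space on which `H` acts faithfully. -/
theorem Min.exists_irred :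
    ∃ (V' : Type u) (_ : CommGroup V') (_ : Finite V') (ψ' : H →* MulAut V') (e' : MulAut V'),
      Min p r α ψ' e' ∧
        ∀ z ∈ Subgroup.center H, z * z = 1 → z ≠ 1 → ∀ v, ψ' z v = v⁻¹ := by
  classical
  haveI := h.factP
  haveI : Fact (Nat.Prime 2) := ⟨Nat.prime_two⟩
  obtain ⟨T, hT⟩ := exists_invariant_sylow h.hr h.hα h.hco 2
  set Ω : Set H := {z | z ∈ Subgroup.center H ∧ z * z = 1} with hΩ
  set L := ((Set.toFinite (ψ '' Ω)).toFinset.toList) with hL
  have hmem : ∀ x, x ∈ L ↔ ∃ z ∈ Ω, ψ z = x := fun x => by simp [hL]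
  obtain ⟨w, hw, g₀, hg₀⟩ : ∃ w : V, (∀ z ∈ Ω, FpfAut.Sgn (ψ z) w) ∧ ∃ g, ψ g w ≠ w := by
    by_contra hh
    push Not at hh
    obtain ⟨S, hS, -, hS1, -⟩ := h.exists_pelem
    refine hS1 ((Subgroup.eq_bot_iff_forall _).2 fun x _ => h.inj ?_)
    rw [map_one]
    refine MulEquiv.ext fun t => ?_
    have ht := FpfAut.eigen_span (h.hp.odd_of_ne_two h.hp2) h.hexp L
      (fun y hy => by
        obtain ⟨z, hz, rfl⟩ := (hmem y).1 hy
        rw [← map_mul, hz.2, map_one])
      (fun y hy y' hy' => by
        obtain ⟨z, hz, rfl⟩ := (hmem y).1 hy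
        obtain ⟨z', hz', rfl⟩ := (hmem y').1 hy'
        rw [← map_mul, ← map_mul, mem_center_iff.1 hz'.1 z]) t
    induction ht using Subgroup.closure_induction with
    | mem w hw => exact hh w (fun z hz => hw _ ((hmem _).2 ⟨z, hz, rfl⟩)) x
    | one => simp
    | mul a b _ _ ha hb => rw [map_mul, ha, hb]; simp
    | inv a _ ha => rw [map_inv, ha]; simp
  let E : Subgroup V :=
    { carrier := {t | ∀ z ∈ Ω, (ψ z w = w → ψ z t = t) ∧ (ψ z w ≠ w → ψ z t = t⁻¹)}
      one_mem' := fun z _ => ⟨fun _ => map_one _, fun _ => by rw [map_one, inv_one]⟩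
      mul_mem' := fun {a b} ha hb z hz => ⟨fun e1 => by rw [map_mul, (ha z hz).1 e1, (hb z hz).1 e1],
        fun e1 => by rw [map_mul, (ha z hz).2 e1, (hb z hz).2 e1, mul_inv]⟩
      inv_mem' := fun {a} ha z hz => ⟨fun e1 => by rw [map_inv, (ha z hz).1 e1],
        fun e1 => by rw [map_inv, (ha z hz).2 e1]⟩ }
  have hwE : w ∈ E := fun z hz => ⟨id, fun e1 => (hw z hz).resolve_left e1⟩
  have hEinv : ∀ g : H, ∀ t ∈ E, ψ g t ∈ E := by
    intro g t ht z hz
    have hcm2 : ψ z (ψ g t) = ψ g (ψ z t) := by
      rw [← MulAut.mul_apply, ← map_mul, ← mem_center_iff.1 hz.1 g, map_mul, MulAut.mul_apply]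
    exact ⟨fun e1 => by rw [hcm2, (ht z hz).1 e1], fun e1 => by rw [hcm2, (ht z hz).2 e1, map_inv]⟩
  have heE : ∀ t ∈ E, e t ∈ E := by
    intro t ht z hz
    have hcm2 : ψ z (e t) = e (ψ z t) := by
      conv_lhs => rw [← h.center_fixed hz.1, h.compat, MulAut.mul_apply, MulAut.mul_apply,
        MulAut.inv_apply_self]
    exact ⟨fun e1 => by rw [hcm2, (ht z hz).1 e1], fun e1 => by rw [hcm2, (ht z hz).2 e1, map_inv]⟩
  let ψ₁ : H →* MulAut E := (resS E).comp (ψ.codRestrict _ fun g => mem_stabS (hEinv g))
  let e₁ : MulAut E := resS E ⟨e, mem_stabS heE⟩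
  have hψ₁ : ∀ (g : H) (t : E), ((ψ₁ g t : E) : V) = ψ g t := fun g t => rfl
  have hcompat : ∀ g, ψ₁ (α g) = e₁ * ψ₁ g * e₁⁻¹ := fun g => MulEquiv.ext fun t => Subtype.ext (by
    rw [hψ₁, h.compat]; rfl)
  have he₁ : e₁ ^ r = 1 := by
    show (resS E ⟨e, mem_stabS heE⟩) ^ r = 1
    rw [← map_pow, show (⟨e, mem_stabS heE⟩ : stabS E) ^ r = 1 from Subtype.ext h.he, map_one]
  set K := ψ₁.ker with hK
  have hKα : Stb α K := fun x hx => by
    rw [hK, MonoidHom.mem_ker] at hx ⊢
    rw [hcompat, hx, mul_one, mul_inv_cancel]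
  have hKne : K ≠ ⊤ := fun e1 => hg₀ (congrArg Subtype.val
    (DFunLike.congr_fun (MonoidHom.mem_ker.1 (show g₀ ∈ K by rw [e1]; exact mem_top g₀)) (⟨w, hwE⟩ : E)))
  have hinj : Function.Injective ψ₁ := by
    rw [← MonoidHom.ker_eq_bot_iff]
    by_contra hK1
    set αb : MulAut (H ⧸ K) := QuotientGroup.congr K K α hKα.map_eq with hαb
    let ψb : H ⧸ K →* MulAut E := QuotientGroup.lift K ψ₁ le_rfl
    have hcfg : Cfg p r αb ψb e₁ :=
      { hp := h.hp
        hp2 := h.hp2
        hr := h.hr
        hα := by
          have hpow : ∀ (k : ℕ) (g : H), (αb ^ k) (QuotientGroup.mk g) = QuotientGroup.mk ((α ^ k) g) := by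
            intro k
            induction k with
            | zero => intro g; rfl
            | succ k ih => intro g; rw [pow_succ, pow_succ, MulAut.mul_apply, MulAut.mul_apply, ← ih]; rfl
          exact MulEquiv.ext fun x => QuotientGroup.induction_on x fun g => by rw [hpow, h.hα]; rfl
        hco := fun hd => h.hco (hd.trans K.card_quotient_dvd_card)
        hexp := fun t => Subtype.ext (h.hexp t)
        he := he₁
        hfpf := fun t ht => Subtype.ext (h.hfpf _ (congrArg Subtype.val ht))
        inj := (injective_iff_map_eq_one ψb).2 fun x => QuotientGroup.induction_on x fun g hg =>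
          (QuotientGroup.eq_one_iff g).2 hg
        compat := fun x => QuotientGroup.induction_on x fun g => hcompat g
        core := by
          set L := (pCore p (H ⧸ K)).comap (QuotientGroup.mk' K) with hLdef
          haveI : (pCore p (H ⧸ K)).Normal := inferInstance
          haveI : L.Normal := inferInstance
          have hLα : Stb α L := fun x hx => by
            rw [hLdef, Subgroup.mem_comap] at hx ⊢
            show αb (QuotientGroup.mk x) ∈ pCore p (H ⧸ K)
            exact (Cores.map_pCore_equiv αb).le ⟨_, hx, rfl⟩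
          have hKL : K ≤ L := fun x hx => by
            rw [hLdef, Subgroup.mem_comap, QuotientGroup.mk'_apply, (QuotientGroup.eq_one_iff x).2 hx]
            exact one_mem _
          have hmap : L.map (QuotientGroup.mk' K) = pCore p (H ⧸ K) :=
            Subgroup.map_comap_eq_self_of_surjective (QuotientGroup.mk'_surjective K) _
          by_cases hLtop : L = ⊤
          · exfalso
            have htop : pCore p (H ⧸ K) = ⊤ := by
              rw [← hmap, hLtop, Subgroup.map_top_of_surjective _ (QuotientGroup.mk'_surjective K)]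
            exact hKne (h.eq_top_of_quotient_isPGroup (Cores.pCore_eq_top_iff.1 htop))
          · rw [← hmap, eq_bot_iff]
            rintro _ ⟨x, hx, rfl⟩
            rw [Subgroup.mem_bot]
            refine eq_one_of_isPGroup_of_not_dvd h.hp (Cores.pCore_isPGroup p) hx fun hd => ?_
            exact h.not_dvd_center ((hd.trans (orderOf_map_dvd _ x)).trans
              (Subgroup.orderOf_dvd_natCard _ (h.le_center T hT hLα hLtop hx))) }
    have hlt : Nat.card (H ⧸ K) < Nat.card H := by
      rw [Subgroup.card_eq_card_quotient_mul_card_subgroup K]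
      have : 1 < Nat.card K := (Subgroup.one_lt_card_iff_ne_bot K).2 hK1
      have h0 : 0 < Nat.card (H ⧸ K) := Nat.card_pos
      nlinarith
    have h1 := h.below (H ⧸ K) E p r αb ψb e₁ hlt hcfg
    have hcm : cm αb (⊤ : Subgroup (H ⧸ K)) = ⊤ := by
      refine top_le_iff.1 fun x _ => QuotientGroup.induction_on x fun g => ?_
      have hle : cm α (⊤ : Subgroup H) ≤ (cm αb ⊤).comap (QuotientGroup.mk' K) := cm_le_iff.2
        fun y _ => mem_cm (mem_top (QuotientGroup.mk' K y))
      exact hle (h.cm_top.symm ▸ mem_top g)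
    rw [hcm] at h1
    exact hKne (h.eq_top_of_quotient_isPGroup (h1.of_equiv Subgroup.topEquiv))
  refine ⟨E, inferInstance, inferInstance, ψ₁, e₁,
    { hp := h.hp, hp2 := h.hp2, hr := h.hr, hα := h.hα, hco := h.hco
      hexp := fun t => Subtype.ext (h.hexp t), he := he₁
      hfpf := fun t ht => Subtype.ext (h.hfpf _ (congrArg Subtype.val ht))
      inj := hinj, compat := hcompat, core := h.core, below := h.below, moved := h.moved },
    fun z hz hzz hz1 t => ?_⟩
  by_cases e1 : ψ z w = w
  · refine absurd (hinj (?_ : ψ₁ z = ψ₁ 1)) hz1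
    rw [map_one]
    exact MulEquiv.ext fun s => Subtype.ext ((s.2 z ⟨hz, hzz⟩).1 e1)
  · exact Subtype.ext ((t.2 z ⟨hz, hzz⟩).2 e1)

end Cfsg.Agent.Lib.HHS57
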