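import Cfsg.Agent.Lib.Tech42.FpfAut.ClassTwo
import Cfsg.Agent.Lib.HHS57.Basics

/-!
# A `2`-group `Q = [Q, α]` on a module on which `α` has no fixed point (helper18)

`Q` acts faithfully on the elementary abelian `p`-group `T`, compatibly with the fixed-point-free
automorphism `e`.  Abelian invariant subgroups are centralised, `Q` has class two with centre the
fixed points, and `|Q : Z(Q)| = (r - 1) ^ 2 = 2 ^ 2 m` when `Q' ≤ {1, ν}`.
-/

set_option autoImplicit false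
set_option linter.style.haveILetI false
set_option linter.unusedSectionVars false

namespace Cfsg.Agent.Lib.HHS57

open Cfsg.Agent.Lib
open Subgroup
open scoped commutatorElement

universe u v

variable {Q : Type u} [Group Q] [Finite Q] {T : Type v} [CommGroup T] [Finite T] {p r : ℕ}

/-- The data. -/
structure FpfRep (p r : ℕ) (α : MulAut Q) (θ : Q →* MulAut T) (e : MulAut T) : Prop where
  hp : p.Prime
  hp2 : p ≠ 2
  hr : r.Prime
  hr2 : r ≠ 2
  hrp : r ≠ p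
  hQ : IsPGroup 2 Q
  hexp : ∀ t : T, t ^ p = 1
  hα : α ^ r = 1
  he : e ^ r = 1
  hfpf : ∀ t, e t = t → t = 1
  inj : Function.Injective θ
  compat : ∀ x, θ (α x) = e * θ x * e⁻¹

variable {α : MulAut Q} {θ : Q →* MulAut T} {e : MulAut T}

/-- A linearised form of the data. -/
theorem FpfRep.exists_linear (h : FpfRep p r α θ e) [Fact p.Prime] :
    ∃ (W : Type v) (_ : AddCommGroup W) (_ : Module (AlgebraicClosure (ZMod p)) W)
      (_ : FiniteDimensional (AlgebraicClosure (ZMod p)) W)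
      (ρ : Q →* Module.End (AlgebraicClosure (ZMod p)) W)
      (σ : Module.End (AlgebraicClosure (ZMod p)) W),
      (∀ x, ρ x = 1 → x = 1) ∧ σ ^ r = 1 ∧ (∀ v, σ v = v → v = 0) ∧
      ∀ x, σ * ρ x = ρ (α x) * σ := by
  obtain ⟨W, _, _, _, ψ, hψ, hψfix⟩ :=
    Shult.exists_linear (N := MulAut T) (p := p) h.hexp (MonoidHom.id _)
  refine ⟨W, _, _, inferInstance, ψ.comp θ, ψ e, fun x hx => h.inj (?_ : θ x = θ 1), ?_,
    hψfix _ h.hfpf, fun x => ?_⟩
  · rw [map_one]; exact MulEquiv.ext fun a => hψ _ hx a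
  · rw [← map_pow, h.he, map_one]
  · show ψ e * ψ (θ x) = ψ (θ (α x)) * ψ e
    rw [← map_mul, ← map_mul, h.compat, inv_mul_cancel_right]

theorem FpfRep.two_ne_zero (h : FpfRep p r α θ e) [Fact p.Prime] :
    (2 : AlgebraicClosure (ZMod p)) ≠ 0 := fun h0 => by
  have : ((2 : ℕ) : AlgebraicClosure (ZMod p)) = 0 := by exact_mod_cast h0
  rw [CharP.cast_eq_zero_iff (AlgebraicClosure (ZMod p)) p] at this
  exact h.hp2 ((Nat.prime_dvd_prime_iff_eq h.hp Nat.prime_two).1 this)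

/-- Abelian invariant subgroups are centralised. -/
theorem FpfRep.fixes_abelian (h : FpfRep p r α θ e) (A : Subgroup Q)
    (hc : ∀ a ∈ A, ∀ b ∈ A, a * b = b * a) (hi : Stb α A) : ∀ a ∈ A, α a = a := by
  haveI := Fact.mk h.hp
  obtain ⟨W, _, _, _, ρ, σ, hinj, hσr, hσ, hcompat⟩ := h.exists_linear
  refine FpfAut.fixes_abelian ρ hinj σ h.hr Nat.prime_two h.hr2.symm h.hQ hσr
    (Shult.sum_pow_eq_zero hσr hσ) α hcompat h.hα ?_ A hc hi
  rw [← map_natCast (algebraMap (AlgebraicClosure (ZMod p)) _)]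
  exact (isUnit_iff_ne_zero.2 (by exact_mod_cast h.two_ne_zero)).map _

theorem closure_eq_top_of_cm (hgen : cm α (⊤ : Subgroup Q) = ⊤) :
    closure {y : Q | ∃ u, y = u⁻¹ * α u} = ⊤ := by
  rw [← hgen]
  simp [cm]

/-- The facts about `Q = [Q, α]`. -/
theorem FpfRep.classTwo (h : FpfRep p r α θ e) (hgen : cm α (⊤ : Subgroup Q) = ⊤) :
    (∀ a b : Q, ⁅a, b⁆ ∈ center Q) ∧ (∀ a b : Q, ⁅a, b⁆ ^ 2 = 1) ∧ (∀ a : Q, a ^ 2 ∈ center Q) ∧
      (∀ a : Q, a ∈ center Q ↔ α a = a) :=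
  have hg := closure_eq_top_of_cm hgen
  ⟨FpfAut.commutator_mem_center hg h.fixes_abelian h.hQ,
    FpfAut.commutator_sq hg h.fixes_abelian h.hQ,
    FpfAut.sq_mem_center hg h.fixes_abelian h.hQ,
    fun a => ⟨FpfAut.fixes_center hg h.fixes_abelian a,
      FpfAut.mem_center_of_fixed hg h.fixes_abelian h.hQ⟩⟩

/-- A coset of the centre stabilised by `α` is the centre. -/
theorem FpfRep.mem_center_of_inv_mul (h : FpfRep p r α θ e) (hgen : cm α (⊤ : Subgroup Q) = ⊤)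
    {x : Q} (hx : x⁻¹ * α x ∈ center Q) : x ∈ center Q := by
  obtain ⟨-, -, -, hcen⟩ := h.classTwo hgen
  exact (hcen x).2 (Shult.fixed_of_inv_mul_mem h.hr h.hr2.symm Nat.prime_two h.hQ h.hα ((hcen _).1 hx))

/-- The index of the centre. -/
theorem FpfRep.index_center (h : FpfRep p r α θ e) (hgen : cm α (⊤ : Subgroup Q) = ⊤)
    (hnt : ∃ x : Q, x ≠ 1) (ν : Q) (hν : ∀ a b : Q, ⁅a, b⁆ = 1 ∨ ⁅a, b⁆ = ν) :
    ∃ m : ℕ, 0 < m ∧ r = 2 ^ m + 1 ∧ (center Q).index = 2 ^ (2 * m) ∧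
      (center Q).index = (r - 1) ^ 2 := by
  haveI := Fact.mk h.hp
  haveI : Fact (Nat.Prime 2) := ⟨Nat.prime_two⟩
  obtain ⟨W, _, _, _, ρ, σ, hinj, hσr, hσ, hcompat⟩ := h.exists_linear
  obtain ⟨hcomm, -, -, hcen⟩ := h.classTwo hgen
  -- `Q` is not abelian
  obtain ⟨a, b, hab⟩ : ∃ a b : Q, ⁅a, b⁆ ≠ 1 := by
    by_contra hh
    push Not at hh
    obtain ⟨x, hx⟩ := hnt
    have hall : ∀ y : Q, α y = y := fun y =>
      h.fixes_abelian ⊤ (fun a _ b _ => commutatorElement_eq_one_iff_mul_comm.1 (hh a b)) stb_top y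
        (mem_top _)
    have h1 : cm α (⊤ : Subgroup Q) ≤ ⊥ := cm_le_iff.2 fun y _ => by simp [hall y]
    rw [hgen] at h1
    exact hx (mem_bot.1 (h1 (mem_top x)))
  have hνc : ν ∈ center Q := ((hν a b).resolve_left hab) ▸ hcomm a b
  have hν1 : ν ≠ 1 := ((hν a b).resolve_left hab) ▸ hab
  have hb : a ∉ center Q := fun hc => hab
    (commutatorElement_eq_one_iff_mul_comm.2 (mem_center_iff.1 hc b).symm)
  have hidx := (Shult.index_cases ρ h.hr σ hσr hσ α hcompat h.hα le_rfl hcomm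
    (fun z hz => (hcen z).1 hz) (fun x hx => h.mem_center_of_inv_mul hgen hx)
    ν hνc (fun h1 => hν1 (hinj _ h1)) (fun N _ hνN x hx => ?_) ?_ ?_).resolve_left
    (fun h1 => hb (by rw [index_eq_one.1 h1]; exact mem_top _))
  · obtain ⟨n, hn⟩ := IsPGroup.iff_card.1 h.hQ
    obtain ⟨d, -, hd⟩ := (Nat.dvd_prime_pow Nat.prime_two).1 (hn ▸ (center Q).index_dvd_card)
    have hd0 : 0 < d := Nat.pos_of_ne_zero fun h0 => by
      rw [h0, pow_zero] at hd
      exact hb (by rw [index_eq_one.1 hd]; exact mem_top _)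
    obtain ⟨-, m, hm, hdm⟩ := Shult.prime_power_eq_sq Nat.prime_two h.hr hd0 (hd ▸ hidx)
    exact ⟨m, by omega, hm, hdm ▸ hd, hidx⟩
  · obtain ⟨y, hy⟩ : ∃ y : Q, ⁅x, y⁆ ≠ 1 := by
      by_contra hh
      push Not at hh
      exact hx (mem_center_iff.2 fun y => (commutatorElement_eq_one_iff_mul_comm.1 (hh y)).symm)
    exact ⟨y, fun hm => hνN ((hν x y).resolve_left hy ▸ hm)⟩
  · rw [Ne, CharP.cast_eq_zero_iff (AlgebraicClosure (ZMod p)) p]
    exact fun hd => h.hrp ((Nat.prime_dvd_prime_iff_eq h.hp h.hr).1 hd).symm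
  · exact Shult.natCast_ne_zero_of_isPGroup h.hp Nat.prime_two h.hp2 h.hQ _

end Cfsg.Agent.Lib.HHS57
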