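import Cfsg.Agent.Lib.HHS57.Spectrum
import Cfsg.Agent.Lib.HHS57.TwoRep

/-!
# Every nontrivial root of unity is an eigenvalue of `σ` (helper57)

`U = [U, α]` is a `2`-group acting on `W`, `σ` implements `α` without fixed vector, and `S` is an
invariant subspace on which some commutator has no fixed vector.
-/

set_option autoImplicit false
set_option linter.style.haveILetI false
set_option linter.unusedSectionVars false

namespace Cfsg.Agent.Lib.HHS57

open Cfsg.Agent.Lib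
open Cfsg.Agent.Lib.FpfAut (exists_fixed_mul)
open Subgroup
open scoped commutatorElement

universe u v w

theorem exists_eigen_vector {U : Type u} [Group U] [Finite U] (hU : IsPGroup 2 U) {p r : ℕ}
    (hp : p.Prime) (hp2 : p ≠ 2) (hr : r.Prime) (hr2 : r ≠ 2) (hrp : r ≠ p) (α : MulAut U)
    (hαr : α ^ r = 1) (hgen : cm α (⊤ : Subgroup U) = ⊤) (hfixc : ∀ x, α x = x → x ∈ center U)
    {k : Type v} [Field k] [IsAlgClosed k] [CharP k p] {W : Type w} [AddCommGroup W] [Module k W]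
    [FiniteDimensional k W] (ρ : U →* Module.End k W) (σ : Module.End k W) (hσr : σ ^ r = 1)
    (hσ : ∀ v, σ v = v → v = 0) (hcompat : ∀ x, σ * ρ x = ρ (α x) * σ) {S : Submodule k W}
    (hS : S ≠ ⊥) (hSρ : ∀ x, ∀ v ∈ S, ρ x v ∈ S) (hSσ : ∀ v ∈ S, σ v ∈ S) {a b : U}
    (hab : ∀ v ∈ S, v ≠ 0 → ρ ⁅a, b⁆ v ≠ v) {μ : k} (hμr : μ ^ r = 1) (hμ : μ ≠ 1) :
    ∃ v ∈ S, v ≠ 0 ∧ σ v = μ • v := by
  classical
  haveI := Fact.mk hp
  haveI : Fact (Nat.Prime 2) := ⟨Nat.prime_two⟩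
  obtain ⟨T, ⟨hT0, hTS, hTρ, hTσ⟩, hmin⟩ := wellFounded_lt.has_min
    {T : Submodule k W | T ≠ ⊥ ∧ T ≤ S ∧ (∀ x, ∀ v ∈ T, ρ x v ∈ T) ∧ ∀ v ∈ T, σ v ∈ T}
    ⟨S, hS, le_rfl, hSρ, hSσ⟩
  haveI : Nontrivial T := Submodule.nontrivial_iff_ne_bot.2 hT0
  let ρ₂ := Shult.subRep ρ T hTρ
  let σ₂ : Module.End k T := σ.restrict hTσ
  have hσ₂r : σ₂ ^ r = 1 := by
    have h1 : ∀ (j : ℕ) (v : T), ((σ₂ ^ j) v : W) = (σ ^ j) (v : W) := fun j => by
      induction j with
      | zero => simp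
      | succ j ih =>
          intro v
          rw [pow_succ, pow_succ, Module.End.mul_apply, Module.End.mul_apply, ih]
          rfl
    exact LinearMap.ext fun v => Subtype.ext (by rw [h1, hσr]; rfl)
  have hcompat₂ : ∀ x, σ₂ * ρ₂ x = ρ₂ (α x) * σ₂ := fun x =>
    LinearMap.ext fun v => Subtype.ext (LinearMap.congr_fun (hcompat x) (v : W))
  set N := ρ₂.ker with hN
  have hNα : Stb α N := fun n hn => by
    rw [hN, MonoidHom.mem_ker] at hn ⊢
    have h1 := hcompat₂ n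
    rw [hn, mul_one] at h1
    obtain ⟨r', hr'⟩ : ∃ r', r = r' + 1 := ⟨r - 1, by have := hr.pos; omega⟩
    calc ρ₂ (α n) = ρ₂ (α n) * σ₂ * σ₂ ^ r' := by rw [mul_assoc, ← pow_succ', ← hr', hσ₂r, mul_one]
      _ = σ₂ * σ₂ ^ r' := by rw [← h1]
      _ = 1 := by rw [← pow_succ', ← hr', hσ₂r]
  set β : MulAut (U ⧸ N) := QuotientGroup.congr N N α hNα.map_eq
  have hβr : β ^ r = 1 := by
    have hpow : ∀ (i : ℕ) (g : U), (β ^ i) (QuotientGroup.mk g) = QuotientGroup.mk ((α ^ i) g) := by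
      intro i
      induction i with
      | zero => intro g; rfl
      | succ i ih => intro g; rw [pow_succ, pow_succ, MulAut.mul_apply, MulAut.mul_apply, ← ih]; rfl
    exact MulEquiv.ext fun x => QuotientGroup.induction_on x fun g => by rw [hpow, hαr]; rfl
  let ρQ : U ⧸ N →* Module.End k T := QuotientGroup.lift N ρ₂ le_rfl
  have hinj : ∀ x, ρQ x = 1 → x = 1 := fun x => QuotientGroup.induction_on x fun g hg =>
    (QuotientGroup.eq_one_iff g).2 hg
  have hcompatQ : ∀ x, σ₂ * ρQ x = ρQ (β x) * σ₂ := fun x =>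
    QuotientGroup.induction_on x fun g => hcompat₂ g
  have hQ : IsPGroup 2 (U ⧸ N) := hU.to_quotient N
  have hσ₂ : ∀ v, σ₂ v = v → v = 0 := fun v hv => Subtype.ext (hσ _ (congrArg Subtype.val hv))
  have h2k : (2 : k) ≠ 0 := fun h0 => by
    have : ((2 : ℕ) : k) = 0 := by exact_mod_cast h0
    rw [CharP.cast_eq_zero_iff k p] at this
    exact hp2 ((Nat.prime_dvd_prime_iff_eq hp Nat.prime_two).1 this)
  have hab2 : IsUnit ((2 : ℕ) : Module.End k T) := by
    rw [← map_natCast (algebraMap k _)]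
    exact (isUnit_iff_ne_zero.2 (by exact_mod_cast h2k)).map _
  have habel : ∀ A : Subgroup (U ⧸ N), (∀ x ∈ A, ∀ y ∈ A, x * y = y * x) → (∀ x ∈ A, β x ∈ A) →
      ∀ x ∈ A, β x = x := fun A hc hi => FpfAut.fixes_abelian ρQ hinj σ₂ hr Nat.prime_two hr2.symm hQ
    hσ₂r (Shult.sum_pow_eq_zero hσ₂r hσ₂) β hcompatQ hβr hab2 A hc hi
  have hgenQ : cm β (⊤ : Subgroup (U ⧸ N)) = ⊤ := by
    refine top_le_iff.1 fun x _ => QuotientGroup.induction_on x fun g => ?_
    have hle : cm α (⊤ : Subgroup U) ≤ (cm β ⊤).comap (QuotientGroup.mk' N) := cm_le_iff.2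
      fun y _ => mem_cm (mem_top (QuotientGroup.mk' N y))
    exact hle (hgen.symm ▸ mem_top g)
  have hg := closure_eq_top_of_cm hgenQ
  have hcen : ∀ x, x ∈ center (U ⧸ N) ↔ β x = x := fun x =>
    ⟨FpfAut.fixes_center hg habel x, FpfAut.mem_center_of_fixed hg habel hQ⟩
  have hscal : ∀ z ∈ center (U ⧸ N), ∃ c : k, ρQ z = c • 1 := by
    intro z hz
    induction z using QuotientGroup.induction_on with | H g => ?_
    obtain ⟨n, hn, hf⟩ := exists_fixed_mul hr hαr hNα
      (fun hd => by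
        obtain ⟨j, hj⟩ := IsPGroup.iff_card.1 (hU.to_subgroup N)
        rw [hj] at hd
        exact hr2 ((Nat.prime_dvd_prime_iff_eq hr Nat.prime_two).1 (hr.dvd_of_dvd_pow hd)))
      (QuotientGroup.eq.1 (show (QuotientGroup.mk g : U ⧸ N) = QuotientGroup.mk (α g) from
        ((hcen _).1 hz).symm))
    set g' := g * n with hg'
    have hcg := hfixc g' hf
    obtain ⟨c, hc⟩ := (ρ₂ g').exists_eigenvalue
    refine ⟨c, ?_⟩
    have hlift : ρQ (QuotientGroup.mk g) = ρ₂ g' := by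
      show ρ₂ g = ρ₂ (g * n)
      rw [map_mul, show ρ₂ n = 1 from MonoidHom.mem_ker.1 hn, mul_one]
    rw [hlift]
    let T' : Submodule k W := ((ρ₂ g').eigenspace c).map T.subtype
    have hT'le : T' ≤ T := Submodule.map_subtype_le _ _
    have hT' : T' = T := eq_of_le_of_not_lt hT'le (hmin T' ⟨?_, hT'le.trans hTS, ?_, ?_⟩)
    · have htop : (ρ₂ g').eigenspace c = ⊤ :=
        Submodule.map_injective_of_injective T.injective_subtype
          (hT'.trans (Submodule.map_subtype_top _).symm)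
      exact LinearMap.ext fun u => by
        simpa using Module.End.mem_eigenspace_iff.1 (htop.ge (Submodule.mem_top (x := u)))
    · exact fun h => Module.End.hasEigenvalue_iff.1 hc
        (Submodule.map_injective_of_injective T.injective_subtype (h.trans (Submodule.map_bot _).symm))
    · rintro x _ ⟨u, hu, rfl⟩
      refine ⟨ρ₂ x u, ?_, rfl⟩
      rw [SetLike.mem_coe, Module.End.mem_eigenspace_iff] at hu ⊢
      rw [← Module.End.mul_apply, ← map_mul, ← mem_center_iff.1 hcg x, map_mul, Module.End.mul_apply,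
        hu, map_smul]
    · rintro _ ⟨u, hu, rfl⟩
      refine ⟨σ₂ u, ?_, rfl⟩
      rw [SetLike.mem_coe, Module.End.mem_eigenspace_iff] at hu ⊢
      have h1 := LinearMap.congr_fun (hcompat₂ g') u
      rw [Module.End.mul_apply, Module.End.mul_apply, show α g' = g' from hf, hu, map_smul] at h1
      exact h1.symm
  have htw : Shult.IsTwisted (center (U ⧸ N)) ρQ := by
    refine ⟨hscal, fun x y => ?_, fun x hx => ?_⟩
    · obtain ⟨c, hc⟩ := hscal _ (FpfAut.commutator_mem_center hg habel hQ y x)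
      refine ⟨c, ?_⟩
      rw [show ρQ y * ρQ x = ρQ ⁅y, x⁆ * (ρQ x * ρQ y) by
        rw [← map_mul, ← map_mul, ← map_mul]; congr 1; rw [commutatorElement_def]; group,
        hc, smul_mul_assoc, one_mul]
    · by_contra hh
      push Not at hh
      refine hx (mem_center_iff.2 fun y => ?_)
      have h1 : ρQ (y * x * (x * y)⁻¹) = 1 := by
        rw [map_mul, map_mul, hh y, ← map_mul, ← map_mul, mul_inv_cancel, map_one]
      exact mul_inv_eq_one.1 (hinj _ h1)
  have hne : (center (U ⧸ N)).index ≠ 1 := by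
    intro h1
    have h2 : ⁅(QuotientGroup.mk a : U ⧸ N), QuotientGroup.mk b⁆ = 1 :=
      commutatorElement_eq_one_iff_mul_comm.2 (mem_center_iff.1 (Subgroup.index_eq_one.1 h1 ▸ mem_top _) _)
    obtain ⟨u, hu⟩ := exists_ne (0 : T)
    refine hab u (hTS u.2) (fun e => hu (Subtype.ext e)) ?_
    have h3 : ρ₂ ⁅a, b⁆ = 1 := by
      refine MonoidHom.mem_ker.1 ((QuotientGroup.eq_one_iff _).1 ?_)
      rw [← h2]; rfl
    exact congrArg Subtype.val (LinearMap.congr_fun h3 u)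
  obtain ⟨n, hn⟩ := IsPGroup.iff_card.1 hQ
  obtain ⟨i, -, hi⟩ := (Nat.dvd_prime_pow Nat.prime_two).1 (hn ▸ (center (U ⧸ N)).index_dvd_card)
  obtain ⟨-, v, hv0, hv⟩ := eigen_of_index_ne_one htw hr σ₂ hσ₂r hσ₂ β hcompatQ hβr
    (fun z hz => (hcen z).1 hz)
    (fun x hx => (hcen x).2 (Shult.fixed_of_inv_mul_mem hr hr2.symm Nat.prime_two hQ hβr ((hcen _).1 hx)))
    (by
      rw [Ne, CharP.cast_eq_zero_iff k p]
      exact fun hd => hrp ((Nat.prime_dvd_prime_iff_eq hp hr).1 hd).symm)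
    (by rw [hi, Nat.cast_pow]; exact pow_ne_zero _ (by exact_mod_cast h2k)) hne hμr hμ
  exact ⟨v, hTS v.2, fun e => hv0 (Subtype.ext e), congrArg Subtype.val hv⟩

end Cfsg.Agent.Lib.HHS57
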