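import Cfsg.Agent.Lib.HHS57.Points
import Cfsg.Agent.Lib.SuzukiKernel.Main
import Mathlib.GroupTheory.SpecificGroups.Cyclic
import Mathlib.GroupTheory.PGroup

/-!
# Node B: the last configuration (helper42)

`G` is a Zassenhaus group on the cosets of `M`, against `2 ^ w + 1` being a prime not dividing `|G|`.
See `notes/coprime_fpf_sylow_nodes.md`.
-/

set_option autoImplicit false
set_option linter.style.haveILetI false
set_option linter.unusedSectionVars false

open scoped commutatorElement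

namespace Cfsg.Agent.Lib.HHS57

open MulAction

universe u

variable {G : Type u} [Group G] [Finite G] {M Z : Subgroup G} {w : ℕ}

local notation "o₁" => ((QuotientGroup.mk (1 : G)) : G ⧸ M)

namespace LastConfig

variable (h : LastConfig M Z w)

include h

theorem pts : Pts (zAt M Z) := h.toOnePoint.pts

theorem four_le : 4 ≤ Nat.card Z := by
  rw [h.card, show 4 = 2 ^ 2 from rfl]
  exact Nat.pow_le_pow_right (by omega) h.two_le

theorem Z_ne_bot : Z ≠ ⊥ := fun e => by
  have := h.four_le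
  rw [e, Subgroup.card_bot] at this
  omega

/-- Involutions fixing a point belong to it. -/
theorem invol_at {c : G ⧸ M} {x : G} (hx : x • c = c) (hxx : x * x = 1) : x ∈ zAt M Z c := by
  obtain ⟨k, rfl⟩ := QuotientGroup.mk_surjective c
  rw [mk_smul_eq_iff] at hx
  rw [h.mem_zAt]
  refine h.invol _ hx ?_
  calc k⁻¹ * x * k * (k⁻¹ * x * k) = k⁻¹ * (x * x) * k := by group
    _ = 1 := by rw [hxx, mul_one, inv_mul_cancel]

/-- Semiregularity at every point. -/
theorem semiregular_at {c : G ⧸ M} {a z : G} (ha : a • c = c) (hz : z ∈ zAt M Z c) (hz1 : z ≠ 1)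
    (haz : a * z = z * a) {z' : G} (hz' : z' ∈ zAt M Z c) : a * z' = z' * a := by
  obtain ⟨k, rfl⟩ := QuotientGroup.mk_surjective c
  rw [mk_smul_eq_iff] at ha
  rw [h.mem_zAt] at hz hz'
  have := h.semiregular _ ha _ hz (fun e => hz1 (by
    have e2 := congrArg (fun y => k * y * k⁻¹) e
    simpa [mul_assoc] using e2)) (by
      have e2 := congrArg (fun y => k⁻¹ * y * k) haz
      simpa [mul_assoc] using e2) _ hz'
  have e2 := congrArg (fun y => k * y * k⁻¹) this
  simpa [mul_assoc] using e2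

/-- Small centralisers at every point. -/
theorem small_at {c : G ⧸ M} {a g : G} (ha : a • c = c) (ha1 : a ≠ 1)
    (hc : ∀ z ∈ zAt M Z c, a * z = z * a) (hg : g * a = a * g) : g • c = c := by
  obtain ⟨k, rfl⟩ := QuotientGroup.mk_surjective c
  rw [mk_smul_eq_iff] at ha ⊢
  refine h.small _ ha (fun e => ha1 (by
    have e2 := congrArg (fun y => k * y * k⁻¹) e
    simpa [mul_assoc] using e2)) (fun z hz => ?_) _ (by
      have e2 := congrArg (fun y => k⁻¹ * y * k) hg
      simpa [mul_assoc] using e2)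
  have := hc (k * z * k⁻¹) ((h.mem_zAt _ _).2 (by simpa [mul_assoc] using hz))
  have e2 := congrArg (fun y => k⁻¹ * y * k) this
  simpa [mul_assoc] using e2

/-- An element centralising the subgroups of two points is trivial. -/
theorem eq_one_of_cen_two {c c' : G ⧸ M} (hne : c ≠ c') {a y : G} (ha : a • c = c)
    (hc : ∀ z ∈ zAt M Z c, a * z = z * a) (hy : y ∈ zAt M Z c') (hy1 : y ≠ 1)
    (hay : a * y = y * a) : a = 1 := by
  by_contra ha1
  exact hne (h.pts.one hy hy1 (h.small_at ha ha1 hc hay.symm))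

/-- Commutators of the stabiliser of a point centralise its subgroup. -/
theorem commutator_cen {c : G ⧸ M} {a b : G} (ha : a • c = c) (hb : b • c = c) {z : G}
    (hz : z ∈ zAt M Z c) : ⁅a, b⁆ * z = z * ⁅a, b⁆ := by
  obtain ⟨k, rfl⟩ := QuotientGroup.mk_surjective c
  rw [mk_smul_eq_iff] at ha hb
  rw [h.mem_zAt] at hz
  obtain ⟨γ, hγM, hγ⟩ := h.cyclicImage
  obtain ⟨i, hi⟩ := hγ _ ha
  obtain ⟨l, hl⟩ := hγ _ hb
  set A := k⁻¹ * a * k with hA
  set B := k⁻¹ * b * k with hB
  set x := k⁻¹ * z * k with hxdef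
  have key : ∀ x ∈ Z, ⁅A, B⁆ * x = x * ⁅A, B⁆ := by
    intro x hx
    have hx0 : (B * A)⁻¹ * x * (B * A) ∈ Z := by
      have := h.conjZ _ (inv_mem (mul_mem hb ha)) _ hx
      rwa [inv_inv] at this
    have key' : ∀ x ∈ Z, A * B * x * (A * B)⁻¹ = B * A * x * (B * A)⁻¹ := by
      intro x hx0
      calc A * B * x * (A * B)⁻¹ = A * (B * x * B⁻¹) * A⁻¹ := by group
        _ = γ ^ i * (B * x * B⁻¹) * (γ ^ i)⁻¹ := hi _ (h.conjZ _ hb _ hx0)
        _ = γ ^ i * (γ ^ l * x * (γ ^ l)⁻¹) * (γ ^ i)⁻¹ := by rw [hl _ hx0]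
        _ = γ ^ (i + l) * x * (γ ^ (i + l))⁻¹ := by rw [pow_add]; group
        _ = γ ^ l * (γ ^ i * x * (γ ^ i)⁻¹) * (γ ^ l)⁻¹ := by rw [add_comm, pow_add]; group
        _ = γ ^ l * (A * x * A⁻¹) * (γ ^ l)⁻¹ := by rw [hi _ hx0]
        _ = B * (A * x * A⁻¹) * B⁻¹ := (hl _ (h.conjZ _ ha _ hx0)).symm
        _ = B * A * x * (B * A)⁻¹ := by group
    have e : ⁅A, B⁆ * x * ⁅A, B⁆⁻¹ = x := by
      rw [commutatorElement_def]
      calc _ = A * B * ((B * A)⁻¹ * x * (B * A)) * (A * B)⁻¹ := by group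
        _ = _ := key' _ hx0
        _ = x := by group
    exact mul_inv_eq_iff_eq_mul.1 e
  have := key _ hz
  have e : ⁅A, B⁆ = k⁻¹ * ⁅a, b⁆ * k := by
    rw [commutatorElement_def, commutatorElement_def, hA, hB]; group
  rw [e] at this
  have e2 := congrArg (fun y => k * y * k⁻¹) this
  simpa [hxdef, mul_assoc] using e2

/-- Every involution fixes a point. -/
theorem exists_point {t : G} (ht : t * t = 1) (_ : t ≠ 1) : ∃ c : G ⧸ M, t ∈ zAt M Z c := by
  obtain ⟨z, hz, hz1⟩ := h.exists_ne_one h.Z_ne_bot o₁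
  have hzz := h.pts.sq hz
  by_cases hodd : Odd (orderOf (z * t))
  · obtain ⟨g, hg, -, -⟩ := exists_mover hzz ht hodd
    exact ⟨g • o₁, hg ▸ h.pts.equiv g hz⟩
  obtain ⟨j, hj1, hjj, hjz, hjt, -⟩ := exists_central hzz ht (Nat.not_odd_iff_even.1 hodd)
  have hj := h.invol_at (h.pts.fix_of_commute hz hz1 hjz) hjj
  exact ⟨o₁, h.invol_at (h.pts.fix_of_commute hj hj1 hjt.symm) ht⟩

/-! ### A pair of points `a ≠ b` -/

variable {a b : G ⧸ M}

/-- `z` and `y` are exchanged by a swapper. -/
theorem exists_swap (hab : a ≠ b) {z y : G} (hz : z ∈ zAt M Z a) (hz1 : z ≠ 1)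
    (hy : y ∈ zAt M Z b) (hy1 : y ≠ 1) : ∃ j : G, j * j = 1 ∧ j • a = b ∧ j * z * j = y := by
  obtain ⟨g, hg, hga, hgg, -⟩ := h.pts.exists_mover_pt hz hz1 hy hy1 hab
  refine ⟨g * z, hgg, by rw [mul_smul, h.pts.fix hz, hga], ?_⟩
  conv_rhs => rw [← hg]
  have hzz := h.pts.sq hz
  calc g * z * z * (g * z) = g * (z * z) * g * z := by group
    _ = g * g * z := by rw [hzz, mul_one]
    _ = g * z * g⁻¹ := by
      have : g * z * (g * z) = 1 := hgg
      calc g * g * z = g * (g * z) := by group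
        _ = g * (g * z)⁻¹ := by rw [inv_eq_of_mul_eq_one_right this]
        _ = g * (z⁻¹ * g⁻¹) := by rw [mul_inv_rev]
        _ = g * z * g⁻¹ := by rw [inv_eq_of_mul_eq_one_right hzz, mul_assoc]

theorem swap_back {j : G} (hj : j * j = 1) (hja : j • a = b) : j • b = a := by
  rw [← hja, ← mul_smul, hj, one_smul]

/-- A swapper is determined by one image. -/
theorem swap_unique (hab : a ≠ b) {j j' z : G} (hj : j * j = 1) (hja : j • a = b) (hj' : j' * j' = 1)
    (hja' : j' • a = b) (hz : z ∈ zAt M Z a) (hz1 : z ≠ 1) (he : j * z * j = j' * z * j') :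
    j = j' := by
  have hy : j * z * j ∈ zAt M Z b := by
    have := h.pts.equiv j hz
    rwa [hja, inv_eq_of_mul_eq_one_right hj] at this
  have hfa : (j' * j) • a = a := by rw [mul_smul, hja, h.swap_back hj' hja']
  have hfb : (j' * j) • b = b := by rw [mul_smul, h.swap_back hj hja, hja']
  have hcz : (j' * j) * z = z * (j' * j) := by
    calc j' * j * z = j' * (j * z * j) * j := by
          rw [mul_assoc j' (j * z * j), mul_assoc (j * z), hj, mul_one, mul_assoc]
      _ = (j' * j') * z * (j' * j) := by rw [he]; group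
      _ = z * (j' * j) := by rw [hj', one_mul]
  have hcy : (j' * j) * (j * z * j) = (j * z * j) * (j' * j) := by
    calc j' * j * (j * z * j) = j' * (j * j) * z * j := by group
      _ = j' * z * j' * (j' * j) := by
          rw [hj, mul_one, mul_assoc (j' * z) j' (j' * j), ← mul_assoc j' j' j, hj', one_mul]
      _ = _ := by rw [he]
  have := h.eq_one_of_cen_two hab hfa
    (fun z' hz' => h.semiregular_at hfa hz hz1 hcz hz') hy
    (fun e => hz1 (by
      have e2 := congrArg (fun y => j * y * j) e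
      simpa [mul_assoc, hj, ← mul_assoc j j] using e2)) hcy
  calc j = (j' * j') * j := by rw [hj', one_mul]
    _ = j' * (j' * j) := mul_assoc _ _ _
    _ = j' := by rw [this, mul_one]

/-- There are `q - 1` swappers. -/
theorem card_swap (hab : a ≠ b) :
    Nat.card {j : G // j * j = 1 ∧ j • a = b} + 1 = Nat.card Z := by
  classical
  obtain ⟨y, hy, hy1⟩ := h.exists_ne_one h.Z_ne_bot b
  have hmem : ∀ j : {j : G // j * j = 1 ∧ j • a = b},
      (j : G) * y * j ∈ zAt M Z a ∧ (j : G) * y * j ≠ 1 := by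
    rintro ⟨j, hj, hja⟩
    have := h.pts.equiv j hy
    rw [h.swap_back hj hja, inv_eq_of_mul_eq_one_right hj] at this
    refine ⟨this, fun e => hy1 ?_⟩
    have e2 := congrArg (fun y => j * y * j) e
    simpa [mul_assoc, hj, ← mul_assoc j j] using e2
  have hcz : Nat.card (zAt M Z a) = Nat.card Z := Subgroup.card_map_of_injective (MulEquiv.injective _)
  have e1 : Nat.card {j : G // j * j = 1 ∧ j • a = b} =
      Nat.card {z : zAt M Z a // z ≠ 1} := by
    refine Nat.card_eq_of_bijective (fun j => ⟨⟨_, (hmem j).1⟩, fun e => (hmem j).2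
      (congrArg Subtype.val e)⟩) ⟨?_, ?_⟩
    · rintro ⟨j, hj, hja⟩ ⟨j', hj', hja'⟩ e
      have e' : j * y * j = j' * y * j' := congrArg (fun x => ((x.1 : zAt M Z a) : G)) e
      refine Subtype.ext (h.swap_unique hab hj hja hj' hja' (hmem ⟨j, hj, hja⟩).1
        (hmem ⟨j, hj, hja⟩).2 ?_)
      calc j * (j * y * j) * j = (j * j) * y * (j * j) := by group
        _ = (j' * j') * y * (j' * j') := by rw [hj, hj']
        _ = j' * (j' * y * j') * j' := by group
        _ = j' * (j * y * j) * j' := by rw [e']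
    · rintro ⟨⟨z, hz⟩, hz1⟩
      obtain ⟨j, hj, hja, hjz⟩ := h.exists_swap hab hz (fun e => hz1 (Subtype.ext e)) hy hy1
      refine ⟨⟨j, hj, hja⟩, Subtype.ext (Subtype.ext ?_)⟩
      show j * y * j = z
      rw [← hjz]
      calc j * (j * z * j) * j = (j * j) * z * (j * j) := by group
        _ = z := by rw [hj, one_mul, mul_one]
  rw [e1, ← hcz, ← Nat.card_congr (Equiv.optionSubtypeNe (1 : zAt M Z a)), Finite.card_option]

theorem eq_one_of_sq (hab : a ≠ b) {k : G} (hka : k • a = a) (hkb : k • b = b) (hk : k * k = 1) :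
    k = 1 := by
  by_contra hk1
  exact hab (h.pts.one (h.invol_at hka hk) hk1 hkb).symm

theorem eq_one_of_sq_sq (hab : a ≠ b) {k : G} (hka : k • a = a) (hkb : k • b = b)
    (hk : k * k * (k * k) = 1) : k = 1 :=
  h.eq_one_of_sq hab hka hkb
    (h.eq_one_of_sq hab (by rw [mul_smul, hka, hka]) (by rw [mul_smul, hkb, hkb]) hk)

/-- The two-point stabilisers are abelian. -/
theorem pair_comm (hab : a ≠ b) {k k' : G} (hka : k • a = a) (hkb : k • b = b) (hka' : k' • a = a)
    (hkb' : k' • b = b) : k * k' = k' * k := by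
  obtain ⟨y, hy, hy1⟩ := h.exists_ne_one h.Z_ne_bot b
  have hf : ∀ {c : G ⧸ M} {x : G}, x • c = c → x⁻¹ • c = c := fun {c x} hx => by
    rw [inv_smul_eq_iff, hx]
  have e := h.eq_one_of_cen_two hab
    (a := ⁅k, k'⁆) (by rw [commutatorElement_def, mul_smul, mul_smul, mul_smul, hf hka', hf hka,
      hka', hka])
    (fun z hz => h.commutator_cen hka hka' hz) hy hy1 (h.commutator_cen hkb hkb' hy)
  rw [commutatorElement_def] at e
  calc k * k' = k * k' * k⁻¹ * k'⁻¹ * (k' * k) := by group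
    _ = k' * k := by rw [e, one_mul]

/-- A swapper inverts the two-point stabiliser. -/
theorem swap_inverts (hab : a ≠ b) {j k : G} (hj : j * j = 1) (hja : j • a = b) (hka : k • a = a)
    (hkb : k • b = b) : j * k * j = k⁻¹ := by
  classical
  have hjb := h.swap_back hj hja
  have hconj : ∀ {x : G}, x • a = a → x • b = b → (j * x * j) • a = a ∧ (j * x * j) • b = b :=
    fun {x} hxa hxb => ⟨by rw [mul_smul, mul_smul, hja, hxb, hjb],
      by rw [mul_smul, mul_smul, hjb, hxa, hja]⟩
  set e := j * k * j * k with he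
  have hea : e • a = a := by rw [he, mul_smul, hka, (hconj hka hkb).1]
  have heb : e • b = b := by rw [he, mul_smul, hkb, (hconj hka hkb).2]
  have hej : e * j = j * e := by
    have h1 := h.pair_comm hab (hconj hka hkb).1 (hconj hka hkb).2 hka hkb
    calc e * j = (j * k * j * k) * j := by rw [he]
      _ = j * ((j * j) * k * j * k * j) := by rw [hj, one_mul]; group
      _ = j * (j * ((j * k * j) * k) * j) := by group
      _ = j * (j * (k * (j * k * j)) * j) := by rw [h1]
      _ = j * (j * k * j * k * (j * j)) := by group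
      _ = j * e := by rw [hj, mul_one, he]
  suffices e = 1 by
    rw [he] at this
    exact eq_inv_of_mul_eq_one_left this
  by_contra he1
  have hj1 : j ≠ 1 := fun e' => hab (by rw [← hja, e', one_smul])
  obtain ⟨c, hjc⟩ := h.exists_point hj hj1
  have hec : e • c = c := h.pts.fix_of_commute hjc hj1 hej
  have hsub : ∀ j' : {j : G // j * j = 1 ∧ j • a = b}, (j' : G) = j := by
    rintro ⟨j', hj', hja'⟩
    have hma : (j * j') • a = a := by rw [mul_smul, hja', hjb]
    have hmb : (j * j') • b = b := by rw [mul_smul, h.swap_back hj' hja', hja]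
    have hej' : e * j' = j' * e := by
      have h1 : Commute e (j * (j * j')) :=
        Commute.mul_right (show Commute e j from hej) (h.pair_comm hab hea heb hma hmb)
      rw [← mul_assoc, hj, one_mul] at h1
      exact h1.eq
    have hc' := h.invol_at (h.small_at hec he1
      (fun z hz => h.semiregular_at hec hjc hj1 hej hz) hej'.symm) hj'
    have := h.eq_one_of_sq hab hma hmb (h.pts.sq (mul_mem hjc hc'))
    show j' = j
    calc j' = (j * j) * j' := by rw [hj, one_mul]
      _ = j * (j * j') := mul_assoc _ _ _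
      _ = j := by rw [this, mul_one]
  haveI : Subsingleton {j : G // j * j = 1 ∧ j • a = b} :=
    ⟨fun x y => Subtype.ext ((hsub x).trans (hsub y).symm)⟩
  have h1 : Nat.card {j : G // j * j = 1 ∧ j • a = b} ≤ 1 :=
    Finite.card_le_one_iff_subsingleton.2 inferInstance
  have := h.card_swap hab
  have := h.four_le
  omega

/-- The order of a two-point stabiliser. -/
theorem card_pair (hab : a ≠ b) :
    Nat.card ↥(stabilizer G a ⊓ stabilizer G b) + 1 = Nat.card Z := by
  obtain ⟨z, hz, hz1⟩ := h.exists_ne_one h.Z_ne_bot a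
  obtain ⟨y, hy, hy1⟩ := h.exists_ne_one h.Z_ne_bot b
  obtain ⟨j, hj, hja, -⟩ := h.exists_swap hab hz hz1 hy hy1
  rw [← h.card_swap hab]
  congr 1
  refine Nat.card_eq_of_bijective
    (fun k : ↥(stabilizer G a ⊓ stabilizer G b) => (⟨j * k, ?_, ?_⟩ : {j : G // j * j = 1 ∧ j • a = b}))
    ⟨?_, ?_⟩
  · have := h.swap_inverts hab hj hja (mem_stabilizer_iff.1 k.2.1) (mem_stabilizer_iff.1 k.2.2)
    rw [← mul_assoc, this, inv_mul_cancel]
  · rw [mul_smul, mem_stabilizer_iff.1 k.2.1, hja]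
  · intro k k' e
    exact Subtype.ext (mul_left_cancel (congrArg Subtype.val e))
  · rintro ⟨j', hj', hja'⟩
    refine ⟨⟨j * j', ⟨mem_stabilizer_iff.2 ?_, mem_stabilizer_iff.2 ?_⟩⟩, Subtype.ext ?_⟩
    · rw [mul_smul, hja', h.swap_back hj hja]
    · rw [mul_smul, h.swap_back hj' hja', hja]
    · show j * (j * j') = j'
      rw [← mul_assoc, hj, one_mul]

/-- The two-point stabiliser is regular on the involutions of either point. -/
theorem pair_regular (hab : a ≠ b) {z : G} (hz : z ∈ zAt M Z a) (hz1 : z ≠ 1) :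
    (∀ z' ∈ zAt M Z a, z' ≠ 1 → ∃ k : G, k • a = a ∧ k • b = b ∧ k * z * k⁻¹ = z') ∧
      ∀ k : G, k • a = a → k • b = b → k * z = z * k → k = 1 := by
  classical
  obtain ⟨y, hy, hy1⟩ := h.exists_ne_one h.Z_ne_bot b
  have hex : ∀ z' ∈ zAt M Z a, z' ≠ 1 →
      ∃ k : G, k • a = a ∧ k • b = b ∧ k * z * k⁻¹ = z' := by
    intro z' hz' hz1'
    obtain ⟨j, hj, hja, hjz⟩ := h.exists_swap hab hz hz1 hy hy1
    obtain ⟨j', hj', hja', hjz'⟩ := h.exists_swap hab hz' hz1' hy hy1
    refine ⟨j' * j, by rw [mul_smul, hja, h.swap_back hj' hja'],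
      by rw [mul_smul, h.swap_back hj hja, hja'], ?_⟩
    rw [mul_inv_rev, inv_eq_of_mul_eq_one_right hj, inv_eq_of_mul_eq_one_right hj']
    calc j' * j * z * (j * j') = j' * (j * z * j) * j' := by group
      _ = j' * (j' * z' * j') * j' := by rw [hjz, hjz']
      _ = (j' * j') * z' * (j' * j') := by group
      _ = z' := by rw [hj', one_mul, mul_one]
  refine ⟨hex, fun k hka hkb hkz => ?_⟩
  have hcz : Nat.card (zAt M Z a) = Nat.card Z := Subgroup.card_map_of_injective (MulEquiv.injective _)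
  let f : ↥(stabilizer G a ⊓ stabilizer G b) → {z' : zAt M Z a // z' ≠ 1} := fun k =>
    ⟨⟨(k : G) * z * (k : G)⁻¹, by
      have := h.pts.equiv (k : G) hz
      rwa [mem_stabilizer_iff.1 k.2.1] at this⟩,
      fun e => hz1 (conj_eq_one_iff.1 (congrArg Subtype.val e))⟩
  have hsurj : Function.Surjective f := by
    rintro ⟨⟨z', hz'⟩, hne⟩
    obtain ⟨k, h1, h2, h3⟩ := hex z' hz' (fun e => hne (Subtype.ext e))
    exact ⟨⟨k, mem_stabilizer_iff.2 h1, mem_stabilizer_iff.2 h2⟩, Subtype.ext (Subtype.ext h3)⟩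
  have hle : Nat.card ↥(stabilizer G a ⊓ stabilizer G b) ≤ Nat.card {z' : zAt M Z a // z' ≠ 1} := by
    have h1 := h.card_pair hab
    rw [← hcz, ← Nat.card_congr (Equiv.optionSubtypeNe (1 : zAt M Z a)), Finite.card_option] at h1
    omega
  have hinj := (Function.Surjective.bijective_of_nat_card_le hsurj hle).1
  have e : f ⟨k, mem_stabilizer_iff.2 hka, mem_stabilizer_iff.2 hkb⟩ = f 1 :=
    Subtype.ext (Subtype.ext (by
      show k * z * k⁻¹ = 1 * z * 1⁻¹
      rw [hkz]; group))
  exact congrArg Subtype.val (hinj e)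

/-- A nontrivial element fixes at most two points. -/
theorem fix_two (hab : a ≠ b) {c : G ⧸ M} (hac : a ≠ c) (hbc : b ≠ c) {k : G} (hka : k • a = a)
    (hkb : k • b = b) (hkc : k • c = c) : k = 1 := by
  classical
  by_contra hk1
  obtain ⟨za, hza, hza1⟩ := h.exists_ne_one h.Z_ne_bot a
  obtain ⟨zb, hzb, hzb1⟩ := h.exists_ne_one h.Z_ne_bot b
  obtain ⟨zc, hzc, hzc1⟩ := h.exists_ne_one h.Z_ne_bot c
  obtain ⟨j, hj, hja, -⟩ := h.exists_swap hab hza hza1 hzb hzb1
  obtain ⟨j', hj', hja', -⟩ := h.exists_swap hac hza hza1 hzc hzc1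
  obtain ⟨j'', hj'', hjb'', -⟩ := h.exists_swap hbc hzb hzb1 hzc hzc1
  have hji := h.swap_inverts hab hj hja hka hkb
  have hji' := h.swap_inverts hac hj' hja' hka hkc
  have hji'' := h.swap_inverts hbc hj'' hjb'' hkb hkc
  have hjb := h.swap_back hj hja
  have hj1 : j ≠ 1 := fun e' => hab (by rw [← hja, e', one_smul])
  obtain ⟨d, hjd⟩ := h.exists_point hj hj1
  have hfixd : k • d ≠ d := by
    intro hkd
    refine hk1 (h.eq_one_of_sq_sq hab hka hkb ?_)
    have hm : j * (k * j * k⁻¹) ∈ zAt M Z d := by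
      have := h.pts.equiv k hjd
      rw [hkd] at this
      exact mul_mem hjd this
    have e : j * (k * j * k⁻¹) = (k * k)⁻¹ := by
      rw [mul_inv_rev, ← mul_assoc, ← mul_assoc, hji]
    rw [e] at hm
    have := h.pts.sq hm
    rw [← mul_inv_rev] at this
    exact inv_eq_one.1 this
  set C := Subgroup.centralizer ({k} : Set G) with hC
  have hmemC : ∀ {x : G}, x ∈ C ↔ x * k = k * x := fun {x} => Subgroup.mem_centralizer_singleton_iff
  have hfree : ∀ x ∈ C, x * j = j * x → x = 1 := by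
    intro x hx hxj
    by_contra hx1
    have hxd := h.pts.fix_of_commute hjd hj1 hxj
    exact hfixd (h.small_at hxd hx1 (fun z hz => h.semiregular_at hxd hjd hj1 hxj hz)
      (hmemC.1 hx).symm)
  have hCconj : ∀ x ∈ C, j * x * j ∈ C := by
    intro x hx
    rw [hmemC] at hx ⊢
    have h1 : x * k⁻¹ = k⁻¹ * x := (Commute.inv_right (show Commute x k from hx)).eq
    have h2 : j * k⁻¹ * j = k := by
      rw [← hji]
      calc j * (j * k * j) * j = (j * j) * k * (j * j) := by group
        _ = k := by rw [hj, one_mul, mul_one]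
    calc j * x * j * k = j * x * j * (j * k⁻¹ * j) := by rw [h2]
      _ = j * x * (j * j) * k⁻¹ * j := by group
      _ = j * (x * k⁻¹) * j := by rw [hj, mul_one, mul_assoc j x]
      _ = j * (k⁻¹ * x) * j := by rw [h1]
      _ = j * k⁻¹ * (j * j) * x * j := by rw [hj, mul_one, mul_assoc j k⁻¹]
      _ = (j * k⁻¹ * j) * (j * x * j) := by group
      _ = k * (j * x * j) := by rw [h2]
  -- `j` inverts `C`
  have hinv : ∀ x ∈ C, j * x * j = x⁻¹ := by
    let φ : C → C := fun x => ⟨(x : G)⁻¹ * (j * x * j), mul_mem (inv_mem x.2) (hCconj _ x.2)⟩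
    have hinj : Function.Injective φ := by
      intro x y e
      have e' : (x : G)⁻¹ * (j * x * j) = (y : G)⁻¹ * (j * y * j) := congrArg Subtype.val e
      refine Subtype.ext (mul_inv_eq_one.1 (hfree _ (mul_mem y.2 (inv_mem x.2)) ?_)).symm
      have e2 := congrArg (fun t => (y : G) * t * j * (x : G)⁻¹) e'
      simpa [mul_assoc, hj, ← mul_assoc j j] using e2
    intro x hx
    obtain ⟨y, hy⟩ := Finite.injective_iff_surjective.1 hinj ⟨x, hx⟩
    have e : (y : G)⁻¹ * (j * y * j) = x := congrArg Subtype.val hy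
    rw [← e, mul_inv_rev, inv_inv, mul_inv_rev, mul_inv_rev, inv_eq_of_mul_eq_one_right hj]
    calc j * ((y : G)⁻¹ * (j * y * j)) * j = j * (y : G)⁻¹ * j * y * (j * j) := by group
      _ = _ := by rw [hj, mul_one]; group
  have hjj : ∀ {s : G}, s * k * s = k⁻¹ → s * s = 1 → j * s ∈ C := by
    intro s hs hss
    rw [hmemC]
    have hs' : s * k⁻¹ * s = k := by
      rw [← hs]
      calc s * (s * k * s) * s = (s * s) * k * (s * s) := by group
        _ = k := by rw [hss, one_mul, mul_one]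
    calc j * s * k = j * (s * k * s) * s := by
          rw [mul_assoc j (s * k * s) s, mul_assoc (s * k) s s, hss, mul_one, mul_assoc]
      _ = j * k⁻¹ * (j * j) * s := by rw [hs, hj, mul_one]
      _ = (j * k⁻¹ * j) * (j * s) := by group
      _ = k * (j * s) := by
          rw [show j * k⁻¹ * j = k by
            rw [← hji]
            calc j * (j * k * j) * j = (j * j) * k * (j * j) := by group
              _ = k := by rw [hj, one_mul, mul_one]]
  -- `A ∈ C` maps `a` to `b`
  set A := (j * j') * (j * j'')⁻¹ with hA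
  have hAC : A ∈ C := mul_mem (hjj hji' hj') (inv_mem (hjj hji'' hj''))
  have hAa : A • a = b := by
    rw [hA, mul_smul, mul_inv_rev, inv_eq_of_mul_eq_one_right hj, inv_eq_of_mul_eq_one_right hj'',
      mul_smul, mul_smul, hja, hjb'', h.swap_back hj' hja', hja]
  -- a square root of `A`
  have hodd : Odd (Nat.card C) := by
    rw [← Nat.not_even_iff_odd, even_iff_two_dvd]
    intro h2
    haveI := Fact.mk Nat.prime_two
    obtain ⟨t, ht⟩ := exists_prime_orderOf_dvd_card' 2 h2
    have htt : (t : G) * t = 1 := by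
      have := congrArg Subtype.val (pow_orderOf_eq_one t)
      rwa [ht, pow_two] at this
    have e := hinv _ t.2
    rw [inv_eq_of_mul_eq_one_right htt] at e
    have hcomm : (t : G) * j = j * t := by
      calc (t : G) * j = (j * t * j) * j := by rw [e]
        _ = j * t := by rw [mul_assoc (j * (t : G)), hj, mul_one]
    have := hfree _ t.2 hcomm
    rw [show t = 1 from Subtype.ext this, orderOf_one] at ht
    omega
  obtain ⟨i, hi⟩ := hodd
  set B := A ^ (i + 1) with hB
  have hBB : B * B = A := by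
    rw [hB, ← pow_add, show i + 1 + (i + 1) = (2 * i + 1) + 1 by ring, pow_succ, ← hi]
    rw [show A ^ Nat.card C = ((⟨A, hAC⟩ ^ Nat.card C : C) : G) from rfl, pow_card_eq_one',
      OneMemClass.coe_one, one_mul]
  have hBC : B ∈ C := pow_mem hAC _
  have hjB : j • (B • a) = B • a := by
    rw [← mul_smul, show j * B = (j * B * j) * j by rw [mul_assoc (j * B), hj, mul_one],
      hinv _ hBC, mul_smul, hja, ← hAa, ← mul_smul, ← hBB, inv_mul_cancel_left]
  have hd : B • a = d := h.pts.one hjd hj1 hjB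
  apply hfixd
  rw [← hd, ← mul_smul, ← hmemC.1 hBC, mul_smul, hka]

end LastConfig

variable (h : LastConfig M Z w)

include h

/-- Node B: the last configuration is impossible. -/
theorem last_false : False := by
  classical
  have hP := h.pts
  set o : G ⧸ M := o₁ with ho
  obtain ⟨u, hu⟩ := h.exists_ne
  have hou : o ≠ u := Ne.symm hu
  obtain ⟨z, hz, hz1⟩ := h.exists_ne_one h.Z_ne_bot o
  have hzZ := (h.mem_zAt_one z).1 hz
  have hq := h.four_le
  -- the kernel
  set U : Subgroup G := M ⊓ Subgroup.centralizer (Z : Set G) with hU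
  have hUo : ∀ {x : G}, x ∈ U → x • o = o := fun {x} hx => (fix_one_iff x).2 hx.1
  have hUcen : ∀ {x : G}, x ∈ U → x * z = z * x := fun {x} hx =>
    (Subgroup.mem_centralizer_iff.1 hx.2 z hzZ).symm
  have hUmem : ∀ {x : G}, x • o = o → x * z = z * x → x ∈ U := by
    intro x hxo hxz
    refine ⟨(fix_one_iff x).1 hxo, Subgroup.mem_centralizer_iff.2 fun z' hz' => ?_⟩
    exact (h.semiregular_at hxo hz hz1 hxz ((h.mem_zAt_one z').2 hz')).symm
  have hUconj : ∀ g : G, g • o = o → ∀ x ∈ U, g * x * g⁻¹ ∈ U := by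
    intro g hg x hx
    have hgM := (fix_one_iff g).1 hg
    refine Subgroup.mem_inf.2 ⟨M.mul_mem (M.mul_mem hgM hx.1) (M.inv_mem hgM),
      Subgroup.mem_centralizer_iff.2 fun z' hz' => ?_⟩
    have h1 : g⁻¹ * z' * g ∈ Z := by
      have := h.conjZ _ (inv_mem hgM) z' hz'
      rwa [inv_inv] at this
    have h2 := Subgroup.mem_centralizer_iff.1 hx.2 _ h1
    calc z' * (g * x * g⁻¹) = g * ((g⁻¹ * z' * g) * x) * g⁻¹ := by group
      _ = g * (x * (g⁻¹ * z' * g)) * g⁻¹ := by rw [h2]
      _ = g * x * g⁻¹ * z' := by group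
  have hfree : ∀ x ∈ U, ∀ c : G ⧸ M, c ≠ o → x • c = c → x = 1 := fun x hx c hc hxc =>
    (h.pair_regular (Ne.symm hc) hz hz1).2 x (hUo hx) hxc (hUcen hx)
  have hKcard := h.card_pair hou
  set D := stabilizer G o ⊓ stabilizer G u with hD
  obtain ⟨k₀, hk₀, hk₀1⟩ : ∃ k ∈ D, k ≠ 1 := by
    by_contra! hall
    have : D = ⊥ := (Subgroup.eq_bot_iff_forall _).2 hall
    rw [this, Subgroup.card_bot] at hKcard
    omega
  have hk₀o : k₀ • o = o := mem_stabilizer_iff.1 hk₀.1
  have hk₀u : k₀ • u = u := mem_stabilizer_iff.1 hk₀.2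
  have hCU : ∀ x ∈ U, x * k₀ = k₀ * x → x = 1 := by
    intro x hx hxk
    by_contra hx1
    have hxu : x • u ≠ o := fun e => hou.symm (MulAction.injective x (e.trans (hUo hx).symm))
    have hxu' : x • u ≠ u := fun e => hx1 (hfree x hx u hu e)
    exact hk₀1 (h.fix_two hou (Ne.symm hxu) (Ne.symm hxu') hk₀o hk₀u
      (by rw [← mul_smul, ← hxk, mul_smul, hk₀u]))
  have hreg : ∀ c : G ⧸ M, c ≠ o → ∃! x : U, (x : G) • u = c := by
    intro c hc
    have hk0z : k₀ * z * k₀⁻¹ ∈ zAt M Z o := by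
      have := hP.equiv k₀ hz; rwa [hk₀o] at this
    obtain ⟨k', hk'o, hk'c, hk'z⟩ := (h.pair_regular (Ne.symm hc) hz hz1).1 _ hk0z
      (fun e => hz1 (conj_eq_one_iff.1 e))
    have ha0 : k' * k₀⁻¹ ∈ U := by
      refine hUmem (by rw [mul_smul, inv_smul_eq_iff.2 hk₀o.symm, hk'o]) ?_
      have hmem : k₀⁻¹ * k' ∈ U := by
        refine hUmem (by rw [mul_smul, hk'o, inv_smul_eq_iff.2 hk₀o.symm]) ?_
        have e2 := congrArg (fun y => k₀⁻¹ * y * k') hk'z
        simpa [mul_assoc] using e2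
      have := hUcen (hUconj k₀ hk₀o _ hmem)
      rwa [show k₀ * (k₀⁻¹ * k') * k₀⁻¹ = k' * k₀⁻¹ by group] at this
    let f : U → U := fun x => ⟨(x : G) * (k₀ * (x : G)⁻¹ * k₀⁻¹),
      mul_mem x.2 (hUconj k₀ hk₀o _ (inv_mem x.2))⟩
    have hinj : Function.Injective f := by
      intro x y e
      have e' : (x : G) * (k₀ * (x : G)⁻¹ * k₀⁻¹) = (y : G) * (k₀ * (y : G)⁻¹ * k₀⁻¹) :=
        congrArg Subtype.val e
      refine Subtype.ext (inv_mul_eq_one.1 (hCU _ (mul_mem (inv_mem y.2) x.2) ?_)).symm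
      have e2 := congrArg (fun t => (y : G)⁻¹ * t * k₀ * x) e'
      simpa [mul_assoc] using e2
    obtain ⟨x, hx⟩ := Finite.injective_iff_surjective.1 hinj ⟨_, ha0⟩
    have hxk : (x : G) * k₀ * (x : G)⁻¹ = k' := by
      have e : (x : G) * (k₀ * (x : G)⁻¹ * k₀⁻¹) = k' * k₀⁻¹ := congrArg Subtype.val hx
      have e2 := congrArg (fun t => t * k₀) e
      simpa [mul_assoc] using e2
    have hxc : (x : G) • u = c := by
      by_contra hne
      have hxo : (x : G) • u ≠ o := fun e =>
        hou.symm (MulAction.injective (x : G) (e.trans (hUo x.2).symm))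
      have hfix : k' • (x : G) • u = (x : G) • u := by
        rw [← hxk, mul_smul, mul_smul, inv_smul_smul, hk₀u]
      have := h.fix_two (Ne.symm hc) (Ne.symm hxo) (Ne.symm hne) hk'o hk'c hfix
      rw [← hxk] at this
      exact hk₀1 (conj_eq_one_iff.1 this)
    refine ⟨x, hxc, fun y (hy : (y : G) • u = c) => Subtype.ext ?_⟩
    have := hfree _ (mul_mem (inv_mem x.2) y.2) u hu (by rw [mul_smul, hy, ← hxc, inv_smul_smul])
    exact (inv_mul_eq_one.1 this).symm
  -- Zassenhaus
  have htwo : ∀ x y : G ⧸ M, x ≠ y → ∃ g : G, g • o = x ∧ g • u = y := by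
    intro x y hxy
    obtain ⟨g, hg⟩ := MulAction.exists_smul_eq G o x
    obtain ⟨a, ha, -⟩ := hreg (g⁻¹ • y) (fun e => hxy (by rw [← hg, ← e, smul_inv_smul]))
    exact ⟨g * a, by rw [mul_smul, hUo a.2, hg], by rw [mul_smul, ha, smul_inv_smul]⟩
  have hthree : ∀ g : G, ∀ a b c : G ⧸ M, a ≠ b → b ≠ c → a ≠ c →
      g • a = a → g • b = b → g • c = c → g = 1 := fun g a b c hab hbc hac ha hb hc =>
    h.fix_two hab hac hbc ha hb hc
  obtain ⟨z', hz', hz1', hzz'⟩ : ∃ z' ∈ zAt M Z o, z' ≠ 1 ∧ z' ≠ z := by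
    obtain ⟨g, hgo, hgz⟩ : ∃ g : G, g ∈ D ∧ g * z * g⁻¹ ≠ z := ⟨k₀, hk₀, fun e =>
      hk₀1 ((h.pair_regular hou hz hz1).2 k₀ hk₀o hk₀u (mul_inv_eq_iff_eq_mul.1 e))⟩
    refine ⟨g * z * g⁻¹, ?_, fun e => hz1 (conj_eq_one_iff.1 e), hgz⟩
    have := hP.equiv g hz; rwa [mem_stabilizer_iff.1 hgo.1] at this
  have hthird : z • u ≠ o ∧ z • u ≠ u := by
    refine ⟨fun e => hou.symm (MulAction.injective z (e.trans (hP.fix hz).symm)), fun e => ?_⟩
    exact hu (hP.one hz hz1 e)
  have hZas : Cfsg.IsZassenhausGroup G (G ⧸ M) := by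
    refine ⟨⟨fun {g g'} hgg => ?_⟩, ?_, hthree, ⟨k₀, hk₀1, o, u, hou, hk₀o, hk₀u⟩, ?_⟩
    · refine inv_mul_eq_one.1 (hthree (g⁻¹ * g') o u (z • u) hou hthird.2.symm hthird.1.symm
        ?_ ?_ ?_) <;> rw [mul_smul, inv_smul_eq_iff, hgg]
    · rw [MulAction.is_two_pretransitive_iff]
      intro a b c d hab hcd
      obtain ⟨g, hga, hgb⟩ := htwo a b hab
      obtain ⟨g', hgc, hgd⟩ := htwo c d hcd
      exact ⟨g' * g⁻¹, by rw [mul_smul, ← hga, inv_smul_smul, hgc],
        by rw [mul_smul, ← hgb, inv_smul_smul, hgd]⟩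
    · intro N hN htr
      by_contra! hall
      have hNo : ∀ y ∈ N, y • o = o → y = 1 := fun y hy e =>
        congrArg Subtype.val (Subgroup.mem_bot.1 ((hall o).le
          (show (⟨y, hy⟩ : N) ∈ stabilizer N o from e)))
      have hinv : ∀ x ∈ zAt M Z o, x ≠ 1 → ∀ y ∈ N, x * y * x = y⁻¹ := by
        intro x hx hx1
        have hxx := hP.sq hx
        have hxi : x⁻¹ = x := inv_eq_of_mul_eq_one_right hxx
        let φ : N → N := fun y => ⟨(y : G)⁻¹ * (x * y * x), mul_mem (inv_mem y.2) (by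
          have := hN.conj_mem _ y.2 x; rwa [hxi] at this)⟩
        have hinj : Function.Injective φ := by
          intro y y' e
          have e' : (y : G)⁻¹ * (x * y * x) = (y' : G)⁻¹ * (x * y' * x) := congrArg Subtype.val e
          refine Subtype.ext (mul_inv_eq_one.1 (hNo _ (mul_mem y'.2 (inv_mem y.2))
            (hP.fix_of_commute hx hx1 ?_))).symm
          have e2 := congrArg (fun t => (y' : G) * t * x * (y : G)⁻¹) e'
          simpa [mul_assoc, hxx, ← mul_assoc x x] using e2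
        intro y hy
        obtain ⟨v, hv⟩ := Finite.injective_iff_surjective.1 hinj ⟨y, hy⟩
        have e : (v : G)⁻¹ * (x * v * x) = y := congrArg Subtype.val hv
        rw [← e, mul_inv_rev, inv_inv, mul_inv_rev, mul_inv_rev, hxi]
        calc x * ((v : G)⁻¹ * (x * v * x)) * x = x * (v : G)⁻¹ * x * v * (x * x) := by group
          _ = _ := by rw [hxx, mul_one]; group
      obtain ⟨⟨y, hy⟩, hyu⟩ := htr.exists_smul_eq o u
      have hyu' : y • o = u := hyu
      have hcomm : y * (z * z') = (z * z') * y := by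
        have h1 := hinv z hz hz1 y hy
        have h2 := hinv z' hz' hz1' _ (inv_mem hy)
        rw [inv_inv] at h2
        calc y * (z * z') = (z * z) * y * z * z' := by rw [hP.sq hz, one_mul, mul_assoc]
          _ = z * (z * y * z) * z' := by group
          _ = z * (z' * z') * y⁻¹ * z' := by rw [h1, hP.sq hz', mul_one]
          _ = z * z' * (z' * y⁻¹ * z') := by group
          _ = z * z' * y := by rw [h2]
      have := hP.fix_of_commute (mul_mem hz hz') (fun e => hzz' (by
        rw [eq_inv_of_mul_eq_one_right e, inv_eq_of_mul_eq_one_right (hP.sq hz)])) hcomm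
      exact hu (hyu'.symm.trans this)
  have hReg : Zassenhaus.RegKernel o u U :=
    { le := fun x hx => mem_stabilizer_iff.2 (hUo hx)
      conj := hUconj
      reg := hreg }
  have hodd : Odd (Nat.card (G ⧸ M)) := by
    haveI := Fact.mk Nat.prime_two
    have hzp : IsPGroup 2 (Subgroup.zpowers z) := IsPGroup.of_card (n := 1) (by
      rw [Nat.card_zpowers, pow_one, orderOf_eq_prime (by rw [pow_two, hP.sq hz]) hz1])
    have hmod := hzp.card_modEq_card_fixedPoints (G ⧸ M)
    have hone : MulAction.fixedPoints (Subgroup.zpowers z) (G ⧸ M) = {o} := by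
      ext c
      refine ⟨fun hc => hP.one hz hz1 (hc ⟨z, Subgroup.mem_zpowers z⟩), ?_⟩
      rintro rfl ⟨g, i, rfl⟩
      show (z ^ i) • o = o
      exact mem_stabilizer_iff.1 (zpow_mem (mem_stabilizer_iff.2 (hP.fix hz)) i)
    rw [hone, Nat.card_coe_set_eq, Set.ncard_singleton] at hmod
    rw [Nat.odd_iff]
    exact hmod
  rcases Zassenhaus.odd_degree hZas hou hReg hodd with hcase | ⟨hU2, hna, -⟩
  · have hG := Zassenhaus.RegKernel.card_group hZas hou hReg
    have h1 := Zassenhaus.RegKernel.card_add_one hou hReg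
    rw [← hD] at hG hcase
    have h2 : Nat.card U = Nat.card Z := by omega
    rw [← h1, h2, h.card] at hG
    exact h.not_dvd ⟨_, hG⟩
  · have hne : ∃ u v : U, u * v ≠ v * u := hna
    have hcyc : IsCyclic ↥(stabilizer G o ⊓ stabilizer G u) := by
      obtain ⟨γ, hγM, hγ⟩ := h.cyclicImage
      haveI hZn : (Z.subgroupOf M).Normal :=
        ⟨fun x hx m => h.conjZ _ m.2 _ hx⟩
      let ψ : M →* MulAut ↥(Z.subgroupOf M) := MulAut.conjNormal
      have hval : ∀ (m : M) (x : Z.subgroupOf M),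
          (((ψ m x : Z.subgroupOf M) : M) : G) = (m : G) * ((x : M) : G) * (m : G)⁻¹ := fun m x => by
        simp [ψ, MulAut.conjNormal_apply]
      let φ : ↥(stabilizer G o ⊓ stabilizer G u) →* MulAut ↥(Z.subgroupOf M) :=
        ψ.comp (Subgroup.inclusion (fun x hx => (fix_one_iff x).1 (mem_stabilizer_iff.1 hx.1)))
      have hrange : ∀ k, φ k ∈ Subgroup.zpowers (ψ ⟨γ, hγM⟩) := by
        intro k
        obtain ⟨i, hi⟩ := hγ (k : G) ((fix_one_iff _).1 (mem_stabilizer_iff.1 k.2.1))
        refine ⟨(i : ℤ), ?_⟩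
        show ψ ⟨γ, hγM⟩ ^ (i : ℤ) = φ k
        rw [zpow_natCast, ← map_pow]
        refine MulEquiv.ext fun x => Subtype.ext (Subtype.ext ?_)
        rw [hval, SubmonoidClass.coe_pow]
        show _ = (((ψ _ x : Z.subgroupOf M) : M) : G)
        rw [hval]
        exact (hi _ x.2).symm
      have hinj : Function.Injective φ := by
        rw [injective_iff_map_eq_one]
        intro k hk
        refine Subtype.ext ((h.pair_regular hou hz hz1).2 k (mem_stabilizer_iff.1 k.2.1)
          (mem_stabilizer_iff.1 k.2.2) ?_)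
        have e : ((((φ k) ⟨⟨z, h.leM hzZ⟩, hzZ⟩ : Z.subgroupOf M) : M) : G) = z := by
          rw [hk]; rfl
        have e' : (k : G) * z * (k : G)⁻¹ = z := (hval _ _).symm.trans e
        exact mul_inv_eq_iff_eq_mul.1 e'
      exact isCyclic_of_injective (φ.codRestrict _ hrange) fun x y e =>
        hinj (congrArg Subtype.val e)
    obtain ⟨k, hk, hk1, -, hd, -⟩ := SuzukiKernel.structure_thm hZas hou hReg hU2 hne hcyc
    rw [← hD] at hd
    have hpow : 2 ^ k = 2 ^ w := by
      have := Nat.one_le_two_pow (n := k)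
      rw [← h.card]
      omega
    obtain rfl : k = w := Nat.pow_right_injective (le_refl 2) hpow
    have h3 : 3 ∣ 2 ^ k + 1 := by
      obtain ⟨i, rfl⟩ := hk
      have := Odd.nat_add_dvd_pow_add_pow 2 1 (show Odd (2 * i + 1) from ⟨i, rfl⟩)
      simpa using this
    have := (Nat.prime_dvd_prime_iff_eq Nat.prime_three h.prime).1 h3
    have h4 : 2 ^ 2 ≤ 2 ^ k := Nat.pow_le_pow_right (by omega) h.two_le
    omega

end Cfsg.Agent.Lib.HHS57
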