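import Cfsg.Agent.Lib.HHS57.ExactOne

/-!
# No fixed 2-element moves `gD`: a fixed class (node I, I6; helper42)

With three patterns and three layers the orbit sum of a class in two radicals is fixed.  With at least
eight classes there is an invariant pattern with a line as radical (an occurring one, or by the cube
identity), on whose quotient every fixed element is an isometry.
-/

set_option autoImplicit false
set_option linter.style.haveILetI false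
set_option linter.unusedSectionVars false
set_option linter.unusedVariables false

namespace Cfsg.Agent.Lib.HHS57

open Cfsg Cfsg.Agent.Lib
open Subgroup
open scoped commutatorElement

universe u

variable {H : Type u} [Group H] [Finite H] {p r : ℕ} {α : MulAut H} {V : Type u} [CommGroup V]
  [Finite V] {ψ : H →* MulAut V} {e : MulAut V}
  (h : Min p r α ψ e) (T : Sylow 2 H) (hT : Stb α (T : Subgroup H))

include h hT

/-- An isometry of a form of index `2 ^ (2 m)` is trivial modulo its radical. -/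
theorem Min.trivial_mod_form {m : ℕ} (hm : r = 2 ^ m + 1) {K R : Subgroup H} (hKZ : K ≤ zGrp α T)
    (hK2 : K.relIndex (zGrp α T) = 2) (hmR : ∀ d, d ∈ R ↔ d ∈ rad α T K) (hR : zGrp α T ≤ R)
    (hsR : Stb α R) (hiR : R.relIndex (dGrp α T) = 2 ^ (2 * m)) {c : H} (hc : c ∈ mGrp α T)
    (hcf : α c = c) (hfix : ∀ z ∈ zGrp α T, chiK K (c * z * c⁻¹) = chiK K z) :
    ∀ d ∈ dGrp α T, c * d * c⁻¹ * d⁻¹ ∈ R := by
  have hR' : R ≤ dGrp α T := fun d hd => ((hmR d).1 hd).1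
  obtain ⟨W, _, _, a, π, hs, hadd, hker, ha, hmod, hcard⟩ := h.exists_mod T hT hm hR hR' hsR
  obtain ⟨f, hf, hfv⟩ := h.exists_patForm T hT hs hadd hker ha hKZ hK2 (fun d hd => (hmR d).1 hd)
  rw [hiR] at hcard
  have hcD : ∀ d ∈ dGrp α T, c * d * c⁻¹ ∈ dGrp α T := fun d hd =>
    (Subgroup.mem_normalizer_iff.1 hc d).1 hd
  have hcRv : ∀ x y, x ∈ dGrp α T → y ∈ dGrp α T → chiK K ⁅c * x * c⁻¹, c * y * c⁻¹⁆ = chiK K ⁅x, y⁆ :=
    fun x y hx hy => by
      rw [show ⁅c * x * c⁻¹, c * y * c⁻¹⁆ = c * ⁅x, y⁆ * c⁻¹ by simp only [commutatorElement_def]; group,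
        hfix _ (h.commutator_mem_zGrp T hT hx hy)]
  have hcR : ∀ d ∈ R, c * d * c⁻¹ ∈ R := fun d hd => by
    obtain ⟨hdD, hdK⟩ := (hmR d).1 hd
    refine (hmR _).2 ⟨hcD d hdD, fun y hy => ?_⟩
    have hy' : c⁻¹ * y * c ∈ dGrp α T := by
      simpa using (Subgroup.mem_normalizer_iff.1 (inv_mem hc) y).1 hy
    rw [← chiK_eq_zero, show y = c * (c⁻¹ * y * c) * c⁻¹ by group, hcRv d _ hdD hy', chiK_eq_zero]
    exact hdK _ hy'
  obtain ⟨b, hba, hbit⟩ := h.exists_conjEnd T hT hs hadd hker ha hc hcf hcR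
  have hb1 : ∀ (x y : dGrp α T), (y : H) = c * x * c⁻¹ → b (π x) = π y := fun x y hy =>
    hbit 1 x y (by rw [pow_one]; exact hy)
  have hbn : ∀ w, b^[orderOf (qHom H c)] w = w := fun w => by
    obtain ⟨x, rfl⟩ := hs w
    refine hbit _ x x ?_
    rw [conj_eq_of_qHom (x := c ^ orderOf (qHom H c)) (y := 1)
      (by rw [map_pow, pow_orderOf_eq_one, map_one]), one_mul, inv_one, mul_one]
  have hf0 : f ≠ 0 := fun e1 => by
    have hle : dGrp α T ≤ R := fun d hd => (hmR d).2 ⟨hd, fun y hy => chiK_eq_zero.1 (by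
      rw [← hfv ⟨d, hd⟩ ⟨y, hy⟩, e1]; rfl)⟩
    rw [Subgroup.relIndex_eq_one.2 hle] at hiR
    have := h.m_pos T hT hm
    exact absurd hiR.symm (Nat.one_lt_pow (by omega) (by norm_num)).ne'
  have hid := hmod.eq_id_of_isometry hcard hf hf0 b hba _
    ((h.hr.coprime_iff_not_dvd.2 fun hd => h.qCo (hd.trans (orderOf_dvd_natCard _))).symm) hbn
    (fun w w' => by
      obtain ⟨x, rfl⟩ := hs w
      obtain ⟨y, rfl⟩ := hs w'
      rw [hb1 x ⟨_, hcD x x.2⟩ rfl, hb1 y ⟨_, hcD y y.2⟩ rfl, hfv, hfv]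
      exact hcRv x y x.2 y.2)
  intro d hd
  set y : dGrp α T := ⟨c * d * c⁻¹, hcD d hd⟩ with hy
  have h1 : π y = π ⟨d, hd⟩ := (hb1 ⟨d, hd⟩ y rfl).symm.trans (hid _)
  refine (hker (y * ⟨d, hd⟩⁻¹)).1 ?_
  have h2 := hadd (y * ⟨d, hd⟩⁻¹) ⟨d, hd⟩
  rw [inv_mul_cancel_right, h1] at h2
  exact right_eq_add.1 h2

/-- An invariant additive function vanishing on the centre is zero. -/
theorem Min.inv_char_eq_zero {Λ : Subgroup (H ⧸ Subgroup.center H)} (hΛ : TransOdd α T Λ)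
    (hq : 4 ≤ Nat.card (gZ α T)) {η : H → ZMod 2}
    (hadd : ∀ a ∈ zGrp α T, ∀ b ∈ zGrp α T, η (a * b) = η a + η b)
    (hcen : ∀ t ∈ zGrp α T, t ∈ Subgroup.center H → η t = 0)
    (hinv : ∀ c ∈ Λ, ∀ x : H, qHom H x = c → ∀ z ∈ zGrp α T, η (x * z * x⁻¹) = η z) :
    ∀ z ∈ zGrp α T, η z = 0 := by
  -- two noncentral classes of equal value
  have hconst : ∀ z ∈ zGrp α T, qHom H z ≠ 1 → ∀ w ∈ zGrp α T, qHom H w ≠ 1 → η w = η z := by
    intro z hz hz1 w hw hw1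
    obtain ⟨c, hc, hcz⟩ := hΛ.trans _ (mem_map_of_mem _ hz) hz1 _ (mem_map_of_mem _ hw) hw1
    obtain ⟨x, rfl⟩ := QuotientGroup.mk'_surjective (Subgroup.center H) c
    have hxz := h.conj_mem_zGrp T hT ((h.mem_gM_iff T hT).1 (hΛ.le hc)) hz
    have ht : (x * z * x⁻¹)⁻¹ * w ∈ Subgroup.center H := QuotientGroup.eq.1 (by
      show qHom H (x * z * x⁻¹) = qHom H w
      rw [map_mul, map_mul, map_inv, hcz])
    have e1 := hadd _ hxz _ (mul_mem (inv_mem hxz) hw)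
    rw [mul_inv_cancel_left, hcen _ (mul_mem (inv_mem hxz) hw) ht, add_zero, hinv _ hc x rfl z hz] at e1
    exact e1
  intro z hz
  by_cases hz1 : qHom H z = 1
  · exact hcen z hz ((QuotientGroup.eq_one_iff z).1 hz1)
  obtain ⟨_, ⟨w, hw, rfl⟩, hw1, hwz⟩ : ∃ w' ∈ gZ α T, w' ≠ 1 ∧ w' ≠ qHom H z := by
    by_contra! hh
    have hle : gZ α T ≤ Subgroup.zpowers (qHom H z) := fun w' hw' => by
      by_cases h1 : w' = 1
      · rw [h1]; exact one_mem _
      · rw [hh w' hw' h1]; exact Subgroup.mem_zpowers _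
    have h2 := Subgroup.card_le_of_le hle
    rw [Nat.card_zpowers, orderOf_eq_prime
      (by rw [pow_two]; exact h.gZ_sq T hT (mem_map_of_mem _ hz)) hz1] at h2
    omega
  have h3 : qHom H (z * w) ≠ 1 := fun e1 => hwz (by
    rw [map_mul] at e1
    rw [← inv_eq_of_mul_eq_one_right e1,
      inv_eq_of_mul_eq_one_right (h.gZ_sq T hT (mem_map_of_mem _ hz))])
  have e2 := hconst z hz hz1 _ (mul_mem hz hw) h3
  rw [hadd z hz w hw, hconst z hz hz1 w hw hw1] at e2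
  exact left_eq_add.1 e2.symm

section Act

variable {m : ℕ} {W : Type u} [AddCommGroup W] [Finite W] {a : W ≃+ W} {π : dGrp α T → W}
  {θ : (gM α T ⊓ fixG (qAut α) : Subgroup (H ⧸ Subgroup.center H)) →* AddMonoid.End W}
  (hA : IsAct α T r m a π θ)

include hA

/-- A class outside a radical all of whose moved images lie inside gives a fixed class. -/
theorem Min.fixL_ne_of_pattern (hm : r = 2 ^ m + 1) (hnm : FixedNoMove α T) {K R : Subgroup H}
    (hKZ : K ≤ zGrp α T) (hK2 : K.relIndex (zGrp α T) = 2) (hmR : ∀ d, d ∈ R ↔ d ∈ rad α T K)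
    (hR : zGrp α T ≤ R) (hsR : Stb α R) (hiR : R.relIndex (dGrp α T) = 2 ^ (2 * m))
    {d : H} (hd : d ∈ dGrp α T) (hdR : d ∉ R)
    (hout : ∀ x ∈ mGrp α T, α x = x → (∃ z ∈ zGrp α T, chiK K (x * z * x⁻¹) ≠ chiK K z) →
      x * d * x⁻¹ ∈ R) :
    fixL α T (gM α T ⊓ fixG (qAut α)) ≠ gZ α T := by
  classical
  obtain ⟨f, hf, hfv⟩ := h.exists_form T hT hA hKZ hK2
  have hmem : ∀ w : dGrp α T, π w ∈ f.ker ↔ (w : H) ∈ R := fun w => by
    rw [hmR]
    refine ⟨fun hw => ⟨w.2, fun y hy => chiK_eq_zero.1 ?_⟩, fun hw => AddMonoidHom.mem_ker.2 ?_⟩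
    · rw [← hfv w ⟨y, hy⟩, AddMonoidHom.mem_ker.1 hw]
      rfl
    · refine AddMonoidHom.ext fun v => ?_
      obtain ⟨y, rfl⟩ := hA.surj v
      rw [hfv, AddMonoidHom.zero_apply, chiK_eq_zero]
      exact hw.2 y y.2
  choose ℓ hℓ hℓf hℓM using fun c => h.exists_fixed_lift T hT c
  let Γ' : Subgroup (gM α T ⊓ fixG (qAut α) : Subgroup (H ⧸ Subgroup.center H)) :=
    { carrier := {c | ∀ z ∈ zGrp α T, chiK K (ℓ c * z * (ℓ c)⁻¹) = chiK K z}
      one_mem' := fun z hz => by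
        rw [conj_eq_of_qHom (x := ℓ 1) (y := 1) (by rw [hℓ, map_one]; rfl), one_mul, inv_one, mul_one]
      mul_mem' := fun {c c'} hc hc' z hz => by
        rw [conj_eq_of_qHom (x := ℓ (c * c')) (y := ℓ c * ℓ c') (by rw [map_mul, hℓ, hℓ, hℓ, Subgroup.coe_mul]),
          show ℓ c * ℓ c' * z * (ℓ c * ℓ c')⁻¹ = ℓ c * (ℓ c' * z * (ℓ c')⁻¹) * (ℓ c)⁻¹ by group,
          hc _ (h.conj_mem_zGrp T hT (hℓM c') hz), hc' z hz]
      inv_mem' := fun {c} hc z hz => by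
        rw [conj_eq_of_qHom (x := ℓ c⁻¹) (y := (ℓ c)⁻¹) (by rw [map_inv, hℓ, hℓ, Subgroup.coe_inv]), inv_inv]
        have h1 := hc ((ℓ c)⁻¹ * z * ℓ c) (by simpa using h.conj_mem_zGrp T hT (inv_mem (hℓM c)) hz)
        rw [show ℓ c * ((ℓ c)⁻¹ * z * ℓ c) * (ℓ c)⁻¹ = z by group] at h1
        exact h1.symm }
  refine h.fixL_ne_of_parts T hT hA hnm f.ker (w := π ⟨d, hd⟩) (fun h1 => hdR ((hmem _).1 h1)) Γ'
    (fun c hc => ?_) fun c hc => ?_
  · rw [hA.apply T hT (hℓ c) (hℓM c)]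
    set e' : dGrp α T := ⟨ℓ c * d * (ℓ c)⁻¹, (Subgroup.mem_normalizer_iff.1 (hℓM c) d).1 hd⟩
    have h2 := hA.add (e' * ⟨d, hd⟩⁻¹) ⟨d, hd⟩
    rw [inv_mul_cancel_right] at h2
    show π e' - π ⟨d, hd⟩ ∈ f.ker
    rw [h2, add_sub_cancel_right, hmem, Subgroup.coe_mul, Subgroup.coe_inv]
    exact h.trivial_mod_form T hT hm hKZ hK2 hmR hR hsR hiR (hℓM c) (hℓf c) hc d hd
  · rw [hA.apply T hT (hℓ c) (hℓM c), hmem]
    refine hout _ (hℓM c) (hℓf c) ?_
    by_contra! hh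
    exact hc hh

/-- An invariant odd pattern. -/
theorem Min.exists_inv_pattern (hnm : FixedNoMove α T) {K₁ : Subgroup H}
    (hK₁ : K₁.relIndex (zGrp α T) = 2) {z₀ : H} (hz₀ : z₀ ∈ zGrp α T) (hz₀c : z₀ ∈ Subgroup.center H)
    (hzK : z₀ ∉ K₁) :
    ∃ K : Subgroup H, K ≤ zGrp α T ∧ K.relIndex (zGrp α T) = 2 ∧ z₀ ∉ K ∧
      ∀ x ∈ mGrp α T, α x = x → ∀ z ∈ zGrp α T, chiK K (x * z * x⁻¹) = chiK K z := by
  classical
  haveI : Finite (AddMonoid.End W) := Finite.of_injective _ DFunLike.coe_injective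
  set G := θ.toHomUnits.range with hG
  letI := Fintype.ofFinite G
  have hrep : ∀ u : G, ∃ c, θ.toHomUnits c = u := fun u => u.2
  choose c hc using hrep
  choose ℓ hℓ hℓf hℓM using fun u : G => h.exists_fixed_lift T hT (c u)
  let χ : H → ZMod 2 := fun z => ∑ u : G, chiK K₁ (ℓ u * z * (ℓ u)⁻¹)
  have hχadd : ∀ x ∈ zGrp α T, ∀ y ∈ zGrp α T, χ (x * y) = χ x + χ y := fun x hx y hy => by
    show ∑ u : G, chiK K₁ (ℓ u * (x * y) * (ℓ u)⁻¹) = _
    rw [← Finset.sum_add_distrib]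
    refine Finset.sum_congr rfl fun u _ => ?_
    rw [← chiK_mul hK₁ (h.conj_mem_zGrp T hT (hℓM u) hx) (h.conj_mem_zGrp T hT (hℓM u) hy)]
    congr 1
    group
  have hχz : χ z₀ = 1 := by
    show ∑ u : G, chiK K₁ (ℓ u * z₀ * (ℓ u)⁻¹) = 1
    rw [Finset.sum_congr rfl fun u _ => (show chiK K₁ (ℓ u * z₀ * (ℓ u)⁻¹) = 1 by
      rw [mem_center_iff.1 hz₀c (ℓ u), mul_inv_cancel_right, chiK_eq_one]; exact hzK),
      Finset.sum_const, nsmul_eq_mul, mul_one, Finset.card_univ, ← Nat.card_eq_fintype_card]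
    obtain ⟨i, hi⟩ := h.act_range_odd T hT hA hnm
    rw [hi, Nat.cast_add, Nat.cast_mul, show ((2 : ℕ) : ZMod 2) = 0 from by decide, zero_mul, zero_add,
      Nat.cast_one]
  obtain ⟨K, hKZ, hK2, hv⟩ := exists_pat_of_char (Z := zGrp α T) χ hχadd ⟨z₀, hz₀, hχz⟩
  refine ⟨K, hKZ, hK2, by rw [← chiK_eq_one, hv z₀ hz₀, hχz], fun x hx hxf z hz => ?_⟩
  rw [hv _ (h.conj_mem_zGrp T hT hx hz), hv z hz]
  let g : (gM α T ⊓ fixG (qAut α) : Subgroup (H ⧸ Subgroup.center H)) :=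
    ⟨qHom H x, (h.mem_gM_iff T hT).2 hx, h.qFix_iff.2 hxf⟩
  refine Fintype.sum_equiv (Equiv.mulRight (⟨θ.toHomUnits g, g, rfl⟩ : G)) _ _ fun u => ?_
  set u' : G := u * ⟨θ.toHomUnits g, g, rfl⟩ with hu'
  have e1 : θ (c u') = θ (c u * g) := by
    have e2 : θ.toHomUnits (c u') = θ.toHomUnits (c u * g) := by
      rw [map_mul, hc, hc]
      rfl
    exact congrArg Units.val e2
  show chiK K₁ (ℓ u * (x * z * x⁻¹) * (ℓ u)⁻¹) = chiK K₁ (ℓ u' * z * (ℓ u')⁻¹)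
  rw [h.act_conj_Z T hT hA e1 (x := ℓ u') (x' := ℓ u * x) (hℓ u')
    (by rw [map_mul, hℓ]; rfl) z hz]
  congr 1
  group

/-- The cube identity: an invariant pattern that does not occur has a line as radical. -/
theorem Min.cube_line (hneg : CenNeg ψ) (hm : r = 2 ^ m + 1) (hW : Nat.card W = 2 ^ (4 * m))
    (hk : Nat.card (gZ α T) * 2 ^ (2 * m) < Nat.card (gD α T))
    {Λ : Subgroup (H ⧸ Subgroup.center H)} (hΛ : TransOdd α T Λ) (hq : 4 ≤ Nat.card (gZ α T))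
    (hq4 : Nat.card (gZ α T) ≠ 4) {z₀ : H} (hz₀ : z₀ ∈ zGrp α T) (hz₀c : z₀ ∈ Subgroup.center H)
    (hz₀1 : z₀ ≠ 1) {K₀ : Subgroup H} (hK₀ : K₀ ≤ zGrp α T) (hK₀2 : K₀.relIndex (zGrp α T) = 2)
    (hzK₀ : z₀ ∉ K₀) (hfix : ∀ c ∈ Λ, FixesK α T K₀ c) (hno : ¬ Occ α ψ T K₀)
    (hocc : ∀ K : Subgroup H, K ≤ zGrp α T → K.relIndex (zGrp α T) = 2 → z₀ ∉ K → K ≠ K₀ → Occ α ψ T K)
    {f₀ : W →+ W →+ ZMod 2} (hf₀ : InvForm a f₀)
    (hf₀v : ∀ x y : dGrp α T, f₀ (π x) (π y) = chiK K₀ ⁅(x : H), y⁆) : f₀.ker ≠ ⊥ := by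
  classical
  set Z := zGrp α T with hZdef
  have hc1 : ∀ t ∈ Z, t ∈ Subgroup.center H → t ≠ 1 → t = z₀ := fun t ht htc ht1 =>
    h.eq_of_cenNeg hneg htc hz₀c (h.zGrp_sq T hT ht) (h.zGrp_sq T hT hz₀) ht1 hz₀1
  have hv₀ : ∀ {K}, Occ α ψ T K → chiK K z₀ = 1 := fun hK => chiK_eq_one.2 fun hz =>
    hz₀1 (h.not_mem_occ T hT hneg hK hz₀ hz₀c hz)
  have hv₀' : chiK K₀ z₀ = 1 := chiK_eq_one.2 hzK₀
  have hcen : ∀ K L : Subgroup H, chiK K z₀ = 1 → chiK L z₀ = 1 → ∀ t ∈ Z, t ∈ Subgroup.center H →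
      chiK K t + chiK L t = 0 := fun K L hKv hLv t ht htc => by
    by_cases ht1 : t = 1
    · rw [ht1, chiK_eq_zero.2 (one_mem _), chiK_eq_zero.2 (one_mem _), add_zero]
    · rw [hc1 t ht htc ht1, hKv, hLv]; decide
  obtain ⟨K₁, hK₁, -⟩ := h.exists_occ T hT hz₀ hz₀1
  -- a conjugate pattern with another radical
  obtain ⟨c, hcΛ, x, hx, hxM, hxf, K₂, hK₂, hK₂v, hne⟩ : ∃ c ∈ Λ, ∃ x : H, qHom H x = c ∧ x ∈ mGrp α T ∧
      α x = x ∧ ∃ K₂, Occ α ψ T K₂ ∧ (∀ z ∈ Z, chiK K₂ z = chiK K₁ (x * z * x⁻¹)) ∧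
        rad α T K₂ ≠ rad α T K₁ := by
    by_contra! hall
    -- all conjugates share the radical, so it is `Z`
    obtain ⟨R, hmR, hR, hR', -, hiR⟩ := h.radFacts T hT hm hK₁
    have hRZ : R ≤ Z := fun d hd => (h.mem_zGrp_iff T hT).2 ⟨hR' hd, fun y hy => by
      rw [← commutatorElement_eq_one_iff_mul_comm]
      have hdK := (hmR d).1 hd
      have hzK : ⁅d, y⁆ ∈ K₁ := hdK.2 y hy
      have hzZ : ⁅d, y⁆ ∈ Z := h.commutator_mem_zGrp T hT hdK.1 hy
      by_contra hne1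
      have hzc : qHom H ⁅d, y⁆ ≠ 1 := fun e1 => hne1
        (h.not_mem_occ T hT hneg hK₁ hzZ ((QuotientGroup.eq_one_iff _).1 e1) hzK)
      have hval : ∀ c ∈ Λ, ∀ x : H, qHom H x = c → chiK K₁ (x * ⁅d, y⁆ * x⁻¹) = 0 := by
        intro c hc x hx
        obtain ⟨x', hx', hxf', hxM'⟩ := h.exists_fixed_lift T hT ⟨c, hΛ.le hc, hΛ.fixed c hc⟩
        rw [conj_eq_of_qHom (hx.trans hx'.symm)]
        obtain ⟨K', hK', hv⟩ := h.occ_conj T hT hxM' hK₁
        have hrad := hall c hc x' hx' hxM' hxf' K' hK' hv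
        rw [← hv _ hzZ, chiK_eq_zero]
        rw [← hrad] at hdK
        exact hdK.2 y hy
      -- so `K₁` is invariant
      have hinv : ∀ c ∈ Λ, ∀ x : H, qHom H x = c → ∀ w ∈ Z, chiK K₁ (x * w * x⁻¹) = chiK K₁ w := by
        intro c hc x hx w hw
        by_cases hw1 : qHom H w = 1
        · rw [mem_center_iff.1 ((QuotientGroup.eq_one_iff w).1 hw1) x, mul_inv_cancel_right]
        obtain ⟨c', hc', hcz⟩ := hΛ.trans _ (mem_map_of_mem _ hzZ) hzc _ (mem_map_of_mem _ hw) hw1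
        obtain ⟨x', rfl⟩ := QuotientGroup.mk'_surjective (Subgroup.center H) c'
        have hxM' : x' ∈ mGrp α T := (h.mem_gM_iff T hT).1 (hΛ.le hc')
        have hxMx : x ∈ mGrp α T := (h.mem_gM_iff T hT).1 (hx ▸ hΛ.le hc)
        set s := x' * ⁅d, y⁆ * x'⁻¹ with hs
        have hsZ : s ∈ Z := h.conj_mem_zGrp T hT hxM' hzZ
        have ht : s⁻¹ * w ∈ Subgroup.center H := QuotientGroup.eq.1 (by
          show qHom H (x' * ⁅d, y⁆ * x'⁻¹) = qHom H w
          rw [map_mul, map_mul, map_inv, hcz])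
        have htZ : s⁻¹ * w ∈ Z := mul_mem (inv_mem hsZ) hw
        have e1 : x * w * x⁻¹ = x * x' * ⁅d, y⁆ * (x * x')⁻¹ * (s⁻¹ * w) := by
          calc x * w * x⁻¹ = x * s * x⁻¹ * (x * (s⁻¹ * w) * x⁻¹) := by group
            _ = _ := by rw [mem_center_iff.1 ht x, mul_inv_cancel_right, hs]; group
        rw [e1, chiK_mul hK₁.two (h.conj_mem_zGrp T hT (mul_mem hxMx hxM') hzZ) htZ,
          hval (c * qHom H x') (mul_mem hc hc') (x * x') (by rw [map_mul, hx]), zero_add]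
        conv_rhs => rw [show w = s * (s⁻¹ * w) by group, chiK_mul hK₁.two hsZ htZ, hval _ hc' x' rfl, zero_add]
      have heq : K₁ = K₀ := eq_of_chiK hK₁.le hK₀ fun w hw => by
        refine CharTwo.add_eq_zero.1 (h.inv_char_eq_zero T hT hΛ hq (η := fun w => chiK K₁ w + chiK K₀ w)
          (fun u hu v hv => by rw [chiK_mul hK₁.two hu hv, chiK_mul hK₀2 hu hv]; ring)
          (hcen K₁ K₀ (hv₀ hK₁) hv₀') (fun c hc x hx z hz => ?_) w hw)
        rw [hinv c hc x hx z hz]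
        congr 1
        have hiff := hfix c hc x hx z hz
        by_cases hzK' : z ∈ K₀
        · rw [chiK_eq_zero.2 hzK', chiK_eq_zero.2 (hiff.2 hzK')]
        · rw [chiK_eq_one.2 hzK', chiK_eq_one.2 fun h' => hzK' (hiff.1 h')]
      exact hno (heq ▸ hK₁)⟩
    have h2 : Nat.card (gD α T) ≤ Nat.card (gZ α T) * 2 ^ (2 * m) := by
      refine h.gD_card_le T hT ?_
      rw [← hiR, le_antisymm hR hRZ]
    omega
  -- the third character
  have hK₂0 : chiK K₂ z₀ = 1 := hv₀ hK₂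
  obtain ⟨w, hw, hw1, hw2, hw3⟩ : ∃ w ∈ Z, w ∉ Subgroup.center H ∧ chiK K₁ w + chiK K₀ w = 0 ∧
      chiK K₂ w + chiK K₀ w = 0 := by
    by_contra! hh
    let F : Z → ZMod 2 × ZMod 2 × ZMod 2 := fun z =>
      (chiK K₁ (z : H) + chiK K₀ (z : H), chiK K₂ (z : H) + chiK K₀ (z : H), chiK K₀ (z : H))
    have hF : Function.Injective F := fun z z' e1 => by
      simp only [F, Prod.mk.injEq] at e1
      by_contra hzz
      have hd : (z : H) * (z' : H)⁻¹ ≠ 1 := fun e2 => hzz (Subtype.ext (mul_inv_eq_one.1 e2))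
      have hdZ : (z : H) * (z' : H)⁻¹ ∈ Z := mul_mem z.2 (inv_mem z'.2)
      have key : ∀ K : Subgroup H, K.relIndex Z = 2 →
          chiK K (z : H) = chiK K ((z : H) * (z' : H)⁻¹) + chiK K (z' : H) := fun K hK => by
        rw [← chiK_mul hK hdZ z'.2, inv_mul_cancel_right]
      have k0 : chiK K₀ ((z : H) * (z' : H)⁻¹) = 0 := by
        have := key K₀ hK₀2
        rw [e1.2.2] at this
        exact right_eq_add.1 this
      have k1 : chiK K₁ ((z : H) * (z' : H)⁻¹) + chiK K₀ ((z : H) * (z' : H)⁻¹) = 0 := by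
        have := e1.1
        rw [key K₁ hK₁.two, key K₀ hK₀2, add_add_add_comm] at this
        exact add_eq_right.1 this
      have k2 : chiK K₂ ((z : H) * (z' : H)⁻¹) + chiK K₀ ((z : H) * (z' : H)⁻¹) = 0 := by
        have := e1.2.1
        rw [key K₂ hK₂.two, key K₀ hK₀2, add_add_add_comm] at this
        exact add_eq_right.1 this
      by_cases hdc : (z : H) * (z' : H)⁻¹ ∈ Subgroup.center H
      · rw [hc1 _ hdZ hdc hd, hv₀'] at k0
        exact absurd k0 (by decide)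
      · exact hh _ hdZ hdc k1 k2
    have h8 := Nat.card_le_card_of_injective F hF
    simp only [Nat.card_prod, Nat.card_zmod] at h8
    have h10 : 2 * Nat.card (gZ α T) ≤ Nat.card Z := by
      let φ : Z →* gZ α T := (qHom H).subgroupMap Z
      have hφ : Function.Surjective φ := MonoidHom.subgroupMap_surjective (qHom H) Z
      rw [Subgroup.card_eq_card_quotient_mul_card_subgroup φ.ker,
        Nat.card_congr (QuotientGroup.quotientKerEquivOfSurjective φ hφ).toEquiv, mul_comm 2]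
      refine Nat.mul_le_mul_left _ ((Subgroup.one_lt_card_iff_ne_bot φ.ker).2 fun e1 => ?_)
      have h4 : (⟨z₀, hz₀⟩ : Z) ∈ φ.ker :=
        MonoidHom.mem_ker.2 (Subtype.ext ((QuotientGroup.eq_one_iff _).2 hz₀c))
      rw [e1, Subgroup.mem_bot] at h4
      exact hz₀1 (congrArg Subtype.val h4)
    omega
  obtain ⟨J, hJ, hJ2, hNJ, hwJ⟩ := h.exists_char_sep T hT (N := Z ⊓ Subgroup.center H) inf_le_left hw
    fun h1 => hw1 h1.2
  have hJw : chiK J w = 1 := chiK_eq_one.2 hwJ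
  have hJc : ∀ t ∈ Z, t ∈ Subgroup.center H → chiK J t = 0 := fun t ht htc =>
    chiK_eq_zero.2 (hNJ ⟨ht, htc⟩)
  have hχ3 : chiK J z₀ + chiK K₀ z₀ = 1 := by rw [hJc z₀ hz₀ hz₀c, hv₀', zero_add]
  obtain ⟨K₃, hK₃Z, hK₃2, hK₃v⟩ := exists_pat_of_char (Z := Z) (fun z => chiK J z + chiK K₀ z)
    (fun u hu v hv => by rw [chiK_mul hJ2 hu hv, chiK_mul hK₀2 hu hv]; ring) ⟨z₀, hz₀, hχ3⟩
  have hK₃0 : chiK K₃ z₀ = 1 := by rw [hK₃v z₀ hz₀, hχ3]
  have hK₃w : chiK K₃ w + chiK K₀ w = 1 := by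
    rw [hK₃v w hw, hJw]
    exact (by decide : ∀ u : ZMod 2, 1 + u + u = 1) _
  have hK₃ : Occ α ψ T K₃ := hocc K₃ hK₃Z hK₃2 (chiK_eq_one.1 hK₃0) fun e1 => by
    rw [e1] at hK₃w
    exact (by decide : ∀ u : ZMod 2, u + u ≠ 1) _ hK₃w
  obtain ⟨f₁, hf₁, hf₁v⟩ := h.exists_form T hT hA hK₁.le hK₁.two
  obtain ⟨f₂, hf₂, hf₂v⟩ := h.exists_form T hT hA hK₂.le hK₂.two
  obtain ⟨f₃, hf₃, hf₃v⟩ := h.exists_form T hT hA hK₃.le hK₃.two
  -- degeneracy of the occurring combinations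
  have hker : ∀ {K} (F : W →+ W →+ ZMod 2), Occ α ψ T K →
      (∀ u v : dGrp α T, F (π u) (π v) = chiK K ⁅(u : H), v⁆) → Nat.card F.ker = 2 ^ (2 * m) :=
    fun F hK hF => by
      have e1 := h.form_ker_card T hT hA hm hK hF
      rw [hW, show 4 * m = 2 * m + 2 * m by omega, pow_add] at e1
      exact Nat.eq_of_mul_eq_mul_right (pow_pos (by norm_num) _) e1
  have hker' : ∀ {K} (F : W →+ W →+ ZMod 2), Occ α ψ T K →
      (∀ u v : dGrp α T, F (π u) (π v) = chiK K ⁅(u : H), v⁆) → F.ker ≠ ⊥ := fun F hK hF e1 => by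
    have e2 := hker F hK hF
    rw [e1, AddSubgroup.card_bot] at e2
    have := hA.mod.pos
    exact absurd e2 (Nat.one_lt_pow (by omega) (by norm_num)).ne
  have hcomb : ∀ (F : W →+ W →+ ZMod 2) (χ : H → ZMod 2), (∀ u ∈ Z, ∀ v ∈ Z, χ (u * v) = χ u + χ v) →
      (∀ u v : dGrp α T, F (π u) (π v) = χ ⁅(u : H), v⁆) → χ z₀ = 1 →
      (∃ z ∈ Z, χ z ≠ chiK K₀ z) → F.ker ≠ ⊥ := fun F χ hχ hF hχ0 ⟨z, hz, hzne⟩ => by
    obtain ⟨K, hK, hK2, hKv⟩ := exists_pat_of_char (Z := Z) χ hχ ⟨z₀, hz₀, hχ0⟩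
    refine hker' F (hocc K hK hK2 (by rw [← chiK_eq_one, hKv z₀ hz₀, hχ0])
      fun e1 => hzne (by rw [← hKv z hz, e1])) fun u v => ?_
    rw [hF, hKv _ (h.commutator_mem_zGrp T hT u.2 v.2)]
  have htwo : ∀ F : W →+ W →+ ZMod 2, F + F = 0 := fun F =>
    AddMonoidHom.ext fun u => AddMonoidHom.ext fun v => CharTwo.add_self_eq_zero _
  have h01 : f₀ + (f₀ + f₁) = f₁ := by rw [← add_assoc, htwo, zero_add]
  have h02 : f₀ + (f₀ + f₂) = f₂ := by rw [← add_assoc, htwo, zero_add]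
  have h03 : f₀ + (f₀ + f₃) = f₃ := by rw [← add_assoc, htwo, zero_add]
  have hne12 : ∃ z ∈ Z, chiK K₁ z + chiK K₂ z ≠ 0 := by
    by_contra! hh
    exact hne (by rw [eq_of_chiK hK₂.le hK₁.le fun z hz => (CharTwo.add_eq_zero.1 (hh z hz)).symm])
  -- `θ c` carries the first radical to the second
  let g₀ : (gM α T ⊓ fixG (qAut α) : Subgroup (H ⧸ Subgroup.center H)) :=
    ⟨c, hΛ.le hcΛ, hΛ.fixed c hcΛ⟩
  have hinvl : ∀ v, θ g₀⁻¹ (θ g₀ v) = v := fun v => by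
    show (θ g₀⁻¹ * θ g₀) v = v
    rw [← map_mul, inv_mul_cancel, map_one]
    rfl
  have hinvr : ∀ v, θ g₀ (θ g₀⁻¹ v) = v := fun v => by
    show (θ g₀ * θ g₀⁻¹) v = v
    rw [← map_mul, mul_inv_cancel, map_one]
    rfl
  let g : W ≃+ W :=
    { toFun := θ g₀⁻¹, invFun := θ g₀, left_inv := hinvr, right_inv := hinvl
      map_add' := map_add (θ g₀⁻¹ : W →+ W) }
  have hiso : ∀ u v, f₂ (g u) (g v) = f₁ u v := fun u v => by
    obtain ⟨du, rfl⟩ := hA.surj u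
    obtain ⟨dv, rfl⟩ := hA.surj v
    have hxM' : x⁻¹ ∈ mGrp α T := inv_mem hxM
    have hx' : qHom H x⁻¹ = ((g₀⁻¹ : (gM α T ⊓ fixG (qAut α) : Subgroup (H ⧸ Subgroup.center H))) :
        H ⧸ Subgroup.center H) := by rw [map_inv, hx]; rfl
    refine (congrArg₂ (fun s t => f₂ s t) (hA.apply T hT hx' hxM' du) (hA.apply T hT hx' hxM' dv)).trans ?_
    show f₂ _ _ = _
    rw [hf₂v, hf₁v, hK₂v _ (h.commutator_mem_zGrp T hT ((Subgroup.mem_normalizer_iff.1 hxM' du).1 du.2)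
      ((Subgroup.mem_normalizer_iff.1 hxM' dv).1 dv.2))]
    congr 1
    simp only [commutatorElement_def]
    group
  refine FpfMod.cube hA.mod hW f₀ (f₀ + f₁) (f₀ + f₂) (f₀ + f₃) hf₀
    ⟨fun u => by simp [hf₀.alt u, hf₁.alt u], fun u v => by simp [hf₀.inv u v, hf₁.inv u v]⟩
    ⟨fun u => by simp [hf₀.alt u, hf₂.alt u], fun u v => by simp [hf₀.inv u v, hf₂.inv u v]⟩
    ⟨fun u => by simp [hf₀.alt u, hf₃.alt u], fun u v => by simp [hf₀.inv u v, hf₃.inv u v]⟩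
    (fun c₁ c₂ c₃ hc => ?_) (by rw [h01]; exact hker f₁ hK₁ hf₁v) (by rw [h02]; exact hker f₂ hK₂ hf₂v)
    ?_ g (fun v => hA.comm _ v) ?_
  · cases c₁ <;> cases c₂ <;> cases c₃
    · simp at hc
    · simpa [h03] using hker' f₃ hK₃ hf₃v
    · simpa [h02] using hker' f₂ hK₂ hf₂v
    · refine hcomb _ (fun z => chiK K₀ z + chiK K₂ z + chiK K₃ z)
        (fun u hu v hv => by rw [chiK_mul hK₀2 hu hv, chiK_mul hK₂.two hu hv, chiK_mul hK₃2 hu hv]; ring)
        (fun u v => ?_) (by rw [hv₀', hK₂0, hK₃0]; decide) ⟨w, hw, fun e1 => ?_⟩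
      · simp only [Bool.false_eq_true, if_false, if_true, add_zero, AddMonoidHom.add_apply, hf₀v, hf₂v, hf₃v]
        exact (by decide : ∀ p q s : ZMod 2, p + (p + q) + (p + s) = p + q + s) _ _ _
      · exact (by decide : ∀ p q s : ZMod 2, q + p = 0 → s + p = 1 → p + q + s ≠ p) _ _ _ hw3 hK₃w e1
    · simpa [h01] using hker' f₁ hK₁ hf₁v
    · refine hcomb _ (fun z => chiK K₀ z + chiK K₁ z + chiK K₃ z)
        (fun u hu v hv => by rw [chiK_mul hK₀2 hu hv, chiK_mul hK₁.two hu hv, chiK_mul hK₃2 hu hv]; ring)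
        (fun u v => ?_) (by rw [hv₀', hv₀ hK₁, hK₃0]; decide) ⟨w, hw, fun e1 => ?_⟩
      · simp only [Bool.false_eq_true, if_false, if_true, add_zero, AddMonoidHom.add_apply, hf₀v, hf₁v, hf₃v]
        exact (by decide : ∀ p q s : ZMod 2, p + (p + q) + (p + s) = p + q + s) _ _ _
      · exact (by decide : ∀ p q s : ZMod 2, q + p = 0 → s + p = 1 → p + q + s ≠ p) _ _ _ hw2 hK₃w e1
    · obtain ⟨z, hz, hzne⟩ := hne12
      refine hcomb _ (fun z => chiK K₀ z + chiK K₁ z + chiK K₂ z)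
        (fun u hu v hv => by rw [chiK_mul hK₀2 hu hv, chiK_mul hK₁.two hu hv, chiK_mul hK₂.two hu hv]; ring)
        (fun u v => ?_) (by rw [hv₀', hv₀ hK₁, hK₂0]; decide) ⟨z, hz, fun e1 => ?_⟩
      · simp only [Bool.false_eq_true, if_false, if_true, add_zero, AddMonoidHom.add_apply, hf₀v, hf₁v, hf₂v]
        exact (by decide : ∀ p q s : ZMod 2, p + (p + q) + (p + s) = p + q + s) _ _ _
      · exact (by decide : ∀ p q s : ZMod 2, q + s ≠ 0 → p + q + s ≠ p) _ _ _ hzne e1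
    · refine hcomb _ (fun z => chiK K₁ z + chiK K₂ z + chiK K₃ z)
        (fun u hu v hv => by rw [chiK_mul hK₁.two hu hv, chiK_mul hK₂.two hu hv, chiK_mul hK₃2 hu hv]; ring)
        (fun u v => ?_) (by rw [hv₀ hK₁, hK₂0, hK₃0]; decide) ⟨w, hw, fun e1 => ?_⟩
      · simp only [if_true, AddMonoidHom.add_apply, hf₀v, hf₁v, hf₂v, hf₃v]
        exact (by decide : ∀ o p q s : ZMod 2, o + (o + p) + (o + q) + (o + s) = p + q + s) _ _ _ _
      · exact (by decide : ∀ o p q s : ZMod 2, p + o = 0 → q + o = 0 → s + o = 1 → p + q + s ≠ o) _ _ _ _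
          hw2 hw3 hK₃w e1
  · -- the two radicals meet trivially
    rw [h01, h02]
    rcases hA.mod.eq_bot_or_eq (hker f₁ hK₁ hf₁v) (hA.mod.stb_ker hf₁) (hA.mod.stb_ker hf₂) with e1 | e1
    · exact e1
    · exfalso
      have e2 : f₁.ker = f₂.ker := AddSubgroup.eq_of_le_of_card_ge e1
        (by rw [hker f₁ hK₁ hf₁v, hker f₂ hK₂ hf₂v])
      refine hne (Set.ext fun d => ⟨fun hd => ⟨hd.1, fun y hy => ?_⟩, fun hd => ⟨hd.1, fun y hy => ?_⟩⟩)
      · have h1 : π ⟨d, hd.1⟩ ∈ f₁.ker := by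
          rw [e2, AddMonoidHom.mem_ker]
          refine AddMonoidHom.ext fun v => ?_
          obtain ⟨y, rfl⟩ := hA.surj v
          rw [hf₂v, AddMonoidHom.zero_apply, chiK_eq_zero]
          exact hd.2 y y.2
        rw [← chiK_eq_zero, ← hf₁v ⟨d, hd.1⟩ ⟨y, hy⟩, AddMonoidHom.mem_ker.1 h1]
        rfl
      · have h1 : π ⟨d, hd.1⟩ ∈ f₂.ker := by
          rw [← e2, AddMonoidHom.mem_ker]
          refine AddMonoidHom.ext fun v => ?_
          obtain ⟨y, rfl⟩ := hA.surj v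
          rw [hf₁v, AddMonoidHom.zero_apply, chiK_eq_zero]
          exact hd.2 y y.2
        rw [← chiK_eq_zero, ← hf₂v ⟨d, hd.1⟩ ⟨y, hy⟩, AddMonoidHom.mem_ker.1 h1]
        rfl
  · rw [h01, h02]
    intro u hu
    refine AddMonoidHom.mem_ker.2 (AddMonoidHom.ext fun v => ?_)
    obtain ⟨v', rfl⟩ := g.surjective v
    rw [hiso, AddMonoidHom.mem_ker.1 hu]
    rfl

end Act

/-- I6. -/
theorem Min.fixL_all_dichotomy (hneg : CenNeg ψ) {m : ℕ} (hm : r = 2 ^ m + 1) (hnm : FixedNoMove α T)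
    (hk : Nat.card (gZ α T) * 2 ^ (2 * m) < Nat.card (gD α T)) {Λ : Subgroup (H ⧸ Subgroup.center H)}
    (hΛf : ∀ c ∈ Λ, qAut α c = c) (hΛM : Λ ≤ gM α T) (hΛo : Odd (Nat.card Λ))
    (hΛt : ∀ z ∈ gZ α T, z ≠ 1 → ∀ z' ∈ gZ α T, z' ≠ 1 → ∃ c ∈ Λ, c * z * c⁻¹ = z')
    (hq : 4 ≤ Nat.card (gZ α T)) (hP : fixL α T (gM α T ⊓ fixG (qAut α)) = gZ α T) :
    Nat.card (gZ α T) = 4 ∧ Nat.card (gD α T) ≤ Nat.card (gZ α T) * 2 ^ (4 * m) := by
  classical
  have hΛ : TransOdd α T Λ := ⟨hΛf, hΛM, hΛo, hΛt⟩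
  obtain ⟨W, _, _, a, π, θ, hA⟩ := h.exists_action T hT hm
  obtain ⟨h3a, h3b⟩ := h.card_le_of_orbit T hT hneg hm hΛ hq
  obtain ⟨z₀, hz₀, hz₀c, hz₀1⟩ : ∃ z₀ ∈ zGrp α T, z₀ ∈ Subgroup.center H ∧ z₀ ≠ 1 := by
    by_contra! h0
    exact absurd (h3a h0) (not_le.2 hk)
  by_cases hq4 : Nat.card (gZ α T) = 4
  · refine ⟨hq4, ?_⟩
    rcases h.four_dichotomy T hT hneg hm hq4 with h4 | ⟨S, h3, hS⟩
    · exact h4
    by_contra hk4
    obtain ⟨K, hK, -⟩ := h.exists_occ T hT hz₀ hz₀1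
    obtain ⟨R', hR'D, hR'r, hi⟩ := h.exists_rad_inf T hT hm (S.erase K) fun K' hK' =>
      (hS K').1 (Finset.mem_of_mem_erase hK')
    obtain ⟨d, hdR', hdZ⟩ : ∃ d ∈ R', d ∉ zGrp α T := by
      by_contra! hle
      refine hk4 (h.gD_card_le T hT ?_)
      calc (zGrp α T).relIndex (dGrp α T) ≤ R'.relIndex (dGrp α T) :=
            Nat.le_of_dvd (Nat.pos_of_ne_zero Subgroup.index_ne_zero_of_finite)
              (Subgroup.relIndex_dvd_of_le_left _ hle)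
        _ ≤ 2 ^ (2 * m * (S.erase K).card) := hi
        _ ≤ 2 ^ (4 * m) := Nat.pow_le_pow_right (by norm_num) (by
            have h5 : (S.erase K).card + 1 = S.card := Finset.card_erase_add_one ((hS K).2 hK)
            have h6 : (S.erase K).card ≤ 2 := by omega
            calc 2 * m * (S.erase K).card ≤ 2 * m * 2 := Nat.mul_le_mul_left _ h6
              _ = 4 * m := by ring)
    obtain ⟨R, hmR, hR, hR'', hsR, hiR⟩ := h.radFacts T hT hm hK
    have hothers : ∀ K', Occ α ψ T K' → K' ≠ K → d ∈ rad α T K' := fun K' hK' hne =>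
      hR'r K' (Finset.mem_erase.2 ⟨hne, (hS K').2 hK'⟩) d hdR'
    have hdR : d ∉ R := fun h1 => hdZ (h.mem_zGrp_of_rad T hT (hR'D hdR') fun K' hK' => by
      by_cases hne : K' = K
      · rw [hne]; exact (hmR d).1 h1
      · exact hothers K' hK' hne)
    refine h.fixL_ne_of_pattern T hT hA hm hnm hK.le hK.two hmR hR hsR hiR (hR'D hdR') hdR ?_ hP
    intro x hx hxf ⟨z, hz, hzne⟩
    obtain ⟨K', hK', hv⟩ := h.occ_conj T hT hx hK
    have hne : K' ≠ K := fun e1 => hzne (by rw [← hv z hz, e1])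
    refine (hmR _).2 ⟨(Subgroup.mem_normalizer_iff.1 hx d).1 (hR'D hdR'), fun y hy => ?_⟩
    have hy' : x⁻¹ * y * x ∈ dGrp α T := by
      simpa using (Subgroup.mem_normalizer_iff.1 (inv_mem hx) y).1 hy
    rw [← chiK_eq_zero, show ⁅x * d * x⁻¹, y⁆ = x * ⁅d, x⁻¹ * y * x⁆ * x⁻¹ by
      simp only [commutatorElement_def]; group, ← hv _ (h.commutator_mem_zGrp T hT (hR'D hdR') hy'),
      chiK_eq_zero]
    exact (hothers K' hK' hne).2 _ hy'
  · exfalso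
    have hW : Nat.card W = 2 ^ (4 * m) := by
      obtain ⟨j, hj⟩ := hA.mod.card_stb (L := ⊤) fun x _ => AddSubgroup.mem_top _
      have hWj : Nat.card W = 2 ^ (2 * m * j) :=
        (Nat.card_congr AddSubgroup.topEquiv.toEquiv).symm.trans hj
      have hqp := Nat.card_pos (α := gZ α T)
      have h4 := h3b hq4
      have hlt : 2 ^ (2 * m) < Nat.card W := Nat.lt_of_mul_lt_mul_left (a := Nat.card (gZ α T))
        (by rw [mul_comm _ (Nat.card W), hA.card]; exact hk)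
      have hle : Nat.card W ≤ 2 ^ (4 * m) := Nat.le_of_mul_le_mul_left
        (by rw [mul_comm _ (Nat.card W), hA.card]; exact h4) hqp
      rw [hWj] at hlt hle
      have l1 := (Nat.pow_lt_pow_iff_right (by norm_num : 1 < 2)).1 hlt
      have l2 := (Nat.pow_le_pow_iff_right (by norm_num : 1 < 2)).1 hle
      have hj2 : j = 2 := by nlinarith [hA.mod.pos]
      rw [hWj, hj2]
      congr 1
      omega
    obtain ⟨K₁, hK₁, hK₁z⟩ := h.exists_occ T hT hz₀ hz₀1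
    obtain ⟨K, hKZ, hK2, hzK, hinv⟩ := h.exists_inv_pattern T hT hA hnm hK₁.two hz₀ hz₀c hK₁z
    obtain ⟨R, hmR, hR, hsR, hiR⟩ : ∃ R : Subgroup H, (∀ d, d ∈ R ↔ d ∈ rad α T K) ∧ zGrp α T ≤ R ∧
        Stb α R ∧ R.relIndex (dGrp α T) = 2 ^ (2 * m) := by
      by_cases hKo : Occ α ψ T K
      · obtain ⟨R, hmR, hR, -, hsR, hiR⟩ := h.radFacts T hT hm hKo
        exact ⟨R, hmR, hR, hsR, hiR⟩
      obtain ⟨K₀, hK₀, hK₀2, hzK₀, hfix, hocc⟩ := h.occ_all_but_one T hT hneg hΛ hq hz₀ hz₀c hz₀1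
      have hKK : K = K₀ := by_contra fun hne => hKo (hocc K hKZ hK2 hzK hne)
      subst hKK
      obtain ⟨f, hf, hfv⟩ := h.exists_form T hT hA hKZ hK2
      have hbot := h.cube_line T hT hA hneg hm hW hk hΛ hq hq4 hz₀ hz₀c hz₀1 hKZ hK2 hzK hfix hKo hocc hf hfv
      have hmem : ∀ w : dGrp α T, π w ∈ f.ker ↔ (w : H) ∈ rad α T K := fun w => by
        refine ⟨fun hw => ⟨w.2, fun y hy => chiK_eq_zero.1 ?_⟩, fun hw => AddMonoidHom.mem_ker.2 ?_⟩
        · rw [← hfv w ⟨y, hy⟩, AddMonoidHom.mem_ker.1 hw]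
          rfl
        · refine AddMonoidHom.ext fun v => ?_
          obtain ⟨y, rfl⟩ := hA.surj v
          rw [hfv, AddMonoidHom.zero_apply, chiK_eq_zero]
          exact hw.2 y y.2
      let R : Subgroup H :=
        { carrier := rad α T K
          one_mem' := ⟨one_mem _, fun y _ => by rw [commutatorElement_one_left]; exact one_mem _⟩
          mul_mem' := fun {u v} hu hv => by
            have h1 := (hmem (⟨u, hu.1⟩ * ⟨v, hv.1⟩)).1 (by
              rw [hA.add]; exact f.ker.add_mem ((hmem _).2 hu) ((hmem _).2 hv))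
            exact h1
          inv_mem' := fun {u} hu => by
            have h1 : π (⟨u, hu.1⟩⁻¹ : dGrp α T) = -π ⟨u, hu.1⟩ := by
              refine eq_neg_of_add_eq_zero_left ?_
              rw [← hA.add, inv_mul_cancel, hA.ker]
              exact one_mem _
            exact (hmem (⟨u, hu.1⟩⁻¹)).1 (by rw [h1]; exact f.ker.neg_mem ((hmem _).2 hu)) }
      have hmR : ∀ d, d ∈ R ↔ d ∈ rad α T K := fun d => Iff.rfl
      have hR : zGrp α T ≤ R := fun z hz => (hmR z).2 ⟨hz.1, fun y hy => by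
        rw [commutatorElement_eq_one_iff_mul_comm.2 (h.zGrp_le_centralizer T hT hz hy)]
        exact one_mem _⟩
      have hsR : Stb α R := fun d hd => by
        have hdD := ((hmR d).1 hd).1
        have h1 := hA.mod.stb_ker hf _ ((hmem ⟨d, hdD⟩).2 hd)
        rw [hA.act ⟨d, hdD⟩ ⟨α d, stb_dGrp T hT d hdD⟩ rfl] at h1
        exact (hmem _).1 h1
      refine ⟨R, hmR, hR, hsR, ?_⟩
      obtain ⟨j, hj⟩ := hA.mod.card_stb (hA.mod.stb_ker hf)
      have e1 := h.form_rad_card T hT hA hmR hR hfv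
      have e2 : R.relIndex (dGrp α T) * Nat.card R = Nat.card (dGrp α T) := by
        rw [← (R.subgroupOf (dGrp α T)).index_mul_card,
          Nat.card_congr (Subgroup.subgroupOfEquivOfLe (fun d hd => ((hmR d).1 hd).1 : R ≤ dGrp α T)).toEquiv]
        rfl
      have hj0 : j ≠ 0 := fun e0 => hbot (AddSubgroup.eq_bot_of_card_eq _ (by rw [hj, e0, mul_zero, pow_zero]))
      have hlt : Nat.card f.ker < 2 ^ (4 * m) := by
        rw [← hW]
        refine lt_of_le_of_ne (Nat.card_le_card_of_injective _ f.ker.subtype_injective) fun e0 => ?_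
        have htop : f.ker = ⊤ := AddSubgroup.eq_top_of_card_eq _ e0
        have hle : zGrp α T ≤ K := (h.zGrp_le_closure T hT).trans ((closure_le _).2 (by
          rintro _ ⟨u, hu, v, hv, rfl⟩
          refine chiK_eq_zero.1 ?_
          rw [← hfv ⟨u, hu⟩ ⟨v, hv⟩,
            AddMonoidHom.mem_ker.1 (htop ▸ AddSubgroup.mem_top (π ⟨u, hu⟩) : π ⟨u, hu⟩ ∈ f.ker)]
          rfl))
        exact hzK (hle hz₀)
      rw [hj] at hlt e1
      have l1 := (Nat.pow_lt_pow_iff_right (by norm_num : 1 < 2)).1 hlt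
      have hj1 : j = 1 := by
        have := hA.mod.pos
        nlinarith [Nat.pos_of_ne_zero hj0]
      rw [hj1, mul_one] at e1
      rw [← e1, ← hA.cardD, hW, ← mul_assoc] at e2
      have e3 := Nat.eq_of_mul_eq_mul_right (Nat.card_pos (α := zGrp α T)) e2
      rw [show 4 * m = 2 * m + 2 * m by omega, pow_add] at e3
      exact Nat.eq_of_mul_eq_mul_right (pow_pos (by norm_num) _) e3
    obtain ⟨d, hd, hdR⟩ : ∃ d ∈ dGrp α T, d ∉ R := by
      by_contra! hle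
      rw [Subgroup.relIndex_eq_one.2 hle] at hiR
      have := h.m_pos T hT hm
      exact absurd hiR (Nat.one_lt_pow (by omega) (by norm_num)).ne
    refine h.fixL_ne_of_pattern T hT hA hm hnm hKZ hK2 hmR hR hsR hiR hd hdR ?_ hP
    intro x hx hxf ⟨z, hz, hzne⟩
    exact absurd (hinv x hx hxf z hz) hzne

end Cfsg.Agent.Lib.HHS57
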