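import Cfsg.Agent.Lib.HHS57.ExactOne
import Cfsg.Agent.Lib.HHS57.SingLine

/-!
# No fixed 2-element moves `gD`: four classes, two layers, no fixed class (node I, I7; helper42)

The fixed elements act on `W` as a group of order three without fixed vectors; an eigenline of its
generator is stable and nonabelian, and gives a mate.
-/

set_option autoImplicit false
set_option linter.style.haveILetI false
set_option linter.unusedSectionVars false
set_option linter.unusedVariables false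

namespace Cfsg.Agent.Lib.HHS57

open Cfsg Cfsg.Agent.Lib
open Subgroup
open scoped commutatorElement

universe u

variable {H : Type u} [Group H] [Finite H] {p r : ℕ} {α : MulAut H} {V : Type u} [CommGroup V]
  [Finite V] {ψ : H →* MulAut V} {e : MulAut V}
  (h : Min p r α ψ e) (T : Sylow 2 H) (hT : Stb α (T : Subgroup H))

include h hT

/-- A fixed element centralising `gZ` does not move `gD`. -/
theorem Min.not_moves_of_comm_gZ (hneg : CenNeg ψ) (hnm : FixedNoMove α T)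
    {c : H ⧸ Subgroup.center H} (hc : c ∈ gM α T) (hcf : qAut α c = c)
    (hcZ : ∀ z ∈ gZ α T, c * z = z * c) : ¬ MovesD α T c := by
  set n := ordCompl[2] (orderOf c) with hn
  set k := (orderOf c).factorization 2 with hk
  have hodd : ¬ 2 ∣ n := Nat.not_dvd_ordCompl Nat.prime_two (orderOf_pos c).ne'
  have h1 : ¬ MovesD α T (c ^ n) := hnm _ (pow_mem hc _) (by rw [map_pow, hcf]) ⟨k, by
    rw [← pow_mul, mul_comm, hn, hk, Nat.ordProj_mul_ordCompl_eq_self, pow_orderOf_eq_one]⟩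
  have h2 : ¬ MovesD α T (c ^ 2 ^ k) := by
    refine h.not_moves_of_central T hT hneg (pow_mem hc _) (by rw [map_pow, hcf]) ?_
      fun z hz => ((show Commute c z from hcZ z hz).pow_left _).eq
    have h3 : orderOf (c ^ 2 ^ k) ∣ n := orderOf_dvd_of_pow_eq_one (by
      rw [← pow_mul, hn, hk, Nat.ordProj_mul_ordCompl_eq_self, pow_orderOf_eq_one])
    exact (Nat.odd_iff.2 (Nat.two_dvd_ne_zero.1 hodd)).of_dvd_nat h3
  -- nonmoving elements are closed under powers
  obtain ⟨m, -, hm⟩ := h.exists_m T hT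
  obtain ⟨W, _, _, a, π, θ, hA⟩ := h.exists_action T hT hm
  set g : (gM α T ⊓ fixG (qAut α) : Subgroup (H ⧸ Subgroup.center H)) := ⟨c, hc, hcf⟩
  refine (h.act_eq_one_iff T hT hA g).1 ?_
  have e1 : θ g ^ n = 1 := by rw [← map_pow]; exact (h.act_eq_one_iff T hT hA (g ^ n)).2 h1
  have e2 : θ g ^ 2 ^ k = 1 := by rw [← map_pow]; exact (h.act_eq_one_iff T hT hA (g ^ 2 ^ k)).2 h2
  have hg := pow_gcd_eq_one.mpr ⟨e1, e2⟩
  have hco : Nat.gcd n (2 ^ k) = 1 :=
    (Nat.coprime_comm.1 ((Nat.prime_two.coprime_iff_not_dvd).2 hodd)).pow_right k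
  rwa [hco, pow_one] at hg

/-- With four classes: fixing one nontrivial class, centralising all. -/
theorem Min.comm_gZ_of_fix_one (hneg : CenNeg ψ) (hnm : FixedNoMove α T) (hq : Nat.card (gZ α T) = 4)
    {c : H ⧸ Subgroup.center H} (hc : c ∈ gM α T) (hcf : qAut α c = c) {z : H ⧸ Subgroup.center H}
    (hz : z ∈ gZ α T) (hz1 : z ≠ 1) (hcz : c * z * c⁻¹ = z) : ∀ z' ∈ gZ α T, c * z' = z' * c := by
  have hsq : ∀ z' ∈ gZ α T, c * c * z' * (c * c)⁻¹ = z' := by
    intro z' hz'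
    have hle : Subgroup.zpowers z ≤ gZ α T := Subgroup.zpowers_le.2 hz
    have hidx : ((Subgroup.zpowers z).subgroupOf (gZ α T)).index = 2 := by
      have e1 := ((Subgroup.zpowers z).subgroupOf (gZ α T)).index_mul_card
      rw [Nat.card_congr (Subgroup.subgroupOfEquivOfLe hle).toEquiv, Nat.card_zpowers,
        orderOf_eq_prime (by rw [pow_two]; exact h.gZ_sq T hT hz) hz1, hq] at e1
      omega
    have hmem : ∀ w ∈ gZ α T, w ∈ Subgroup.zpowers z → c * w * c⁻¹ = w := fun w _ hw => by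
      obtain ⟨i, rfl⟩ := Subgroup.mem_zpowers_iff.1 hw
      rw [← conj_zpow, hcz]
    by_cases hw : z' ∈ Subgroup.zpowers z
    · rw [show c * c * z' * (c * c)⁻¹ = c * (c * z' * c⁻¹) * c⁻¹ by group, hmem z' hz' hw, hmem z' hz' hw]
    have hcz' : c * z' * c⁻¹ ∈ gZ α T := h.gZ_conj T hT hc hz'
    have hnot : c * z' * c⁻¹ ∉ Subgroup.zpowers z := fun h1 => hw (by
      have h2 := hmem _ hcz' h1
      rwa [mul_left_cancel (mul_right_cancel h2)] at h1)
    have hd := (Subgroup.mul_mem_iff_of_index_two (H := (Subgroup.zpowers z).subgroupOf (gZ α T)) hidx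
      (a := ⟨_, hcz'⟩) (b := ⟨z'⁻¹, inv_mem hz'⟩)).2
      (iff_of_false (fun h1 => hnot (Subgroup.mem_subgroupOf.1 h1))
        (fun h1 => hw ((Subgroup.inv_mem_iff _).1 (Subgroup.mem_subgroupOf.1 h1))))
    set t := c * z' * c⁻¹ * z'⁻¹ with ht
    have htz : t ∈ Subgroup.zpowers z := Subgroup.mem_subgroupOf.1 hd
    have e1 : c * z' * c⁻¹ = t * z' := by rw [ht]; group
    calc c * c * z' * (c * c)⁻¹ = c * (c * z' * c⁻¹) * c⁻¹ := by group
      _ = c * (t * z') * c⁻¹ := by rw [e1]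
      _ = (c * t * c⁻¹) * (c * z' * c⁻¹) := by group
      _ = t * (t * z') := by rw [hmem t (hle htz) htz, e1]
      _ = z' := by rw [← mul_assoc, h.gZ_sq T hT (hle htz), one_mul]
  set n := ordCompl[2] (orderOf c) with hn
  set k := (orderOf c).factorization 2 with hk
  obtain ⟨i, hi⟩ := Nat.odd_iff.2 (Nat.two_dvd_ne_zero.1
    (Nat.not_dvd_ordCompl Nat.prime_two (orderOf_pos c).ne') : n % 2 = 1)
  intro z' hz'
  have h1 : c ^ n * z' = z' * c ^ n :=
    h.comm_gZ_of_not_moves T hT (pow_mem hc _) (hnm _ (pow_mem hc _) (by rw [map_pow, hcf]) ⟨k, by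
      rw [← pow_mul, mul_comm, hn, hk, Nat.ordProj_mul_ordCompl_eq_self, pow_orderOf_eq_one]⟩) z' hz'
  have h2 : Commute (c * c) z' := mul_inv_eq_iff_eq_mul.1 (hsq z' hz')
  have h3 : Commute ((c * c) ^ i) z' := h2.pow_left i
  rw [hi, pow_succ, pow_mul, pow_two] at h1
  rw [mul_assoc, ← mul_assoc z', ← h3.eq, mul_assoc ((c * c) ^ i) z' c] at h1
  exact mul_left_cancel h1

/-- I7. -/
theorem Min.singMate_four (hneg : CenNeg ψ) {m : ℕ} (hm : r = 2 ^ m + 1) (hnm : FixedNoMove α T)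
    (hk1 : Nat.card (gZ α T) * 2 ^ (2 * m) < Nat.card (gD α T))
    (hk : Nat.card (gD α T) ≤ Nat.card (gZ α T) * 2 ^ (4 * m)) {Λ : Subgroup (H ⧸ Subgroup.center H)}
    (hΛf : ∀ c ∈ Λ, qAut α c = c) (hΛM : Λ ≤ gM α T) (hΛo : Odd (Nat.card Λ))
    (hΛt : ∀ z ∈ gZ α T, z ≠ 1 → ∀ z' ∈ gZ α T, z' ≠ 1 → ∃ c ∈ Λ, c * z * c⁻¹ = z')
    (hq : Nat.card (gZ α T) = 4) (hP : fixL α T (gM α T ⊓ fixG (qAut α)) = gZ α T) (hm3 : 3 ≤ m) :
    SingMate α T := by
  classical
  obtain ⟨W, _, _, a, π, θ, hA⟩ := h.exists_action T hT hm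
  have hW : Nat.card W = 2 ^ (4 * m) := by
    obtain ⟨j, hj⟩ := hA.mod.card_stb (L := ⊤) fun x _ => AddSubgroup.mem_top _
    have hWj : Nat.card W = 2 ^ (2 * m * j) :=
      (Nat.card_congr AddSubgroup.topEquiv.toEquiv).symm.trans hj
    have hlt : 2 ^ (2 * m) < Nat.card W := Nat.lt_of_mul_lt_mul_left (a := Nat.card (gZ α T))
      (by rw [mul_comm _ (Nat.card W), hA.card]; exact hk1)
    have hle : Nat.card W ≤ 2 ^ (4 * m) := Nat.le_of_mul_le_mul_left
      (by rw [mul_comm _ (Nat.card W), hA.card]; exact hk) Nat.card_pos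
    rw [hWj] at hlt hle
    have l1 := (Nat.pow_lt_pow_iff_right (by norm_num : 1 < 2)).1 hlt
    have l2 := (Nat.pow_le_pow_iff_right (by norm_num : 1 < 2)).1 hle
    have hj2 : j = 2 := by nlinarith [hA.mod.pos]
    rw [hWj, hj2]
    congr 1
    omega
  -- nontrivial classes
  obtain ⟨z, hz, hz1⟩ : ∃ z ∈ gZ α T, z ≠ 1 := by
    by_contra! hh
    rw [(Subgroup.eq_bot_iff_forall _).2 hh, Subgroup.card_bot] at hq
    omega
  obtain ⟨z', hz', hz'1, hzz'⟩ : ∃ z' ∈ gZ α T, z' ≠ 1 ∧ z' ≠ z := by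
    by_contra! hh
    have hle : gZ α T ≤ Subgroup.zpowers z := fun w hw => by
      by_cases h1 : w = 1
      · rw [h1]; exact one_mem _
      · rw [hh w hw h1]; exact Subgroup.mem_zpowers _
    have h2 := Subgroup.card_le_of_le hle
    rw [Nat.card_zpowers, hq, orderOf_eq_prime (by rw [pow_two]; exact h.gZ_sq T hT hz) hz1] at h2
    omega
  obtain ⟨γ, hγ, hγz⟩ := hΛt z hz hz1 z' hz' hz'1
  set g : (gM α T ⊓ fixG (qAut α) : Subgroup (H ⧸ Subgroup.center H)) := ⟨γ, hΛM hγ, hΛf γ hγ⟩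
  -- trivial on one class: trivial action
  have hstab : ∀ c : (gM α T ⊓ fixG (qAut α) : Subgroup (H ⧸ Subgroup.center H)), ∀ w ∈ gZ α T, w ≠ 1 →
      (c : H ⧸ Subgroup.center H) * w * (c : H ⧸ Subgroup.center H)⁻¹ = w → θ c = 1 :=
    fun c w hw hw1 hcw => (h.act_eq_one_iff T hT hA c).2 (h.not_moves_of_comm_gZ T hT hneg hnm c.2.1 c.2.2
      (h.comm_gZ_of_fix_one T hT hneg hnm hq c.2.1 c.2.2 hw hw1 hcw))
  set σ : H ⧸ Subgroup.center H → H ⧸ Subgroup.center H := fun w => γ * w * γ⁻¹ with hσ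
  have hσZ : ∀ w ∈ gZ α T, σ w ∈ gZ α T := fun w hw => h.gZ_conj T hT (hΛM hγ) hw
  have hσ1 : ∀ w, w ≠ 1 → σ w ≠ 1 := fun w hw1 e1 => hw1 (conj_eq_one_iff.1 e1)
  set z'' := σ z' with hz''
  -- `θ γ` moves every class
  have hmove : ∀ w ∈ gZ α T, w ≠ 1 → σ w ≠ w := fun w hw hw1 e1 => hzz' (by
    have h1 := h.act_conj_gZ T hT hA (c := g) (c' := 1) (by rw [hstab g w hw hw1 e1, map_one]) hz
    simp only [Subgroup.coe_one, one_mul, inv_one, mul_one] at h1
    rw [← hγz]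
    exact h1)
  have hz''z : z'' ≠ z := by
    intro e1
    -- `γ ^ 2` fixes `z`, so is trivial; `γ` has odd order
    have h2 : θ (g * g) = 1 := hstab (g * g) z hz hz1 (by
      show γ * γ * z * (γ * γ)⁻¹ = z
      conv_rhs => rw [← e1, hz'', hσ]
      simp only [← hγz]
      group)
    obtain ⟨i, hi⟩ : Odd (orderOf g) := by
      rw [← Subgroup.orderOf_coe]
      refine hΛo.of_dvd_nat ?_
      have h5 := orderOf_dvd_natCard (⟨γ, hγ⟩ : Λ)
      rwa [← Subgroup.orderOf_coe] at h5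
    have h3 : θ g = 1 := by
      have h4 := pow_orderOf_eq_one g
      rw [hi, pow_succ, pow_mul, pow_two] at h4
      have := congrArg θ h4
      rwa [map_mul, map_pow, h2, one_pow, one_mul, map_one] at this
    exact hmove z hz hz1 (by simpa using h.act_conj_gZ T hT hA (c := g) (c' := 1) (by rw [h3, map_one]) hz)
  have hall : ∀ w ∈ gZ α T, w ≠ 1 → w = z ∨ w = z' ∨ w = z'' := by
    intro w hw hw1
    by_contra! hh
    letI := Fintype.ofFinite (gZ α T)
    let F : Fin 5 → gZ α T := ![1, ⟨z, hz⟩, ⟨z', hz'⟩, ⟨z'', hσZ _ hz'⟩, ⟨w, hw⟩]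
    have hF : Function.Injective F := by
      have a1 : z'' ≠ 1 := hσ1 _ hz'1
      have a2 : z'' ≠ z' := hmove z' hz' hz'1
      intro i j hij
      have hij' := congrArg Subtype.val hij
      fin_cases i <;> fin_cases j <;> first
        | rfl
        | exact absurd hij' hz1 | exact absurd hij'.symm hz1
        | exact absurd hij' hz'1 | exact absurd hij'.symm hz'1
        | exact absurd hij' hw1 | exact absurd hij'.symm hw1
        | exact absurd hij' a1 | exact absurd hij'.symm a1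
        | exact absurd hij' hzz' | exact absurd hij'.symm hzz'
        | exact absurd hij' hz''z | exact absurd hij'.symm hz''z
        | exact absurd hij' a2 | exact absurd hij'.symm a2
        | exact absurd hij' hh.1 | exact absurd hij'.symm hh.1
        | exact absurd hij' hh.2.1 | exact absurd hij'.symm hh.2.1
        | exact absurd hij' hh.2.2 | exact absurd hij'.symm hh.2.2
    have h5 := Fintype.card_le_of_injective F hF
    rw [Fintype.card_fin, ← Nat.card_eq_fintype_card, hq] at h5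
    omega
  -- every element acts as a power of `γ`
  have hgen : ∀ c, ∃ i : ℕ, θ c = θ (g ^ i) := by
    intro c
    have key : ∀ i : ℕ, (c : H ⧸ Subgroup.center H) * z * (c : H ⧸ Subgroup.center H)⁻¹ =
        γ ^ i * z * (γ ^ i)⁻¹ → ∃ i : ℕ, θ c = θ (g ^ i) := by
      intro i hi
      refine ⟨i, ?_⟩
      have h1 := hstab ((g ^ i)⁻¹ * c) z hz hz1 (by
        show (γ ^ i)⁻¹ * (c : H ⧸ Subgroup.center H) * z * ((γ ^ i)⁻¹ * (c : H ⧸ Subgroup.center H))⁻¹ = z
        rw [show (γ ^ i)⁻¹ * (c : H ⧸ Subgroup.center H) * z * ((γ ^ i)⁻¹ * (c : H ⧸ Subgroup.center H))⁻¹ =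
          (γ ^ i)⁻¹ * ((c : H ⧸ Subgroup.center H) * z * (c : H ⧸ Subgroup.center H)⁻¹) * γ ^ i by group, hi]
        group)
      have h2 := congrArg (θ (g ^ i) * ·) h1
      simp only [← map_mul, mul_inv_cancel_left, mul_one] at h2
      exact h2
    have hcz1 : (c : H ⧸ Subgroup.center H) * z * (c : H ⧸ Subgroup.center H)⁻¹ ≠ 1 :=
      fun e1 => hz1 (conj_eq_one_iff.1 e1)
    rcases hall _ (h.gZ_conj T hT c.2.1 hz) hcz1 with e1 | e1 | e1
    · exact key 0 (by rw [e1]; simp)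
    · exact key 1 (by rw [e1, pow_one, hγz])
    · exact key 2 (by rw [e1, hz'', hσ, ← hγz, pow_two]; group)
  have hg3 : θ (g ^ 3) = 1 := hstab (g ^ 3) z hz hz1 (by
    show γ ^ 3 * z * (γ ^ 3)⁻¹ = z
    have e0 : γ ^ 3 * z * (γ ^ 3)⁻¹ = σ z'' := by
      rw [hz'', hσ, ← hγz, show γ ^ 3 = γ * γ * γ by rw [pow_succ, pow_two]]
      group
    rw [e0]
    rcases hall _ (hσZ _ (hσZ _ hz')) (hσ1 _ (hσ1 _ hz'1)) with e1 | e1 | e1
    · exact e1
    · exfalso
      apply hz''z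
      have : σ z'' = σ z := e1.trans hγz.symm
      exact mul_left_cancel (mul_right_cancel this)
    · exact absurd e1 (hmove _ (hσZ _ hz') (hσ1 _ hz'1)))
  -- no fixed vector
  let gg : W ≃+ W :=
    { toFun := θ g, invFun := θ g⁻¹
      left_inv := fun v => by
        show (θ g⁻¹ * θ g) v = v
        rw [← map_mul, inv_mul_cancel, map_one]
        rfl
      right_inv := fun v => by
        show (θ g * θ g⁻¹) v = v
        rw [← map_mul, mul_inv_cancel, map_one]
        rfl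
      map_add' := map_add (θ g : W →+ W) }
  have hg3' : ∀ v, θ g (θ g (θ g v)) = v := fun v => by
    show (θ g * (θ g * θ g)) v = v
    rw [← map_mul, ← map_mul, show g * (g * g) = g ^ 3 by rw [pow_succ, pow_two, mul_assoc], hg3]
    rfl
  have hfix : ∀ v, θ g v = v → v = 0 := by
    intro v hv
    obtain ⟨d, rfl⟩ := hA.surj v
    rw [hA.ker]
    refine h.mem_of_map T hT le_rfl inf_le_left d.2 ?_
    show qHom H d ∈ gZ α T
    rw [← hP]
    refine (h.mem_fixL T hT inf_le_left).2 ⟨mem_map_of_mem _ d.2, fun c hc => ?_⟩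
    refine (h.act_eq_iff T hT hA ⟨c, hc⟩ d).1 ?_
    obtain ⟨i, hi⟩ := hgen ⟨c, hc⟩
    rw [hi, act_pow T g i]
    exact Function.iterate_fixed hv i
  have hgg : ∀ v, gg (gg v) + gg v + v = 0 := fun v => hfix _ (by
    show θ g (θ g (θ g v) + θ g v + v) = θ g (θ g v) + θ g v + v
    rw [map_add, map_add, hg3']
    abel)
  -- a line
  obtain ⟨z₀, hz₀, hz₀q⟩ := hz
  obtain ⟨K, hK, -⟩ := h.exists_occ T hT hz₀ fun e1 => hz1 (by rw [← hz₀q, e1, map_one])
  obtain ⟨f, hf, hfv⟩ := h.exists_form T hT hA hK.le hK.two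
  have hR : Nat.card f.ker = 2 ^ (2 * m) := by
    have e1 := h.form_ker_card T hT hA hm hK hfv
    rw [hW, show 4 * m = 2 * m + 2 * m by omega, pow_add] at e1
    exact Nat.eq_of_mul_eq_mul_right (pow_pos (by norm_num) _) e1
  obtain ⟨L, hL, hLc, hLg⟩ := FpfMod.eigen_line hA.mod hW gg (fun v => hA.comm g v) hgg (hA.mod.stb_ker hf) hR
  have hLθ : ∀ c, ∀ v ∈ L, θ c v ∈ L := fun c v hv => by
    obtain ⟨i, hi⟩ := hgen c
    rw [hi, act_pow T g i]
    clear hi
    induction i with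
    | zero => exact hv
    | succ i ih => rw [Function.iterate_succ_apply']; exact hLg _ ih
  refine h.singMate_line T hT hA L hL hLc hLθ ?_ (by
    rw [hq]
    calc 4 < 2 ^ 3 := by norm_num
      _ ≤ 2 ^ m := Nat.pow_le_pow_right (by norm_num) hm3)
  by_contra! hab
  -- the preimage of an abelian stable line is fixed
  let X : Subgroup (H ⧸ Subgroup.center H) :=
    { carrier := {y | ∃ d : dGrp α T, π d ∈ L ∧ qHom H d = y}
      one_mem' := ⟨1, by rw [(hA.ker 1).2 (one_mem _)]; exact L.zero_mem, map_one _⟩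
      mul_mem' := by
        rintro _ _ ⟨d, hd, rfl⟩ ⟨d', hd', rfl⟩
        exact ⟨d * d', by rw [hA.add]; exact L.add_mem hd hd', map_mul _ _ _⟩
      inv_mem' := by
        rintro _ ⟨d, hd, rfl⟩
        refine ⟨d⁻¹, ?_, map_inv _ _⟩
        have h1 : π d⁻¹ = -π d := by
          refine eq_neg_of_add_eq_zero_left ?_
          rw [← hA.add, inv_mul_cancel, hA.ker]
          exact one_mem _
        rw [h1]
        exact L.neg_mem hd }
  have hXD : X ≤ gD α T := by
    rintro _ ⟨d, -, rfl⟩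
    exact mem_map_of_mem _ d.2
  have hXα : Stb (qAut α) X := by
    rintro _ ⟨d, hd, rfl⟩
    refine ⟨⟨α d, stb_dGrp T hT d d.2⟩, ?_, rfl⟩
    rw [← hA.act d _ rfl]
    exact hL _ hd
  have hXc : ∀ u ∈ X, ∀ v ∈ X, u * v = v * u := by
    rintro _ ⟨d, hd, rfl⟩ _ ⟨d', hd', rfl⟩
    rw [← commutatorElement_eq_one_iff_mul_comm, ← map_commutatorElement]
    exact hab d d' hd hd'
  have hXΓ : ∀ c ∈ gM α T ⊓ fixG (qAut α), ∀ u ∈ X, c * u * c⁻¹ ∈ X := by
    rintro c hc _ ⟨d, hd, rfl⟩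
    obtain ⟨x, hx, -, hxM⟩ := h.exists_fixed_lift T hT ⟨c, hc⟩
    refine ⟨⟨x * d * x⁻¹, (Subgroup.mem_normalizer_iff.1 hxM d).1 d.2⟩, ?_, ?_⟩
    · rw [← hA.apply T hT hx hxM]
      exact hLθ _ _ hd
    · show qHom H (x * d * x⁻¹) = c * qHom H d * c⁻¹
      rw [map_mul, map_mul, map_inv, hx]
  set U := cm (qAut α) X with hU
  have hUD : U ≤ gD α T := (cm_le hXα).trans hXD
  have hUP : U ≤ gZ α T := by
    rw [← hP]
    intro u hu
    refine (h.mem_fixL T hT inf_le_left).2 ⟨hUD hu, fun c hc => ?_⟩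
    rw [h.line_pointwise T hT hneg hm hUD (stb_cm hXα) (cm_cm h.hr h.qPow h.qCo hXα)
      (fun u hu v hv => hXc u (cm_le hXα hu) v (cm_le hXα hv)) hc.2 (fun v hv => ?_) u hu,
      mul_inv_cancel_right, mul_inv_cancel]
    · exact one_mem _
    refine (?_ : U ≤ U.comap (MulAut.conj c).toMonoidHom) hv
    refine cm_le_iff.2 fun l hl => ?_
    rw [Subgroup.mem_comap]
    simp only [MulEquiv.coe_toMonoidHom, MulAut.conj_apply]
    rw [show c * (l⁻¹ * qAut α l) * c⁻¹ = (c * l * c⁻¹)⁻¹ * qAut α (c * l * c⁻¹) by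
      rw [map_mul, map_mul, map_inv, mem_fixG.1 hc.2]; group]
    exact mem_cm (hXΓ c hc l hl)
  obtain ⟨v, hv⟩ := (hA.mod.restrict hL).exists_ne_zero hLc
  obtain ⟨d, hd⟩ := hA.surj (v : W)
  have hdX : qHom H d ∈ X := ⟨d, hd ▸ v.2, rfl⟩
  have h1 := h.gMem_gZ T hT (hXD hdX) (hUP (mem_cm hdX))
  exact hv (Subtype.ext (hd.symm.trans ((hA.ker d).2 (h.mem_of_map T hT le_rfl inf_le_left d.2 h1))))

end Cfsg.Agent.Lib.HHS57
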