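import Cfsg.Agent.Lib.HHS57.ThreeLines
import Cfsg.Agent.Lib.HHS57.Action

/-!
# No fixed 2-element moves `gD`: a mate for an abelian fixed part (node I, I5; helper42)

Some `d` has `[d, U] = gZ`: otherwise `gD` would be the union of few proper invariant subgroups.
-/

set_option autoImplicit false
set_option linter.style.haveILetI false
set_option linter.unusedSectionVars false
set_option linter.unusedVariables false

namespace Cfsg.Agent.Lib.HHS57

open Cfsg Cfsg.Agent.Lib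
open Subgroup
open scoped commutatorElement

universe u

variable {H : Type u} [Group H] [Finite H] {p r : ℕ} {α : MulAut H} {V : Type u} [CommGroup V]
  [Finite V] {ψ : H →* MulAut V} {e : MulAut V}
  (h : Min p r α ψ e) (T : Sylow 2 H) (hT : Stb α (T : Subgroup H))

include h hT

theorem Min.gComm_mul_right {d a b : H ⧸ Subgroup.center H} (hd : d ∈ gD α T) (ha : a ∈ gD α T)
    (hb : b ∈ gD α T) : ⁅d, a * b⁆ = ⁅d, a⁆ * ⁅d, b⁆ := by
  calc ⁅d, a * b⁆ = ⁅d, a⁆ * (a * ⁅d, b⁆ * a⁻¹) := by simp only [commutatorElement_def]; group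
    _ = ⁅d, a⁆ * ⁅d, b⁆ := by
      rw [← h.gZ_comm T hT (h.gD_commutator T hT hd hb) ha, mul_inv_cancel_right]

theorem Min.gComm_mul_left {a b u : H ⧸ Subgroup.center H} (ha : a ∈ gD α T) (hb : b ∈ gD α T)
    (hu : u ∈ gD α T) : ⁅a * b, u⁆ = ⁅b, u⁆ * ⁅a, u⁆ := by
  calc ⁅a * b, u⁆ = (a * ⁅b, u⁆ * a⁻¹) * ⁅a, u⁆ := by simp only [commutatorElement_def]; group
    _ = ⁅b, u⁆ * ⁅a, u⁆ := by
      rw [← h.gZ_comm T hT (h.gD_commutator T hT hb hu) ha, mul_inv_cancel_right]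

/-- I5. -/
theorem Min.exists_mate (hneg : CenNeg ψ) {m : ℕ} (hm : r = 2 ^ m + 1) (hnm : FixedNoMove α T)
    (hk : Nat.card (gZ α T) * 2 ^ (2 * m) < Nat.card (gD α T)) {Λ : Subgroup (H ⧸ Subgroup.center H)}
    (hΛf : ∀ c ∈ Λ, qAut α c = c) (hΛM : Λ ≤ gM α T) (hΛo : Odd (Nat.card Λ))
    (hΛt : ∀ z ∈ gZ α T, z ≠ 1 → ∀ z' ∈ gZ α T, z' ≠ 1 → ∃ c ∈ Λ, c * z * c⁻¹ = z')
    (hq : 4 ≤ Nat.card (gZ α T)) (hne : fixL α T (gM α T ⊓ fixG (qAut α)) ≠ gZ α T)
    (hcomm : ∀ a ∈ fixL α T (gM α T ⊓ fixG (qAut α)), ∀ b ∈ fixL α T (gM α T ⊓ fixG (qAut α)),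
      a * b = b * a) :
    ∃ u ∈ cm (qAut α) (fixL α T (gM α T ⊓ fixG (qAut α))), ∃ v ∈ gD α T,
      v * v = 1 ∧ u * v ≠ v * u := by
  classical
  set Γ := gM α T ⊓ fixG (qAut α) with hΓ
  have hΓM : Γ ≤ gM α T := inf_le_left
  set P := fixL α T Γ with hP
  have hPD : P ≤ gD α T := h.fixL_le T hT hΓM
  have hPα : Stb (qAut α) P := h.fixL_stb T hT hΓM
  have hZP : gZ α T ≤ P := h.gZ_le_fixL T hT hΓM
  have hPne : P ≠ gD α T := fun e1 => by
    have hbot : gZ α T = ⊥ := le_bot_iff.1 ((h.gCommutator_closure T hT).trans ((closure_le _).2 (by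
      rintro _ ⟨x, hx, y, hy, rfl⟩
      exact Subgroup.mem_bot.2 (commutatorElement_eq_one_iff_mul_comm.2
        (hcomm x (e1.symm ▸ hx) y (e1.symm ▸ hy))))))
    rw [hbot, Subgroup.card_bot] at hq
    omega
  set U := cm (qAut α) P with hU
  have hUP : U ≤ P := cm_le hPα
  have hUD : U ≤ gD α T := hUP.trans hPD
  obtain ⟨-, hU2⟩ := h.gAbelian_facts T hT hUD (stb_cm hPα) (cm_cm h.hr h.qPow h.qCo hPα)
    fun x hx y hy => hcomm x (hUP hx) y (hUP hy)
  have hcU : ∀ c ∈ Λ, ∀ u ∈ U, c * u = u * c := fun c hc => h.fixed_comm_cm T hT (hΛf c hc) hPD hPα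
    fun d hd => ((h.mem_fixL T hT hΓM).1 hd).2 c ⟨hΛM hc, hΛf c hc⟩
  obtain ⟨d₀, hd₀, u₀, hu₀, hdu₀⟩ := h.exists_not_comm_line T hT hneg hZP hPD hPα hne hPne hcomm
  -- the subgroup of elements bracketing `U` into `N`
  have hS : ∀ N : Subgroup (H ⧸ Subgroup.center H), N ≤ gZ α T →
      ∃ S : Subgroup (H ⧸ Subgroup.center H), S ≤ gD α T ∧ P ≤ S ∧ Stb (qAut α) S ∧
        ∀ y, y ∈ S ↔ y ∈ gD α T ∧ ∀ u ∈ U, ⁅y, u⁆ ∈ N := by
    intro N hN
    let S : Subgroup (H ⧸ Subgroup.center H) :=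
      { carrier := {y | y ∈ gD α T ∧ ∀ u ∈ U, ⁅y, u⁆ ∈ N}
        one_mem' := ⟨one_mem _, fun u _ => by simp⟩
        mul_mem' := fun {a b} ha hb => ⟨mul_mem ha.1 hb.1, fun u hu => by
          rw [h.gComm_mul_left T hT ha.1 hb.1 (hUD hu)]
          exact mul_mem (hb.2 u hu) (ha.2 u hu)⟩
        inv_mem' := fun {a} ha => ⟨inv_mem ha.1, fun u hu => by
          have e1 := h.gComm_mul_left T hT ha.1 (inv_mem ha.1) (hUD hu)
          rw [mul_inv_cancel, commutatorElement_one_left] at e1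
          rw [eq_inv_of_mul_eq_one_left e1.symm]
          exact inv_mem (ha.2 u hu)⟩ }
    refine ⟨S, fun y hy => hy.1, fun y hy => ⟨hPD hy, fun u hu => ?_⟩,
      fun y hy => ⟨h.gD_stb T hT y hy.1, fun u hu => ?_⟩, fun y => Iff.rfl⟩
    · rw [commutatorElement_eq_one_iff_mul_comm.2 (hcomm y hy u (hUP hu))]
      exact one_mem _
    · have hu' : (qAut α).symm u ∈ U := (stb_cm hPα).symm_mem hu
      have e1 := hy.2 _ hu'
      rw [← (qAut α).apply_symm_apply u, ← map_commutatorElement, h.gZ_fixed T hT (hN e1)]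
      exact e1
  -- transitivity: `[gD, U]` generates `gZ`
  have hfull : ∀ N : Subgroup (H ⧸ Subgroup.center H), N ≤ gZ α T →
      (∀ y ∈ gD α T, ∀ u ∈ U, ⁅y, u⁆ ∈ N) → gZ α T ≤ N := by
    intro N hN hall z hz
    by_cases hz1 : z = 1
    · rw [hz1]; exact one_mem _
    obtain ⟨c, hc, rfl⟩ := hΛt ⁅d₀, u₀⁆ (h.gD_commutator T hT hd₀ (hUD hu₀))
      (fun e1 => hdu₀ (commutatorElement_eq_one_iff_mul_comm.1 e1)) z hz hz1
    rw [show c * ⁅d₀, u₀⁆ * c⁻¹ = ⁅c * d₀ * c⁻¹, c * u₀ * c⁻¹⁆ by simp only [commutatorElement_def]; group,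
      show c * u₀ * c⁻¹ = u₀ by rw [hcU c hc u₀ hu₀, mul_inv_cancel_right]]
    exact hall _ (h.gD_conj T hT (hΛM hc) hd₀) u₀ hu₀
  -- some `d` brackets `U` onto `gZ`
  obtain ⟨d, hd, hdsurj⟩ : ∃ d ∈ gD α T, ∀ z ∈ gZ α T, ∃ u ∈ U, ⁅d, u⁆ = z := by
    have hN : ∀ d ∈ gD α T, ∃ N : Subgroup (H ⧸ Subgroup.center H), N ≤ gZ α T ∧
        ∀ z, z ∈ N ↔ ∃ u ∈ U, ⁅d, u⁆ = z := by
      intro d hd
      let N : Subgroup (H ⧸ Subgroup.center H) :=
        { carrier := {z | ∃ u ∈ U, ⁅d, u⁆ = z}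
          one_mem' := ⟨1, one_mem _, commutatorElement_one_right d⟩
          mul_mem' := by
            rintro _ _ ⟨a, ha, rfl⟩ ⟨b, hb, rfl⟩
            exact ⟨a * b, mul_mem ha hb, h.gComm_mul_right T hT hd (hUD ha) (hUD hb)⟩
          inv_mem' := by
            rintro _ ⟨a, ha, rfl⟩
            refine ⟨a, ha, ?_⟩
            exact (inv_eq_of_mul_eq_one_right (h.gZ_sq T hT (h.gD_commutator T hT hd (hUD ha)))).symm }
      exact ⟨N, by rintro _ ⟨u, hu, rfl⟩; exact h.gD_commutator T hT hd (hUD hu), fun z => Iff.rfl⟩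
    by_cases hq4 : Nat.card (gZ α T) = 4
    swap
    · have hk4 := (h.card_le_of_orbit T hT hneg hm ⟨hΛf, hΛM, hΛo, hΛt⟩ hq).2 hq4
      obtain ⟨d, hd, hdP⟩ : ∃ d ∈ gD α T, d ∉ P := by
        by_contra! hh
        exact hPne (le_antisymm hPD hh)
      obtain ⟨N, hNZ, hNm⟩ := hN d hd
      obtain ⟨S, hSD, hPS, hSα, hSm⟩ := hS N hNZ
      have hdS : d ∈ S := (hSm d).2 ⟨hd, fun u hu => (hNm _).2 ⟨u, hu, rfl⟩⟩
      have hSe : S = gD α T := by
        by_contra hSne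
        have hPS' : P = S := Subgroup.eq_of_le_of_card_ge hPS (le_of_eq (by
          rw [h.line_card T hT hm hk4 hZP hPD hPα hne hPne,
            h.line_card T hT hm hk4 (hZP.trans hPS) hSD hSα
              (fun e1 => hdP (hZP (e1 ▸ hdS))) hSne]))
        exact hdP (hPS' ▸ hdS)
      refine ⟨d, hd, fun z hz => (hNm z).1 (hfull N hNZ (fun y hy => ((hSm y).1 (hSe ▸ hy)).2) hz)⟩
    · by_contra! hno
      letI := Fintype.ofFinite (gD α T)
      letI := Fintype.ofFinite (gZ α T)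
      have hcov : ∀ d : gD α T, ∃ z : {z : gZ α T // z ≠ 1},
          ∀ u ∈ U, ⁅(d : H ⧸ Subgroup.center H), u⁆ ∈ Subgroup.zpowers ((z : gZ α T) : H ⧸ Subgroup.center H) := by
        intro d
        obtain ⟨N, hNZ, hNm⟩ := hN d d.2
        have hN2 : Nat.card N ≤ 2 := by
          have hdvd : Nat.card N ∣ 4 := hq4 ▸ Subgroup.card_dvd_of_le hNZ
          have hlt : Nat.card N < 4 := by
            rw [← hq4]
            refine lt_of_le_of_ne (Subgroup.card_le_of_le hNZ) fun e1 => ?_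
            obtain ⟨z, hz, hzu⟩ := hno d d.2
            have e2 : N = gZ α T := Subgroup.eq_of_le_of_card_ge hNZ e1.ge
            obtain ⟨u, hu, huz⟩ := (hNm z).1 (e2 ▸ hz)
            exact hzu u hu huz
          have := Nat.pos_of_dvd_of_pos hdvd (by norm_num)
          interval_cases hc : Nat.card N <;> omega
        obtain ⟨z, hz, hz1, hNz⟩ : ∃ z ∈ gZ α T, z ≠ 1 ∧ N ≤ Subgroup.zpowers z := by
          by_cases hb : N = ⊥
          · obtain ⟨z, hz, hz1⟩ : ∃ z ∈ gZ α T, z ≠ 1 := ⟨⁅d₀, u₀⁆, h.gD_commutator T hT hd₀ (hUD hu₀),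
              fun e1 => hdu₀ (commutatorElement_eq_one_iff_mul_comm.1 e1)⟩
            exact ⟨z, hz, hz1, hb ▸ bot_le⟩
          · obtain ⟨z, hz, hz1⟩ : ∃ z ∈ N, z ≠ 1 := by
              by_contra! hh
              exact hb ((Subgroup.eq_bot_iff_forall _).2 hh)
            refine ⟨z, hNZ hz, hz1, le_of_eq (Subgroup.eq_of_le_of_card_ge (Subgroup.zpowers_le.2 hz) ?_).symm⟩
            rw [Nat.card_zpowers, orderOf_eq_prime (by rw [pow_two]; exact h.gZ_sq T hT (hNZ hz)) hz1]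
            exact hN2
        exact ⟨⟨⟨z, hz⟩, fun e1 => hz1 (congrArg Subtype.val e1)⟩, fun u hu => hNz ((hNm _).2 ⟨u, hu, rfl⟩)⟩
      choose S hSD hPS hSα hSm using fun z : {z : gZ α T // z ≠ 1} =>
        hS (Subgroup.zpowers ((z : gZ α T) : H ⧸ Subgroup.center H)) (Subgroup.zpowers_le.2 z.1.2)
      have hsmall : ∀ z, Nat.card (S z) * 4 ≤ Nat.card (gD α T) := fun z => by
        have hSne : S z ≠ gD α T := fun e1 => by
          have h1 := Subgroup.card_le_of_le (hfull _ (Subgroup.zpowers_le.2 z.1.2)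
            fun y hy => ((hSm z y).1 (e1 ▸ hy)).2)
          rw [Nat.card_zpowers, hq4, orderOf_eq_prime (by rw [pow_two]; exact h.gZ_sq T hT z.1.2)
            (fun e2 => z.2 (Subtype.ext e2))] at h1
          omega
        refine le_trans (Nat.mul_le_mul_left _ ?_)
          (h.gLayer T hT hm (hZP.trans (hPS z)) (hSD z) le_rfl (hSα z) (h.gD_stb T hT) hSne)
        calc 4 = 2 ^ 2 := rfl
          _ ≤ 2 ^ (2 * m) := Nat.pow_le_pow_right (by norm_num) (by have := h.m_pos T hT hm; omega)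
      choose ζ hζ using hcov
      have hinj : Nat.card (gD α T) ≤ Nat.card (Σ z, S z) := Nat.card_le_card_of_injective
        (fun d => ⟨ζ d, d, (hSm (ζ d) d).2 ⟨d.2, hζ d⟩⟩) fun d d' e1 => Subtype.ext (by
          have := congrArg (fun s : (Σ z, S z) => (s.2 : H ⧸ Subgroup.center H)) e1
          exact this)
      have hthree : Nat.card {z : gZ α T // z ≠ 1} = 3 := by
        rw [Nat.card_eq_fintype_card, Fintype.card_subtype_compl, ← Nat.card_eq_fintype_card, hq4,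
          Fintype.card_subtype_eq]
      rw [Nat.card_sigma] at hinj
      have hsum := Finset.sum_le_sum (s := Finset.univ) fun z (_ : z ∈ Finset.univ) => hsmall z
      rw [← Finset.sum_mul, Finset.sum_const, Finset.card_univ, ← Nat.card_eq_fintype_card, hthree,
        smul_eq_mul] at hsum
      have := Nat.card_pos (α := gD α T)
      omega
  obtain ⟨u', hu', hu'd⟩ := hdsurj _ (h.gD_sq T hT hd)
  obtain ⟨z, hz, hz1⟩ : ∃ z ∈ gZ α T, z ≠ 1 := ⟨⁅d₀, u₀⁆, h.gD_commutator T hT hd₀ (hUD hu₀),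
    fun e1 => hdu₀ (commutatorElement_eq_one_iff_mul_comm.1 e1)⟩
  obtain ⟨u, hu, hud⟩ := hdsurj z hz
  refine ⟨u, hu, d * u', mul_mem hd (hUD hu'), ?_, fun e1 => hz1 ?_⟩
  · have e2 := h.gComm_mul_left T hT (inv_mem hd) hd (hUD hu')
    rw [inv_mul_cancel, commutatorElement_one_left, hu'd] at e2
    calc d * u' * (d * u') = d * d * ⁅d⁻¹, u'⁆ * (u' * u') := by simp only [commutatorElement_def]; group
      _ = 1 := by rw [← e2, one_mul, hU2 u' hu']
  · rw [← hud, commutatorElement_eq_one_iff_mul_comm]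
    have hc' := hcomm u (hUP hu) u' (hUP hu')
    refine mul_right_cancel (b := u') ?_
    rw [mul_assoc, hc', ← mul_assoc, ← e1, mul_assoc]

end Cfsg.Agent.Lib.HHS57
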