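import Cfsg.Agent.Lib.HHS57.Action

/-!
# No fixed 2-element moves `gD`: one layer (node I, I1-I4; helper42)
-/

set_option autoImplicit false
set_option linter.style.haveILetI false
set_option linter.unusedSectionVars false
set_option linter.unusedVariables false

namespace Cfsg.Agent.Lib.HHS57

open Cfsg Cfsg.Agent.Lib
open Subgroup
open scoped commutatorElement

universe u

variable {H : Type u} [Group H] [Finite H] {p r : ℕ} {α : MulAut H} {V : Type u} [CommGroup V]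
  [Finite V] {ψ : H →* MulAut V} {e : MulAut V}
  (h : Min p r α ψ e) (T : Sylow 2 H) (hT : Stb α (T : Subgroup H))

include h hT

section Act

variable {m : ℕ} {W : Type u} [AddCommGroup W] [Finite W] {a : W ≃+ W} {π : dGrp α T → W}
  {θ : (gM α T ⊓ fixG (qAut α) : Subgroup (H ⧸ Subgroup.center H)) →* AddMonoid.End W}
  (hA : IsAct α T r m a π θ)

include hA

/-- Equal action: equal conjugation on `gZ`. -/
theorem Min.act_conj_gZ {c c' : (gM α T ⊓ fixG (qAut α) : Subgroup (H ⧸ Subgroup.center H))}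
    (hcc : θ c = θ c') {z : H ⧸ Subgroup.center H} (hz : z ∈ gZ α T) :
    (c : H ⧸ Subgroup.center H) * z * (c : H ⧸ Subgroup.center H)⁻¹ =
      (c' : H ⧸ Subgroup.center H) * z * (c' : H ⧸ Subgroup.center H)⁻¹ := by
  obtain ⟨x, hx, -, -⟩ := h.exists_fixed_lift T hT c
  obtain ⟨x', hx', -, -⟩ := h.exists_fixed_lift T hT c'
  obtain ⟨w, hw, rfl⟩ := hz
  rw [← hx, ← hx', ← map_inv, ← map_inv, ← map_mul, ← map_mul, ← map_mul, ← map_mul,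
    h.act_conj_Z T hT hA hcc hx hx' w hw]

/-- One layer. -/
theorem Min.act_card_one (hm : r = 2 ^ m + 1)
    (hk : Nat.card (gD α T) ≤ Nat.card (gZ α T) * 2 ^ (2 * m)) : Nat.card W = 2 ^ (2 * m) := by
  have hne : gZ α T ≠ gD α T := fun e1 => by
    refine h.gD_ne_bot T hT (le_bot_iff.1 ?_)
    rw [← h.cm_gD T hT]
    exact cm_le_iff.2 fun d hd => by
      rw [Subgroup.mem_bot, h.gZ_fixed T hT (e1.symm ▸ hd), inv_mul_cancel]
  have e1 := h.gLayer T hT hm le_rfl (h.gZ_le_gD T hT) le_rfl (h.gZ_stb T hT) (h.gD_stb T hT) hne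
  refine Nat.eq_of_mul_eq_mul_left (Nat.card_pos (α := gZ α T)) ?_
  rw [mul_comm _ (Nat.card W), hA.card]
  exact le_antisymm hk e1

/-- On a line the action is by a cyclic group of exponent dividing `2 ^ m - 1`. -/
theorem Min.act_generator (hW : Nat.card W = 2 ^ (2 * m)) :
    ∃ γ, (∀ c, ∃ i : ℕ, θ c = θ (γ ^ i)) ∧ θ (γ ^ (2 ^ m - 1)) = 1 := by
  haveI := hA.mod.cen_isDomain hW
  haveI : Finite (FpfMod.Cen a) := Nat.finite_of_card_ne_zero (by rw [hA.mod.card_cen hW]; positivity)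
  letI : CommRing (FpfMod.Cen a) :=
    { (inferInstance : Ring (FpfMod.Cen a)) with
      mul_comm := fun b d => Subtype.ext (AddMonoidHom.ext
        (hA.mod.commute hW _ _ (FpfMod.mem_cen.1 b.2) (FpfMod.mem_cen.1 d.2))) }
  let f : (gM α T ⊓ fixG (qAut α) : Subgroup (H ⧸ Subgroup.center H)) →* FpfMod.Cen a :=
    θ.codRestrict _ fun c => FpfMod.mem_cen.2 (hA.comm c)
  haveI : IsCyclic f.toHomUnits.range := inferInstance
  obtain ⟨⟨_, γ, rfl⟩, hg⟩ := IsCyclic.exists_generator (α := f.toHomUnits.range)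
  refine ⟨γ, fun c => ?_, ?_⟩
  · obtain ⟨i, hi⟩ := mem_powers_iff_mem_zpowers.2 (hg ⟨_, c, rfl⟩)
    refine ⟨i, ?_⟩
    have h1 := congrArg (fun u : f.toHomUnits.range => (((u : (FpfMod.Cen a)ˣ) : FpfMod.Cen a) : AddMonoid.End W)) hi
    rw [map_pow]
    exact h1.symm.trans (by simp [f])
  · have h1 : θ (γ ^ 2 ^ m) = θ γ := AddMonoidHom.ext fun w => (act_pow T γ (2 ^ m) w).trans
      (hA.mod.iterate_pow_eq hW (θ γ) (hA.comm γ) (orderOf_pos γ).ne' (h.order_coprime T hT γ)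
        (fun v => (act_pow T γ (orderOf γ) v).symm.trans (by rw [pow_orderOf_eq_one, map_one]; rfl)) w)
    rw [← mul_inv_cancel_right (γ ^ (2 ^ m - 1)) γ, ← pow_succ,
      Nat.sub_add_cancel Nat.one_le_two_pow, map_mul, h1, ← map_mul, mul_inv_cancel, map_one]

end Act

/-- I1. -/
theorem Min.cyclic_one (hneg : CenNeg ψ) {m : ℕ} (hm : r = 2 ^ m + 1) (hnm : FixedNoMove α T)
    (hk : Nat.card (gD α T) ≤ Nat.card (gZ α T) * 2 ^ (2 * m)) :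
    ∃ γ ∈ gM α T, qAut α γ = γ ∧ ∀ c ∈ gM α T, qAut α c = c → ∃ i : ℕ,
      ∀ z ∈ gZ α T, c * z * c⁻¹ = γ ^ i * z * (γ ^ i)⁻¹ := by
  obtain ⟨W, _, _, a, π, θ, hA⟩ := h.exists_action T hT hm
  obtain ⟨γ, hγ, -⟩ := h.act_generator T hT hA (h.act_card_one T hT hA hm hk)
  refine ⟨γ, γ.2.1, γ.2.2, fun c hc hcf => ?_⟩
  obtain ⟨i, hi⟩ := hγ ⟨c, hc, hcf⟩
  exact ⟨i, fun z hz => by simpa using h.act_conj_gZ T hT hA hi hz⟩

/-- I2. -/
theorem Min.gZ_card_le (hneg : CenNeg ψ) {m : ℕ} (hm : r = 2 ^ m + 1) (hnm : FixedNoMove α T)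
    (hk : Nat.card (gD α T) ≤ Nat.card (gZ α T) * 2 ^ (2 * m)) {Λ : Subgroup (H ⧸ Subgroup.center H)}
    (hΛf : ∀ c ∈ Λ, qAut α c = c) (hΛM : Λ ≤ gM α T) (hΛo : Odd (Nat.card Λ))
    (hΛt : ∀ z ∈ gZ α T, z ≠ 1 → ∀ z' ∈ gZ α T, z' ≠ 1 → ∃ c ∈ Λ, c * z * c⁻¹ = z')
    (hq : 4 ≤ Nat.card (gZ α T)) (h0 : ∀ z ∈ zGrp α T, z ∈ Subgroup.center H → z = 1) :
    Nat.card (gZ α T) ≤ 2 ^ m := by
  classical
  obtain ⟨W, _, _, a, π, θ, hA⟩ := h.exists_action T hT hm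
  obtain ⟨γ, hγ, hγN⟩ := h.act_generator T hT hA (h.act_card_one T hT hA hm hk)
  obtain ⟨z, hz, hz1⟩ : ∃ z ∈ gZ α T, z ≠ 1 := by
    by_contra! hh
    rw [(Subgroup.eq_bot_iff_forall _).2 hh, Subgroup.card_bot] at hq
    omega
  have hN : 0 < 2 ^ m - 1 := by
    have : 2 ≤ 2 ^ m := by
      calc 2 = 2 ^ 1 := rfl
        _ ≤ 2 ^ m := Nat.pow_le_pow_right (by norm_num) (h.m_pos T hT hm)
    omega
  let F : Option (Fin (2 ^ m - 1)) → gZ α T := fun i => i.elim 1 fun j =>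
    ⟨((γ : H ⧸ Subgroup.center H) ^ (j : ℕ)) * z * ((γ : H ⧸ Subgroup.center H) ^ (j : ℕ))⁻¹,
      h.gZ_conj T hT (pow_mem γ.2.1 _) hz⟩
  have hF : Function.Surjective F := by
    rintro ⟨z', hz'⟩
    by_cases hz'1 : z' = 1
    · exact ⟨none, Subtype.ext hz'1.symm⟩
    obtain ⟨c, hc, hcz⟩ := hΛt z hz hz1 z' hz' hz'1
    obtain ⟨i, hi⟩ := hγ ⟨c, hΛM hc, hΛf c hc⟩
    refine ⟨some ⟨i % (2 ^ m - 1), Nat.mod_lt _ hN⟩, Subtype.ext ?_⟩
    have e1 : θ (γ ^ (i % (2 ^ m - 1))) = θ ⟨c, hΛM hc, hΛf c hc⟩ := by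
      conv_rhs => rw [hi, ← Nat.mod_add_div i (2 ^ m - 1), pow_add, pow_mul, map_mul,
        map_pow θ (γ ^ (2 ^ m - 1)), hγN, one_pow, mul_one]
    show (γ : H ⧸ Subgroup.center H) ^ (i % (2 ^ m - 1)) * z * _ = z'
    rw [← hcz]
    simpa using h.act_conj_gZ T hT hA e1 hz
  have := Nat.card_le_card_of_surjective F hF
  rw [Nat.card_eq_fintype_card (α := Option _), Fintype.card_option, Fintype.card_fin] at this
  omega

/-- I3. -/
theorem Min.singMate_one (hneg : CenNeg ψ) {m : ℕ} (hm : r = 2 ^ m + 1) (hnm : FixedNoMove α T)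
    (hk : Nat.card (gD α T) ≤ Nat.card (gZ α T) * 2 ^ (2 * m)) {Λ : Subgroup (H ⧸ Subgroup.center H)}
    (hΛf : ∀ c ∈ Λ, qAut α c = c) (hΛM : Λ ≤ gM α T) (hΛo : Odd (Nat.card Λ))
    (hΛt : ∀ z ∈ gZ α T, z ≠ 1 → ∀ z' ∈ gZ α T, z' ≠ 1 → ∃ c ∈ Λ, c * z * c⁻¹ = z')
    (hq : 4 ≤ Nat.card (gZ α T)) (h0 : ∀ z ∈ zGrp α T, z ∈ Subgroup.center H → z = 1)
    (hlt : Nat.card (gZ α T) < 2 ^ m) : SingMate α T := by
  obtain ⟨W, _, _, a, π, θ, hA⟩ := h.exists_action T hT hm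
  have hW := h.act_card_one T hT hA hm hk
  refine h.singMate_line T hT hA ⊤ (fun x _ => AddSubgroup.mem_top _) ?_
    (fun c w _ => AddSubgroup.mem_top _) ?_ hlt
  · rw [← hW]
    exact Nat.card_congr AddSubgroup.topEquiv.toEquiv
  by_contra! hh
  have hbot : gZ α T = ⊥ := le_bot_iff.1 ((h.gCommutator_closure T hT).trans ((closure_le _).2 (by
    rintro _ ⟨_, ⟨x, hx, rfl⟩, _, ⟨y, hy, rfl⟩, rfl⟩
    rw [← map_commutatorElement]
    exact Subgroup.mem_bot.2 (hh ⟨x, hx⟩ ⟨y, hy⟩ (AddSubgroup.mem_top _) (AddSubgroup.mem_top _)))))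
  rw [hbot, Subgroup.card_bot] at hq
  omega

/-- I4. -/
theorem Min.false_one_center (hneg : CenNeg ψ) {m : ℕ} (hm : r = 2 ^ m + 1) (hnm : FixedNoMove α T)
    (hk : Nat.card (gD α T) ≤ Nat.card (gZ α T) * 2 ^ (2 * m)) {Λ : Subgroup (H ⧸ Subgroup.center H)}
    (hΛf : ∀ c ∈ Λ, qAut α c = c) (hΛM : Λ ≤ gM α T) (hΛo : Odd (Nat.card Λ))
    (hΛt : ∀ z ∈ gZ α T, z ≠ 1 → ∀ z' ∈ gZ α T, z' ≠ 1 → ∃ c ∈ Λ, c * z * c⁻¹ = z')
    (hq : 4 ≤ Nat.card (gZ α T)) {z₀ : H} (hz₀ : z₀ ∈ zGrp α T) (hz₀c : z₀ ∈ Subgroup.center H)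
    (hz₀1 : z₀ ≠ 1) : False := by
  obtain ⟨W, _, _, a, π, θ, hA⟩ := h.exists_action T hT hm
  have hW := h.act_card_one T hT hA hm hk
  obtain ⟨K₀, hK₀, hK₀2, hzK, hfix, -⟩ := h.occ_all_but_one T hT hneg ⟨hΛf, hΛM, hΛo, hΛt⟩ hq hz₀ hz₀c hz₀1
  obtain ⟨f, hf, hfv⟩ := h.exists_form T hT hA hK₀ hK₀2
  have hf0 : f ≠ 0 := fun e1 => by
    have h2 : zGrp α T ≤ K₀ := (h.zGrp_le_closure T hT).trans ((closure_le _).2 (by
      rintro _ ⟨x, hx, y, hy, rfl⟩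
      refine chiK_eq_zero.1 ?_
      rw [← hfv ⟨x, hx⟩ ⟨y, hy⟩, e1]
      rfl))
    exact hzK (h2 hz₀)
  have hcen : ∀ c ∈ Λ, ∀ z ∈ gZ α T, c * z = z * c := fun c hc => by
    set g : (gM α T ⊓ fixG (qAut α) : Subgroup (H ⧸ Subgroup.center H)) := ⟨c, hΛM hc, hΛf c hc⟩
    have h1 : θ g = 1 := AddMonoidHom.ext fun w => hA.mod.eq_id_of_isometry hW hf hf0 (θ g) (hA.comm g) _
      (h.order_coprime T hT g) (fun v => (act_pow T g (orderOf g) v).symm.trans (by rw [pow_orderOf_eq_one, map_one]; rfl))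
      (fun u v => by
        obtain ⟨x, rfl⟩ := hA.surj u
        obtain ⟨y, rfl⟩ := hA.surj v
        obtain ⟨ℓ, hℓ, -, hℓM⟩ := h.exists_fixed_lift T hT g
        refine (congrArg₂ (fun s t => f s t) (hA.apply T hT hℓ hℓM x) (hA.apply T hT hℓ hℓM y)).trans ?_
        show f _ _ = _
        rw [hfv, hfv]
        show chiK K₀ ⁅ℓ * x * ℓ⁻¹, ℓ * y * ℓ⁻¹⁆ = _
        rw [show ⁅ℓ * (x : H) * ℓ⁻¹, ℓ * (y : H) * ℓ⁻¹⁆ = ℓ * ⁅(x : H), (y : H)⁆ * ℓ⁻¹ by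
          simp only [commutatorElement_def]; group]
        have hiff := hfix c hc ℓ hℓ _ (h.commutator_mem_zGrp T hT x.2 y.2)
        by_cases hK : ⁅(x : H), (y : H)⁆ ∈ K₀
        · rw [chiK_eq_zero.2 hK, chiK_eq_zero.2 (hiff.2 hK)]
        · rw [chiK_eq_one.2 hK, chiK_eq_one.2 fun h' => hK (hiff.1 h')]) w
    exact h.comm_gZ_of_not_moves T hT (hΛM hc) ((h.act_eq_one_iff T hT hA g).1 h1)
  obtain ⟨z, hz, hz1⟩ : ∃ z ∈ gZ α T, z ≠ 1 := by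
    by_contra! hh
    rw [(Subgroup.eq_bot_iff_forall _).2 hh, Subgroup.card_bot] at hq
    omega
  have hle : gZ α T ≤ Subgroup.zpowers z := fun z' hz' => by
    by_cases hz'1 : z' = 1
    · rw [hz'1]; exact one_mem _
    obtain ⟨c, hc, rfl⟩ := hΛt z hz hz1 z' hz' hz'1
    rw [hcen c hc z hz, mul_inv_cancel_right]
    exact Subgroup.mem_zpowers z
  have h2 := Subgroup.card_le_of_le hle
  rw [Nat.card_zpowers, orderOf_eq_prime (by rw [pow_two]; exact h.gZ_sq T hT hz) hz1] at h2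
  omega

end Cfsg.Agent.Lib.HHS57
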