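import Cfsg.Agent.Lib.HHS57.Patterns

/-!
# Abelian lines (node H, part 2: H7, H8; helper42)
-/

set_option autoImplicit false
set_option linter.style.haveILetI false
set_option linter.unusedSectionVars false
set_option linter.unusedVariables false

namespace Cfsg.Agent.Lib.HHS57

open Cfsg Cfsg.Agent.Lib
open Subgroup
open scoped commutatorElement

universe u

theorem relIndex_mul_card_of_le {G : Type u} [Group G] (A B : Subgroup G) (hAB : A ≤ B) :
    A.relIndex B * Nat.card A = Nat.card B := by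
  rw [← (A.subgroupOf B).index_mul_card, Nat.card_congr (Subgroup.subgroupOfEquivOfLe hAB).toEquiv]
  rfl

variable {H : Type u} [Group H] [Finite H] {p r : ℕ} {α : MulAut H} {V : Type u} [CommGroup V]
  [Finite V] {ψ : H →* MulAut V} {e : MulAut V}
  (h : Min p r α ψ e) (T : Sylow 2 H) (hT : Stb α (T : Subgroup H))

include h hT

/-- The preimage in `D` of a subgroup between `gZ` and `gD`. -/
theorem Min.exists_preimage {L : Subgroup (H ⧸ Subgroup.center H)}
    (hZL : gZ α T ≤ L) (hLD : L ≤ gD α T) (hL : Stb (qAut α) L) :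
    ∃ X : Subgroup H, zGrp α T ≤ X ∧ X ≤ dGrp α T ∧ Stb α X ∧ X.map (qHom H) = L ∧
      ∀ x ∈ dGrp α T, qHom H x ∈ L → x ∈ X := by
  refine ⟨L.comap (qHom H) ⊓ dGrp α T, fun z hz => ⟨hZL (mem_map_of_mem _ hz), hz.1⟩, inf_le_right,
    fun x hx => ⟨?_, stb_dGrp T hT x hx.2⟩, le_antisymm ?_ ?_, fun x hx hxL => ⟨hxL, hx⟩⟩
  · show qHom H (α x) ∈ L
    rw [← qAut_mk]
    exact hL _ hx.1
  · rintro _ ⟨x, hx, rfl⟩
    exact hx.1
  · intro l hl
    obtain ⟨x, hx, rfl⟩ := hLD hl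
    exact mem_map_of_mem _ ⟨hl, hx⟩

/-- `L ≠ gZ` has a nontrivial commutator upstairs. -/
theorem Min.exists_comm_ne_one {X : Subgroup H} (hZX : zGrp α T ≤ X) (hXD : X ≤ dGrp α T)
    (hX : Stb α X) (hne : X.map (qHom H) ≠ gZ α T) : ∃ x ∈ X, ∃ y ∈ X, ⁅x, y⁆ ≠ 1 := by
  by_contra! hh
  refine hne (congrArg (Subgroup.map (qHom H)) (le_antisymm (fun x hx => ⟨hXD hx, ?_⟩) hZX))
  have hfix := (h.dRep T hT).fixes_abelian (X.subgroupOf (dGrp α T))
    (fun a ha b hb => Subtype.ext (commutatorElement_eq_one_iff_mul_comm.1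
      (hh a (Subgroup.mem_subgroupOf.1 ha) b (Subgroup.mem_subgroupOf.1 hb))))
    (fun a ha => Subgroup.mem_subgroupOf.2 (hX _ (Subgroup.mem_subgroupOf.1 ha)))
    ⟨x, hXD hx⟩ (Subgroup.mem_subgroupOf.2 hx)
  exact congrArg Subtype.val hfix

/-- H7. An abelian line is not central in `gD`. -/
theorem Min.exists_not_comm_line (hneg : CenNeg ψ) {L : Subgroup (H ⧸ Subgroup.center H)}
    (hZL : gZ α T ≤ L) (hLD : L ≤ gD α T) (hL : Stb (qAut α) L) (h1 : L ≠ gZ α T) (h2 : L ≠ gD α T)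
    (hcomm : ∀ a ∈ L, ∀ b ∈ L, a * b = b * a) :
    ∃ d ∈ gD α T, ∃ u ∈ cm (qAut α) L, d * u ≠ u * d := by
  by_contra! hh
  obtain ⟨m, -, hm⟩ := h.exists_m T hT
  obtain ⟨X, hZX, hXD, hXα, hXL, -⟩ := h.exists_preimage T hT hZL hLD hL
  set U := cm α X with hU
  have hUX : U ≤ X := cm_le hXα
  have hUq : U ≤ (cm (qAut α) L).comap (qHom H) := cm_le_iff.2 fun x hx => by
    rw [Subgroup.mem_comap, map_mul, map_inv, ← qAut_mk]
    exact mem_cm (hXL ▸ mem_map_of_mem _ hx)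
  have hcen : ∀ d ∈ dGrp α T, ∀ u ∈ U, ⁅d, u⁆ ∈ Subgroup.center H := fun d hd u hu => by
    rw [← QuotientGroup.eq_one_iff]
    show qHom H ⁅d, u⁆ = 1
    rw [map_commutatorElement, commutatorElement_eq_one_iff_mul_comm]
    exact hh _ (mem_map_of_mem _ hd) _ (hUq hu)
  set C := dGrp α T ⊓ Subgroup.centralizer (U : Set H) with hC
  have hCα : Stb α C := (stb_dGrp T hT).inf (stb_cm hXα).centralizer
  have hZC : zGrp α T ≤ C := fun z hz => ⟨hz.1, Subgroup.mem_centralizer_iff.2 fun u hu =>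
    (h.zGrp_le_centralizer T hT hz (hXD (hUX hu))).symm⟩
  have hCne : ¬ dGrp α T ≤ C := fun hle => by
    refine h1 ?_
    rw [← hXL]
    refine congrArg (Subgroup.map (qHom H)) (le_antisymm (fun x hx => ?_) hZX)
    obtain ⟨c, hc, hcf, d, hd, rfl⟩ := exists_fixed_mul_cm h.hr h.hα h.hco hXα hx
    refine mul_mem ⟨hXD hc, hcf⟩ ((h.mem_zGrp_iff T hT).2 ⟨hXD (hUX hd), fun y hy => ?_⟩)
    exact Subgroup.mem_centralizer_iff.1 (hle hy).2 d hd
  have hrad : ∀ K, Occ α ψ T K → ∃ R : Subgroup H, (∀ d, d ∈ R ↔ d ∈ rad α T K) ∧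
      R.relIndex (dGrp α T) = 2 ^ (2 * m) ∧ R = C := fun K hK => by
    obtain ⟨R, hmR, hR, hR', hsR, hiR⟩ := h.radFacts T hT hm hK
    have hRC : R ≤ C := fun d hd => ⟨hR' hd, Subgroup.mem_centralizer_iff.2 fun u hu => by
      have e1 := ((hmR d).1 hd).2 u (hXD (hUX hu))
      exact (commutatorElement_eq_one_iff_mul_comm.1
        (h.not_mem_occ T hT hneg hK (hK.le e1) (hcen d (hR' hd) u hu) e1)).symm⟩
    refine ⟨R, hmR, hiR, le_antisymm hRC fun x hx => h.mem_of_map T hT hR hR' hx.1 ?_⟩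
    by_contra hn
    refine hCne fun d hd => h.mem_of_map T hT hZC inf_le_left hd ?_
    have e1 := h.eq_gD_of_rad T hT hm hR hR' hsR hiR (X := C.map (qHom H)) (map_mono hRC)
      (map_mono inf_le_left) (fun w hw => by
        obtain ⟨x, hx, rfl⟩ := hw
        rw [qAut_mk]
        exact mem_map_of_mem _ (hCα x hx))
      (fun e2 => hn (e2 ▸ mem_map_of_mem _ hx))
    rw [e1]
    exact mem_map_of_mem _ hd
  obtain ⟨a, ha, b, hb, hab⟩ := h.exists_not_commute T hT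
  obtain ⟨K₁, hK₁, -⟩ := h.exists_occ T hT (h.commutator_mem_zGrp T hT ha hb) hab
  obtain ⟨R₁, hm₁, hi₁, e₁⟩ := hrad K₁ hK₁
  have hCZ : C ≤ zGrp α T := fun d hd => h.mem_zGrp_of_rad T hT hd.1 fun K hK => by
    obtain ⟨R, hmR, -, e2⟩ := hrad K hK
    exact (hmR d).1 (e2.symm ▸ hd)
  have hcard : Nat.card (gD α T) ≤ Nat.card (gZ α T) * 2 ^ (2 * m) := by
    refine h.gD_card_le T hT (le_of_eq ?_)
    rw [le_antisymm hZC hCZ, ← e₁, hi₁]
  exact h2 (Subgroup.eq_of_le_of_card_ge hLD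
    (hcard.trans (h.gLayer T hT hm le_rfl hZL hLD (h.gZ_stb T hT) hL (Ne.symm h1))))

/-- H8. At most two abelian lines. -/
theorem Min.no_three_lines (hneg : CenNeg ψ) {m : ℕ} (hm : r = 2 ^ m + 1)
    (hk : Nat.card (gD α T) ≤ Nat.card (gZ α T) * 2 ^ (4 * m)) (hq : 4 ≤ Nat.card (gZ α T))
    (L : Fin 3 → Subgroup (H ⧸ Subgroup.center H)) (hZL : ∀ i, gZ α T ≤ L i)
    (hLD : ∀ i, L i ≤ gD α T) (hL : ∀ i, Stb (qAut α) (L i)) (h1 : ∀ i, L i ≠ gZ α T)
    (h2 : ∀ i, L i ≠ gD α T) (hinj : Function.Injective L)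
    (hcomm : ∀ i, ∀ a ∈ L i, ∀ b ∈ L i, a * b = b * a) : False := by
  classical
  have hpos : ∀ n : ℕ, 0 < 2 ^ n := fun n => pow_pos (by norm_num) _
  set q := Nat.card (gZ α T) with hqdef
  have hqpos : 0 < q := by omega
  have hgD : Nat.card (gD α T) = q * 2 ^ (4 * m) := by
    refine le_antisymm hk ?_
    have e1 := h.gLayer T hT hm (hZL 0) (hLD 0) le_rfl (hL 0) (h.gD_stb T hT) (h2 0)
    rw [h.line_card T hT hm hk (hZL 0) (hLD 0) (hL 0) (h1 0) (h2 0), mul_assoc, ← pow_add] at e1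
    rwa [show 4 * m = 2 * m + 2 * m by omega]
  obtain ⟨W, _, _, a, π, hs, hadd, hker, ha, hmod, hWc⟩ := h.exists_mod T hT hm (R := zGrp α T) le_rfl
    inf_le_left fun w hw => ⟨stb_dGrp T hT w hw.1, stb_fixG w hw.2⟩
  have hπ0 : π 1 = 0 := by
    have := hadd 1 1
    rw [one_mul] at this
    exact left_eq_add.1 this
  have hmap : (dGrp α T).map (qHom H) = gD α T := rfl
  have hW : Nat.card W = 2 ^ (4 * m) := by
    rw [hWc]
    have e1 := h.card_map_mul T hT (X := dGrp α T) inf_le_left le_rfl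
    have e2 : (zGrp α T).relIndex (dGrp α T) * Nat.card (zGrp α T) = Nat.card (dGrp α T) :=
      relIndex_mul_card_of_le (zGrp α T) (dGrp α T) inf_le_left
    rw [hmap, hgD, ← e2] at e1
    refine Nat.eq_of_mul_eq_mul_right (Nat.mul_pos (Nat.card_pos (α := zGrp α T)) hqpos) ?_
    calc (zGrp α T).relIndex (dGrp α T) * (Nat.card (zGrp α T) * q)
        = (zGrp α T).relIndex (dGrp α T) * Nat.card (zGrp α T) * q := by ring
      _ = q * 2 ^ (4 * m) * Nat.card (zGrp α T) := e1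
      _ = 2 ^ (4 * m) * (Nat.card (zGrp α T) * q) := by ring
  -- images of subgroups of `D`
  have himg : ∀ X : Subgroup H, zGrp α T ≤ X → X ≤ dGrp α T → Stb α X →
      ∃ P : AddSubgroup W, AStb a P ∧ (∀ x : dGrp α T, π x ∈ P ↔ (x : H) ∈ X) ∧
        Nat.card P * Nat.card (zGrp α T) = Nat.card X := by
    intro X hZX hXD hXα
    let φ : X →* Multiplicative W := MonoidHom.mk' (fun x => Multiplicative.ofAdd (π ⟨x, hXD x.2⟩))
      (fun x y => congrArg Multiplicative.ofAdd (hadd ⟨x, hXD x.2⟩ ⟨y, hXD y.2⟩))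
    refine ⟨(Subgroup.toAddSubgroup' φ.range), fun w hw => ?_, fun x => ⟨fun hx => ?_, fun hx => ?_⟩, ?_⟩
    · obtain ⟨x, hx⟩ := hw
      refine ⟨⟨α x, hXα _ x.2⟩, ?_⟩
      show Multiplicative.ofAdd (π _) = Multiplicative.ofAdd (a w)
      rw [show w = π ⟨x, hXD x.2⟩ from (congrArg Multiplicative.toAdd hx).symm, ha]
      rfl
    · obtain ⟨y, hy⟩ := hx
      have e1 : π ⟨y, hXD y.2⟩ = π x := congrArg Multiplicative.toAdd hy
      have e2 := hadd (x * (⟨y, hXD y.2⟩ : dGrp α T)⁻¹) ⟨y, hXD y.2⟩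
      rw [inv_mul_cancel_right, e1] at e2
      have e3 := (hker _).1 (right_eq_add.1 e2)
      rw [Subgroup.coe_mul, Subgroup.coe_inv] at e3
      simpa using X.mul_mem (hZX e3) y.2
    · exact ⟨⟨x, hx⟩, rfl⟩
    · have hk' : φ.ker = (zGrp α T).subgroupOf X := by
        ext x
        rw [MonoidHom.mem_ker, Subgroup.mem_subgroupOf]
        exact ⟨fun hx => (hker ⟨x, hXD x.2⟩).1 (congrArg Multiplicative.toAdd hx),
          fun hx => congrArg Multiplicative.ofAdd ((hker ⟨x, hXD x.2⟩).2 hx)⟩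
      rw [Subgroup.card_eq_card_quotient_mul_card_subgroup φ.ker,
        Nat.card_congr (QuotientGroup.quotientKerEquivRange φ).toEquiv, hk',
        Nat.card_congr (Subgroup.subgroupOfEquivOfLe hZX).toEquiv]
      rfl
  choose X hZX hXD hXα hXL hXmem using fun i => h.exists_preimage T hT (hZL i) (hLD i) (hL i)
  choose P hP hPmem hPc using fun i => himg (X i) (hZX i) (hXD i) (hXα i)
  have hPcard : ∀ i, Nat.card (P i) = 2 ^ (2 * m) := fun i => by
    have e1 := h.card_map_mul T hT (hZX i) (hXD i)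
    rw [hXL, h.line_card T hT hm hk (hZL i) (hLD i) (hL i) (h1 i) (h2 i), ← hPc i, ← hqdef] at e1
    refine Nat.eq_of_mul_eq_mul_right (Nat.mul_pos (Nat.card_pos (α := zGrp α T)) hqpos) ?_
    calc Nat.card (P i) * (Nat.card (zGrp α T) * q) = Nat.card (P i) * Nat.card (zGrp α T) * q := by ring
      _ = q * 2 ^ (2 * m) * Nat.card (zGrp α T) := e1
      _ = 2 ^ (2 * m) * (Nat.card (zGrp α T) * q) := by ring
  have hPd : ∀ i j, i ≠ j → P i ⊓ P j = ⊥ := fun i j hij => (AddSubgroup.eq_bot_iff_forall _).2 fun w hw => by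
    obtain ⟨x, rfl⟩ := hs w
    refine (hker x).2 (h.mem_of_map T hT le_rfl inf_le_left x.2 ?_)
    by_contra hxZ
    exact hij (hinj (h.line_eq T hT hm hk (hZL i) (hLD i) (hL i) (h2 i) (hZL j) (hLD j) (hL j) (h2 j)
      (hXL i ▸ mem_map_of_mem _ ((hPmem i x).1 hw.1)) (hXL j ▸ mem_map_of_mem _ ((hPmem j x).1 hw.2)) hxZ))
  -- commutators on the lines are central
  have hcen : ∀ i, ∀ x ∈ X i, ∀ y ∈ X i, ⁅x, y⁆ ∈ Subgroup.center H := fun i x hx y hy => by
    rw [← QuotientGroup.eq_one_iff]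
    show qHom H ⁅x, y⁆ = 1
    rw [map_commutatorElement, commutatorElement_eq_one_iff_mul_comm]
    exact hcomm i _ (hXL i ▸ mem_map_of_mem _ hx) _ (hXL i ▸ mem_map_of_mem _ hy)
  have hval : ∀ {K}, Occ α ψ T K → ∀ i, ∀ x ∈ X i, ∀ y ∈ X i,
      chiK K ⁅x, y⁆ = if ⁅x, y⁆ = 1 then 0 else 1 := fun {K} hK i x hx y hy => by
    by_cases h0 : ⁅x, y⁆ = 1
    · rw [if_pos h0, h0, chiK_eq_zero]; exact one_mem _
    · rw [if_neg h0, chiK_eq_one]
      exact fun hm' => h0 (h.not_mem_occ T hT hneg hK (hK.le hm') (hcen i x hx y hy) hm')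
  have hne : ∀ i, ∃ x ∈ X i, ∃ y ∈ X i, ⁅x, y⁆ ≠ 1 := fun i =>
    h.exists_comm_ne_one T hT (hZX i) (hXD i) (hXα i) (by rw [hXL i]; exact h1 i)
  obtain ⟨x₀, hx₀, y₀, hy₀, hz₀⟩ := hne 0
  have hz₀Z := h.commutator_mem_zGrp T hT (hXD 0 hx₀) (hXD 0 hy₀)
  -- `|Z| ≥ 8`
  have hZ8 : 8 ≤ Nat.card (zGrp α T) := by
    let f : zGrp α T →* gZ α T := (qHom H).subgroupMap (zGrp α T)
    have hf : Function.Surjective f := MonoidHom.subgroupMap_surjective (qHom H) (zGrp α T)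
    rw [Subgroup.card_eq_card_quotient_mul_card_subgroup f.ker,
      Nat.card_congr (QuotientGroup.quotientKerEquivOfSurjective f hf).toEquiv]
    have h3 : 2 ≤ Nat.card f.ker := (Subgroup.one_lt_card_iff_ne_bot f.ker).2 fun e1 => by
      have h4 : (⟨_, hz₀Z⟩ : zGrp α T) ∈ f.ker :=
        MonoidHom.mem_ker.2 (Subtype.ext ((QuotientGroup.eq_one_iff _).2 (hcen 0 x₀ hx₀ y₀ hy₀)))
      rw [e1, Subgroup.mem_bot] at h4
      exact hz₀ (congrArg Subtype.val h4)
    calc 8 = 4 * 2 := rfl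
      _ ≤ _ := Nat.mul_le_mul hq h3
  -- three patterns
  obtain ⟨K, hK, hKinj⟩ : ∃ K : Fin 3 → Subgroup H, (∀ i, Occ α ψ T (K i)) ∧ Function.Injective K := by
    obtain ⟨K₁, hK₁, -⟩ := h.exists_occ T hT hz₀Z hz₀
    by_cases h2K : ∃ K₂, Occ α ψ T K₂ ∧ ∀ K, Occ α ψ T K → K = K₁ ∨ K = K₂
    · exfalso
      obtain ⟨K₂, hK₂, hall⟩ := h2K
      have hinjZ : Function.Injective fun z : zGrp α T => (chiK K₁ (z : H), chiK K₂ (z : H)) := by
        intro z z' e1
        simp only [Prod.mk.injEq] at e1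
        by_contra hzz
        have hd : (z : H) * (z' : H)⁻¹ ≠ 1 := fun e2 => hzz (Subtype.ext (mul_inv_eq_one.1 e2))
        obtain ⟨K, hK, hn⟩ := h.exists_occ T hT (mul_mem z.2 (inv_mem z'.2)) hd
        have e3 := chiK_mul hK.two (mul_mem z.2 (inv_mem z'.2)) z'.2
        rw [inv_mul_cancel_right, chiK_eq_one.2 hn] at e3
        have e4 : chiK K (z : H) = chiK K (z' : H) := by
          rcases hall K hK with rfl | rfl
          · exact e1.1
          · exact e1.2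
        rw [e4] at e3
        exact (by decide : ∀ u : ZMod 2, u ≠ 1 + u) _ e3
      have := Nat.card_le_card_of_injective _ hinjZ
      simp only [Nat.card_prod, Nat.card_zmod] at this
      omega
    · push Not at h2K
      obtain ⟨K₂, hK₂, h21, -⟩ := h2K K₁ hK₁
      obtain ⟨K₃, hK₃, h31, h32⟩ := h2K K₂ hK₂
      refine ⟨![K₁, K₂, K₃], fun i => by fin_cases i <;> assumption, fun i j hij => ?_⟩
      fin_cases i <;> fin_cases j <;> first
        | rfl
        | exact absurd hij h21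
        | exact absurd hij h31
        | exact absurd hij h32
        | exact absurd hij.symm h21
        | exact absurd hij.symm h31
        | exact absurd hij.symm h32
  choose R hmR hR hR' hsR hiR using fun i => h.radFacts T hT hm (hK i)
  choose f hf hfv using fun i => h.exists_patForm T hT hs hadd hker ha (hK i).le (hK i).two
    fun d hd => (hmR i d).1 (hR i hd)
  have hdeg : ∀ i, Nat.card (f i).ker = 2 ^ (2 * m) := fun i => by
    obtain ⟨Q, -, hQmem, hQc⟩ := himg (R i) (hR i) (hR' i) (hsR i)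
    have e0 : (f i).ker = Q := by
      ext w
      obtain ⟨x, rfl⟩ := hs w
      rw [AddMonoidHom.mem_ker, hQmem, hmR i]
      refine ⟨fun hx => ⟨x.2, fun y hy => ?_⟩, fun hx => AddMonoidHom.ext fun w' => ?_⟩
      · have := DFunLike.congr_fun hx (π ⟨y, hy⟩)
        rw [hfv, AddMonoidHom.zero_apply] at this
        exact chiK_eq_zero.1 this
      · obtain ⟨y, rfl⟩ := hs w'
        rw [hfv, AddMonoidHom.zero_apply, chiK_eq_zero]
        exact hx.2 y y.2
    have e1 : Nat.card (R i) * 2 ^ (2 * m) = Nat.card (dGrp α T) := by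
      rw [mul_comm, ← hiR i]
      exact relIndex_mul_card_of_le (R i) (dGrp α T) (hR' i)
    have e2 : (zGrp α T).relIndex (dGrp α T) * Nat.card (zGrp α T) = Nat.card (dGrp α T) :=
      relIndex_mul_card_of_le (zGrp α T) (dGrp α T) inf_le_left
    rw [← hWc, hW, ← e1, ← hQc] at e2
    rw [e0]
    refine Nat.eq_of_mul_eq_mul_right (Nat.mul_pos (Nat.card_pos (α := zGrp α T)) (hpos (2 * m))) ?_
    calc Nat.card Q * (Nat.card (zGrp α T) * 2 ^ (2 * m))
        = Nat.card Q * Nat.card (zGrp α T) * 2 ^ (2 * m) := by ring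
      _ = 2 ^ (4 * m) * Nat.card (zGrp α T) := e2.symm
      _ = 2 ^ (2 * m) * (Nat.card (zGrp α T) * 2 ^ (2 * m)) := by
        rw [show 4 * m = 2 * m + 2 * m by omega, pow_add]; ring
  refine FpfMod.three_lines hmod hW P hP hPcard hPd f hf (fun i j hij => hKinj ?_) hdeg
    (fun i i' j u hu v hv => ?_) fun j => ?_
  · refine eq_of_chiK (hK i).le (hK j).le fun z hz => ?_
    have key : ∀ c, c ∈ closure {c | ∃ a ∈ dGrp α T, ∃ b ∈ dGrp α T, c = ⁅a, b⁆} →
        c ∈ zGrp α T ∧ chiK (K i) c = chiK (K j) c := by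
      intro c hc
      induction hc using closure_induction with
      | mem c hc =>
        obtain ⟨x, hx, y, hy, rfl⟩ := hc
        refine ⟨h.commutator_mem_zGrp T hT hx hy, ?_⟩
        rw [← hfv i ⟨x, hx⟩ ⟨y, hy⟩, ← hfv j ⟨x, hx⟩ ⟨y, hy⟩, hij]
      | one => exact ⟨one_mem _, by rw [chiK_eq_zero.2 (one_mem _), chiK_eq_zero.2 (one_mem _)]⟩
      | mul c d _ _ hc hd =>
        exact ⟨mul_mem hc.1 hd.1, by rw [chiK_mul (hK i).two hc.1 hd.1, chiK_mul (hK j).two hc.1 hd.1, hc.2, hd.2]⟩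
      | inv c _ hc =>
        rw [show c⁻¹ = c from inv_eq_of_mul_eq_one_right (h.zGrp_sq T hT hc.1)]
        exact hc
    exact (key z (h.zGrp_le_closure T hT hz)).2
  · obtain ⟨x, rfl⟩ := hs u
    obtain ⟨y, rfl⟩ := hs v
    rw [hfv, hfv, hval (hK i) j x ((hPmem j x).1 hu) y ((hPmem j y).1 hv),
      hval (hK i') j x ((hPmem j x).1 hu) y ((hPmem j y).1 hv)]
  · obtain ⟨x, hx, y, hy, hxy⟩ := hne j
    refine ⟨π ⟨x, hXD j hx⟩, (hPmem j _).2 hx, π ⟨y, hXD j hy⟩, (hPmem j _).2 hy, ?_⟩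
    rw [hfv, hval (hK 0) j x hx y hy, if_neg hxy]
    decide

end Cfsg.Agent.Lib.HHS57
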