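import Cfsg.Agent.Lib.HHS57.MovingBasics
import Cfsg.Agent.Lib.Coprime.Generation
import Cfsg.Agent.Lib.Fusion.Thompson

/-!
# `[C(i), α]` is a `2`-group for a fixed involution `i` of `gM` (helper57)

A proper invariant subgroup containing two involutions of `gZ` has a `2`-group as commutator with
`α`.  If `i` does not centralise two involutions of `gZ`, Thompson transfer gives a conjugate of
`gZ` centralised by `i`, which is then fixed.
-/

set_option autoImplicit false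
set_option linter.style.haveILetI false
set_option linter.unusedSectionVars false

namespace Cfsg.Agent.Lib.HHS57

open Cfsg Cfsg.Agent.Lib
open Subgroup
open scoped commutatorElement

universe u

variable {H : Type u} [Group H] [Finite H] {p r : ℕ} {α : MulAut H} {V : Type u} [CommGroup V]
  [Finite V] {ψ : H →* MulAut V} {e : MulAut V}

/-- Two nontrivial elements in an elementary abelian `2`-group: it is not cyclic. -/
theorem not_isCyclic_of_pair {X : Type u} [Group X] [Finite X] {A : Subgroup X}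
    (hA : ∀ a ∈ A, a * a = 1) {a b : X} (ha : a ∈ A) (hb : b ∈ A) (ha1 : a ≠ 1) (hb1 : b ≠ 1)
    (hab : a ≠ b) : ¬ IsCyclic A := by
  intro hc
  obtain ⟨g, hg⟩ := hc.exists_generator
  have key : ∀ y ∈ A, y = 1 ∨ y = (g : X) := by
    intro y hy
    obtain ⟨i, hi⟩ := Subgroup.mem_zpowers_iff.1 (hg ⟨y, hy⟩)
    have hi' : (g : X) ^ i = y := congrArg Subtype.val hi
    rcases Int.even_or_odd' i with ⟨j, rfl | rfl⟩
    · left; rw [← hi', zpow_mul, zpow_two, hA g g.2, one_zpow]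
    · right; rw [← hi', zpow_add_one, zpow_mul, zpow_two, hA g g.2, one_zpow, one_mul]
  rcases key a ha with h1 | h1
  · exact ha1 h1
  rcases key b hb with h2 | h2
  · exact hb1 h2
  exact hab (h1.trans h2.symm)

variable (h : Min p r α ψ e) (T : Sylow 2 H) (hT : Stb α (T : Subgroup H))

include h hT

/-- The structure of `[X, α]` for a proper invariant `X` of `G`. -/
theorem Min.gCm_struct {X : Subgroup (H ⧸ Subgroup.center H)} (hX : Stb (qAut α) X) (hne : X ≠ ⊤) :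
    ∃ W D₁ : Subgroup (H ⧸ Subgroup.center H), IsPGroup p W ∧ Stb (qAut α) W ∧ W ≤ cm (qAut α) X ∧
      (∀ x ∈ X, ∀ w ∈ W, x * w * x⁻¹ ∈ W) ∧ IsPGroup 2 D₁ ∧ Stb (qAut α) D₁ ∧
      D₁ ≤ cm (qAut α) D₁ ∧ D₁ ≤ cm (qAut α) X ∧
      (∀ y ∈ cm (qAut α) X, ∃ w ∈ W, ∃ d ∈ D₁, y = w * d) ∧
      ((∀ w ∈ W, qAut α w = w) → IsPGroup 2 (cm (qAut α) X)) := by
  haveI : Fact (Nat.Prime 2) := ⟨Nat.prime_two⟩
  set Y := X.comap (qHom H) with hY
  have hYα : Stb α Y := fun x hx => by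
    rw [hY, Subgroup.mem_comap] at hx ⊢
    rw [← qAut_mk]
    exact hX _ hx
  have hYne : Y ≠ ⊤ := fun e1 => hne (top_le_iff.1 fun y _ => by
    obtain ⟨x, rfl⟩ := QuotientGroup.mk'_surjective (Subgroup.center H) y
    exact Subgroup.mem_comap.1 (show x ∈ Y from e1.symm ▸ mem_top x))
  obtain ⟨W, hWY, hWp, hWα, hWn, -, hpow⟩ := h.cm_struct hYα hYne
  have hKK := cm_cm h.hr h.hα h.hco hYα
  obtain ⟨D₁, -, hD2, hDα, hD1, hDK, heq⟩ := h.exists_two_part (stb_cm hYα) hKK hWY hWα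
    (fun y hy w hw => hWn y (cm_le hYα hy) w hw) hpow (IsPGroup.of_bot (p := 2)) stb_bot bot_le
  have hmap : cm (qAut α) X = (cm α Y).map (qHom H) := by
    refine le_antisymm (cm_le_iff.2 fun y hy => ?_) ?_
    · obtain ⟨x, rfl⟩ := QuotientGroup.mk'_surjective (Subgroup.center H) y
      rw [qAut_mk, ← map_inv, ← map_mul]
      exact mem_map_of_mem _ (mem_cm (show x ∈ Y from hy))
    · rw [Subgroup.map_le_iff_le_comap, cm_le_iff]
      intro x hx
      rw [Subgroup.mem_comap, map_mul, map_inv, ← qAut_mk]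
      exact mem_cm (Subgroup.mem_comap.1 hx)
  have hstb : ∀ {B : Subgroup H}, Stb α B → Stb (qAut α) (B.map (qHom H)) := by
    rintro B hB _ ⟨x, hx, rfl⟩
    rw [qAut_mk]
    exact mem_map_of_mem _ (hB x hx)
  refine ⟨W.map (qHom H), D₁.map (qHom H), hWp.map _, hstb hWα, hmap ▸ map_mono hWY, ?_, hD2.map _,
    hstb hDα, ?_, hmap ▸ map_mono hDK, ?_, ?_⟩
  · rintro x hx _ ⟨w, hw, rfl⟩
    obtain ⟨y, rfl⟩ := QuotientGroup.mk'_surjective (Subgroup.center H) x
    rw [← map_inv, ← map_mul, ← map_mul]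
    exact mem_map_of_mem _ (hWn y hx w hw)
  · conv_lhs => rw [← hD1]
    rw [Subgroup.map_le_iff_le_comap, cm_le_iff]
    intro x hx
    rw [Subgroup.mem_comap, map_mul, map_inv, ← qAut_mk]
    exact mem_cm (mem_map_of_mem _ hx)
  · intro y hy
    rw [hmap] at hy
    obtain ⟨x, hx, rfl⟩ := hy
    obtain ⟨w, hw, d, hd, rfl⟩ := heq x hx
    exact ⟨_, mem_map_of_mem _ hw, _, mem_map_of_mem _ hd, map_mul _ _ _⟩
  · intro hfix
    rw [hmap]
    refine (hD2.to_le ?_).map _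
    rw [← hKK]
    refine cm_le_iff.2 fun y hy => ?_
    obtain ⟨w, hw, d, hd, rfl⟩ := heq y hy
    rw [map_mul, h.qFix_iff.1 (hfix _ (mem_map_of_mem _ hw)),
      show (w * d)⁻¹ * (w * α d) = d⁻¹ * α d by group]
    exact mul_mem (inv_mem hd) (hDα d hd)

/-- A proper invariant subgroup containing two involutions of `gZ`. -/
theorem Min.gCm_two_of_pair {X : Subgroup (H ⧸ Subgroup.center H)} (hX : Stb (qAut α) X) (hne : X ≠ ⊤)
    {z₁ z₂ : H ⧸ Subgroup.center H} (hz₁ : z₁ ∈ gZ α T) (h₁ : z₁ ≠ 1) (hz₂ : z₂ ∈ gZ α T) (h₂ : z₂ ≠ 1)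
    (h12 : z₁ ≠ z₂) (hX₁ : z₁ ∈ X) (hX₂ : z₂ ∈ X) : IsPGroup 2 (cm (qAut α) X) := by
  haveI := h.factP
  obtain ⟨W, D₁, hWp, hWα, -, hWn, -, -, -, -, -, hfin⟩ := h.gCm_struct T hT hX hne
  refine hfin fun w hw => ?_
  set A := gZ α T ⊓ X with hA
  haveI : IsMulCommutative A :=
    ⟨⟨fun a b => Subtype.ext (h.gZ_comm T hT a.2.1 (h.gZ_le_gD T hT b.2.1))⟩⟩
  have hAn : A ≤ Subgroup.normalizer (W : Set (H ⧸ Subgroup.center H)) := fun a ha =>
    mem_normalizer_of_conj_le' fun y hy => hWn a ha.2 y hy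
  have hA2 : IsPGroup 2 A := (h.gD_isPGroup T hT).to_le (inf_le_left.trans (h.gZ_le_gD T hT))
  have hcop : (Nat.card A).Coprime (Nat.card W) := IsPGroup.coprime_card_of_ne 2 p h.hp2.symm A W hA2 hWp
  have hcyc := not_isCyclic_of_pair (A := A) (fun a ha => h.gZ_sq T hT ha.1) ⟨hz₁, hX₁⟩ ⟨hz₂, hX₂⟩ h₁ h₂ h12
  have hle : W ≤ fixG (qAut α) := by
    rw [← Coprime.iSup_centralizer_eq hcyc hAn hcop]
    refine iSup₂_le fun a ha => ?_
    rintro v ⟨hv, hva'⟩
    have hva : v * a = a * v := Subgroup.mem_centralizer_singleton_iff.1 hva'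
    have hvM : v ∈ gM α T := h.gCent_le T hT ha.1.1 ha.2 hva
    exact (inv_mul_eq_one.1 (Subgroup.mem_bot.1 ((IsPGroup.disjoint_of_ne p 2 h.hp2 W (gD α T) hWp
      (h.gD_isPGroup T hT)).le_bot ⟨W.mul_mem (W.inv_mem hv) (hWα v hv), h.gM_moved T hT hvM⟩))).symm
  exact hle hw

/-- The same at an invariant point. -/
theorem Min.gCm_two_of_pair_conj {X : Subgroup (H ⧸ Subgroup.center H)} (hX : Stb (qAut α) X)
    (hne : X ≠ ⊤) {c z₁ z₂ : H ⧸ Subgroup.center H} (hc : qAut α c = c) (hz₁ : z₁ ∈ gZ α T) (h₁ : z₁ ≠ 1)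
    (hz₂ : z₂ ∈ gZ α T) (h₂ : z₂ ≠ 1) (h12 : z₁ ≠ z₂) (hX₁ : c * z₁ * c⁻¹ ∈ X) (hX₂ : c * z₂ * c⁻¹ ∈ X) :
    IsPGroup 2 (cm (qAut α) X) := by
  set φ := (MulAut.conj c).toMonoidHom with hφ
  have hφα : ∀ x, φ (qAut α x) = qAut α (φ x) := fun x => by simp [hφ, hc]
  have hX' : Stb (qAut α) (X.comap φ) := fun x hx => by
    rw [Subgroup.mem_comap] at hx ⊢
    rw [hφα]
    exact hX _ hx
  have hne' : X.comap φ ≠ ⊤ := fun e1 => hne (top_le_iff.1 fun y _ => by
    obtain ⟨x, rfl⟩ := (MulAut.conj c).surjective y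
    exact Subgroup.mem_comap.1 (e1 ▸ mem_top x))
  have h2 := h.gCm_two_of_pair T hT hX' hne' hz₁ h₁ hz₂ h₂ h12 hX₁ hX₂
  refine (h2.map φ).to_le (cm_le_iff.2 fun y hy => ?_)
  obtain ⟨x, rfl⟩ := (MulAut.conj c).surjective y
  refine ⟨x⁻¹ * qAut α x, mem_cm (show x ∈ X.comap φ from hy), ?_⟩
  rw [map_mul, map_inv, hφα]
  rfl

/-- `[C(i), α]` is a `2`-group. -/
theorem Min.gCent_cm_two (hq : 4 ≤ Nat.card (gZ α T)) {i : H ⧸ Subgroup.center H} (hi : i ∈ gM α T)
    (hif : qAut α i = i) (hii : i * i = 1) (hi1 : i ≠ 1) :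
    IsPGroup 2 (cm (qAut α) (Subgroup.centralizer {i})) := by
  haveI := h.factP
  haveI : Fact (Nat.Prime 2) := ⟨Nat.prime_two⟩
  have hYα : Stb (qAut α) (Subgroup.centralizer {i}) := stb_centralizer_singleton hif
  have hYne : Subgroup.centralizer {i} ≠ ⊤ := fun e1 => hi1 (by
    have hc : i ∈ Subgroup.center (H ⧸ Subgroup.center H) := mem_center_iff.2 fun g =>
      mem_centralizer_singleton_iff.1 (e1 ▸ mem_top g)
    rwa [h.gCenter T hT, Subgroup.mem_bot] at hc)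
  set Y := Subgroup.centralizer {i} with hY
  set Z := gZ α T with hZ
  by_cases hpair : ∃ z₁ ∈ Z, ∃ z₂ ∈ Z, z₁ ≠ 1 ∧ z₂ ≠ 1 ∧ z₁ ≠ z₂ ∧ z₁ * i = i * z₁ ∧ z₂ * i = i * z₂
  · obtain ⟨z₁, hz₁, z₂, hz₂, h₁, h₂, h12, hc₁, hc₂⟩ := hpair
    exact h.gCm_two_of_pair T hT hYα hYne hz₁ h₁ hz₂ h₂ h12 (mem_centralizer_singleton_iff.2 hc₁)
      (mem_centralizer_singleton_iff.2 hc₂)
  push Not at hpair
  by_contra hbad
  -- `|gZ| = 4`
  have hconjZ : ∀ z ∈ Z, i * z * i⁻¹ ∈ Z := fun z hz => h.gZ_conj T hT hi hz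
  let τ : Z →* Z :=
    { toFun := fun z => ⟨i * z * i⁻¹ * (z : H ⧸ Subgroup.center H)⁻¹, mul_mem (hconjZ z z.2) (inv_mem z.2)⟩
      map_one' := Subtype.ext (by simp)
      map_mul' := fun a b => Subtype.ext (by
        have h1 : (a : H ⧸ Subgroup.center H)⁻¹ * (i * b * i⁻¹) = i * b * i⁻¹ * (a : H ⧸ Subgroup.center H)⁻¹ :=
          h.gZ_comm T hT (inv_mem a.2) (h.gZ_le_gD T hT (hconjZ b b.2))
        have h2 : (a : H ⧸ Subgroup.center H)⁻¹ * (b : H ⧸ Subgroup.center H)⁻¹ = (b : H ⧸ Subgroup.center H)⁻¹ * (a : H ⧸ Subgroup.center H)⁻¹ :=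
          h.gZ_comm T hT (inv_mem a.2) (h.gZ_le_gD T hT (inv_mem b.2))
        show i * (a * b) * i⁻¹ * (a * b : H ⧸ Subgroup.center H)⁻¹ =
          i * a * i⁻¹ * (a : H ⧸ Subgroup.center H)⁻¹ * (i * b * i⁻¹ * (b : H ⧸ Subgroup.center H)⁻¹)
        calc i * (a * b) * i⁻¹ * (a * b : H ⧸ Subgroup.center H)⁻¹
            = i * a * i⁻¹ * (i * b * i⁻¹) * ((b : H ⧸ Subgroup.center H)⁻¹ * (a : H ⧸ Subgroup.center H)⁻¹) := by group
          _ = i * a * i⁻¹ * ((i * b * i⁻¹) * (a : H ⧸ Subgroup.center H)⁻¹) * (b : H ⧸ Subgroup.center H)⁻¹ := by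
              rw [← h2]; group
          _ = _ := by rw [← h1]; group) }
  let C₀ : Subgroup Z := (Subgroup.centralizer {i}).subgroupOf Z
  have hC₀ : Nat.card C₀ ≤ 2 := by
    classical
    by_contra hlt
    haveI := Fintype.ofFinite C₀
    rw [Nat.card_eq_fintype_card, not_le, Fintype.two_lt_card_iff] at hlt
    obtain ⟨a, b, c, hab, hac, hbc⟩ := hlt
    have key : ∀ a b : C₀, a ≠ 1 → b ≠ 1 → a = b := fun a b ha hb => by
      by_contra hne
      exact hpair ((a : Z) : H ⧸ Subgroup.center H) (a : Z).2 ((b : Z) : H ⧸ Subgroup.center H) (b : Z).2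
        (fun e1 => ha (Subtype.ext (Subtype.ext e1))) (fun e1 => hb (Subtype.ext (Subtype.ext e1)))
        (fun e1 => hne (Subtype.ext (Subtype.ext e1))) (mem_centralizer_singleton_iff.1 a.2)
        (mem_centralizer_singleton_iff.1 b.2)
    by_cases ha : a = 1
    · subst ha; exact hbc (key b c hab.symm hac.symm)
    by_cases hb : b = 1
    · subst hb; exact hac (key a c ha hbc.symm)
    exact hab (key a b ha hb)
  have hrange : τ.range ≤ C₀ := by
    rintro _ ⟨z, rfl⟩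
    refine mem_centralizer_singleton_iff.2 ?_
    show i * z * i⁻¹ * (z : H ⧸ Subgroup.center H)⁻¹ * i = i * (i * z * i⁻¹ * (z : H ⧸ Subgroup.center H)⁻¹)
    have hz' : i * z * i⁻¹ * (z : H ⧸ Subgroup.center H)⁻¹ = (z : H ⧸ Subgroup.center H) * (i * z * i⁻¹) := by
      rw [inv_eq_of_mul_eq_one_right (h.gZ_sq T hT z.2)]
      exact (h.gZ_comm T hT z.2 (h.gZ_le_gD T hT (hconjZ z z.2))).symm
    have hi' : i⁻¹ = i := inv_eq_of_mul_eq_one_right hii
    rw [hz', hi']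
    calc (z : H ⧸ Subgroup.center H) * (i * z * i) * i = z * (i * z) * (i * i) := by group
      _ = (i * i) * z * (i * z) := by rw [hii, mul_one, one_mul]
      _ = i * (i * z * (i * z)) := by group
      _ = i * ((i * z * i⁻¹) * z) := by rw [hi']; group
      _ = i * (z * (i * z * i⁻¹)) := by
          rw [h.gZ_comm T hT (hconjZ z z.2) (h.gZ_le_gD T hT z.2)]
      _ = i * (z * (i * z * i)) := by rw [hi']
  have hker : τ.ker ≤ C₀ := fun z hz => by
    have h1 : i * z * i⁻¹ * (z : H ⧸ Subgroup.center H)⁻¹ = 1 := congrArg Subtype.val hz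
    refine mem_centralizer_singleton_iff.2 ?_
    rw [mul_inv_eq_one, mul_inv_eq_iff_eq_mul] at h1
    exact h1.symm
  have h4 : Nat.card Z = 4 := by
    refine le_antisymm ?_ hq
    rw [Subgroup.card_eq_card_quotient_mul_card_subgroup τ.ker,
      Nat.card_congr (QuotientGroup.quotientKerEquivRange τ).toEquiv]
    exact (Nat.mul_le_mul ((Subgroup.card_le_of_le hrange).trans hC₀)
      ((Subgroup.card_le_of_le hker).trans hC₀)).trans le_rfl
  -- transfer
  obtain ⟨P, hP⟩ := ((isPGroup_zpowers_of_twoEl (⟨1, by rw [pow_one, pow_two, hii]⟩ : TwoEl i)).to_sup_of_normal_right' (h.gD_isPGroup T hT)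
    (Subgroup.zpowers_le.2 (Lib.FS.mem_normalizer_of_conj_mem fun y hy => h.gD_conj T hT hi hy))).exists_le_sylow
  have hPM : (P : Subgroup (H ⧸ Subgroup.center H)) ≤ gM α T :=
    h.two_le_gM T hT P.isPGroup' (le_sup_right.trans hP)
  have hiP : i ∈ (P : Subgroup (H ⧸ Subgroup.center H)) := hP (mem_sup_left (Subgroup.mem_zpowers i))
  obtain ⟨z₀, hz₀, hz₀1, hz₀P⟩ := h.exists_two_fix T hT (fun e1 => by rw [← hZ] at e1; rw [e1, Subgroup.card_bot] at h4; omega)
    hPM P.isPGroup'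
  have hmoved : ∀ z ∈ Z, z ≠ 1 → z ≠ z₀ → i * z * i⁻¹ = z₀ * z := by
    intro z hz hz1 hzz
    rcases h.gZ_four_cases T hT h4 hz₀ hz hz₀1 hz1 (Ne.symm hzz) (hconjZ z hz) with e1 | e1 | e1 | e1
    · exact absurd (by simpa using e1) hz1
    · exfalso
      have e2 := hz₀P i hiP
      refine hzz (mul_left_cancel (mul_right_cancel (e1.trans ?_)) : z = z₀)
      rw [e2, mul_inv_cancel_right]
    · exact absurd (hz₀P i hiP).symm
        (hpair z hz z₀ hz₀ hz1 hz₀1 hzz (mul_inv_eq_iff_eq_mul.1 e1).symm)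
    · exact e1
  set P₀ := (P : Subgroup (H ⧸ Subgroup.center H)) ⊓ Subgroup.centralizer (Z : Set (H ⧸ Subgroup.center H))
    with hP₀
  have hiP₀ : i ∉ P₀ := fun hh => by
    obtain ⟨z, hz, hz1, hzz⟩ : ∃ z ∈ Z, z ≠ 1 ∧ z ≠ z₀ := by
      by_contra hall
      push Not at hall
      have hle : Z ≤ Subgroup.zpowers z₀ := fun y hy => by
        by_cases hy1 : y = 1
        · rw [hy1]; exact one_mem _
        · rw [hall y hy hy1]; exact Subgroup.mem_zpowers z₀
      have := Subgroup.card_le_of_le hle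
      rw [h4, Nat.card_zpowers, orderOf_eq_prime (by rw [pow_two, h.gZ_sq T hT hz₀]) hz₀1] at this
      omega
    have h1 := hmoved z hz hz1 hzz
    rw [← mem_centralizer_iff.1 hh.2 z hz, mul_inv_cancel_right] at h1
    exact hz₀1 (mul_right_cancel (a := z₀) (b := z) (c := 1) (by rw [one_mul]; exact h1.symm))
  have hidx : P₀.relIndex (P : Subgroup (H ⧸ Subgroup.center H)) = 2 := by
    rw [Subgroup.relIndex, Subgroup.index_eq_two_iff]
    refine ⟨⟨i, hiP⟩, fun b => ?_⟩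
    by_cases hb : (b : H ⧸ Subgroup.center H) ∈ P₀
    · refine Or.inr ⟨hb, fun hbi => hiP₀ ?_⟩
      have := P₀.mul_mem (P₀.inv_mem hb) (Subgroup.mem_subgroupOf.1 hbi)
      simpa using this
    · refine Or.inl ⟨Subgroup.mem_subgroupOf.2 ⟨P.mul_mem b.2 hiP, mem_centralizer_iff.2 fun z hz => ?_⟩, hb⟩
      show z * ((b : H ⧸ Subgroup.center H) * i) = b * i * z
      by_cases hz1 : z = 1
      · simp [hz1]
      have hb0 : (b : H ⧸ Subgroup.center H) * z₀ = z₀ * b := hz₀P b b.2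
      have hi0 : i * z₀ = z₀ * i := hz₀P i hiP
      by_cases hzz : z = z₀
      · rw [hzz, ← mul_assoc, ← hb0, mul_assoc _ z₀, ← hi0, mul_assoc]
      have hiz := hmoved z hz hz1 hzz
      rcases h.gZ_four_cases T hT h4 hz₀ hz hz₀1 hz1 (Ne.symm hzz)
          (h.gZ_conj T hT (hPM b.2) hz) with e1 | e1 | e1 | e1
      · exact absurd (by simpa using e1) hz1
      · exfalso
        refine hzz (mul_left_cancel (mul_right_cancel (e1.trans ?_)) : z = z₀)
        rw [hb0, mul_inv_cancel_right]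
      · exfalso
        refine hb ⟨b.2, mem_centralizer_iff.2 fun y hy => ?_⟩
        rcases h.gZ_four_cases T hT h4 hz₀ hz hz₀1 hz1 (Ne.symm hzz) hy with rfl | rfl | rfl | rfl
        · simp
        · exact hb0.symm
        · exact (mul_inv_eq_iff_eq_mul.1 e1).symm
        · rw [mul_assoc, ← mul_inv_eq_iff_eq_mul.1 e1, ← mul_assoc, ← hb0, mul_assoc]
      · refine (mul_inv_eq_iff_eq_mul.1 ?_).symm
        calc (b : H ⧸ Subgroup.center H) * i * z * ((b : H ⧸ Subgroup.center H) * i)⁻¹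
            = b * (i * z * i⁻¹) * (b : H ⧸ Subgroup.center H)⁻¹ := by group
          _ = (b * z₀) * z * (b : H ⧸ Subgroup.center H)⁻¹ := by rw [hiz]; group
          _ = z₀ * (b * z * (b : H ⧸ Subgroup.center H)⁻¹) := by rw [hb0]; group
          _ = z := by rw [e1, ← mul_assoc, h.gZ_sq T hT hz₀, one_mul]
  have hno2 : ∀ N : Subgroup (H ⧸ Subgroup.center H), N.index ≠ 2 := by
    intro N hN
    haveI := Subgroup.normal_of_index_eq_two hN
    have hle : commutator (H ⧸ Subgroup.center H) ≤ N := by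
      rw [commutator_def, Subgroup.commutator_le]
      intro a _ b _
      rw [commutatorElement_def, Subgroup.mul_mem_iff_of_index_two hN, Subgroup.mul_mem_iff_of_index_two hN,
        Subgroup.mul_mem_iff_of_index_two hN, inv_mem_iff, inv_mem_iff]
      by_cases a ∈ N <;> simp_all
    rw [h.gPerfect T hT, top_le_iff] at hle
    rw [hle, Subgroup.index_top] at hN
    omega
  obtain ⟨g, hg⟩ := Fusion.Thompson.exists_conj_mem_maximal P P₀ inf_le_left hidx hno2 i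
    (orderOf_eq_prime (by rw [pow_two, hii]) hi1)
  -- the four group `E = g⁻¹ gZ g`
  set E := Z.map (MulAut.conj g⁻¹).toMonoidHom with hE
  have hEmem : ∀ z ∈ Z, g⁻¹ * z * g ∈ E := fun z hz => ⟨z, hz, by simp⟩
  have hEi : ∀ z ∈ Z, g⁻¹ * z * g ∈ Y := fun z hz => mem_centralizer_singleton_iff.2 (by
    have h1 : z * (g * i * g⁻¹) = g * i * g⁻¹ * z := mem_centralizer_iff.1 hg.2 z hz
    calc g⁻¹ * z * g * i = g⁻¹ * (z * (g * i * g⁻¹)) * g := by group
      _ = i * (g⁻¹ * z * g) := by rw [h1]; group)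
  obtain ⟨W, D₁, hWp, hWα, hWK, hWn, hD2, hDα, hD1, hDK, heq, hfin⟩ := h.gCm_struct T hT hYα hYne
  haveI : IsMulCommutative E := ⟨⟨fun a b => Subtype.ext (by
    obtain ⟨_, x, hx, rfl⟩ := a
    obtain ⟨_, y, hy, rfl⟩ := b
    show (MulAut.conj g⁻¹).toMonoidHom x * (MulAut.conj g⁻¹).toMonoidHom y = _ * _
    rw [← map_mul, ← map_mul, h.gZ_comm T hT hx (h.gZ_le_gD T hT hy)])⟩⟩
  have hE2 : IsPGroup 2 E := ((h.gD_isPGroup T hT).to_le (h.gZ_le_gD T hT)).map _
  obtain ⟨za, hza, zb, hzb, hza1, hzb1, hab⟩ : ∃ a ∈ Z, ∃ b ∈ Z, a ≠ 1 ∧ b ≠ 1 ∧ a ≠ b := by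
    by_contra hall
    push Not at hall
    refine hiP₀ ⟨hiP, mem_centralizer_iff.2 fun z hz => ?_⟩
    by_cases hz1 : z = 1
    · simp [hz1]
    · rw [hall z hz z₀ hz₀ hz1 hz₀1]
      exact (hz₀P i hiP).symm
  have hEcyc : ¬ IsCyclic E := not_isCyclic_of_pair
    (a := g⁻¹ * za * g) (b := g⁻¹ * zb * g) (by
      rintro _ ⟨z, hz, rfl⟩
      rw [← map_mul, h.gZ_sq T hT hz, map_one])
    (hEmem za hza) (hEmem zb hzb) (fun e1 => hza1 (by simpa using conj_eq_one_iff.1 (show g⁻¹ * za * g⁻¹⁻¹ = 1 by rw [inv_inv]; exact e1)))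
    (fun e1 => hzb1 (by simpa using conj_eq_one_iff.1 (show g⁻¹ * zb * g⁻¹⁻¹ = 1 by rw [inv_inv]; exact e1)))
    (fun e1 => hab (mul_left_cancel (mul_right_cancel e1)))
  have hEY : E ≤ Y := by
    rintro _ ⟨z, hz, rfl⟩
    simpa using hEi z hz
  have hEn : E ≤ Subgroup.normalizer (W : Set (H ⧸ Subgroup.center H)) := fun a ha =>
    mem_normalizer_of_conj_le' fun y hy => hWn a (hEY ha) y hy
  have hWE : ∀ w ∈ W, ∀ a ∈ E, w * a = a * w := by
    intro w hw a ha
    have hWN : W ≤ Subgroup.centralizer (E : Set (H ⧸ Subgroup.center H)) := by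
      rw [← Coprime.iSup_centralizer_eq hEcyc hEn (IsPGroup.coprime_card_of_ne 2 p h.hp2.symm E W hE2 hWp)]
      refine iSup₂_le fun b hb => ?_
      rintro v ⟨hv, hvb⟩
      obtain ⟨⟨z, hz, rfl⟩, hb1⟩ := hb
      have hvM : g * v * g⁻¹ ∈ gM α T := h.gCent_le T hT hz (fun e1 => hb1 (by rw [e1, map_one])) (by
        have hvb' : v * (g⁻¹ * z * g) = g⁻¹ * z * g * v := by
          simpa using Subgroup.mem_centralizer_singleton_iff.1 hvb
        calc g * v * g⁻¹ * z = g * (v * (g⁻¹ * z * g)) * g⁻¹ := by group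
          _ = z * (g * v * g⁻¹) := by rw [hvb']; group)
      rw [mem_centralizer_iff]
      rintro _ ⟨y, hy, rfl⟩
      have hcy : v * (g⁻¹ * y * g) * v⁻¹ ∈ E := by
        rw [show v * (g⁻¹ * y * g) * v⁻¹ = g⁻¹ * (g * v * g⁻¹ * y * (g * v * g⁻¹)⁻¹) * g by group]
        exact hEmem _ (h.gZ_conj T hT hvM hy)
      have h1 : ⁅v, g⁻¹ * y * g⁆ = 1 := Subgroup.mem_bot.1
        ((IsPGroup.disjoint_of_ne 2 p h.hp2.symm E W hE2 hWp).le_bot
          ⟨by rw [commutatorElement_def]; exact E.mul_mem hcy (E.inv_mem (hEmem y hy)),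
           by rw [commutatorElement_def, show v * (g⁻¹ * y * g) * v⁻¹ * (g⁻¹ * y * g)⁻¹ =
                v * ((g⁻¹ * y * g) * v⁻¹ * (g⁻¹ * y * g)⁻¹) by group]
              exact W.mul_mem hv (hWn _ (hEi y hy) _ (W.inv_mem hv))⟩)
      simpa using (commutatorElement_eq_one_iff_mul_comm.1 h1).symm
    exact (mem_centralizer_iff.1 (hWN hw) a ha).symm
  -- `D₁` acts faithfully on `W`
  have hD₀ : ∀ x ∈ D₁, (∀ w ∈ W, x * w = w * x) → x = 1 := by
    intro x hx hxW
    by_contra hx1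
    set D₀ := D₁ ⊓ Subgroup.centralizer (W : Set (H ⧸ Subgroup.center H)) with hD₀
    set X := Subgroup.centralizer (D₀ : Set (H ⧸ Subgroup.center H)) with hX
    have hXne : X ≠ ⊤ := fun e1 => hx1 (by
      have hc : x ∈ Subgroup.center (H ⧸ Subgroup.center H) := mem_center_iff.2 fun y =>
        (mem_centralizer_iff.1 (e1 ▸ mem_top y : y ∈ X) x
          ⟨hx, mem_centralizer_iff.2 fun w hw => (hxW w hw).symm⟩).symm
      rwa [h.gCenter T hT, Subgroup.mem_bot] at hc)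
    obtain ⟨c, hc, hle⟩ := h.gExists_cm_le T hT hD2 hDα
    have hcX : ∀ z ∈ Z, c * z * c⁻¹ ∈ X := fun z hz => mem_centralizer_iff.2 fun y hy => by
      have h1 := h.gZ_comm T hT hz (hle y (hD1 hy.1))
      calc y * (c * z * c⁻¹) = c * (c⁻¹ * y * c * z) * c⁻¹ := by group
        _ = c * z * c⁻¹ * y := by rw [← h1]; group
    have h2 := h.gCm_two_of_pair_conj T hT (hDα.inf hWα.centralizer).centralizer hXne hc hza hza1 hzb hzb1 hab
      (hcX za hza) (hcX zb hzb)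
    refine hbad (hfin fun w hw => (inv_mul_eq_one.1 (Subgroup.mem_bot.1
      ((IsPGroup.disjoint_of_ne p 2 h.hp2 W _ hWp h2).le_bot
        ⟨W.mul_mem (W.inv_mem hw) (hWα w hw), mem_cm ?_⟩))).symm)
    exact mem_centralizer_iff.2 fun y hy => (mem_centralizer_iff.1 hy.2 w hw).symm
  -- `E` is fixed
  have hEfix : ∀ a ∈ E, qAut α a = a := by
    intro a ha
    set d := a⁻¹ * qAut α a with hd
    have hdY : d ∈ cm (qAut α) Y := mem_cm (hEY ha)
    have hdW : ∀ w ∈ W, d * w = w * d := fun w hw => by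
      have h1 : qAut α a ∈ Subgroup.centralizer (W : Set (H ⧸ Subgroup.center H)) :=
        hWα.centralizer a (mem_centralizer_iff.2 fun v hv => hWE v hv a ha)
      have h2 : a⁻¹ ∈ Subgroup.centralizer (W : Set (H ⧸ Subgroup.center H)) :=
        inv_mem (mem_centralizer_iff.2 fun v hv => hWE v hv a ha)
      exact (mem_centralizer_iff.1 (mul_mem h2 h1) w hw).symm
    obtain ⟨w, hw, x, hx, hwx⟩ := heq d hdY
    obtain ⟨k, hk⟩ := hD2 ⟨x, hx⟩
    have hwx' : Commute w x := by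
      have h1 := hdW w hw
      rw [hwx, mul_assoc] at h1
      exact (mul_left_cancel h1).symm
    have hpow : d ^ 2 ^ k = w ^ 2 ^ k := by
      rw [hwx, hwx'.mul_pow, show x ^ 2 ^ k = 1 from congrArg Subtype.val hk, mul_one]
    obtain ⟨n, hn⟩ := exists_pow_eq_self_of_coprime (x := w) (n := 2 ^ k) (by
      obtain ⟨j, hj⟩ := hWp ⟨w, hw⟩
      exact ((((Nat.coprime_primes h.hp Nat.prime_two).2 h.hp2).pow j k).coprime_dvd_left
        (orderOf_dvd_of_pow_eq_one (congrArg Subtype.val hj))).symm)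
    have hwc : ∀ v ∈ W, w * v = v * w := fun v hv => by
      rw [← hn, ← hpow]
      exact (((show Commute d v from hdW v hv).pow_left _).pow_left n).eq
    have hx1 : x = 1 := hD₀ x hx fun v hv => by
      rw [show x = w⁻¹ * d by rw [hwx, inv_mul_cancel_left]]
      exact (((show Commute w v from hwc v hv).inv_left).mul_left (hdW v hv)).eq
    rw [hx1, mul_one] at hwx
    have haa : a * a = 1 := by
      obtain ⟨z, hz, rfl⟩ := ha
      rw [← map_mul, h.gZ_sq T hT hz, map_one]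
    have hda : qAut α a = a * d := by rw [hd, mul_inv_cancel_left]
    have hdd : d * d = 1 := by
      have h1 : qAut α a * qAut α a = 1 := by rw [← map_mul, haa, map_one]
      rw [hda, hwx] at h1
      rw [hwx]
      calc w * w = (a * a) * (w * w) := by rw [haa, one_mul]
        _ = a * (a * w) * w := by group
        _ = a * (w * a) * w := by rw [hWE w hw a ha]
        _ = 1 := by rw [← h1]; group
    have hw1 : w = 1 := eq_one_of_isPGroup_of_not_dvd h.hp hWp hw fun hdv => h.hp2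
      ((Nat.prime_dvd_prime_iff_eq h.hp Nat.prime_two).1 (h.hp.dvd_of_dvd_pow (n := 1) (by
        rw [pow_one]
        exact hdv.trans (orderOf_dvd_of_pow_eq_one (by rw [pow_two, ← hwx, hdd])))))
    rw [hda, hwx, hw1, mul_one]
  -- a fixed conjugator
  obtain ⟨c, hc, hce⟩ := exists_fixed_conjugator h.hr h.qPow h.qCo (hEfix _ (hEmem za hza))
    (h.gZ_fixed T hT hza) (g := g⁻¹) (by rw [inv_inv])
  have hgc : g * c ∈ gM α T := h.gTI T hT hza hza1 hza (by
    calc g * c * za * (g * c)⁻¹ = g * (c * za * c⁻¹) * g⁻¹ := by group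
      _ = za := by rw [hce]; group)
  have hcY : ∀ z ∈ Z, c * z * c⁻¹ ∈ Y := fun z hz => by
    rw [show c * z * c⁻¹ = g⁻¹ * ((g * c) * z * (g * c)⁻¹) * g by group]
    exact hEi _ (h.gZ_conj T hT hgc hz)
  exact hbad (h.gCm_two_of_pair_conj T hT hYα hYne hc hza hza1 hzb hzb1 hab (hcY za hza) (hcY zb hzb))

end Cfsg.Agent.Lib.HHS57
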