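import Mathlib.GroupTheory.Index
import Mathlib.GroupTheory.OrderOfElement
import Mathlib.GroupTheory.Commutator.Basic

/-!
# Group lemma for coprime fixed-point-free Sylow subgroups: interfaces (helper18)

Two self-contained contradictions used at the end of `notes/coprime_fpf_sylow.md`.
Both are about a finite group `G`, a subgroup `M` (the stabiliser of the base point of `G ⧸ M`) and
an elementary abelian normal `2`-subgroup `Z` of `M` all whose nontrivial elements fix one point.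
-/

set_option autoImplicit false

open scoped commutatorElement

namespace Cfsg.Agent.Lib.HHS57

universe u

/-- Common hypotheses: nontrivial elements of `Z` fix only the base point. -/
structure OnePoint {G : Type u} [Group G] (M Z : Subgroup G) : Prop where
  ltM : M ≠ ⊤
  leM : Z ≤ M
  sq : ∀ z ∈ Z, z * z = 1
  conjZ : ∀ m ∈ M, ∀ z ∈ Z, m * z * m⁻¹ ∈ Z
  onePoint : ∀ z ∈ Z, z ≠ 1 → ∀ g : G, g⁻¹ * z * g ∈ M → g ∈ M

/-- A pair of singular elements. -/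
structure SingularPair {G : Type u} [Group G] (M Z : Subgroup G) (v₁ v₂ : G) : Prop
    extends OnePoint M Z where
  four_le : 4 ≤ Nat.card Z
  oddIndex : ¬ 2 ∣ M.index
  /-- An odd element of `M` inverted by an involution of `M` is only inverted inside `M`. -/
  oddInv : ∀ e ∈ M, e ≠ 1 → Odd (orderOf e) → ∀ j ∈ M, j * j = 1 → j * e * j = e⁻¹ →
    ∀ g : G, g * e * g⁻¹ = e⁻¹ → g ∈ M
  mem₁ : v₁ ∈ M
  mem₂ : v₂ ∈ M
  sq₁ : v₁ * v₁ = 1
  sq₂ : v₂ * v₂ = 1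
  notZ₁ : v₁ ∉ Z
  notZ₂ : v₂ ∉ Z
  cenZ₁ : ∀ z ∈ Z, v₁ * z = z * v₁
  cenZ₂ : ∀ z ∈ Z, v₂ * z = z * v₂
  commMem : ∀ m ∈ M, ⁅v₁, m * v₂ * m⁻¹⁆ ∈ Z
  commNe : ∀ m ∈ M, ⁅v₁, m * v₂ * m⁻¹⁆ ≠ 1

/-- The last configuration: `G` has a strongly embedded `M` with involutions `Z`, `|Z| = 2 ^ w`,
and `2 ^ w + 1` is a prime not dividing `|G|`. -/
structure LastConfig {G : Type u} [Group G] (M Z : Subgroup G) (w : ℕ) : Prop
    extends OnePoint M Z where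
  card : Nat.card Z = 2 ^ w
  two_le : 2 ≤ w
  prime : (2 ^ w + 1).Prime
  not_dvd : ¬ 2 ^ w + 1 ∣ Nat.card G
  invol : ∀ x ∈ M, x * x = 1 → x ∈ Z
  trans : ∀ z ∈ Z, z ≠ 1 → ∀ z' ∈ Z, z' ≠ 1 → ∃ m ∈ M, m * z * m⁻¹ = z'
  semiregular : ∀ a ∈ M, ∀ z ∈ Z, z ≠ 1 → a * z = z * a → ∀ z' ∈ Z, a * z' = z' * a
  small : ∀ a ∈ M, a ≠ 1 → (∀ z ∈ Z, a * z = z * a) → ∀ g : G, g * a = a * g → g ∈ M
  cyclicImage : ∃ γ ∈ M, ∀ m ∈ M, ∃ i : ℕ, ∀ z ∈ Z, m * z * m⁻¹ = γ ^ i * z * (γ ^ i)⁻¹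

end Cfsg.Agent.Lib.HHS57
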