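import Cfsg.Agent.Lib.HHS57.Interface
import Cfsg.Agent.Lib.Involutions.Basic
import Mathlib.GroupTheory.GroupAction.Quotient

/-!
# One-point elementary abelian subgroups (helper42)

`Pts Zf` : a family of elementary abelian subgroups indexed by the points, each nontrivial element
of `Zf w` fixing `w` only.  Dihedral facts and the passage from `OnePoint`.
-/

set_option autoImplicit false

namespace Cfsg.Agent.Lib.HHS57

universe u

variable {G : Type u} [Group G]

theorem semiconj_pow {x y : G} (hx : x * x = 1) (hy : y * y = 1) (i : ℕ) :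
    x * ((x * y) ^ i)⁻¹ = (x * y) ^ i * x := by
  have hxi : x⁻¹ = x := inv_eq_of_mul_eq_one_right hx
  have hyi : y⁻¹ = y := inv_eq_of_mul_eq_one_right hy
  have h : SemiconjBy x (x * y)⁻¹ (x * y) := by
    show x * (x * y)⁻¹ = x * y * x
    rw [mul_inv_rev, hxi, hyi, mul_assoc]
  have h' := h.pow_right i
  rw [inv_pow] at h'
  exact h'

/-- An odd product: a power moves `x` to `y`. -/
theorem exists_mover {x y : G} (hx : x * x = 1) (hy : y * y = 1) (hodd : Odd (orderOf (x * y))) :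
    ∃ g : G, g * x * g⁻¹ = y ∧ (g * x) * (g * x) = 1 ∧
      ∀ v : G, v * x = x * v → v * y = y * v → v * g = g * v := by
  obtain ⟨i, hi⟩ := hodd
  have hxi : x⁻¹ = x := inv_eq_of_mul_eq_one_right hx
  have hyi : y⁻¹ = y := inv_eq_of_mul_eq_one_right hy
  have h2 : (x * y) ^ (2 * i) * (x * y) = 1 := by
    rw [← pow_succ, ← hi, pow_orderOf_eq_one]
  refine ⟨(x * y) ^ i, ?_, ?_, fun v h1 h3 => ?_⟩
  · rw [mul_assoc, semiconj_pow hx hy, ← mul_assoc, ← pow_add, ← two_mul,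
      eq_inv_of_mul_eq_one_left h2, mul_inv_rev, hxi, hyi, mul_assoc, hx, mul_one]
  · calc (x * y) ^ i * x * ((x * y) ^ i * x)
        = (x * y) ^ i * x * (x * ((x * y) ^ i)⁻¹) := by rw [semiconj_pow hx hy]
      _ = (x * y) ^ i * (x * x) * ((x * y) ^ i)⁻¹ := by group
      _ = 1 := by rw [hx, mul_one, mul_inv_cancel]
  · exact ((Commute.mul_right (show Commute v x from h1) h3).pow_right i).eq

/-- An even product: the central involution. -/
theorem exists_central [Finite G] {x y : G} (hx : x * x = 1) (hy : y * y = 1)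
    (heven : Even (orderOf (x * y))) :
    ∃ j : G, j ≠ 1 ∧ j * j = 1 ∧ j * x = x * j ∧ j * y = y * j ∧
      ∃ g : G, j * x = g * x * g⁻¹ ∨ j * y = g * x * g⁻¹ := by
  obtain ⟨m, hm⟩ := heven
  have hxi : x⁻¹ = x := inv_eq_of_mul_eq_one_right hx
  have hyi : y⁻¹ = y := inv_eq_of_mul_eq_one_right hy
  have hpos : 0 < orderOf (x * y) := orderOf_pos _
  set c := x * y with hc
  have hjj : c ^ m * c ^ m = 1 := by rw [← pow_add, ← hm, pow_orderOf_eq_one]
  have hj1 : c ^ m ≠ 1 := fun e => by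
    have := Nat.le_of_dvd (by omega) (orderOf_dvd_of_pow_eq_one e)
    omega
  have hjx : c ^ m * x = x * c ^ m := by
    have := semiconj_pow hx hy m
    rw [← hc, inv_eq_of_mul_eq_one_right hjj] at this
    exact this.symm
  have hjy : c ^ m * y = y * c ^ m := by
    have hy' : y = x * c := by rw [hc, ← mul_assoc, hx, one_mul]
    have h1 : Commute (c ^ m) y := by
      rw [hy']
      exact Commute.mul_right (show Commute (c ^ m) x from hjx) ((Commute.refl c).pow_left m)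
    exact h1.eq
  refine ⟨c ^ m, hj1, hjj, hjx, hjy, ?_⟩
  rcases Nat.even_or_odd' m with ⟨i, rfl | rfl⟩
  · refine ⟨c ^ i, Or.inl ?_⟩
    rw [mul_assoc _ x, semiconj_pow hx hy i, ← hc, ← mul_assoc, ← pow_add, two_mul]
  · refine ⟨(c ^ i * x)⁻¹, Or.inr ?_⟩
    have hgy : (c ^ i * x) * (c ^ (2 * i + 1) * y) * (c ^ i * x)⁻¹ = x := by
      have e1 : (c ^ i * x) * y * (c ^ i * x)⁻¹ = c ^ (2 * i + 1) * x := by
        calc (c ^ i * x) * y * (c ^ i * x)⁻¹ = c ^ i * c * (x * (c ^ i)⁻¹) := by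
              rw [hc, mul_inv_rev, hxi]; group
          _ = c ^ i * c * (c ^ i * x) := by rw [hc, semiconj_pow hx hy i]
          _ = c ^ (i + 1) * c ^ i * x := by rw [pow_succ]; group
          _ = c ^ (2 * i + 1) * x := by rw [← pow_add]; congr 2; ring
      have e2 : Commute (c ^ i * x) (c ^ (2 * i + 1)) :=
        Commute.mul_left ((Commute.refl c).pow_pow _ _) (show Commute x _ from hjx.symm)
      calc (c ^ i * x) * (c ^ (2 * i + 1) * y) * (c ^ i * x)⁻¹
          = (c ^ i * x) * c ^ (2 * i + 1) * (y * (c ^ i * x)⁻¹) := by group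
        _ = c ^ (2 * i + 1) * ((c ^ i * x) * y * (c ^ i * x)⁻¹) := by rw [e2.eq]; group
        _ = x := by rw [e1, ← mul_assoc, hjj, one_mul]
    calc c ^ (2 * i + 1) * y
        = (c ^ i * x)⁻¹ * ((c ^ i * x) * (c ^ (2 * i + 1) * y) * (c ^ i * x)⁻¹) * (c ^ i * x) := by
          group
      _ = _ := by rw [hgy, inv_inv]

open MulAction

variable {Ω : Type*} [MulAction G Ω]

/-- Elementary abelian subgroups with a single fixed point each. -/
structure Pts (Zf : Ω → Subgroup G) : Prop where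
  equiv : ∀ (g : G) {w : Ω} {x : G}, x ∈ Zf w → g * x * g⁻¹ ∈ Zf (g • w)
  fix : ∀ {w : Ω} {x : G}, x ∈ Zf w → x • w = w
  one : ∀ {w w' : Ω} {x : G}, x ∈ Zf w → x ≠ 1 → x • w' = w' → w' = w
  sq : ∀ {w : Ω} {x : G}, x ∈ Zf w → x * x = 1

namespace Pts

variable {Zf : Ω → Subgroup G} (hP : Pts Zf)

include hP

theorem commute {w : Ω} {x y : G} (hx : x ∈ Zf w) (hy : y ∈ Zf w) : x * y = y * x := by
  have h := hP.sq (mul_mem hx hy)
  have hxi : x⁻¹ = x := inv_eq_of_mul_eq_one_right (hP.sq hx)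
  have hyi : y⁻¹ = y := inv_eq_of_mul_eq_one_right (hP.sq hy)
  rw [eq_inv_of_mul_eq_one_left h, mul_inv_rev, hxi, hyi]

/-- The centraliser of a nontrivial element fixes its point. -/
theorem fix_of_commute {w : Ω} {x g : G} (hx : x ∈ Zf w) (hx1 : x ≠ 1) (hg : g * x = x * g) :
    g • w = w :=
  hP.one hx hx1 (by rw [← mul_smul, ← hg, mul_smul, hP.fix hx])

/-- A conjugate fixing `w'` belongs to `w'`. -/
theorem conj_mem {w w' : Ω} {x g : G} (hx : x ∈ Zf w) (hx1 : x ≠ 1)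
    (hfix : (g * x * g⁻¹) • w' = w') : g • w = w' ∧ g * x * g⁻¹ ∈ Zf w' := by
  have h := hP.one (hP.equiv g hx) (fun e => hx1 (conj_eq_one_iff.1 e)) hfix
  exact ⟨h.symm, h ▸ hP.equiv g hx⟩

/-- Nontrivial elements at different points have odd product. -/
theorem odd_prod [Finite G] {w w' : Ω} {x y : G} (hx : x ∈ Zf w) (hx1 : x ≠ 1) (hy : y ∈ Zf w')
    (hy1 : y ≠ 1) (hne : w ≠ w') : Odd (orderOf (x * y)) := by
  by_contra hodd
  obtain ⟨j, hj1, hjj, hjx, hjy, g, hg | hg⟩ :=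
    exists_central (hP.sq hx) (hP.sq hy) (Nat.not_odd_iff_even.1 hodd)
  · have hf : (g * x * g⁻¹) • w = w := by
      rw [← hg, mul_smul, hP.fix hx, hP.fix_of_commute hx hx1 hjx]
    have hj : j ∈ Zf w := by
      have := mul_mem (hg.symm ▸ (hP.conj_mem hx hx1 hf).2 : j * x ∈ Zf w) hx
      rwa [mul_assoc, hP.sq hx, mul_one] at this
    exact hne (hP.one hy hy1 (hP.fix_of_commute hj hj1 hjy.symm))
  · have hf : (g * x * g⁻¹) • w' = w' := by
      rw [← hg, mul_smul, hP.fix hy, hP.fix_of_commute hy hy1 hjy]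
    have hj : j ∈ Zf w' := by
      have := mul_mem (hg.symm ▸ (hP.conj_mem hx hx1 hf).2 : j * y ∈ Zf w') hy
      rwa [mul_assoc, hP.sq hy, mul_one] at this
    exact hne.symm (hP.one hx hx1 (hP.fix_of_commute hj hj1 hjx.symm))

/-- An element exchanging nontrivial elements at different points. -/
theorem exists_mover_pt [Finite G] {w w' : Ω} {x y : G} (hx : x ∈ Zf w) (hx1 : x ≠ 1)
    (hy : y ∈ Zf w') (hy1 : y ≠ 1) (hne : w ≠ w') :
    ∃ g : G, g * x * g⁻¹ = y ∧ g • w = w' ∧ (g * x) * (g * x) = 1 ∧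
      ∀ v : G, v * x = x * v → v * y = y * v → v * g = g * v := by
  obtain ⟨g, hg, hgg, hc⟩ := exists_mover (hP.sq hx) (hP.sq hy) (hP.odd_prod hx hx1 hy hy1 hne)
  exact ⟨g, hg, (hP.conj_mem hx hx1 (w' := w') (by rw [hg]; exact hP.fix hy)).1, hgg, hc⟩

end Pts

section Cosets

variable (M Z : Subgroup G)

/-- `Z` moved to a coset. -/
noncomputable def zAt (w : G ⧸ M) : Subgroup G := Z.map (MulAut.conj w.out).toMonoidHom

variable {M Z}

theorem OnePoint.mem_zAt (h : OnePoint M Z) (g x : G) :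
    x ∈ zAt M Z (g : G ⧸ M) ↔ g⁻¹ * x * g ∈ Z := by
  have hm : g⁻¹ * (g : G ⧸ M).out ∈ M := QuotientGroup.eq.1 (QuotientGroup.out_eq' _).symm
  obtain ⟨k, hk⟩ : ∃ k, (g : G ⧸ M).out = k := ⟨_, rfl⟩
  rw [hk] at hm
  rw [zAt, Subgroup.mem_map, hk]
  constructor
  · rintro ⟨z, hz, rfl⟩
    have := h.conjZ _ hm z hz
    convert this using 1
    simp only [MulEquiv.coe_toMonoidHom, MulAut.conj_apply]
    group
  · intro hx
    refine ⟨k⁻¹ * x * k, ?_, ?_⟩
    · have := h.conjZ _ (inv_mem hm) _ hx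
      convert this using 1
      group
    · simp only [MulEquiv.coe_toMonoidHom, MulAut.conj_apply]
      group

theorem mk_smul_eq_iff (g x : G) : x • (g : G ⧸ M) = (g : G ⧸ M) ↔ g⁻¹ * x * g ∈ M := by
  rw [MulAction.Quotient.smul_mk, smul_eq_mul, eq_comm, QuotientGroup.eq, ← mul_assoc]

theorem fix_one_iff (x : G) : x • ((1 : G) : G ⧸ M) = ((1 : G) : G ⧸ M) ↔ x ∈ M := by
  rw [mk_smul_eq_iff]; simp

theorem OnePoint.mem_zAt_one (h : OnePoint M Z) (x : G) : x ∈ zAt M Z ((1 : G) : G ⧸ M) ↔ x ∈ Z := by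
  rw [h.mem_zAt]; simp

theorem OnePoint.pts (h : OnePoint M Z) : Pts (zAt M Z) where
  equiv g w x hx := by
    obtain ⟨k, rfl⟩ := QuotientGroup.mk_surjective w
    rw [h.mem_zAt] at hx
    rw [MulAction.Quotient.smul_mk, smul_eq_mul, h.mem_zAt]
    convert hx using 1
    group
  fix {w x} hx := by
    obtain ⟨k, rfl⟩ := QuotientGroup.mk_surjective w
    rw [h.mem_zAt] at hx
    exact (mk_smul_eq_iff _ _).2 (h.leM hx)
  one {w w' x} hx hx1 hfix := by
    obtain ⟨k, rfl⟩ := QuotientGroup.mk_surjective w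
    obtain ⟨l, rfl⟩ := QuotientGroup.mk_surjective w'
    rw [h.mem_zAt] at hx
    rw [mk_smul_eq_iff] at hfix
    have := h.onePoint _ hx (fun e => hx1 (by
      have e2 := congrArg (fun y => k * y * k⁻¹) e
      simpa [mul_assoc] using e2)) (k⁻¹ * l) (by convert hfix using 1; group)
    exact (QuotientGroup.eq.2 this).symm
  sq {w x} hx := by
    obtain ⟨k, rfl⟩ := QuotientGroup.mk_surjective w
    rw [h.mem_zAt] at hx
    have := congrArg (fun y => k * y * k⁻¹) (h.sq _ hx)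
    simpa [mul_assoc] using this

/-- A nontrivial element at every point. -/
theorem OnePoint.exists_ne_one (h : OnePoint M Z) (hZ : Z ≠ ⊥) (w : G ⧸ M) :
    ∃ x ∈ zAt M Z w, x ≠ 1 := by
  obtain ⟨k, rfl⟩ := QuotientGroup.mk_surjective w
  obtain ⟨⟨z, hz⟩, hzne⟩ := Subgroup.ne_bot_iff_exists_ne_one.1 hZ
  have hz1 : z ≠ 1 := fun e => hzne (Subtype.ext e)
  refine ⟨k * z * k⁻¹, (h.mem_zAt _ _).2 ?_, fun e => hz1 (conj_eq_one_iff.1 e)⟩
  convert hz using 1
  group

/-- There is a second point. -/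
theorem OnePoint.exists_ne (h : OnePoint M Z) : ∃ w : G ⧸ M, w ≠ ((1 : G) : G ⧸ M) := by
  obtain ⟨g, -, hg⟩ := SetLike.exists_of_lt (lt_top_iff_ne_top.2 h.ltM)
  refine ⟨(g : G ⧸ M), fun e => hg ?_⟩
  have := QuotientGroup.eq.1 e.symm
  simpa using this

end Cosets

end Cfsg.Agent.Lib.HHS57
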