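import Cfsg.Agent.Lib.HHS57.FLine
import Cfsg.Agent.Lib.HHS57.FourFix
import Cfsg.Agent.Lib.HHS57.Interface
import Cfsg.Agent.Lib.HHS57.Points

/-!
# Fixed involutions with two invariant points (helper18)

A fixed involution fixing two invariant points gives two layers with abelian lines (`MovingLines`).
Otherwise every fixed involution of `gM` lies in `gZ` and the stabiliser of two invariant points in
`C(α)` has odd order and is transitive on `gZ#`.
-/

set_option autoImplicit false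
set_option linter.style.haveILetI false
set_option linter.unusedSectionVars false

namespace Cfsg.Agent.Lib.HHS57

open Cfsg Cfsg.Agent.Lib
open Subgroup
open scoped commutatorElement

universe u

variable {H : Type u} [Group H] [Finite H] {p r : ℕ} {α : MulAut H} {V : Type u} [CommGroup V]
  [Finite V] {ψ : H →* MulAut V} {e : MulAut V}

/-- Two layers with abelian lines and a fixed moving `2`-element. -/
def MovingLines (α : MulAut H) (T : Sylow 2 H) (m : ℕ) : Prop :=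
  Nat.card (gD α T) ≤ Nat.card (gZ α T) * 2 ^ (4 * m) ∧ LinesAb α T ∧
    ∃ c ∈ gM α T, qAut α c = c ∧ TwoEl c ∧ MovesD α T c

/-- The fixed stabiliser of two points. -/
noncomputable def pairStab (α : MulAut H) (T : Sylow 2 H) (g : H ⧸ Subgroup.center H) :
    Subgroup (H ⧸ Subgroup.center H) :=
  gM α T ⊓ fixG (qAut α) ⊓ (gM α T).map (MulAut.conj g).toMonoidHom

variable (h : Min p r α ψ e) (T : Sylow 2 H) (hT : Stb α (T : Subgroup H))

include h hT

/-- With one-point elements `gZ` has order at least four. -/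
theorem Min.four_le_of_onePoint (hP : OnePoint (gM α T) (gZ α T)) (hZ : gZ α T ≠ ⊥) :
    4 ≤ Nat.card (gZ α T) := by
  obtain ⟨z, hz, hz1⟩ : ∃ z ∈ gZ α T, z ≠ 1 := by
    by_contra hh
    push Not at hh
    exact hZ ((Subgroup.eq_bot_iff_forall _).2 hh)
  refine h.four_le_gZ T hT hz hz1 fun g hg => ?_
  have h1 := hP.onePoint z hz hz1 g⁻¹ (by rwa [inv_inv])
  exact inv_mem_iff.1 h1

/-- The moved invariant `2`-subgroups centralising a fixed involution of `gM` lie at one point. -/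
theorem Min.gExists_cm_le_cent (hq : 4 ≤ Nat.card (gZ α T)) {i : H ⧸ Subgroup.center H}
    (hi : i ∈ gM α T) (hif : qAut α i = i) (hii : i * i = 1) (hi1 : i ≠ 1) :
    ∃ c, qAut α c = c ∧ ∀ A : Subgroup (H ⧸ Subgroup.center H), A ≤ Subgroup.centralizer {i} →
      IsPGroup 2 A → Stb (qAut α) A → ∀ x ∈ cm (qAut α) A, c⁻¹ * x * c ∈ gD α T := by
  have h2 := h.gCent_cm_two T hT hq hi hif hii hi1
  have hYα : Stb (qAut α) (Subgroup.centralizer {i}) := stb_centralizer_singleton hif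
  obtain ⟨c, hc, hle⟩ := h.gExists_cm_le T hT h2 (stb_cm hYα)
  exact ⟨c, hc, fun A hA _ _ x hx => hle x
    ((cm_cm h.hr h.qPow h.qCo hYα).symm ▸ cm_mono hA hx)⟩

/-- The centraliser of a nontrivial fixed element is invariant and proper. -/
theorem Min.gCent_proper {i : H ⧸ Subgroup.center H} (hi : qAut α i = i) (hi1 : i ≠ 1) :
    Stb (qAut α) (Subgroup.centralizer {i}) ∧ Subgroup.centralizer {i} ≠ ⊤ := by
  refine ⟨stb_centralizer_singleton hi, fun e1 => hi1 ?_⟩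
  have hc : i ∈ Subgroup.center (H ⧸ Subgroup.center H) := mem_center_iff.2 fun g =>
    mem_centralizer_singleton_iff.1 (e1 ▸ mem_top g)
  rwa [h.gCenter T hT, Subgroup.mem_bot] at hc

/-- `|gD| |gZ| ≤ |P| ²` for the fixed part `P` of an involution. -/
theorem Min.card_le_fixL_sq {i : H ⧸ Subgroup.center H} (hi : i ∈ gM α T) (hii : i * i = 1) :
    Nat.card (gD α T) * Nat.card (gZ α T) ≤
      Nat.card (fixL α T (Subgroup.zpowers i)) * Nat.card (fixL α T (Subgroup.zpowers i)) := by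
  set S := Subgroup.zpowers i with hS
  have hSM : S ≤ gM α T := Subgroup.zpowers_le.2 hi
  set P := fixL α T S with hP
  set D := gD α T with hD
  set Z := (gZ α T).subgroupOf D with hZdef
  haveI : Z.Normal := ⟨fun z hz g => Subgroup.mem_subgroupOf.2 (by
    show (g : H ⧸ Subgroup.center H) * z * (g : H ⧸ Subgroup.center H)⁻¹ ∈ gZ α T
    rw [← h.gZ_comm T hT (Subgroup.mem_subgroupOf.1 hz) g.2, mul_inv_cancel_right]
    exact Subgroup.mem_subgroupOf.1 hz)⟩
  have hcD : ∀ d : D, i * d * i⁻¹ * (d : H ⧸ Subgroup.center H)⁻¹ ∈ D := fun d => h.gZ_cmul T hT hi d.2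
  let φ : D →* D ⧸ Z :=
    { toFun := fun d => QuotientGroup.mk ⟨_, hcD d⟩
      map_one' := (QuotientGroup.eq_one_iff _).2 (Subgroup.mem_subgroupOf.2 (by simp))
      map_mul' := fun a b => by
        rw [← QuotientGroup.mk_mul, QuotientGroup.eq, Subgroup.mem_subgroupOf]
        have hw : i * b * i⁻¹ * (b : H ⧸ Subgroup.center H)⁻¹ ∈ D := hcD b
        have h1 := h.gD_commutator T hT a.2 (inv_mem hw)
        show (i * (a * b) * i⁻¹ * (a * b : H ⧸ Subgroup.center H)⁻¹)⁻¹ *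
          (i * a * i⁻¹ * (a : H ⧸ Subgroup.center H)⁻¹ * (i * b * i⁻¹ * (b : H ⧸ Subgroup.center H)⁻¹)) ∈ _
        rw [show (i * (a * b) * i⁻¹ * (a * b : H ⧸ Subgroup.center H)⁻¹)⁻¹ *
          (i * a * i⁻¹ * (a : H ⧸ Subgroup.center H)⁻¹ * (i * b * i⁻¹ * (b : H ⧸ Subgroup.center H)⁻¹)) =
          ⁅(a : H ⧸ Subgroup.center H), (i * b * i⁻¹ * (b : H ⧸ Subgroup.center H)⁻¹)⁻¹⁆ by
            simp only [commutatorElement_def]; group]
        exact h1 }
  have hker : φ.ker = P.subgroupOf D := by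
    ext d
    rw [MonoidHom.mem_ker, Subgroup.mem_subgroupOf, hP, h.mem_fixL T hT hSM]
    show (QuotientGroup.mk _ : D ⧸ Z) = 1 ↔ _
    rw [QuotientGroup.eq_one_iff, Subgroup.mem_subgroupOf]
    refine ⟨fun hd => ⟨d.2, ?_⟩, fun hd => hd.2 i (Subgroup.mem_zpowers i)⟩
    rintro _ ⟨j, rfl⟩
    rcases Int.even_or_odd' j with ⟨k, rfl | rfl⟩
    · show i ^ (2 * k) * _ * (i ^ (2 * k))⁻¹ * _ ∈ _
      rw [zpow_mul, zpow_two, hii, one_zpow]; simp
    · show i ^ (2 * k + 1) * _ * (i ^ (2 * k + 1))⁻¹ * _ ∈ _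
      rw [zpow_add_one, zpow_mul, zpow_two, hii, one_zpow, one_mul]
      exact hd
  have hrange : φ.range ≤ (P.subgroupOf D).map (QuotientGroup.mk' Z) := by
    rintro _ ⟨d, rfl⟩
    refine ⟨⟨_, hcD d⟩, Subgroup.mem_subgroupOf.2 ((h.mem_fixL T hT hSM).2 ⟨hcD d, ?_⟩), rfl⟩
    rintro _ ⟨j, rfl⟩
    rcases Int.even_or_odd' j with ⟨k, rfl | rfl⟩
    · show i ^ (2 * k) * _ * (i ^ (2 * k))⁻¹ * _ ∈ _
      rw [zpow_mul, zpow_two, hii, one_zpow]; simp
    · show i ^ (2 * k + 1) * _ * (i ^ (2 * k + 1))⁻¹ * _ ∈ _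
      rw [zpow_add_one, zpow_mul, zpow_two, hii, one_zpow, one_mul]
      set w := i * d * i⁻¹ * (d : H ⧸ Subgroup.center H)⁻¹ with hw
      rw [show i * w * i⁻¹ = (w : H ⧸ Subgroup.center H)⁻¹ by
        rw [hw, show i * (i * d * i⁻¹ * (d : H ⧸ Subgroup.center H)⁻¹) * i⁻¹ =
          (i * i) * d * (i * i)⁻¹ * (i * d * i⁻¹)⁻¹ by group, hii]
        group, ← mul_inv_rev]
      exact inv_mem (h.gD_sq T hT (hcD d))
  have hPD : P ≤ D := h.fixL_le T hT hSM
  have hZP : gZ α T ≤ P := h.gZ_le_fixL T hT hSM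
  have e1 := Subgroup.card_eq_card_quotient_mul_card_subgroup φ.ker
  rw [Nat.card_congr (QuotientGroup.quotientKerEquivRange φ).toEquiv, hker,
    Nat.card_congr (Subgroup.subgroupOfEquivOfLe hPD).toEquiv] at e1
  have e2 : Nat.card ((P.subgroupOf D).map (QuotientGroup.mk' Z)) * Nat.card (gZ α T) = Nat.card P := by
    let π : (P.subgroupOf D) →* D ⧸ Z := (QuotientGroup.mk' Z).comp (P.subgroupOf D).subtype
    have e3 := Subgroup.card_eq_card_quotient_mul_card_subgroup π.ker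
    rw [Nat.card_congr (QuotientGroup.quotientKerEquivRange π).toEquiv, MonoidHom.range_comp,
      Subgroup.range_subtype, Nat.card_congr (Subgroup.subgroupOfEquivOfLe hPD).toEquiv] at e3
    rw [e3]
    congr 1
    refine Nat.card_congr ⟨fun z => ⟨⟨⟨z, hPD (hZP z.2)⟩, hZP z.2⟩, ?_⟩,
      fun x => ⟨((x : P.subgroupOf D) : D), ?_⟩, fun z => rfl, fun x => rfl⟩
    · exact (QuotientGroup.eq_one_iff _).2 (Subgroup.mem_subgroupOf.2 z.2)
    · exact Subgroup.mem_subgroupOf.1 ((QuotientGroup.eq_one_iff _).1 x.2)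
  rw [e1]
  calc Nat.card φ.range * Nat.card P * Nat.card (gZ α T)
      = Nat.card φ.range * Nat.card (gZ α T) * Nat.card P := by ring
    _ ≤ Nat.card ((P.subgroupOf D).map (QuotientGroup.mk' Z)) * Nat.card (gZ α T) * Nat.card P :=
        Nat.mul_le_mul_right _ (Nat.mul_le_mul_right _ (Subgroup.card_le_of_le hrange))
    _ = Nat.card P * Nat.card P := by rw [e2]

/-- An involution with commutative moved fixed part gives `MovingLines`. -/
theorem Min.movingLines_of_comm (hneg : CenNeg ψ) {m : ℕ} (hm : r = 2 ^ m + 1)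
    {i : H ⧸ Subgroup.center H} (hi : i ∈ gM α T) (hif : qAut α i = i) (hii : i * i = 1)
    (hmv : MovesD α T i)
    (hcomm : ∀ a ∈ cm (qAut α) (fixL α T (Subgroup.zpowers i)),
      ∀ b ∈ cm (qAut α) (fixL α T (Subgroup.zpowers i)), a * b = b * a) :
    MovingLines α T m := by
  set S := Subgroup.zpowers i with hS
  have hSM : S ≤ gM α T := Subgroup.zpowers_le.2 hi
  have hi2 : TwoEl i := ⟨1, by rw [pow_one, pow_two, hii]⟩
  set P := fixL α T S with hP
  have hPD := h.fixL_le T hT hSM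
  have hPα := h.fixL_stb T hT hSM
  set A := cm (qAut α) P with hA
  have hA1 : A ≠ ⊥ := fun e1 => h.fixL_ne_gZ T hT hSM (isPGroup_zpowers_of_twoEl hi2) (le_antisymm
    (fun d hd => h.gMem_gZ T hT (hPD hd) (by
      have h1 := mem_cm (β := qAut α) hd
      rw [← hA, e1, Subgroup.mem_bot] at h1
      rw [h1]; exact one_mem _)) (h.gZ_le_fixL T hT hSM))
  have hAcard := h.gAbelian_card T hT hneg hm ((cm_le hPα).trans hPD) (stb_cm hPα)
    (cm_cm h.hr h.qPow h.qCo hPα) hcomm hA1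
  have hPcard : Nat.card P ≤ Nat.card (gZ α T) * 2 ^ (2 * m) := by
    rw [← hAcard, ← Nat.card_prod]
    refine Nat.card_le_card_of_surjective
      (fun x : gZ α T × A => (⟨x.1 * x.2, mul_mem (h.gZ_le_fixL T hT hSM x.1.2) (cm_le hPα x.2.2)⟩ : P))
      fun y => ?_
    obtain ⟨k, hk, hkf, a, ha, hka⟩ := exists_fixed_mul_cm h.hr h.qPow h.qCo hPα y.2
    exact ⟨(⟨k, h.gD_fixed T hT (hPD hk) hkf⟩, ⟨a, ha⟩), Subtype.ext hka.symm⟩
  have hk : Nat.card (gD α T) ≤ Nat.card (gZ α T) * 2 ^ (4 * m) := by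
    refine Nat.le_of_mul_le_mul_right ((h.card_le_fixL_sq T hT hi hii).trans ?_) (Nat.card_pos (α := gZ α T))
    calc Nat.card P * Nat.card P ≤ (Nat.card (gZ α T) * 2 ^ (2 * m)) * (Nat.card (gZ α T) * 2 ^ (2 * m)) :=
          Nat.mul_le_mul hPcard hPcard
      _ = Nat.card (gZ α T) * 2 ^ (4 * m) * Nat.card (gZ α T) := by
          rw [show 4 * m = 2 * m + 2 * m by omega, pow_add]; ring
  refine ⟨hk, by_contra fun hab => ?_, i, hi, hif, hi2, hmv⟩
  refine h.fixL_noncomm T hT hm hk hab hSM (isPGroup_zpowers_of_twoEl hi2)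
    ⟨i, Subgroup.mem_zpowers i, hmv⟩ ?_
  have hgen : ∀ y ∈ P, ∃ k ∈ gZ α T, ∃ a ∈ A, y = k * a := fun y hy => by
    obtain ⟨k, hk, hkf, a, ha, hka⟩ := exists_fixed_mul_cm h.hr h.qPow h.qCo hPα hy
    exact ⟨k, h.gD_fixed T hT (hPD hk) hkf, a, ha, hka⟩
  intro a ha b hb
  obtain ⟨k, hk', a', ha', rfl⟩ := hgen a ha
  obtain ⟨l, hl, b', hb', rfl⟩ := hgen b hb
  have hc : ∀ w ∈ A, ∀ k ∈ gZ α T, k * w = w * k := fun w hw k hk =>
    h.gZ_comm T hT hk (hPD (cm_le hPα hw))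
  calc k * a' * (l * b') = k * (a' * l) * b' := by group
    _ = k * l * (a' * b') := by rw [← hc a' ha' l hl]; group
    _ = l * k * (b' * a') := by rw [hcomm a' ha' b' hb', h.gZ_comm T hT hk' (h.gZ_le_gD T hT hl)]
    _ = l * (k * b') * a' := by group
    _ = l * b' * (k * a') := by rw [hc b' hb' k hk']; group

/-- A fixed involution with two invariant points. -/
theorem Min.twoPoint (hneg : CenNeg ψ) {m : ℕ} (hm : r = 2 ^ m + 1) {i g : H ⧸ Subgroup.center H}
    (hi : i ∈ gM α T) (hif : qAut α i = i) (hii : i * i = 1) (hi1 : i ≠ 1) (hZ : gZ α T ≠ ⊥)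
    (hP : OnePoint (gM α T) (gZ α T))
    (hg : qAut α g = g) (hgM : g ∉ gM α T) (hgi : g⁻¹ * i * g ∈ gM α T) :
    MovingLines α T m := by
  set i' := g⁻¹ * i * g with hi'
  have hi'f : qAut α i' = i' := by rw [hi', map_mul, map_mul, map_inv, hg, hif]
  have hi'i : i' * i' = 1 := by
    rw [hi', show g⁻¹ * i * g * (g⁻¹ * i * g) = g⁻¹ * (i * i) * g by group, hii]; group
  obtain ⟨c, hc, hle⟩ := h.gExists_cm_le_cent T hT (h.four_le_of_onePoint T hT hP hZ) hi hif hii hi1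
  set S := Subgroup.zpowers i with hS
  set S' := Subgroup.zpowers i' with hS'
  have hSM : S ≤ gM α T := Subgroup.zpowers_le.2 hi
  have hS'M : S' ≤ gM α T := Subgroup.zpowers_le.2 hgi
  set A₁ := cm (qAut α) (fixL α T S) with hA₁
  set A₂ := cm (qAut α) (fixL α T S') with hA₂
  have hA₁D : A₁ ≤ gD α T := (cm_le (h.fixL_stb T hT hSM)).trans (h.fixL_le T hT hSM)
  have hA₂D : A₂ ≤ gD α T := (cm_le (h.fixL_stb T hT hS'M)).trans (h.fixL_le T hT hS'M)
  have hcm₁ : cm (qAut α) A₁ = A₁ := cm_cm h.hr h.qPow h.qCo (h.fixL_stb T hT hSM)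
  have hcm₂ : cm (qAut α) A₂ = A₂ := cm_cm h.hr h.qPow h.qCo (h.fixL_stb T hT hS'M)
  have hi₁ : ∀ a ∈ A₁, i * a = a * i := h.fixed_comm_cm T hT hif (h.fixL_le T hT hSM)
    (h.fixL_stb T hT hSM) fun d hd => ((h.mem_fixL T hT hSM).1 hd).2 i (Subgroup.mem_zpowers i)
  have hi₂ : ∀ a ∈ A₂, i' * a = a * i' := h.fixed_comm_cm T hT hi'f (h.fixL_le T hT hS'M)
    (h.fixL_stb T hT hS'M) fun d hd => ((h.mem_fixL T hT hS'M).1 hd).2 i' (Subgroup.mem_zpowers i')
  have hpt₁ : ∀ x ∈ A₁, c⁻¹ * x * c ∈ gD α T := fun x hx =>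
    hle A₁ (fun a ha => mem_centralizer_singleton_iff.2 (hi₁ a ha).symm)
      ((h.gD_isPGroup T hT).to_le hA₁D) (stb_cm (h.fixL_stb T hT hSM)) x (hcm₁.symm ▸ hx)
  have hpt₂ : ∀ x ∈ A₂, c⁻¹ * (g * x * g⁻¹) * c ∈ gD α T := by
    intro x hx
    set B := A₂.map (MulAut.conj g).toMonoidHom with hB
    have hBα : Stb (qAut α) B := by
      rintro _ ⟨a, ha, rfl⟩
      refine ⟨qAut α a, stb_cm (h.fixL_stb T hT hS'M) a ha, ?_⟩
      simp [hg]
    have hBcm : B ≤ cm (qAut α) B := by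
      refine Subgroup.map_le_iff_le_comap.2 ?_
      rw [← hcm₂]
      refine cm_le_iff.2 fun a ha => ?_
      rw [Subgroup.mem_comap, map_mul, map_inv]
      have h1 : (MulAut.conj g).toMonoidHom (qAut α a) = qAut α ((MulAut.conj g).toMonoidHom a) := by
        simp [hg]
      rw [h1]
      exact mem_cm (mem_map_of_mem _ ha)
    refine hle B ?_ (((h.gD_isPGroup T hT).to_le hA₂D).map _) hBα _ (hBcm ⟨x, hx, by simp⟩)
    rintro _ ⟨a, ha, rfl⟩
    simp only [MulEquiv.coe_toMonoidHom, MulAut.conj_apply]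
    rw [mem_centralizer_singleton_iff]
    calc g * a * g⁻¹ * i = g * (a * i') * g⁻¹ := by rw [hi']; group
      _ = i * (g * a * g⁻¹) := by rw [← hi₂ a ha, hi']; group
  have hnab : ¬ ∀ a ∈ gD α T, ∀ b ∈ gD α T, a * b = b * a := fun hab => hZ (le_bot_iff.1
    ((h.gCommutator_closure T hT).trans ((closure_le _).2 (by
      rintro _ ⟨a, ha, b, hb, rfl⟩
      exact Subgroup.mem_bot.2 (commutatorElement_eq_one_iff_mul_comm.2 (hab a ha b hb))))))
  have hfull : ∀ {j : H ⧸ Subgroup.center H}, ¬ MovesD α T j → j ∈ gM α T → j * j = 1 →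
      cm (qAut α) (fixL α T (Subgroup.zpowers j)) = gD α T := by
    intro j hmj hj hjj
    have hjM : Subgroup.zpowers j ≤ gM α T := Subgroup.zpowers_le.2 hj
    have e1 : fixL α T (Subgroup.zpowers j) = gD α T := le_antisymm (h.fixL_le T hT hjM) fun d hd => by
      refine (h.mem_fixL T hT hjM).2 ⟨hd, ?_⟩
      rintro _ ⟨n, rfl⟩
      rcases Int.even_or_odd' n with ⟨k, rfl | rfl⟩
      · show j ^ (2 * k) * _ * (j ^ (2 * k))⁻¹ * _ ∈ _
        rw [zpow_mul, zpow_two, hjj, one_zpow]; simp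
      · show j ^ (2 * k + 1) * _ * (j ^ (2 * k + 1))⁻¹ * _ ∈ _
        rw [zpow_add_one, zpow_mul, zpow_two, hjj, one_zpow, one_mul]
        by_contra hh
        exact hmj ⟨d, hd, hh⟩
    rw [e1, h.cm_gD T hT]
  by_cases hcM : c ∈ gM α T
  · have hcomm : ∀ a ∈ A₂, ∀ b ∈ A₂, a * b = b * a := by
      have hin : ∀ x ∈ A₂, x ∈ gD α T ⊓ gConjD α T g⁻¹ := fun x hx => by
        refine ⟨hA₂D hx, (mem_gConjD T).2 ?_⟩
        have h1 := h.gD_conj T hT hcM (hpt₂ x hx)
        simpa [mul_assoc] using h1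
      exact fun a ha b hb => h.overlap_comm T hT (by rw [map_inv, hg])
        (fun e1 => hgM (inv_mem_iff.1 e1)) (hin a ha) (hin b hb)
    by_cases hmv : MovesD α T i'
    · exact h.movingLines_of_comm T hT hneg hm hgi hi'f hi'i hmv hcomm
    · have e1 : A₂ = gD α T := hfull hmv hgi hi'i
      exact absurd (fun a ha b hb => hcomm a (e1.symm ▸ ha) b (e1.symm ▸ hb)) hnab
  · have hcomm : ∀ a ∈ A₁, ∀ b ∈ A₁, a * b = b * a := by
      have hin : ∀ x ∈ A₁, x ∈ gD α T ⊓ gConjD α T c := fun x hx =>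
        ⟨hA₁D hx, (mem_gConjD T).2 (hpt₁ x hx)⟩
      exact fun a ha b hb => h.overlap_comm T hT hc hcM (hin a ha) (hin b hb)
    by_cases hmv : MovesD α T i
    · exact h.movingLines_of_comm T hT hneg hm hi hif hii hmv hcomm
    · have e1 : A₁ = gD α T := hfull hmv hi hii
      exact absurd (fun a ha b hb => hcomm a (e1.symm ▸ ha) b (e1.symm ▸ hb)) hnab

variable (hP : OnePoint (gM α T) (gZ α T))

include hP

omit h hT in
theorem OnePoint.gZ_exists_ne (hZ : gZ α T ≠ ⊥) : ∃ z ∈ gZ α T, z ≠ 1 := by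
  by_contra hh
  push Not at hh
  exact hZ ((Subgroup.eq_bot_iff_forall _).2 hh)

/-- Without moving lines every fixed involution of `gM` is in `gZ`. -/
theorem Min.fixed_invol_mem (hneg : CenNeg ψ) {m : ℕ} (hm : r = 2 ^ m + 1) (hnl : ¬ MovingLines α T m)
    (hZ : gZ α T ≠ ⊥) (hC : ∃ c, qAut α c = c ∧ c ∉ gM α T) {i : H ⧸ Subgroup.center H}
    (hi : i ∈ gM α T) (hif : qAut α i = i) (hii : i * i = 1) : i ∈ gZ α T := by
  by_cases hi1 : i = 1
  · rw [hi1]; exact one_mem _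
  obtain ⟨z, hz, hz1⟩ := hP.gZ_exists_ne T hZ
  obtain ⟨g, hg, hgM⟩ := hC
  set y := g * z * g⁻¹ with hy
  have hyf : qAut α y = y := by rw [hy, map_mul, map_mul, map_inv, hg, h.gZ_fixed T hT hz]
  have hyy : y * y = 1 := h.offender_sq T hT hz rfl
  rcases Nat.even_or_odd (orderOf (i * y)) with heven | hodd
  · exfalso
    obtain ⟨j, hj1, hjj, hji, hjy, -⟩ := exists_central (G := fixG (qAut α)) (x := ⟨i, hif⟩) (y := ⟨y, hyf⟩)
      (Subtype.ext hii) (Subtype.ext hyy) (by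
        rw [← Subgroup.orderOf_coe]; exact heven)
    have hji' : (j : H ⧸ Subgroup.center H) * i = i * j := congrArg Subtype.val hji
    have hjy' : (j : H ⧸ Subgroup.center H) * y = y * j := congrArg Subtype.val hjy
    have hjM : (j : H ⧸ Subgroup.center H) ∈ gM α T := by
      by_contra hjM
      refine hnl (h.twoPoint T hT hneg hm hi hif hii hi1 hZ hP j.2 hjM ?_)
      rw [mul_assoc, ← hji', ← mul_assoc, inv_mul_cancel, one_mul]
      exact hi
    refine hnl (h.twoPoint T hT hneg hm hjM j.2 (congrArg Subtype.val hjj)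
      (fun e1 => hj1 (Subtype.ext e1)) hZ hP hg hgM ?_)
    refine h.gCent_le T hT hz hz1 ?_
    calc g⁻¹ * j * g * z = g⁻¹ * (j * y) * g := by rw [hy]; group
      _ = z * (g⁻¹ * j * g) := by rw [hjy', hy]; group
  · obtain ⟨f, hf, -, -⟩ := exists_mover hii hyy hodd
    have h1 : g⁻¹ * f * i * (g⁻¹ * f)⁻¹ = z := by
      calc g⁻¹ * f * i * (g⁻¹ * f)⁻¹ = g⁻¹ * (f * i * f⁻¹) * g := by group
        _ = z := by rw [hf, hy]; group
    have h2 : i = (g⁻¹ * f)⁻¹ * z * (g⁻¹ * f) := by rw [← h1]; group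
    have h3 : g⁻¹ * f ∈ gM α T := hP.onePoint z hz hz1 _ (h2 ▸ hi)
    rw [h2]
    simpa using h.gZ_conj T hT (inv_mem h3) hz

/-- The stabiliser of two invariant points. -/
theorem Min.exists_pairStab (hneg : CenNeg ψ) {m : ℕ} (hm : r = 2 ^ m + 1) (hnl : ¬ MovingLines α T m)
    (hZ : gZ α T ≠ ⊥) (hC : ∃ c, qAut α c = c ∧ c ∉ gM α T) :
    ∃ Λ : Subgroup (H ⧸ Subgroup.center H), (∀ c ∈ Λ, qAut α c = c) ∧ Λ ≤ gM α T ∧ Odd (Nat.card Λ) ∧
      ∀ z ∈ gZ α T, z ≠ 1 → ∀ z' ∈ gZ α T, z' ≠ 1 → ∃ c ∈ Λ, c * z * c⁻¹ = z' := by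
  obtain ⟨b, hb, hb1⟩ := hP.gZ_exists_ne T hZ
  obtain ⟨g, hg, hgM⟩ := hC
  have hmem : ∀ c, c ∈ pairStab α T g ↔ c ∈ gM α T ∧ qAut α c = c ∧ g⁻¹ * c * g ∈ gM α T := fun c => by
    rw [pairStab, Subgroup.mem_inf, Subgroup.mem_inf, Subgroup.mem_map_equiv, MulAut.conj_symm_apply, mem_fixG,
      and_assoc]
  refine ⟨pairStab α T g, fun c hc => ((hmem c).1 hc).2.1, fun c hc => ((hmem c).1 hc).1, ?_, ?_⟩
  · rw [← Nat.not_even_iff_odd, even_iff_two_dvd]
    intro hd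
    haveI : Fact (Nat.Prime 2) := ⟨Nat.prime_two⟩
    obtain ⟨⟨i, hi⟩, hord⟩ := exists_prime_orderOf_dvd_card' (G := pairStab α T g) 2 hd
    rw [Subgroup.orderOf_mk] at hord
    obtain ⟨hiM, hif, hgi⟩ := (hmem i).1 hi
    refine hnl (h.twoPoint T hT hneg hm hiM hif ?_ ?_ hZ hP hg hgM hgi)
    · rw [← pow_two, ← hord, pow_orderOf_eq_one]
    · intro e1
      rw [e1, orderOf_one] at hord
      omega
  · set y := g * b * g⁻¹ with hy
    have hyf : qAut α y = y := by rw [hy, map_mul, map_mul, map_inv, hg, h.gZ_fixed T hT hb]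
    have hyy : y * y = 1 := h.offender_sq T hT hb rfl
    have hswap : ∀ z ∈ gZ α T, z ≠ 1 → ∃ s, qAut α s = s ∧ s * s = 1 ∧ s * z * s⁻¹ = y ∧
        s * y * s⁻¹ = z ∧ g⁻¹ * s ∈ gM α T ∧ s * g ∈ gM α T := by
      intro z hz hz1
      have hzf := h.gZ_fixed T hT hz
      have hodd : Odd (orderOf (z * y)) := by
        rw [← Nat.not_even_iff_odd]
        intro heven
        obtain ⟨j, hj1, hjj, hjz, hjy, -⟩ := exists_central (G := fixG (qAut α)) (x := ⟨z, hzf⟩)
          (y := ⟨y, hyf⟩) (Subtype.ext (h.gZ_sq T hT hz)) (Subtype.ext hyy)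
          (by rw [← Subgroup.orderOf_coe]; exact heven)
        have hjz' : (j : H ⧸ Subgroup.center H) * z = z * j := congrArg Subtype.val hjz
        have hjy' : (j : H ⧸ Subgroup.center H) * y = y * j := congrArg Subtype.val hjy
        refine hnl (h.twoPoint T hT hneg hm (h.gCent_le T hT hz hz1 hjz') j.2
          (congrArg Subtype.val hjj) (fun e1 => hj1 (Subtype.ext e1)) hZ hP hg hgM ?_)
        refine h.gCent_le T hT hb hb1 ?_
        calc g⁻¹ * j * g * b = g⁻¹ * (j * y) * g := by rw [hy]; group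
          _ = b * (g⁻¹ * j * g) := by rw [hjy', hy]; group
      obtain ⟨⟨f, hff⟩, hf, hf2, -⟩ := exists_mover (G := fixG (qAut α)) (x := ⟨z, hzf⟩) (y := ⟨y, hyf⟩)
        (Subtype.ext (h.gZ_sq T hT hz)) (Subtype.ext hyy)
        (by rw [← Subgroup.orderOf_coe]; exact hodd)
      have hf' : f * z * f⁻¹ = y := congrArg Subtype.val hf
      have hs2 : f * z * (f * z) = 1 := congrArg Subtype.val hf2
      set s := f * z with hs
      have hsi : s⁻¹ = s := inv_eq_of_mul_eq_one_right hs2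
      have h1 : s * z * s⁻¹ = y := by
        rw [← hf', hs, show f * z * z * (f * z)⁻¹ = f * (z * z) * z⁻¹ * f⁻¹ by group, h.gZ_sq T hT hz,
          inv_eq_of_mul_eq_one_right (h.gZ_sq T hT hz)]
        group
      have h2 : s * y * s⁻¹ = z := by
        rw [← h1, show s * (s * z * s⁻¹) * s⁻¹ = (s * s) * z * (s * s)⁻¹ by group, hs2]; group
      have h3 : s * g ∈ gM α T := by
        refine h.gTI T hT hz hz1 hb ?_
        rw [← h2, hy]; group
      refine ⟨s, by rw [hs, map_mul, show qAut α f = f from hff, hzf], hs2, h1, h2, ?_, h3⟩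
      have := inv_mem h3
      rwa [mul_inv_rev, hsi] at this
    intro z hz hz1 z' hz' hz'1
    obtain ⟨s, hsf, hss, hsz, -, hgs, hsg⟩ := hswap z hz hz1
    obtain ⟨s', hs'f, -, -, hs'y, hgs', hs'g⟩ := hswap z' hz' hz'1
    refine ⟨s' * s, (hmem _).2 ⟨?_, by rw [map_mul, hs'f, hsf], ?_⟩, ?_⟩
    · have := mul_mem hs'g hgs
      simpa [mul_assoc] using this
    · have := mul_mem hgs' hsg
      simpa [mul_assoc] using this
    · calc s' * s * z * (s' * s)⁻¹ = s' * (s * z * s⁻¹) * s'⁻¹ := by group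
        _ = z' := by rw [hsz, hs'y]

end Cfsg.Agent.Lib.HHS57
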