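import Cfsg.Agent.Lib.HHS57.MovingBasics
import Cfsg.Agent.Lib.HHS57.TwoPoint
import Cfsg.Agent.Lib.HHS57.Endgame
import Cfsg.Agent.Lib.HHS57.ThreeLines
import Cfsg.Agent.Lib.HHS57.ExactOne
import Cfsg.Agent.Lib.HHS57.ExactFix
import Cfsg.Agent.Lib.HHS57.ExactFour
import Cfsg.Agent.Lib.HHS57.ExactMate

/-!
# Contradictions when no fixed `2`-element moves `gD` (helper18)

A pair of involutions of `gD` as in `SingMate` is a singular pair; with semiregularity and a cyclic image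
on `gZ` the fixed elements form a `LastConfig`.
-/

set_option autoImplicit false
set_option linter.style.haveILetI false
set_option linter.unusedSectionVars false

namespace Cfsg.Agent.Lib.HHS57

open Cfsg Cfsg.Agent.Lib
open Subgroup
open scoped commutatorElement

universe u

variable {H : Type u} [Group H] [Finite H] {p r : ℕ} {α : MulAut H} {V : Type u} [CommGroup V]
  [Finite V] {ψ : H →* MulAut V} {e : MulAut V}

/-- An element is in a subgroup if its `2`-parts and odd parts are. -/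
theorem mem_of_parts {X : Type*} [Group X] [Finite X] {K : Subgroup X} {a : X}
    (h2 : ∀ b ∈ zpowers a, TwoEl b → b ∈ K) (ho : ∀ b ∈ zpowers a, Odd (orderOf b) → b ∈ K) : a ∈ K := by
  obtain ⟨k, t, hto, hor⟩ : ∃ k t : ℕ, Odd t ∧ orderOf a = 2 ^ k * t := by
    refine ⟨(orderOf a).factorization 2, ordCompl[2] (orderOf a), ?_, (Nat.ordProj_mul_ordCompl_eq_self _ 2).symm⟩
    rw [← Nat.not_even_iff_odd, even_iff_two_dvd]
    exact Nat.not_dvd_ordCompl Nat.prime_two (orderOf_pos a).ne'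
  have e1 : a ^ t ∈ K := h2 _ (pow_mem (mem_zpowers a) _)
    ⟨k, by rw [← pow_mul, mul_comm, ← hor, pow_orderOf_eq_one]⟩
  have e2 : a ^ 2 ^ k ∈ K := ho _ (pow_mem (mem_zpowers a) _) (by
    rw [orderOf_pow, hor, Nat.gcd_mul_right_left, Nat.mul_div_cancel_left _ (by positivity)]
    exact hto)
  have hg : Nat.gcd t (2 ^ k) = 1 := ((Nat.coprime_two_left.2 hto).pow_left k).symm
  have h1 := Nat.gcd_eq_gcd_ab t (2 ^ k)
  rw [hg, Nat.cast_one] at h1
  rw [← zpow_one a, h1, zpow_add, zpow_mul, zpow_mul, zpow_natCast, zpow_natCast]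
  exact mul_mem (zpow_mem e1 _) (zpow_mem e2 _)

variable (h : Min p r α ψ e) (T : Sylow 2 H) (hT : Stb α (T : Subgroup H))

include h hT

/-- A `2`-element of `gM` is nonmoving. -/
theorem Min.twoEl_trivOn (hnm : FixedNoMove α T) {s : H ⧸ Subgroup.center H} (hs : s ∈ gM α T)
    (hs2 : TwoEl s) : s ∈ trivOn α T (gZ α T) := by
  obtain ⟨c, hc, hcf, d, hd, rfl⟩ := h.gM_eq T hT hs
  have h1 := (h.not_moves_iff T hT hc).1 (hnm c hc hcf (h.twoEl_fixed_part T hT hc hcf hd hs2))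
  refine mul_mem h1 (mem_trivOn.2 ⟨h.gD_le_gM T hT hd, fun z hz => h.gZ_conj T hT (h.gD_le_gM T hT hd) hz,
    fun x hx => h.gD_commutator T hT hd hx⟩)

/-- An odd element inverted by an involution of `gM` is inverted only in `gM`. -/
theorem Min.oddInv_gM (hnm : FixedNoMove α T) {x : H ⧸ Subgroup.center H} (hx : x ∈ gM α T)
    (hx1 : x ≠ 1) (hxo : Odd (orderOf x)) {j : H ⧸ Subgroup.center H} (hj : j ∈ gM α T)
    (hjj : j * j = 1) (hjx : j * x * j = x⁻¹) {g : H ⧸ Subgroup.center H} (hg : g * x * g⁻¹ = x⁻¹) :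
    g ∈ gM α T := by
  have hjT := h.twoEl_trivOn T hT hnm hj ⟨1, by rw [pow_one, pow_two, hjj]⟩
  have hxT : x ∈ trivOn α T (gZ α T) := mem_of_sq_mem hxo (by
    have h1 := mul_mem (h.trivOn_conj T hT hx hjT) hjT
    rwa [show x * j * x⁻¹ * j = x * (j * x⁻¹ * j) by group, show j * x⁻¹ * j = x by
      rw [← hjx, show j * (j * x * j) * j = (j * j) * x * (j * j) by group, hjj, one_mul, mul_one]] at h1)
  have hxnm : ¬ MovesD α T x := (h.not_moves_iff T hT hx).2 hxT
  obtain ⟨c, hc, hcf, d, hd, hcd⟩ := h.gM_eq T hT hx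
  have hdT : d ∈ trivOn α T (gZ α T) := mem_trivOn.2 ⟨h.gD_le_gM T hT hd,
    fun z hz => h.gZ_conj T hT (h.gD_le_gM T hT hd) hz, fun y hy => h.gD_commutator T hT hd hy⟩
  have hcnm : ¬ MovesD α T c := (h.not_moves_iff T hT hc).2 (by
    rw [hcd] at hxT
    simpa using mul_mem hxT (inv_mem hdT))
  have hcD := h.exact_of_not_moves T hT hcf hcnm
  obtain ⟨n, hn⟩ := hxo
  have hdn : d ^ orderOf x ∈ gZ α T := by
    have h1 : (c * d) ^ orderOf x = 1 := hcd ▸ pow_orderOf_eq_one x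
    rw [(show Commute c d from hcD d hd).mul_pow] at h1
    exact h.gD_fixed T hT (pow_mem hd _)
      (by rw [eq_inv_of_mul_eq_one_right h1, map_inv, map_pow, hcf])
  have hdZ : d ∈ gZ α T := by
    rw [hn, pow_succ, pow_mul, pow_two] at hdn
    exact (Subgroup.mul_mem_cancel_left _ (pow_mem (h.gD_sq T hT hd) n)).1 hdn
  have hxf : qAut α x = x := by rw [hcd, map_mul, hcf, h.gZ_fixed T hT hdZ]
  have hxD : ∀ y ∈ gD α T, x * y = y * x := fun y hy => by
    rw [hcd, mul_assoc, h.gZ_comm T hT hdZ hy, ← mul_assoc, hcD y hy, mul_assoc]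
  set X := Subgroup.zpowers x with hX
  have hXα : Stb (qAut α) X := fun y hy => by
    obtain ⟨i, rfl⟩ := Subgroup.mem_zpowers_iff.1 hy
    rw [map_zpow, hxf]
    exact Subgroup.zpow_mem _ (Subgroup.mem_zpowers x) i
  have hne : Subgroup.normalizer (X : Set (H ⧸ Subgroup.center H)) ≠ ⊤ := by
    intro e1
    haveI := Subgroup.normalizer_eq_top_iff.1 e1
    rcases h.gNormal T hT hXα with h2 | h2
    · exact hx1 (Subgroup.mem_bot.1 (h2 ▸ Subgroup.mem_zpowers x))
    · exact h.gM_ne_top T hT (top_le_iff.1 (h2 ▸ Subgroup.zpowers_le.2 hx))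
  refine h.le_gM T hT hXα.normalizer hne (fun y hy => ?_) (?_ : g ∈ _)
  · refine Lib.FS.mem_normalizer_of_conj_mem fun w hw => ?_
    obtain ⟨i, rfl⟩ := Subgroup.mem_zpowers_iff.1 hw
    rw [← conj_zpow, show y * x * y⁻¹ = x by rw [← hxD y hy, mul_inv_cancel_right]]
    exact Subgroup.zpow_mem _ (Subgroup.mem_zpowers x) i
  · refine Lib.FS.mem_normalizer_of_conj_mem fun w hw => ?_
    obtain ⟨i, rfl⟩ := Subgroup.mem_zpowers_iff.1 hw
    rw [← conj_zpow, hg]
    exact Subgroup.zpow_mem _ (inv_mem (Subgroup.mem_zpowers x)) i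

/-- A `SingMate` is a singular pair. -/
theorem Min.false_of_singMate (hnm : FixedNoMove α T) (hP : OnePoint (gM α T) (gZ α T))
    (hq : 4 ≤ Nat.card (gZ α T)) (hs : SingMate α T) : False := by
  obtain ⟨v, hv, v₂, hv₂, hvv, hvv₂, hne⟩ := hs
  have hne1 : v * v₂ ≠ v₂ * v := by simpa using hne 1 (one_mem _) (map_one _)
  have hodd : ¬ 2 ∣ (gM α T).index := by
    haveI : Fact (Nat.Prime 2) := ⟨Nat.prime_two⟩
    obtain ⟨P, hP'⟩ := (h.gD_isPGroup T hT).exists_le_sylow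
    exact fun hd => P.not_dvd_index (hd.trans (Subgroup.index_dvd_of_le (h.two_le_gM T hT P.isPGroup' hP')))
  refine singular_false (M := gM α T) (Z := gZ α T) (v₁ := v) (v₂ := v₂) ?_
  exact
    { toOnePoint := hP
      four_le := hq
      oddIndex := hodd
      oddInv := fun x hx hx1 hxo j hj hjj hjx g hg => h.oddInv_gM T hT hnm hx hx1 hxo hj hjj hjx hg
      mem₁ := h.gD_le_gM T hT hv
      mem₂ := h.gD_le_gM T hT hv₂
      sq₁ := hvv
      sq₂ := hvv₂
      notZ₁ := fun e1 => hne1 (h.gZ_comm T hT e1 hv₂)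
      notZ₂ := fun e1 => hne1 (h.gZ_comm T hT e1 hv).symm
      cenZ₁ := fun z hz => (h.gZ_comm T hT hz hv).symm
      cenZ₂ := fun z hz => (h.gZ_comm T hT hz hv₂).symm
      commMem := fun m₀ hm₀ => h.gD_commutator T hT hv (h.gD_conj T hT hm₀ hv₂)
      commNe := fun m₀ hm₀ => by
        obtain ⟨c, hc, hcf, d, hd, rfl⟩ := h.gM_eq T hT hm₀
        intro e1
        rw [commutatorElement_eq_one_iff_mul_comm] at e1
        have hkZ : c * (d * v₂ * d⁻¹ * v₂⁻¹) * c⁻¹ ∈ gZ α T :=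
          h.gZ_conj T hT hc (h.gD_commutator T hT hd hv₂)
        set k := c * (d * v₂ * d⁻¹ * v₂⁻¹) * c⁻¹ with hk
        have hkv : Commute k v := h.gZ_comm T hT hkZ hv
        rw [show c * d * v₂ * (c * d)⁻¹ = k * (c * v₂ * c⁻¹) by rw [hk]; group] at e1
        have h2 : Commute (k * (c * v₂ * c⁻¹)) v := e1.symm
        have h3 := hkv.inv_left.mul_left h2
        rw [inv_mul_cancel_left] at h3
        exact hne c hc hcf h3.eq.symm }

/-- A nonmoving fixed element commutes only with elements of `gM`. -/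
theorem Min.small_gM {a : H ⧸ Subgroup.center H} (ha : a ∈ gM α T) (haf : qAut α a = a) (ha1 : a ≠ 1)
    (haT : a ∈ trivOn α T (gZ α T)) {g : H ⧸ Subgroup.center H} (hg : g * a = a * g) : g ∈ gM α T := by
  have hD := h.exact_of_not_moves T hT haf ((h.not_moves_iff T hT ha).2 haT)
  obtain ⟨hS, hne⟩ := h.gCent_proper T hT haf ha1
  exact h.le_gM T hT hS hne (fun d hd => mem_centralizer_singleton_iff.2 (hD d hd).symm)
    (mem_centralizer_singleton_iff.2 hg)

/-- Fixed elements centralising `gZ` are nonmoving. -/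
theorem Min.central_trivOn (hneg : CenNeg ψ) (hnm : FixedNoMove α T) {a : H ⧸ Subgroup.center H}
    (ha : a ∈ gM α T) (haf : qAut α a = a) (haZ : ∀ z ∈ gZ α T, a * z = z * a) :
    a ∈ trivOn α T (gZ α T) := by
  have hX : ∀ b ∈ zpowers a, b ∈ gM α T ∧ qAut α b = b ∧ ∀ z ∈ gZ α T, b * z = z * b := by
    intro b hb
    obtain ⟨i, rfl⟩ := Subgroup.mem_zpowers_iff.1 hb
    exact ⟨zpow_mem ha i, by rw [map_zpow, haf],
      fun z hz => (show Commute a z from haZ z hz).zpow_left i⟩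
  refine mem_of_parts (fun b hb hb2 => h.twoEl_trivOn T hT hnm (hX b hb).1 hb2) fun b hb hbo => ?_
  obtain ⟨hb1, hb2, hb3⟩ := hX b hb
  exact (h.not_moves_iff T hT hb1).1 (h.not_moves_of_central T hT hneg hb1 hb2 hbo hb3)

/-- The fixed elements form a last configuration. -/
theorem Min.false_of_semiregular (hneg : CenNeg ψ) {m : ℕ} (hm : r = 2 ^ m + 1)
    (hnm : FixedNoMove α T) (hP : OnePoint (gM α T) (gZ α T)) (hC : ∃ c, qAut α c = c ∧ c ∉ gM α T)
    {Λ : Subgroup (H ⧸ Subgroup.center H)} (hΛ : TransOdd α T Λ) (hm2 : 2 ≤ m)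
    (hcard : Nat.card (gZ α T) = 2 ^ m)
    (hsemi : ∀ a ∈ gM α T, qAut α a = a → ∀ z ∈ gZ α T, z ≠ 1 → a * z = z * a →
      ∀ z' ∈ gZ α T, a * z' = z' * a)
    (hcyc : ∃ γ ∈ gM α T, qAut α γ = γ ∧ ∀ c ∈ gM α T, qAut α c = c → ∃ i : ℕ,
      ∀ z ∈ gZ α T, c * z * c⁻¹ = γ ^ i * z * (γ ^ i)⁻¹) : False := by
  have hZ : gZ α T ≠ ⊥ := fun e1 => by
    rw [e1, Subgroup.card_bot] at hcard
    have : 1 < 2 ^ m := Nat.one_lt_pow (by omega) (by norm_num)
    omega
  have hnl : ¬ MovingLines α T m := fun ⟨_, _, c, hc, hcf, hc2, hmv⟩ => hnm c hc hcf hc2 hmv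
  set F := fixG (qAut α) with hF
  have hZF : gZ α T ≤ F := fun z hz => h.gZ_fixed T hT hz
  have hsub : ∀ x : F, x ∈ (gM α T).subgroupOf F ↔ (x : H ⧸ Subgroup.center H) ∈ gM α T :=
    fun x => mem_subgroupOf
  obtain ⟨γ, hγ, hγf, hγc⟩ := hcyc
  refine last_false (G := F) (M := (gM α T).subgroupOf F) (Z := (gZ α T).subgroupOf F) (w := m) ?_
  exact
    { toOnePoint :=
        { ltM := fun e1 => by
            obtain ⟨c, hc, hcM⟩ := hC
            exact hcM ((hsub ⟨c, hc⟩).1 (e1 ▸ mem_top _))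
          leM := fun z hz => (hsub z).2 (hP.leM (mem_subgroupOf.1 hz))
          sq := fun z hz => Subtype.ext (hP.sq _ (mem_subgroupOf.1 hz))
          conjZ := fun x hx z hz => mem_subgroupOf.2 (hP.conjZ _ ((hsub x).1 hx) _ (mem_subgroupOf.1 hz))
          onePoint := fun z hz hz1 g hg => (hsub g).2 (hP.onePoint _ (mem_subgroupOf.1 hz)
            (fun e1 => hz1 (Subtype.ext e1)) _ ((hsub _).1 hg)) }
      card := by rw [Nat.card_congr (Subgroup.subgroupOfEquivOfLe hZF).toEquiv, hcard]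
      two_le := hm2
      prime := hm ▸ h.hr
      not_dvd := hm ▸ fun hd => h.qCo (hd.trans (Subgroup.card_subgroup_dvd_card F))
      invol := fun x hx hxx => mem_subgroupOf.2
        (h.fixed_invol_mem T hT hP hneg hm hnl hZ hC ((hsub x).1 hx) x.2 (congrArg Subtype.val hxx))
      trans := fun z hz hz1 z' hz' hz'1 => by
        obtain ⟨c, hc, e1⟩ := hΛ.trans _ (mem_subgroupOf.1 hz) (fun e1 => hz1 (Subtype.ext e1)) _
          (mem_subgroupOf.1 hz') fun e1 => hz'1 (Subtype.ext e1)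
        exact ⟨⟨c, hΛ.fixed c hc⟩, (hsub _).2 (hΛ.le hc), Subtype.ext e1⟩
      semiregular := fun a ha z hz hz1 haz z' hz' => Subtype.ext
        (hsemi _ ((hsub a).1 ha) a.2 _ (mem_subgroupOf.1 hz) (fun e1 => hz1 (Subtype.ext e1))
          (congrArg Subtype.val haz) _ (mem_subgroupOf.1 hz'))
      small := fun a ha ha1 haZ g hg => (hsub g).2 (h.small_gM T hT ((hsub a).1 ha) a.2
        (fun e1 => ha1 (Subtype.ext e1))
        (h.central_trivOn T hT hneg hnm ((hsub a).1 ha) a.2 fun z hz =>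
          congrArg Subtype.val (haZ ⟨z, hZF hz⟩ (mem_subgroupOf.2 hz)))
        (congrArg Subtype.val hg))
      cyclicImage := ⟨⟨γ, hγf⟩, (hsub _).2 hγ, fun x hx => by
        obtain ⟨i, hi⟩ := hγc _ ((hsub x).1 hx) x.2
        exact ⟨i, fun z hz => Subtype.ext (by simpa using hi _ (mem_subgroupOf.1 hz))⟩⟩ }

end Cfsg.Agent.Lib.HHS57
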