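import Cfsg.Agent.Lib.HHS57.Basics
import Mathlib.LinearAlgebra.Dual.Lemmas
import Mathlib.LinearAlgebra.FiniteDimensional.Basic
import Mathlib.Algebra.Module.ZMod
import Mathlib.FieldTheory.Finiteness
import Mathlib.GroupTheory.SpecificGroups.Cyclic
import Mathlib.Tactic.IntervalCases
import Mathlib.Tactic.NormNum.Prime
import Mathlib.Tactic.Ring

/-!
# No class-two `p`-group on a small module (helper57)

`S = [S, β]` has class two, its centre is fixed, and `σ` extends `β` to a `2`-group `W` of exponent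
two on which central elements of order `p` have no fixed point.  If `[W : C_W(σ)] ≤ 2 ^ 2m`,
`r = 2 ^ m + 1`, then the elements of `S / Z(S)` are independent in `End W`, which is too small.
-/

set_option autoImplicit false
set_option linter.style.haveILetI false

namespace Cfsg.Agent.Lib.HHS57

open Subgroup
open scoped commutatorElement

universe u

theorem extraCount_large : ∀ m, 10 ≤ m → 36 * m * m < 2 * (2 * (2 ^ m + 1) + 1) := by
  intro m hm
  induction m, hm using Nat.le_induction with
  | base => norm_num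
  | succ k hk ih =>
    have h1 : 36 * (k + 1) * (k + 1) = 36 * k * k + 72 * k + 36 := by ring
    have h2 : 108 * k ≤ 36 * k * k := by nlinarith
    rw [pow_succ]
    nlinarith

theorem extraCount_small : ∀ r p d : ℕ, (r = 3 ∨ r = 5 ∨ r = 17 ∨ r = 257) → Odd p → 3 ≤ p → 2 ≤ d →
    p ^ d % r = 1 → ∀ m, r = 2 ^ m + 1 → ¬ 2 * p ^ d ≤ 36 * m * m := by
  intro r p d hr hodd hp3 hd hmod m hm hle
  have hmeq : (r = 3 ∧ m = 1) ∨ (r = 5 ∧ m = 2) ∨ (r = 17 ∧ m = 4) ∨ (r = 257 ∧ m = 8) := by
    have hinj : ∀ k, 2 ^ m = 2 ^ k → m = k := fun k hk => Nat.pow_right_injective le_rfl hk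
    rcases hr with rfl | rfl | rfl | rfl
    · exact Or.inl ⟨rfl, hinj 1 (by omega)⟩
    · exact Or.inr (Or.inl ⟨rfl, hinj 2 (by omega)⟩)
    · exact Or.inr (Or.inr (Or.inl ⟨rfl, hinj 4 (by omega)⟩))
    · exact Or.inr (Or.inr (Or.inr ⟨rfl, hinj 8 (by omega)⟩))
  have hs : p ^ d ≤ 1152 := by
    rcases hmeq with ⟨-, rfl⟩ | ⟨-, rfl⟩ | ⟨-, rfl⟩ | ⟨-, rfl⟩ <;> omega
  have hp : p ≤ 33 := by
    by_contra hp'
    have h2 : p ^ 2 ≤ p ^ d := Nat.pow_le_pow_right (by omega) hd
    have h3 : 34 ^ 2 ≤ p ^ 2 := Nat.pow_le_pow_left (by omega) 2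
    omega
  have hd' : d ≤ 6 := by
    by_contra hd'
    have h2 : 3 ^ 7 ≤ 3 ^ d := Nat.pow_le_pow_right (by norm_num) (by omega)
    have h3 : 3 ^ d ≤ p ^ d := Nat.pow_le_pow_left hp3 d
    omega
  obtain ⟨i, rfl⟩ := hodd
  have hi : i ≤ 16 := by omega
  rcases hmeq with ⟨rfl, rfl⟩ | ⟨rfl, rfl⟩ | ⟨rfl, rfl⟩ | ⟨rfl, rfl⟩ <;>
    interval_cases i <;> interval_cases d <;> omega

/-- The count. -/
theorem false_of_small_fixed_module {S : Type u} [Group S] [Finite S] {W : Type u} [CommGroup W]
    [Finite W] {p r m : ℕ} (hp : p.Prime) (hp2 : p ≠ 2) (hr : r.Prime) (hrm : r = 2 ^ m + 1)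
    {β : MulAut S} (hβ : β ^ r = 1) (hco : ¬ r ∣ Nat.card S) (hS : IsPGroup p S)
    (hgen : cm β (⊤ : Subgroup S) = ⊤) (hcfix : ∀ x ∈ center S, β x = x)
    (hfix : ∀ x, β x = x → x ∈ center S) (hcomm : ∀ x y : S, ⁅x, y⁆ ∈ center S)
    (hpow : ∀ x : S, x ^ p ∈ center S) (hnab : ∃ x y : S, x * y ≠ y * x)
    (θ : S →* MulAut W) (σ : MulAut W) (hcompat : ∀ x, θ (β x) = σ * θ x * σ⁻¹)
    (hexp : ∀ v : W, v ^ 2 = 1) (hne : ∃ v : W, v ≠ 1)
    (hfree : ∀ z ∈ center S, z ≠ 1 → z ^ p = 1 → ∀ v, θ z v = v → v = 1) (F : Subgroup W)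
    (hF : ∀ v, v ∈ F ↔ σ v = v) (hW : Nat.card W ≤ Nat.card F * 2 ^ (2 * m)) : False := by
  classical
  haveI := Fact.mk hp
  -- two generators which do not commute
  obtain ⟨a, a', haa⟩ : ∃ a a' : S, ⁅a⁻¹ * β a, a'⁻¹ * β a'⁆ ≠ 1 := by
    by_contra hh
    push Not at hh
    have h1 : ∀ a, a⁻¹ * β a ∈ center S := fun a => mem_center_iff.2 fun g => by
      have h2 : cm β (⊤ : Subgroup S) ≤ Subgroup.centralizer {a⁻¹ * β a} := cm_le_iff.2 fun x _ =>
        mem_centralizer_singleton_iff.2 (commutatorElement_eq_one_iff_mul_comm.1 (hh x a))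
      exact mem_centralizer_singleton_iff.1 (h2 (hgen.symm ▸ mem_top g))
    obtain ⟨x, y, hxy⟩ := hnab
    have h2 : cm β (⊤ : Subgroup S) ≤ center S := cm_le_iff.2 fun x _ => h1 x
    exact hxy (mem_center_iff.1 (h2 (hgen.symm ▸ mem_top y)) x)
  -- commutators of order dividing `p`
  have hzp : ∀ x y : S, ⁅x, y⁆ ^ p = 1 := by
    intro x y
    have hk : ∀ k : ℕ, x ^ k * y = ⁅x, y⁆ ^ k * y * x ^ k := by
      intro k
      induction k with
      | zero => simp
      | succ k ih =>
        have hc := mem_center_iff.1 (pow_mem (hcomm x y) k) x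
        calc x ^ (k + 1) * y = x * (x ^ k * y) := by rw [pow_succ', mul_assoc]
          _ = (x * ⁅x, y⁆ ^ k) * y * x ^ k := by rw [ih]; group
          _ = ⁅x, y⁆ ^ k * (x * y) * x ^ k := by rw [hc]; group
          _ = ⁅x, y⁆ ^ k * ⁅x, y⁆ * y * x ^ (k + 1) := by
            rw [pow_succ', commutatorElement_def]; group
          _ = ⁅x, y⁆ ^ (k + 1) * y * x ^ (k + 1) := by rw [← pow_succ]
    have h1 := hk p
    rw [← mem_center_iff.1 (hpow x) y, mul_assoc] at h1
    exact mul_right_cancel (a := ⁅x, y⁆ ^ p) (b := y * x ^ p) (c := 1) (by rw [← h1, one_mul])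
  -- the bound on `|W|`
  set b := ⁅a⁻¹ * β a, a'⁻¹ * β a'⁆ with hb
  have hbf := hfree b (hcomm _ _) haa (hzp _ _)
  set K := F.comap (θ a).toMonoidHom with hK
  set K' := F.comap (θ a').toMonoidHom with hK'
  have hfixy : ∀ (c : S) (v : W), v ∈ F → θ c v ∈ F → θ (c⁻¹ * β c) v = v := by
    intro c v hv hcv
    rw [hF] at hv hcv
    rw [map_mul, map_inv, MulAut.mul_apply, hcompat, MulAut.mul_apply, MulAut.mul_apply,
      show σ⁻¹ v = v by conv_lhs => rw [← hv, MulAut.inv_apply_self],
      hcv, MulAut.inv_apply_self]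
  have hinf : F ⊓ (K ⊓ K') = ⊥ := (Subgroup.eq_bot_iff_forall _).2 fun v hv => hbf v (by
    have e1 := hfixy a v hv.1 hv.2.1
    have e2 := hfixy a' v hv.1 hv.2.2
    have e3 : ∀ g : S, θ g v = v → θ g⁻¹ v = v := fun g hg => by
      conv_lhs => rw [← hg, map_inv, MulAut.inv_apply_self]
    rw [hb, commutatorElement_def, map_mul, map_mul, map_mul, MulAut.mul_apply, MulAut.mul_apply,
      MulAut.mul_apply, e3 _ e2, e3 _ e1, e2, e1])
  have hcardK : ∀ c : S, (F.comap (θ c).toMonoidHom).index * Nat.card F = Nat.card W := fun c => by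
    rw [Subgroup.index_comap_of_surjective _ (θ c).surjective, Subgroup.index_mul_card]
  have hFle : Nat.card F ≤ K.index * K'.index := by
    calc Nat.card F = (F ⊓ (K ⊓ K')).relIndex F := by rw [hinf, Subgroup.relIndex_bot_left]
      _ = (K ⊓ K').relIndex F := Subgroup.inf_relIndex_left _ _
      _ ≤ (K ⊓ K').index := by
        rw [← Subgroup.relIndex_top_right]
        exact Subgroup.relIndex_le_of_le_right le_top (by
          rw [Subgroup.relIndex_top_right]; exact Subgroup.index_ne_zero_of_finite)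
      _ ≤ K.index * K'.index := Subgroup.index_inf_le
  have hWle : Nat.card W ≤ 2 ^ (6 * m) := by
    have hK2 : ∀ c : S, (F.comap (θ c).toMonoidHom).index ≤ 2 ^ (2 * m) := fun c =>
      Nat.le_of_mul_le_mul_right (by rw [hcardK c, mul_comm (2 ^ (2 * m))]; exact hW) Nat.card_pos
    calc Nat.card W ≤ Nat.card F * 2 ^ (2 * m) := hW
      _ ≤ (2 ^ (2 * m) * 2 ^ (2 * m)) * 2 ^ (2 * m) :=
        Nat.mul_le_mul_right _ (hFle.trans (Nat.mul_le_mul (hK2 a) (hK2 a')))
      _ = 2 ^ (6 * m) := by rw [← pow_add, ← pow_add]; congr 1; omega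
  -- the linear representation
  letI : Module (ZMod 2) (Additive W) := AddCommGroup.zmodModule fun x => by
    show (Additive.toMul x) ^ 2 = 1
    exact hexp _
  let ρ : S →* Module.End (ZMod 2) (Additive W) :=
    { toFun := fun s => ((θ s).toMonoidHom.toAdditive).toZModLinearMap 2
      map_one' := LinearMap.ext fun v => by
        show Additive.ofMul (θ 1 (Additive.toMul v)) = v
        rw [map_one]; rfl
      map_mul' := fun x y => LinearMap.ext fun v => by
        show Additive.ofMul (θ (x * y) (Additive.toMul v)) = _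
        rw [map_mul]; rfl }
  have hρ : ∀ (s : S) (v : W), ρ s (Additive.ofMul v) = Additive.ofMul (θ s v) := fun s v => rfl
  have hz0 : ∀ z ∈ center S, z ≠ 1 → z ^ p = 1 → ∑ k ∈ Finset.range p, ρ (z ^ k) = 0 := by
    intro z hz hz1 hzp1
    refine LinearMap.ext fun v => ?_
    rw [LinearMap.zero_apply]
    set w := (∑ k ∈ Finset.range p, ρ (z ^ k)) v with hw
    have h1 : ρ z * (∑ k ∈ Finset.range p, ρ (z ^ k)) = ∑ k ∈ Finset.range p, ρ (z ^ k) := by
      rw [Finset.mul_sum]
      simp only [← map_mul, ← pow_succ']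
      have e1 := Finset.sum_range_succ' (fun k => ρ (z ^ k)) p
      rw [Finset.sum_range_succ, hzp1, pow_zero] at e1
      exact (add_right_cancel e1).symm
    have h2 : ρ z w = w := LinearMap.congr_fun h1 v
    have h3 := hfree z hz hz1 hzp1 (Additive.toMul w) (congrArg Additive.toMul h2)
    exact congrArg Additive.ofMul h3
  let Com : Module.End (ZMod 2) (Additive W) → Prop := fun c => ∀ g, c * ρ g = ρ g * c
  have hpc : ∀ c : Module.End (ZMod 2) (Additive W), p • c = c := fun c => by
    obtain ⟨k, hk⟩ := hp.odd_of_ne_two hp2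
    have : c + c = 0 := by rw [← two_smul (ZMod 2) c, show (2 : ZMod 2) = 0 from rfl, zero_smul]
    rw [hk, add_nsmul, one_nsmul, mul_nsmul, two_nsmul, this, nsmul_zero, zero_add]
  -- independence modulo the centre
  have indep : ∀ s : Finset S, (∀ g ∈ s, g ∉ center S) →
      ∀ (c : S → Module.End (ZMod 2) (Additive W)) (c₀ : Module.End (ZMod 2) (Additive W)),
        (∀ g, Com (c g)) → Com c₀ → c₀ + ∑ g ∈ s, c g * ρ g = 0 → c₀ = 0 := by
    intro s
    induction s using Finset.induction_on with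
    | empty => intro _ c c₀ _ _ h0; simpa using h0
    | insert g s hgs ih =>
      intro hout c c₀ hc hc₀ h0
      obtain ⟨t, ht⟩ : ∃ t, t * g ≠ g * t := by
        by_contra hh
        push Not at hh
        exact hout g (Finset.mem_insert_self _ _) (mem_center_iff.2 hh)
      let z : S → S := fun x => ⁅x⁻¹, t⁆
      have hconj : ∀ (x : S) (k : ℕ), t ^ k * x * (t ^ k)⁻¹ = x * z x ^ k := by
        intro x k
        induction k with
        | zero => simp
        | succ k ihk =>
          have hzc := mem_center_iff.1 (pow_mem (hcomm x⁻¹ t) k) t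
          calc t ^ (k + 1) * x * (t ^ (k + 1))⁻¹ = t * (t ^ k * x * (t ^ k)⁻¹) * t⁻¹ := by
                rw [pow_succ']; group
            _ = t * x * (z x ^ k * t⁻¹) := by rw [ihk]; group
            _ = (t * x * t⁻¹) * z x ^ k := by
              have e2 : z x ^ k * t⁻¹ = t⁻¹ * z x ^ k :=
                (Commute.inv_right (show Commute (z x ^ k) t from hzc.symm)).eq
              rw [e2]; group
            _ = x * z x * z x ^ k := by
              congr 1
              simp only [z, commutatorElement_def]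
              group
            _ = x * z x ^ (k + 1) := by rw [pow_succ', mul_assoc]
      let c' : S → Module.End (ZMod 2) (Additive W) := fun x =>
        c x * ∑ k ∈ Finset.range p, ρ (z x ^ k)
      have hsumc : ∀ x, Com (∑ k ∈ Finset.range p, ρ (z x ^ k)) := fun x g' => by
        rw [Finset.sum_mul, Finset.mul_sum]
        refine Finset.sum_congr rfl fun k _ => ?_
        rw [← map_mul, ← map_mul, mem_center_iff.1 (pow_mem (hcomm x⁻¹ t) k) g']
      have hterm : ∀ x, ∑ k ∈ Finset.range p, ρ (t ^ k) * (c x * ρ x) * ρ ((t ^ k)⁻¹) = c' x * ρ x := by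
        intro x
        simp only [c', Finset.mul_sum, Finset.sum_mul]
        refine Finset.sum_congr rfl fun k _ => ?_
        calc ρ (t ^ k) * (c x * ρ x) * ρ ((t ^ k)⁻¹)
            = c x * (ρ (t ^ k) * ρ x * ρ ((t ^ k)⁻¹)) := by rw [← mul_assoc, ← hc x]; simp only [mul_assoc]
          _ = c x * ρ (z x ^ k) * ρ x := by
            rw [← map_mul, ← map_mul, hconj, mem_center_iff.1 (pow_mem (hcomm x⁻¹ t) k) x, map_mul,
              mul_assoc]
      refine ih (fun x hx => hout x (Finset.mem_insert_of_mem hx)) c' c₀ (fun x g' => ?_) hc₀ ?_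
      · rw [mul_assoc, hsumc x g', ← mul_assoc, hc x g', mul_assoc]
      · have h1 : ∑ k ∈ Finset.range p,
            ρ (t ^ k) * (c₀ + ∑ x ∈ insert g s, c x * ρ x) * ρ ((t ^ k)⁻¹) = 0 := by
          simp [h0]
        simp only [mul_add, add_mul, Finset.sum_add_distrib] at h1
        have h2 : ∑ k ∈ Finset.range p, ρ (t ^ k) * c₀ * ρ ((t ^ k)⁻¹) = c₀ := by
          conv_lhs =>
            enter [2, k]
            rw [← hc₀, mul_assoc, ← map_mul, mul_inv_cancel, map_one, mul_one]
          rw [Finset.sum_const, Finset.card_range, hpc]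
        have h3 : ∑ k ∈ Finset.range p, ρ (t ^ k) * (∑ x ∈ insert g s, c x * ρ x) * ρ ((t ^ k)⁻¹) =
            ∑ x ∈ s, c' x * ρ x := by
          simp only [Finset.mul_sum, Finset.sum_mul]
          rw [Finset.sum_comm, Finset.sum_insert hgs, hterm g]
          have hg0 : c' g = 0 := by
            have hzg : z g ≠ 1 := fun e1 => ht (by
              have := hconj g 1
              rw [pow_one, pow_one, e1, mul_one] at this
              exact mul_inv_eq_iff_eq_mul.1 this)
            show c g * _ = 0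
            rw [hz0 _ (hcomm _ _) hzg (hzp _ _), mul_zero]
          rw [hg0, zero_mul, zero_add]
          exact Finset.sum_congr rfl fun x _ => hterm x
        rw [h2, h3] at h1
        exact h1
  -- coefficients in the span of `1` and `b`
  let co : ZMod 2 × ZMod 2 → Module.End (ZMod 2) (Additive W) := fun a => a.1 • 1 + a.2 • ρ b
  have hbC : Com (ρ b) := fun g => by
    rw [← map_mul, ← map_mul, mem_center_iff.1 (hcomm _ _ : b ∈ center S) g]
  have hcoC : ∀ a, Com (co a) := fun a g => by
    simp only [co, add_mul, mul_add, smul_mul_assoc, mul_smul_comm, one_mul, mul_one, hbC g]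
  obtain ⟨v₀, hv₀⟩ := hne
  have hco0 : ∀ a, co a = 0 → a = 0 := by
    rintro ⟨a₁, a₂⟩ ha
    have h01 : ∀ x : ZMod 2, x = 0 ∨ x = 1 := by decide
    have h1ne : (1 : Module.End (ZMod 2) (Additive W)) ≠ 0 := fun e1 => hv₀
      (congrArg Additive.toMul (LinearMap.congr_fun e1 (Additive.ofMul v₀)))
    have hbne : ρ b ≠ 0 := fun e1 => h1ne (by
      rw [← map_one ρ, ← mul_inv_cancel b, map_mul, e1, zero_mul])
    rcases h01 a₁ with rfl | rfl <;> rcases h01 a₂ with rfl | rfl
    · rfl
    · exact absurd (by simpa [co] using ha) hbne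
    · exact absurd (by simpa [co] using ha) h1ne
    · exfalso
      have h2 := LinearMap.congr_fun (show (1 : Module.End (ZMod 2) (Additive W)) + ρ b = 0 by
        simpa [co] using ha) (Additive.ofMul v₀)
      refine hv₀ (hbf v₀ ?_)
      have h3 : Additive.ofMul v₀ + Additive.ofMul (θ b v₀) = 0 := h2
      have h4 : v₀ * θ b v₀ = 1 := h3
      rw [eq_inv_of_mul_eq_one_right h4, inv_eq_of_mul_eq_one_right (by rw [← pow_two, hexp])]
  set Q := S ⧸ center S with hQ
  haveI : Fintype Q := Fintype.ofFinite Q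
  let X : (Q → ZMod 2 × ZMod 2) →+ Module.End (ZMod 2) (Additive W) :=
    { toFun := fun f => ∑ q, co (f q) * ρ q.out
      map_zero' := by simp [co]
      map_add' := fun f f' => by
        rw [← Finset.sum_add_distrib]
        refine Finset.sum_congr rfl fun q _ => ?_
        simp only [co, Pi.add_apply, Prod.fst_add, Prod.snd_add, add_smul, add_mul]
        abel }
  have hX : Function.Injective X := (injective_iff_map_eq_zero X).2 fun f hf => funext fun q₀ => by
    refine hco0 _ ?_
    have h0 : (∑ q, co (f q) * ρ q.out) * ρ (q₀.out)⁻¹ = 0 := by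
      rw [show (∑ q, co (f q) * ρ q.out) = 0 from hf, zero_mul]
    rw [Finset.sum_mul, ← Finset.add_sum_erase _ _ (Finset.mem_univ q₀), mul_assoc, ← map_mul,
      mul_inv_cancel, map_one, mul_one] at h0
    let g : Q → S := fun q => q.out * (q₀.out)⁻¹
    have hgi : Function.Injective g := fun q q' e1 => by
      have := congrArg (fun x : S => (QuotientGroup.mk x : Q)) (mul_right_cancel e1)
      simpa using this
    refine indep ((Finset.univ.erase q₀).image g) ?_
      (fun x => co (f (QuotientGroup.mk (x * q₀.out)))) _ (fun x => hcoC _) (hcoC _) ?_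
    · intro x hx hxc
      obtain ⟨q, hq, rfl⟩ := Finset.mem_image.1 hx
      refine (Finset.mem_erase.1 hq).1 ?_
      have h5 := (QuotientGroup.eq_one_iff (N := center S) _).2 hxc
      simp only [g, QuotientGroup.mk_mul, QuotientGroup.mk_inv, QuotientGroup.out_eq'] at h5
      exact mul_inv_eq_one.1 h5
    · rw [Finset.sum_image hgi.injOn]
      refine Eq.trans (congrArg _ (Finset.sum_congr rfl fun q _ => ?_)) h0
      simp only [g, inv_mul_cancel_right, QuotientGroup.out_eq', map_mul, ← mul_assoc]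
  -- the count
  haveI : Module.Finite (ZMod 2) (Additive W) := Module.Finite.of_finite
  haveI : Finite (Module.End (ZMod 2) (Additive W)) :=
    Finite.of_injective (fun f : Module.End (ZMod 2) (Additive W) => (f : Additive W → Additive W))
      DFunLike.coe_injective
  have hcard := Nat.card_le_card_of_injective X hX
  rw [Nat.card_fun, Nat.card_prod, Nat.card_zmod,
    Module.natCard_eq_pow_finrank (K := ZMod 2) (V := Module.End (ZMod 2) (Additive W)),
    Module.finrank_linearMap, Nat.card_zmod] at hcard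
  set n := Module.finrank (ZMod 2) (Additive W) with hn
  have hn6 : n ≤ 6 * m := by
    have h1 : Nat.card (Additive W) = 2 ^ n := by
      rw [Module.natCard_eq_pow_finrank (K := ZMod 2), Nat.card_zmod]
    exact (Nat.pow_le_pow_iff_right Nat.one_lt_two).1 (h1 ▸ hWle)
  rw [← pow_two, ← pow_mul, Nat.pow_le_pow_iff_right Nat.one_lt_two] at hcard
  have hbound : 2 * Nat.card Q ≤ 36 * m * m := hcard.trans (by nlinarith)
  -- arithmetic of `|S / Z(S)|`
  have hQp : IsPGroup p Q := hS.to_quotient _
  obtain ⟨d, hd⟩ := IsPGroup.iff_card.1 hQp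
  have hd2 : 2 ≤ d := by
    by_contra hd2
    have hdvd : Nat.card Q ∣ p := hd ▸ (pow_dvd_pow p (show d ≤ 1 by omega)).trans (by rw [pow_one])
    haveI : IsCyclic Q := by
      rcases (Nat.dvd_prime hp).1 hdvd with h1 | h1
      · haveI := (Nat.card_eq_one_iff_unique.1 h1).1
        infer_instance
      · exact isCyclic_of_prime_card h1
    obtain ⟨x, y, hxy⟩ := hnab
    exact hxy (commutative_of_cyclic_center_quotient (QuotientGroup.mk' (center S))
      (by rw [QuotientGroup.ker_mk']) x y)
  set βb : MulAut Q := QuotientGroup.congr _ _ β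
    (Subgroup.characteristic_iff_map_eq.1 inferInstance β) with hβb
  have hβbr : βb ^ r = 1 := MulEquiv.ext fun x => QuotientGroup.induction_on x fun g => by
    have hk : ∀ (k : ℕ) (y : S), (βb ^ k) (QuotientGroup.mk y) = QuotientGroup.mk ((β ^ k) y) := by
      intro k
      induction k with
      | zero => intro y; rfl
      | succ k ih => intro y; rw [pow_succ, pow_succ, MulAut.mul_apply, MulAut.mul_apply, ← ih]; rfl
    rw [hk, hβ]; rfl
  have hmod : Nat.card Q % r = 1 := by
    have h1 := FpfAut.card_modEq_one hr hβbr fun x => QuotientGroup.induction_on x fun g hg => by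
      obtain ⟨c, hc, hf⟩ := FpfAut.exists_fixed_mul hr hβ (stb_center (β := β))
        (fun hd => hco (hd.trans (center S).card_subgroup_dvd_card))
        (QuotientGroup.eq.1 (show (QuotientGroup.mk g : Q) = QuotientGroup.mk (β g) from hg.symm))
      rw [QuotientGroup.eq_one_iff]
      have := mul_mem (hfix _ hf) (inv_mem hc)
      simpa using this
    rw [Nat.ModEq, Nat.one_mod_eq_one.2 hr.one_lt.ne'] at h1
    exact h1
  rw [hd] at hmod hbound
  have hodd : Odd p := hp.odd_of_ne_two hp2
  have hp3 : 3 ≤ p := by have := hp.two_le; omega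
  rcases Nat.lt_or_ge m 10 with hm | hm
  · rcases Nat.eq_zero_or_pos m with rfl | hm0
    · have := Nat.one_lt_pow (show d ≠ 0 by omega) hp.one_lt
      omega
    refine extraCount_small r p d ?_ hodd hp3 hd2 hmod m hrm hbound
    subst hrm
    interval_cases m <;> first | (norm_num at hr; done) | norm_num
  · have h1 := extraCount_large m hm
    have hsodd : Odd (p ^ d) := hodd.pow
    have hs1 : 1 < p ^ d := Nat.one_lt_pow (by omega) hp.one_lt
    obtain ⟨j, hj⟩ : r ∣ p ^ d - 1 := (Nat.modEq_iff_dvd' hs1.le).1 (by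
      rw [Nat.ModEq, hmod, Nat.one_mod_eq_one.2 hr.one_lt.ne'])
    obtain ⟨i, hi⟩ := hsodd
    have hj2 : 2 ≤ j := by
      rcases j with _ | _ | j
      · omega
      · exfalso
        obtain ⟨q, hq⟩ : 2 ∣ 2 ^ m := dvd_pow_self 2 (by omega)
        omega
      · omega
    have hj' : 2 * r ≤ p ^ d - 1 := by rw [hj, mul_comm]; exact Nat.mul_le_mul_left _ hj2
    omega

end Cfsg.Agent.Lib.HHS57
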