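import Cfsg.Agent.Lib.HHS57.Bad
import Cfsg.Agent.Lib.HHS57.Balanced
import Mathlib.GroupTheory.Index

/-!
# Two radicals suffice (helper42, node F)

In the `TCase`, and when every element of `Z̄` is balanced, the occurring patterns come in pairs `K, K'`
with respect to one subgroup `J` of `Z`; the radical of `J` is `R ⊓ R'` for every such pair with `R ≠ R'`,
so it is `Z`, and `|D̄| ≤ |Z̄| 2 ^ (4 m)`.
-/

set_option autoImplicit false
set_option linter.style.haveILetI false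
set_option linter.unusedSectionVars false

namespace Cfsg.Agent.Lib.HHS57

open Cfsg Cfsg.Agent.Lib
open Cfsg.Agent.Lib.FpfAut (exists_fixed_mul)
open Subgroup
open scoped commutatorElement

universe u

/-- Images have smaller relative index. -/
theorem relIndex_map_le {A B : Type*} [Group A] [Group B] [Finite A] (f : A →* B) {X Y : Subgroup A}
    (hXY : X ≤ Y) : (X.map f).relIndex (Y.map f) ≤ X.relIndex Y := by
  have hπ : Function.Surjective (f.subgroupMap Y) := MonoidHom.subgroupMap_surjective f Y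
  have hmap : (X.subgroupOf Y).map (f.subgroupMap Y) = (X.map f).subgroupOf (Y.map f) := by
    ext ⟨z, hz⟩
    constructor
    · rintro ⟨w, hw, e⟩
      exact Subgroup.mem_subgroupOf.2 ⟨w, hw, congrArg Subtype.val e⟩
    · rintro ⟨w, hw, e⟩
      exact ⟨⟨w, hXY hw⟩, hw, Subtype.ext e⟩
  rw [Subgroup.relIndex, ← hmap]
  exact Nat.le_of_dvd (Nat.pos_of_ne_zero Subgroup.index_ne_zero_of_finite)
    (Subgroup.index_map_dvd _ hπ)

/-- `K₁` and `K₂` differ exactly outside `J`. -/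
def Paired {H : Type u} [Group H] (J K₁ K₂ : Subgroup H) : Prop :=
  K₁ ⊓ J ≤ K₂ ∧ K₂ ⊓ J ≤ K₁ ∧ K₁ ⊓ K₂ ≤ J

variable {H : Type u} [Group H] [Finite H] {p r : ℕ} {α : MulAut H} {V : Type u} [CommGroup V]
  [Finite V] {ψ : H →* MulAut V} {e : MulAut V}
  (h : Min p r α ψ e) (T : Sylow 2 H) (hT : Stb α (T : Subgroup H))

include h hT

theorem Min.dComm_mul_left {a b y : H} (ha : a ∈ dGrp α T) (hb : b ∈ dGrp α T) (hy : y ∈ dGrp α T) :
    ⁅a * b, y⁆ = ⁅b, y⁆ * ⁅a, y⁆ := by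
  have h1 := h.zGrp_le_centralizer T hT (h.commutator_mem_zGrp T hT hb hy) (inv_mem ha)
  calc ⁅a * b, y⁆ = a * (⁅b, y⁆ * a⁻¹) * ⁅a, y⁆ := by simp only [commutatorElement_def]; group
    _ = ⁅b, y⁆ * ⁅a, y⁆ := by rw [h1, mul_inv_cancel_left]

theorem Min.dComm_mul_right {a b y : H} (ha : a ∈ dGrp α T) (hb : b ∈ dGrp α T) (hy : y ∈ dGrp α T) :
    ⁅y, a * b⁆ = ⁅y, a⁆ * ⁅y, b⁆ := by
  have h1 := h.zGrp_le_centralizer T hT (h.commutator_mem_zGrp T hT hy hb) (inv_mem ha)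
  calc ⁅y, a * b⁆ = ⁅y, a⁆ * (a * (⁅y, b⁆ * a⁻¹)) := by simp only [commutatorElement_def]; group
    _ = ⁅y, a⁆ * ⁅y, b⁆ := by rw [h1, mul_inv_cancel_left]

/-- The radical as a subgroup. -/
theorem Min.radFacts {m : ℕ} (hm : r = 2 ^ m + 1) {K : Subgroup H} (hK : Occ α ψ T K) :
    ∃ R : Subgroup H, (∀ d, d ∈ R ↔ d ∈ rad α T K) ∧ zGrp α T ≤ R ∧ R ≤ dGrp α T ∧ Stb α R ∧
      R.relIndex (dGrp α T) = 2 ^ (2 * m) := by
  obtain ⟨R, m', hR, -, hrm, hidx, -⟩ := h.exists_rad T hT hK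
  have hmem : ∀ d, d ∈ R ↔ d ∈ rad α T K := fun d => by rw [← hR, SetLike.mem_coe]
  refine ⟨R, hmem, fun z hz => (hmem z).2 ⟨hz.1, fun y hy => ?_⟩, fun d hd => ((hmem d).1 hd).1,
    fun d hd => (hmem _).2 ⟨stb_dGrp T hT d ((hmem d).1 hd).1, fun y hy => ?_⟩,
    by rw [hidx, eq_of_pow_add_one hrm hm]⟩
  · rw [commutatorElement_eq_one_iff_mul_comm.2 (h.zGrp_le_centralizer T hT hz hy)]
    exact one_mem _
  · obtain ⟨hdD, hd'⟩ := (hmem d).1 hd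
    have h1 := hd' _ ((stb_dGrp T hT).symm_mem hy)
    have h2 : α ⁅d, α.symm y⁆ = ⁅α d, y⁆ := by rw [map_commutatorElement, α.apply_symm_apply]
    rwa [← h2, mem_fixG.1 (hK.le h1).2]

/-- An element of `D` in all radicals is in `Z`. -/
theorem Min.mem_zGrp_of_rad {d : H} (hd : d ∈ dGrp α T)
    (hall : ∀ K, Occ α ψ T K → d ∈ rad α T K) : d ∈ zGrp α T := by
  refine (h.mem_zGrp_iff T hT).2 ⟨hd, fun y hy => ?_⟩
  rw [← commutatorElement_eq_one_iff_mul_comm]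
  by_contra hne
  obtain ⟨K, hK, hn⟩ := h.exists_occ T hT (h.commutator_mem_zGrp T hT hd hy) hne
  exact hn ((hall K hK).2 y hy)

/-- The bound from a small index upstairs. -/
theorem Min.gD_card_le {n : ℕ} (hidx : (zGrp α T).relIndex (dGrp α T) ≤ n) :
    Nat.card (gD α T) ≤ Nat.card (gZ α T) * n := by
  have e := Subgroup.card_eq_card_quotient_mul_card_subgroup ((gZ α T).subgroupOf (gD α T))
  rw [Nat.card_congr (Subgroup.subgroupOfEquivOfLe (h.gZ_le_gD T hT)).toEquiv] at e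
  have h1 : (gZ α T).relIndex (gD α T) ≤ n :=
    (relIndex_map_le (qHom H) (inf_le_left : zGrp α T ≤ dGrp α T)).trans hidx
  rw [e, mul_comm]
  exact Nat.mul_le_mul_left _ h1

/-- A subgroup of `gD` strictly above the image of a radical is `gD`. -/
theorem Min.eq_gD_of_rad {m : ℕ} (hm : r = 2 ^ m + 1) {R : Subgroup H} (hZR : zGrp α T ≤ R)
    (hRD : R ≤ dGrp α T) (hRα : Stb α R) (hidx : R.relIndex (dGrp α T) = 2 ^ (2 * m))
    {X : Subgroup (H ⧸ Subgroup.center H)} (hRX : R.map (qHom H) ≤ X) (hXD : X ≤ gD α T)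
    (hXα : Stb (qAut α) X) (hne : R.map (qHom H) ≠ X) : X = gD α T := by
  have hRα' : Stb (qAut α) (R.map (qHom H)) := by
    rintro _ ⟨x, hx, rfl⟩
    rw [qAut_mk]
    exact mem_map_of_mem _ (hRα x hx)
  have h1 := h.gLayer T hT hm (map_mono hZR) hRX hXD hRα' hXα hne
  refine Subgroup.eq_of_le_of_card_ge hXD (le_trans ?_ h1)
  have e := Subgroup.card_eq_card_quotient_mul_card_subgroup ((R.map (qHom H)).subgroupOf (gD α T))
  rw [Nat.card_congr (Subgroup.subgroupOfEquivOfLe (hRX.trans hXD)).toEquiv] at e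
  rw [e, mul_comm]
  exact Nat.mul_le_mul_left _ ((relIndex_map_le (qHom H) hRD).trans hidx.le)

/-- Recognition upstairs. -/
theorem Min.mem_of_map {X : Subgroup H} (hZX : zGrp α T ≤ X) (hXD : X ≤ dGrp α T) {d : H}
    (hd : d ∈ dGrp α T) (hmap : qHom H d ∈ X.map (qHom H)) : d ∈ X := by
  obtain ⟨x, hx, e1⟩ := hmap
  have hc : x⁻¹ * d ∈ Subgroup.center H := QuotientGroup.eq.1 e1
  have hz : x⁻¹ * d ∈ zGrp α T := ⟨(dGrp α T).mul_mem ((dGrp α T).inv_mem (hXD hx)) hd, h.center_fixed hc⟩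
  simpa using mul_mem hx (hZX hz)

/-- Different radicals generate `D`. -/
theorem Min.rad_sup {m : ℕ} (hm : r = 2 ^ m + 1) {R₁ R₂ : Subgroup H}
    (h₁ : zGrp α T ≤ R₁) (h₁' : R₁ ≤ dGrp α T) (hs₁ : Stb α R₁)
    (hi₁ : R₁.relIndex (dGrp α T) = 2 ^ (2 * m))
    (h₂ : zGrp α T ≤ R₂) (h₂' : R₂ ≤ dGrp α T) (hs₂ : Stb α R₂)
    (hi₂ : R₂.relIndex (dGrp α T) = 2 ^ (2 * m)) (hne : R₁ ≠ R₂) :
    ∀ d ∈ dGrp α T, ∃ a ∈ R₁, ∃ b ∈ R₂, d = a * b := by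
  intro d hd
  have hN : R₁ ≤ Subgroup.normalizer (R₂ : Set H) := fun a ha =>
    Lib.FS.mem_normalizer_of_conj_mem fun x hx => by
      have h3 := mul_mem (h₂ (h.commutator_mem_zGrp T hT (h₁' ha) (h₂' hx))) hx
      simpa [commutatorElement_def] using h3
  have hX : (R₁ ⊔ R₂).map (qHom H) = gD α T := by
    refine h.eq_gD_of_rad T hT hm h₁ h₁' hs₁ hi₁ (map_mono le_sup_left)
      (map_mono (sup_le h₁' h₂')) ?_ ?_
    · rintro _ ⟨x, hx, rfl⟩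
      rw [qAut_mk]
      exact mem_map_of_mem _ (hs₁.sup hs₂ x hx)
    · intro e1
      have hle : R₂ ≤ R₁ := fun x hx =>
        h.mem_of_map T hT h₁ h₁' (h₂' hx) (e1 ▸ mem_map_of_mem _ (mem_sup_right hx))
      have hc : Nat.card R₁ ≤ Nat.card R₂ := by
        have e₁ := (R₁.subgroupOf (dGrp α T)).index_mul_card
        have e₂ := (R₂.subgroupOf (dGrp α T)).index_mul_card
        rw [Nat.card_congr (Subgroup.subgroupOfEquivOfLe h₁').toEquiv] at e₁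
        rw [Nat.card_congr (Subgroup.subgroupOfEquivOfLe h₂').toEquiv] at e₂
        rw [Subgroup.relIndex] at hi₁ hi₂
        rw [hi₁] at e₁
        rw [hi₂, ← e₁] at e₂
        exact (Nat.eq_of_mul_eq_mul_left (pow_pos (by norm_num) _) e₂).ge
      exact hne (Subgroup.eq_of_le_of_card_ge hle hc).symm
  have h3 : d ∈ R₁ ⊔ R₂ := h.mem_of_map T hT (h₁.trans le_sup_left) (sup_le h₁' h₂') hd
    (hX.symm ▸ mem_map_of_mem _ hd)
  have h4 : d ∈ ((R₁ ⊔ R₂ : Subgroup H) : Set H) := h3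
  rw [Subgroup.coe_mul_of_left_le_normalizer_right R₁ R₂ hN] at h4
  obtain ⟨a, ha, b, hb, rfl⟩ := h4
  exact ⟨a, ha, b, hb, rfl⟩

/-- The pair lemma. -/
theorem Min.rad_pair {J K₁ K₂ R₁ R₂ : Subgroup H} (hP : Paired J K₁ K₂)
    (hm₁ : ∀ d, d ∈ R₁ ↔ d ∈ rad α T K₁) (hm₂ : ∀ d, d ∈ R₂ ↔ d ∈ rad α T K₂)
    (hdec : ∀ d ∈ dGrp α T, ∃ a ∈ R₁, ∃ b ∈ R₂, d = a * b) {d : H} (hd : d ∈ rad α T J) :
    d ∈ R₁ ∧ d ∈ R₂ := by
  obtain ⟨hdD, hdJ⟩ := hd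
  obtain ⟨a, ha, b, hb, rfl⟩ := hdec d hdD
  obtain ⟨haD, haK⟩ := (hm₁ a).1 ha
  obtain ⟨hbD, hbK⟩ := (hm₂ b).1 hb
  have hflip : ∀ {K : Subgroup H} {x y : H}, ⁅y, x⁆ ∈ K → ⁅x, y⁆ ∈ K := fun {K x y} hxy => by
    rw [← commutatorElement_inv]; exact inv_mem hxy
  have ha₂ : a ∈ R₂ := by
    refine (hm₂ a).2 ⟨haD, fun y hy => ?_⟩
    obtain ⟨y₁, hy₁, y₂, hy₂, rfl⟩ := hdec y hy
    obtain ⟨hy₁D, hy₁K⟩ := (hm₁ y₁).1 hy₁
    obtain ⟨hy₂D, hy₂K⟩ := (hm₂ y₂).1 hy₂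
    rw [h.dComm_mul_right T hT hy₁D hy₂D haD]
    refine mul_mem (hP.1 ⟨haK y₁ hy₁D, ?_⟩) (hflip (hy₂K a haD))
    have h1 := hdJ y₁ hy₁D
    rw [h.dComm_mul_left T hT haD hbD hy₁D] at h1
    have h2 : ⁅b, y₁⁆ ∈ J := hP.2.2 ⟨hflip (hy₁K b hbD), hbK y₁ hy₁D⟩
    exact (Subgroup.mul_mem_cancel_left _ h2).1 h1
  have hb₁ : b ∈ R₁ := by
    refine (hm₁ b).2 ⟨hbD, fun y hy => ?_⟩
    obtain ⟨y₁, hy₁, y₂, hy₂, rfl⟩ := hdec y hy
    obtain ⟨hy₁D, hy₁K⟩ := (hm₁ y₁).1 hy₁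
    obtain ⟨hy₂D, hy₂K⟩ := (hm₂ y₂).1 hy₂
    rw [h.dComm_mul_right T hT hy₁D hy₂D hbD]
    refine mul_mem (hflip (hy₁K b hbD)) (hP.2.1 ⟨hbK y₂ hy₂D, ?_⟩)
    have h1 := hdJ y₂ hy₂D
    rw [h.dComm_mul_left T hT haD hbD hy₂D] at h1
    have h2 : ⁅a, y₂⁆ ∈ J := hP.2.2 ⟨haK y₂ hy₂D, hflip (hy₂K a haD)⟩
    exact (Subgroup.mul_mem_cancel_right _ h2).1 h1
  exact ⟨mul_mem ha hb₁, mul_mem ha₂ hb⟩

/-- A common element of two different radicals lies in the radical of every paired pattern. -/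
theorem Min.mem_rad_of_paired {m : ℕ} (hm : r = 2 ^ m + 1) {J : Subgroup H}
    {K₁ K₂ : Subgroup H} (hK₁ : Occ α ψ T K₁) (hK₂ : Occ α ψ T K₂) (hP : Paired J K₁ K₂)
    (hne : rad α T K₁ ≠ rad α T K₂) {K K' : Subgroup H} (hK : Occ α ψ T K) (hK' : Occ α ψ T K')
    (hPK : Paired J K K') {d : H} (hd₁ : d ∈ rad α T K₁) (hd₂ : d ∈ rad α T K₂) :
    d ∈ rad α T K := by
  obtain ⟨R₁, hm₁, h₁, h₁', hs₁, hi₁⟩ := h.radFacts T hT hm hK₁
  obtain ⟨R₂, hm₂, h₂, h₂', hs₂, hi₂⟩ := h.radFacts T hT hm hK₂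
  obtain ⟨S, hmS, hS, hS', hsS, hiS⟩ := h.radFacts T hT hm hK
  obtain ⟨S', hmS', hS₂, hS₂', hsS', hiS'⟩ := h.radFacts T hT hm hK'
  have hR : R₁ ≠ R₂ := fun e1 => hne (Set.ext fun d => by rw [← hm₁, ← hm₂, e1])
  have hdec := h.rad_sup T hT hm h₁ h₁' hs₁ hi₁ h₂ h₂' hs₂ hi₂ hR
  have hdJ : d ∈ rad α T J := ⟨hd₁.1, fun y hy => hP.2.2 ⟨hd₁.2 y hy, hd₂.2 y hy⟩⟩
  by_cases hSS : S = S'
  · -- impossible
    exfalso
    have hsub : S ≤ R₁ ⊓ R₂ := fun x hx => h.rad_pair T hT hP hm₁ hm₂ hdec ⟨hS' hx, fun y hy =>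
      hPK.2.2 ⟨((hmS x).1 hx).2 y hy, ((hmS' x).1 (hSS ▸ hx)).2 y hy⟩⟩
    have key : ∀ {A : Subgroup H}, A ≤ dGrp α T → A.relIndex (dGrp α T) = 2 ^ (2 * m) → S ≤ A → A = S := by
      intro A hA hiA hSA
      have := Subgroup.relIndex_mul_relIndex S A (dGrp α T) hSA hA
      rw [hiA, hiS] at this
      have h5 : S.relIndex A = 1 :=
        Nat.eq_of_mul_eq_mul_right (pow_pos (by norm_num : 0 < 2) _) (this.trans (one_mul _).symm)
      exact le_antisymm (Subgroup.relIndex_eq_one.1 h5) hSA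
    exact hR ((key h₁' hi₁ (hsub.trans inf_le_left)).trans
      (key h₂' hi₂ (hsub.trans inf_le_right)).symm)
  · exact (hmS d).1 (h.rad_pair T hT hPK hmS hmS'
      (h.rad_sup T hT hm hS hS' hsS hiS hS₂ hS₂' hsS' hiS' hSS) hdJ).1

/-- Pairs for one `J`, one of them with different radicals. -/
theorem Min.card_le_of_pairs {m : ℕ} (hm : r = 2 ^ m + 1) {J : Subgroup H}
    (hall : ∀ K, Occ α ψ T K → ∃ K', Occ α ψ T K' ∧ Paired J K K')
    {K₁ K₂ : Subgroup H} (hK₁ : Occ α ψ T K₁) (hK₂ : Occ α ψ T K₂) (hP : Paired J K₁ K₂)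
    (hne : rad α T K₁ ≠ rad α T K₂) :
    Nat.card (gD α T) ≤ Nat.card (gZ α T) * 2 ^ (4 * m) := by
  obtain ⟨R₁, hm₁, h₁, h₁', hs₁, hi₁⟩ := h.radFacts T hT hm hK₁
  obtain ⟨R₂, hm₂, h₂, h₂', hs₂, hi₂⟩ := h.radFacts T hT hm hK₂
  refine h.gD_card_le T hT ?_
  have hle : R₁ ⊓ R₂ ≤ zGrp α T := fun d hd => h.mem_zGrp_of_rad T hT (h₁' hd.1) fun K hK => by
    obtain ⟨K', hK', hPK⟩ := hall K hK
    exact h.mem_rad_of_paired T hT hm hK₁ hK₂ hP hne hK hK' hPK ((hm₁ d).1 hd.1) ((hm₂ d).1 hd.2)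
  calc (zGrp α T).relIndex (dGrp α T) ≤ (R₁ ⊓ R₂).relIndex (dGrp α T) := by
        refine Nat.le_of_dvd (Nat.pos_of_ne_zero Subgroup.index_ne_zero_of_finite) ?_
        exact Subgroup.relIndex_dvd_of_le_left _ hle
    _ ≤ R₁.relIndex (dGrp α T) * R₂.relIndex (dGrp α T) := Subgroup.relIndex_inf_le
    _ = 2 ^ (4 * m) := by rw [hi₁, hi₂, ← pow_add]; congr 1; omega

/-- A central element of `Z` lies in no occurring pattern. -/
theorem Min.not_mem_occ (hneg : CenNeg ψ) {K : Subgroup H} (hK : Occ α ψ T K) {t : H}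
    (ht : t ∈ zGrp α T) (htc : t ∈ Subgroup.center H) (htK : t ∈ K) : t = 1 := by
  by_contra ht1
  obtain ⟨v, hv, hv1⟩ := hK.ne
  exact hv1 (h.eq_one_of_sgn T hT ((hv t ht).1 htK) (hneg t htc (h.zGrp_sq T hT ht) ht1 v))

/-- F1. -/
theorem Min.card_le_of_tCase (hneg : CenNeg ψ) {m : ℕ} (hm : r = 2 ^ m + 1) (ht : TCase α T) :
    Nat.card (gD α T) ≤ Nat.card (gZ α T) * 2 ^ (4 * m) := by
  haveI : Fact (Nat.Prime 2) := ⟨Nat.prime_two⟩
  obtain ⟨c₀, hc₀M, hc₀f, ⟨k, hk⟩, hc₀Z, hc₀mv⟩ := ht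
  obtain ⟨x, hxf, rfl⟩ := h.exists_qFix hc₀f
  -- a `2`-element lift
  set n := ordCompl[2] (orderOf x) with hn
  have hodd : ¬ 2 ∣ n := Nat.not_dvd_ordCompl Nat.prime_two (orderOf_pos x).ne'
  set c := x ^ n with hc
  have hcf : α c = c := by rw [hc, map_pow, hxf]
  have hc2 : c ^ 2 ^ (orderOf x).factorization 2 = 1 := by
    rw [hc, ← pow_mul, hn, mul_comm, Nat.ordProj_mul_ordCompl_eq_self, pow_orderOf_eq_one]
  set cq := qHom H c with hcq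
  have hcqeq : cq = qHom H x ^ n := by rw [hcq, hc, map_pow]
  have hcqM : cq ∈ gM α T := hcqeq ▸ Subgroup.pow_mem _ hc₀M n
  have hcM : c ∈ mGrp α T := (h.mem_gM_iff T hT).1 hcqM
  have hback : qHom H x ∈ Subgroup.zpowers cq := by
    rw [hcqeq]
    obtain ⟨i, hi⟩ := exists_pow_eq_self_of_coprime (x := qHom H x) (n := n) (by
      obtain ⟨j, -, hj⟩ := (Nat.dvd_prime_pow Nat.prime_two).1 (orderOf_dvd_of_pow_eq_one hk)
      rw [hj]
      exact ((Nat.prime_two.coprime_iff_not_dvd.2 hodd).pow_left j).symm)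
    exact ⟨i, by simpa using hi⟩
  have hcqf : qAut α cq = cq := by rw [hcq, qAut_mk, hcf]
  have hcqZ : ∀ z ∈ gZ α T, cq * z = z * cq := fun z hz => by
    rw [hcqeq]; exact ((show Commute (qHom H x) z from hc₀Z z hz).pow_left n).eq
  have hcq2 : IsPGroup 2 (Subgroup.zpowers cq) := by
    rintro ⟨g, i, rfl⟩
    refine ⟨(orderOf x).factorization 2, Subtype.ext ?_⟩
    show (cq ^ i) ^ 2 ^ (orderOf x).factorization 2 = 1
    rw [← zpow_natCast (cq ^ i), ← zpow_mul, mul_comm, zpow_mul, zpow_natCast, hcq, ← map_pow, hc2,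
      map_one, one_zpow]
  have hcmv : MovesD α T cq := by
    by_contra hno
    obtain ⟨d, hd, hne⟩ := hc₀mv
    have hex := h.exact_of_not_moves T hT hcqf hno d hd
    obtain ⟨i, hi⟩ := Subgroup.mem_zpowers_iff.1 hback
    refine hne ?_
    rw [← hi, ((show Commute cq d from hex).zpow_left i).eq, mul_inv_cancel_right, mul_inv_cancel]
    exact one_mem _
  -- `J` and the partners
  let J : Subgroup H :=
    { carrier := {z | z ∈ zGrp α T ∧ c * z = z * c}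
      one_mem' := ⟨one_mem _, by simp⟩
      mul_mem' := fun {a b} ha hb => ⟨mul_mem ha.1 hb.1, ((show Commute c a from ha.2).mul_right hb.2).eq⟩
      inv_mem' := fun {a} ha => ⟨inv_mem ha.1, (show Commute c a from ha.2).inv_right.eq⟩ }
  have hpair : ∀ K, Occ α ψ T K → ∃ K', Occ α ψ T K' ∧ Paired J K K' ∧
      ∀ y, y ∈ K' ↔ y ∈ zGrp α T ∧ c⁻¹ * y * c ∈ K := by
    intro K hK
    have hci : ∀ z ∈ zGrp α T, c⁻¹ * z * c ∈ zGrp α T := fun z hz => by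
      simpa using h.conj_mem_zGrp T hT (inv_mem hcM) hz
    let K' : Subgroup H :=
      { carrier := {y | y ∈ zGrp α T ∧ c⁻¹ * y * c ∈ K}
        one_mem' := ⟨one_mem _, by simp⟩
        mul_mem' := fun {a b} ha hb => ⟨mul_mem ha.1 hb.1, by
          have := mul_mem ha.2 hb.2; simpa [mul_assoc] using this⟩
        inv_mem' := fun {a} ha => ⟨inv_mem ha.1, by
          have := inv_mem ha.2; simpa [mul_assoc] using this⟩ }
    obtain ⟨v, hv, hv1⟩ := hK.ne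
    refine ⟨K', ⟨fun y hy => hy.1, ?_, ψ c v, fun z hz => ?_,
      fun e1 => hv1 ((ψ c).injective (e1.trans (map_one _).symm))⟩, ⟨?_, ?_, ?_⟩, fun y => Iff.rfl⟩
    · rw [Subgroup.relIndex, Subgroup.index_eq_two_iff]
      obtain ⟨⟨z, hz⟩, hzK⟩ := Subgroup.index_eq_two_iff.1 hK.two
      refine ⟨⟨c * z * c⁻¹, h.conj_mem_zGrp T hT hcM hz⟩, fun b => ?_⟩
      have h1 := hzK ⟨c⁻¹ * b * c, hci b b.2⟩
      have e1 : ∀ y : H, y ∈ zGrp α T → (y ∈ K' ↔ c⁻¹ * y * c ∈ K) := fun y hy =>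
        ⟨fun h2 => h2.2, fun h2 => ⟨hy, h2⟩⟩
      rw [Subgroup.mem_subgroupOf, Subgroup.mem_subgroupOf, e1 _ b.2,
        e1 _ (b * ⟨c * z * c⁻¹, h.conj_mem_zGrp T hT hcM hz⟩ : zGrp α T).2, Subgroup.coe_mul,
        show c⁻¹ * ((b : H) * (c * z * c⁻¹)) * c = c⁻¹ * b * c * z by group]
      exact h1
    · have hzc : ψ z (ψ c v) = ψ c (ψ (c⁻¹ * z * c) v) := by
        rw [← MulAut.mul_apply, ← map_mul, ← MulAut.mul_apply, ← map_mul]
        congr 2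
        group
      exact ⟨fun hy => by rw [hzc, (hv _ (hci z hz)).1 hy.2],
        fun hy => by rw [hzc, (hv _ (hci z hz)).2 (fun h2 => hy ⟨hz, h2⟩), map_inv]⟩
    · rintro y ⟨hy, hyJ, hyc⟩
      refine ⟨hyJ, ?_⟩
      rw [mul_assoc, ← hyc, inv_mul_cancel_left]
      exact hy
    · rintro y ⟨⟨-, hy⟩, -, hyc⟩
      rwa [mul_assoc, ← hyc, inv_mul_cancel_left] at hy
    · rintro y ⟨hy, hyZ, hy'⟩
      refine ⟨hyZ, ?_⟩
      have htZ : y⁻¹ * (c⁻¹ * y * c) ∈ zGrp α T := mul_mem (inv_mem hyZ) (hci y hyZ)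
      have htc : y⁻¹ * (c⁻¹ * y * c) ∈ Subgroup.center H := by
        rw [← QuotientGroup.eq_one_iff]
        show qHom H (y⁻¹ * (c⁻¹ * y * c)) = 1
        have h1 := hcqZ _ (mem_map_of_mem (qHom H) hyZ)
        simp only [map_mul, map_inv]
        rw [← hcq, mul_assoc cq⁻¹ (qHom H y) cq, ← h1, inv_mul_cancel_left, inv_mul_cancel]
      have h1 := inv_mul_eq_one.1 (h.not_mem_occ T hT hneg hK htZ htc (mul_mem (inv_mem hy) hy'))
      calc c * y = c * (c⁻¹ * y * c) := by rw [← h1]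
        _ = y * c := by group
  by_cases hh : ∃ K K', Occ α ψ T K ∧ Occ α ψ T K' ∧ Paired J K K' ∧ rad α T K ≠ rad α T K'
  · obtain ⟨K₁, K₂, hK₁, hK₂, hP, hne⟩ := hh
    exact h.card_le_of_pairs T hT hm (fun K hK => by
      obtain ⟨K', hK', hP', -⟩ := hpair K hK; exact ⟨K', hK', hP'⟩) hK₁ hK₂ hP hne
  exfalso
  push Not at hh
  -- `c` is trivial modulo every radical
  have htriv : ∀ K, Occ α ψ T K → ∀ d ∈ dGrp α T, c * d * c⁻¹ * d⁻¹ ∈ rad α T K := by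
    intro K hK
    obtain ⟨R, hmR, hR, hR', hsR, hiR⟩ := h.radFacts T hT hm hK
    obtain ⟨K', hK', hP, hiff⟩ := hpair K hK
    have hrad := hh K K' hK hK' hP
    have hcD : ∀ d ∈ dGrp α T, c * d * c⁻¹ ∈ dGrp α T := fun d hd =>
      (Subgroup.mem_normalizer_iff.1 hcM d).1 hd
    have hRc : ∀ d ∈ R, c * d * c⁻¹ ∈ R := fun d hd => by
      obtain ⟨hdD, hdK⟩ := (hmR d).1 hd
      rw [hmR, hrad]
      refine ⟨hcD d hdD, fun y hy => (hiff _).2 ⟨h.commutator_mem_zGrp T hT (hcD d hdD) hy, ?_⟩⟩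
      have h1 := hdK (c⁻¹ * y * c) (by simpa using (Subgroup.mem_normalizer_iff.1 (inv_mem hcM) y).1 hy)
      convert h1 using 1
      simp only [commutatorElement_def]
      group
    set X₀ := R.map (qHom H) with hX₀
    have hX₀D : X₀ ≤ gD α T := map_mono hR'
    have hX₀Z : gZ α T ≤ X₀ := map_mono hR
    have hRcq : ∀ s ∈ Subgroup.zpowers cq, ∀ y ∈ X₀, s * y * s⁻¹ ∈ X₀ := by
      intro s hs
      have h1 : cq ∈ Subgroup.normalizer (X₀ : Set (H ⧸ Subgroup.center H)) :=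
        Lib.FS.mem_normalizer_of_conj_mem (by
          rintro _ ⟨w, hw, rfl⟩
          rw [hcq, ← map_inv, ← map_mul, ← map_mul]
          exact mem_map_of_mem _ (hRc w hw))
      exact fun y hy => (Subgroup.mem_normalizer_iff.1 (Subgroup.zpowers_le.2 h1 hs) y).1 hy
    let X : Subgroup (H ⧸ Subgroup.center H) :=
      { carrier := {y | y ∈ gD α T ∧ cq * y * cq⁻¹ * y⁻¹ ∈ X₀}
        one_mem' := ⟨one_mem _, by simp⟩
        mul_mem' := fun {a b} ha hb => ⟨mul_mem ha.1 hb.1, by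
          rw [show cq * (a * b) * cq⁻¹ * (a * b)⁻¹ =
            (cq * a * cq⁻¹ * a⁻¹) * (a * (cq * b * cq⁻¹ * b⁻¹) * a⁻¹) by group]
          exact mul_mem ha.2 (h.gD_conj_mem T hT hX₀Z hX₀D ha.1 hb.2)⟩
        inv_mem' := fun {a} ha => ⟨inv_mem ha.1, by
          rw [show cq * a⁻¹ * cq⁻¹ * a⁻¹⁻¹ = a⁻¹ * (cq * a * cq⁻¹ * a⁻¹)⁻¹ * a⁻¹⁻¹ by group]
          exact h.gD_conj_mem T hT hX₀Z hX₀D (inv_mem ha.1) (inv_mem ha.2)⟩ }
    have hX₀ne : X₀ ≠ gD α T := fun e1 => by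
      have h1 : dGrp α T ≤ R := fun d hd => h.mem_of_map T hT hR hR' hd (e1.ge (mem_map_of_mem _ hd))
      rw [Subgroup.relIndex_eq_one.2 h1] at hiR
      exact absurd hiR.symm (Nat.one_lt_pow (by
        have := h.r_ne_two T hT
        rintro h0
        rw [show m = 0 by omega] at hm
        exact this (by simpa using hm)) (by norm_num)).ne'
    obtain ⟨y, hy, hyX, hys⟩ := h.exists_fixed_class T hT hX₀Z hX₀D le_rfl hX₀ne hcq2 hRcq
      (fun s hs d hd => h.gD_conj T hT (Subgroup.zpowers_le.2 hcqM hs) hd)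
    have hXeq : X = gD α T := by
      refine h.eq_gD_of_rad T hT hm hR hR' hsR hiR (fun w hw => ⟨hX₀D hw, mul_mem
        (hRcq _ (Subgroup.mem_zpowers cq) w hw) (inv_mem hw)⟩) (fun w hw => hw.1) ?_ ?_
      · intro w hw
        refine ⟨h.gD_stb T hT w hw.1, ?_⟩
        rw [show cq * qAut α w * cq⁻¹ * (qAut α w)⁻¹ = qAut α (cq * w * cq⁻¹ * w⁻¹) by
          rw [map_mul, map_mul, map_mul, map_inv, map_inv, hcqf]]
        obtain ⟨u, hu, hue⟩ := hw.2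
        rw [← hue, qAut_mk]
        exact mem_map_of_mem _ (hsR u hu)
      · exact fun e1 => hyX (e1.ge ⟨hy, hys _ (Subgroup.mem_zpowers cq)⟩)
    intro d hd
    have h1 : qHom H d ∈ X := hXeq ▸ mem_map_of_mem _ hd
    refine (hmR _).1 (h.mem_of_map T hT hR hR' (mul_mem (hcD d hd) (inv_mem hd)) ?_)
    rw [map_mul, map_mul, map_mul, map_inv, map_inv]
    exact h1.2
  obtain ⟨_, ⟨d, hd, rfl⟩, hne⟩ := hcmv
  refine hne ?_
  rw [hcq, ← map_inv, ← map_inv, ← map_mul, ← map_mul, ← map_mul]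
  exact mem_map_of_mem _ (h.mem_zGrp_of_rad T hT
    (mul_mem ((Subgroup.mem_normalizer_iff.1 hcM d).1 hd) (inv_mem hd)) fun K hK => htriv K hK d hd)

/-- F2. -/
theorem Min.card_le_of_balanced (hneg : CenNeg ψ) {m : ℕ} (hm : r = 2 ^ m + 1)
    (hbal : ∀ b ∈ gZ α T, b ≠ 1 → ∃ v, v * b = b * v ∧ LiftNC b v) :
    Nat.card (gD α T) ≤ Nat.card (gZ α T) * 2 ^ (4 * m) := by
  set Z := zGrp α T with hZdef
  by_cases hh : ∀ K K', Occ α ψ T K → Occ α ψ T K' → rad α T K = rad α T K'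
  · -- one radical
    obtain ⟨a, ha, b, hb, hab⟩ := h.exists_not_commute T hT
    obtain ⟨K, hK, -⟩ := h.exists_occ T hT (h.commutator_mem_zGrp T hT ha hb) hab
    obtain ⟨R, hmR, hR, hR', hsR, hiR⟩ := h.radFacts T hT hm hK
    refine h.gD_card_le T hT ?_
    have e1 : R = Z := le_antisymm (fun d hd => h.mem_zGrp_of_rad T hT (hR' hd) fun K' hK' =>
      hh K K' hK hK' ▸ (hmR d).1 hd) hR
    show Z.relIndex (dGrp α T) ≤ _
    rw [← e1, hiR]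
    exact Nat.pow_le_pow_right (by norm_num) (by omega)
  push Not at hh
  obtain ⟨K₁, K₂, hK₁, hK₂, hne⟩ := hh
  letI : CommGroup Z :=
    { (inferInstance : Group Z) with
      mul_comm := fun a b => Subtype.ext (h.zGrp_le_centralizer T hT a.2 b.2.1) }
  haveI : Nontrivial V := by
    obtain ⟨v, hv⟩ := h.exists_ne_one_V
    exact nontrivial_of_ne v 1 hv
  -- a lift of a balancing element
  have hlift : ∀ x ∈ Z, x ∉ Subgroup.center H → ∃ v t : H, t ∈ Z ∧ t ∈ Subgroup.center H ∧ t ≠ 1 ∧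
      v * x * v⁻¹ = x * t := by
    intro x hx hxc
    obtain ⟨vq, hvc, x', v', hx', rfl, hnc⟩ := hbal (qHom H x) (mem_map_of_mem _ hx)
      (fun e1 => hxc ((QuotientGroup.eq_one_iff x).1 e1))
    have hvM : v' ∈ mGrp α T := (h.mem_gM_iff T hT).1
      (h.gCent_le T hT (mem_map_of_mem _ hx) (fun e1 => hxc ((QuotientGroup.eq_one_iff x).1 e1)) hvc)
    refine ⟨v', x⁻¹ * (v' * x * v'⁻¹), mul_mem (inv_mem hx) (h.conj_mem_zGrp T hT hvM hx),
      (QuotientGroup.eq_one_iff _).1 ?_, fun e1 => ?_, by group⟩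
    · show qHom H (x⁻¹ * (v' * x * v'⁻¹)) = 1
      rw [map_mul, map_inv, map_mul, map_mul, map_inv, hvc, mul_inv_cancel_right, inv_mul_cancel]
    · refine (liftNC_iff (x' := x) (v' := v')).1 (hx' ▸ ⟨x', v', rfl, rfl, hnc⟩)
        (commutatorElement_eq_one_iff_mul_comm.2 ?_)
      exact (mul_inv_eq_iff_eq_mul.1 (inv_mul_eq_one.1 e1).symm).symm
  -- the central involution
  obtain ⟨z₀, hz₀, hz₀c, hz₀1⟩ : ∃ z₀ ∈ Z, z₀ ∈ Subgroup.center H ∧ z₀ ≠ 1 := by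
    by_cases hcen : ∀ x ∈ Z, x ∈ Subgroup.center H
    · exfalso
      have key : ∀ K, Occ α ψ T K → K = ⊥ := fun K hK => (Subgroup.eq_bot_iff_forall K).2 fun y hy =>
        h.not_mem_occ T hT hneg hK (hK.le hy) (hcen y (hK.le hy)) hy
      exact hne (by rw [key K₁ hK₁, key K₂ hK₂])
    · push Not at hcen
      obtain ⟨x, hx, hxc⟩ := hcen
      obtain ⟨-, t, ht, htc, ht1, -⟩ := hlift x hx hxc
      exact ⟨t, ht, htc, ht1⟩
  set ε : Z := ⟨z₀, hz₀⟩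
  let θ : Z →* MulAut V := ψ.comp Z.subtype
  have hε : ∀ v, θ ε v = v⁻¹ := hneg z₀ hz₀c (h.zGrp_sq T hT hz₀) hz₀1
  have hA : ∀ x : Z, x * x = 1 := fun x => Subtype.ext (h.zGrp_sq T hT x.2)
  have hbalV : ∀ x : Z, x ≠ 1 → x ≠ ε → Nat.card {v : V // θ x v = v} ^ 2 = Nat.card V := by
    intro x hx1 hxε
    have hxc : (x : H) ∉ Subgroup.center H := fun hc => hxε (Subtype.ext
      (h.eq_of_cenNeg hneg hc hz₀c (h.zGrp_sq T hT x.2) (h.zGrp_sq T hT hz₀)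
        (fun e1 => hx1 (Subtype.ext e1)) hz₀1))
    obtain ⟨v, t, ht, htc, ht1, hvx⟩ := hlift x x.2 hxc
    have hneg' : ∀ u, ψ (v * x * v⁻¹) u = (ψ x u)⁻¹ := fun u => by
      rw [hvx, map_mul, MulAut.mul_apply, hneg t htc (h.zGrp_sq T hT ht) ht1, map_inv]
    have hiff : ∀ u : V, ψ x u = u ↔ ψ x (ψ v u) = (ψ v u)⁻¹ := fun u => by
      have h1 := hneg' (ψ v u)
      rw [map_mul, map_mul, map_inv, MulAut.mul_apply, MulAut.mul_apply, MulAut.inv_apply_self] at h1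
      constructor
      · intro hu
        rw [hu, eq_inv_iff_mul_eq_one] at h1
        exact eq_inv_of_mul_eq_one_right h1
      · intro hu
        rw [hu, inv_inv] at h1
        exact (ψ v).injective h1
    have e1 : Nat.card (posPts θ x) = Nat.card (negPts θ x) :=
      Nat.card_congr
        { toFun := fun u => ⟨ψ v u, (hiff u).1 u.2⟩
          invFun := fun u => ⟨(ψ v)⁻¹ u, (hiff _).2 (by rw [MulAut.apply_inv_self]; exact u.2)⟩
          left_inv := fun u => Subtype.ext (by simp)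
          right_inv := fun u => Subtype.ext (by simp) }
    have e2 := card_split h.hp h.hp2 h.hexp hA θ x ⊤ fun v _ => mem_top _
    rw [Subgroup.card_top, top_inf_eq, top_inf_eq, ← e1, ← pow_two] at e2
    exact e2.symm
  -- every pattern without `z₀` occurs
  have hocc : ∀ K : Subgroup H, K ≤ Z → K.relIndex Z = 2 → z₀ ∉ K → Occ α ψ T K := by
    intro K hK hK2 hzK
    obtain ⟨v, hv1, hvK, hvnK⟩ := exists_sign_vector h.hp h.hp2 h.hexp hA θ ε hε hbalV (K.subgroupOf Z)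
      hK2 hzK
    exact ⟨hK, hK2, v, fun z hz => ⟨fun hzk => hvK ⟨z, hz⟩ hzk, fun hzk => hvnK ⟨z, hz⟩ hzk⟩, hv1⟩
  have hiffmul : ∀ {K : Subgroup H}, K ≤ Z → K.relIndex Z = 2 → ∀ {a b : H}, a ∈ Z → b ∈ Z →
      (a * b ∈ K ↔ (a ∈ K ↔ b ∈ K)) := fun {K} _ hK2 {a b} ha hb =>
    Subgroup.mul_mem_iff_of_index_two (H := K.subgroupOf Z) hK2 (a := ⟨a, ha⟩) (b := ⟨b, hb⟩)
  let J : Subgroup H :=
    { carrier := {z | z ∈ Z ∧ (z ∈ K₁ ↔ z ∈ K₂)}
      one_mem' := ⟨one_mem _, by simp [one_mem]⟩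
      mul_mem' := fun {a b} ha hb => ⟨mul_mem ha.1 hb.1, by
        rw [hiffmul hK₁.le hK₁.two ha.1 hb.1, hiffmul hK₂.le hK₂.two ha.1 hb.1, ha.2, hb.2]⟩
      inv_mem' := fun {a} ha => ⟨inv_mem ha.1, by rw [inv_mem_iff, inv_mem_iff]; exact ha.2⟩ }
  have hz₀n : ∀ {K : Subgroup H}, Occ α ψ T K → z₀ ∉ K := fun hK hz =>
    hz₀1 (h.not_mem_occ T hT hneg hK hz₀ hz₀c hz)
  have hz₀J : z₀ ∈ J := ⟨hz₀, iff_of_false (hz₀n hK₁) (hz₀n hK₂)⟩
  have hJmul : ∀ {a b : H}, a ∈ Z → b ∈ Z → (a * b ∈ J ↔ (a ∈ J ↔ b ∈ J)) := by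
    intro a b ha hb
    show (a * b ∈ Z ∧ _) ↔ ((a ∈ Z ∧ _) ↔ (b ∈ Z ∧ _))
    rw [hiffmul hK₁.le hK₁.two ha hb, hiffmul hK₂.le hK₂.two ha hb]
    simp only [ha, hb, mul_mem ha hb, true_and]
    tauto
  have hpair : ∀ K, Occ α ψ T K → ∃ K', Occ α ψ T K' ∧ Paired J K K' ∧
      ∀ y, y ∈ K' ↔ y ∈ Z ∧ (y ∈ K ↔ y ∈ J) := by
    intro K hK
    let K' : Subgroup H :=
      { carrier := {z | z ∈ Z ∧ (z ∈ K ↔ z ∈ J)}
        one_mem' := ⟨one_mem _, by simp [one_mem]⟩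
        mul_mem' := fun {a b} ha hb => ⟨mul_mem ha.1 hb.1, by
          rw [hiffmul hK.le hK.two ha.1 hb.1, hJmul ha.1 hb.1, ha.2, hb.2]⟩
        inv_mem' := fun {a} ha => ⟨inv_mem ha.1, by rw [inv_mem_iff, inv_mem_iff]; exact ha.2⟩ }
    refine ⟨K', hocc K' (fun y hy => hy.1) ?_ (fun hy => hz₀n hK (hy.2.2 hz₀J)), ⟨?_, ?_, ?_⟩,
      fun y => Iff.rfl⟩
    · rw [Subgroup.relIndex, Subgroup.index_eq_two_iff]
      refine ⟨ε, fun b => ?_⟩
      rw [Subgroup.mem_subgroupOf, Subgroup.mem_subgroupOf, Subgroup.coe_mul]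
      show Xor ((b : H) * z₀ ∈ Z ∧ ((b : H) * z₀ ∈ K ↔ (b : H) * z₀ ∈ J))
        ((b : H) ∈ Z ∧ ((b : H) ∈ K ↔ (b : H) ∈ J))
      rw [hiffmul hK.le hK.two b.2 hz₀, hJmul b.2 hz₀]
      simp only [hz₀n hK, hz₀J, b.2, mul_mem b.2 hz₀, iff_true, iff_false, true_and, Xor]
      tauto
    · rintro y ⟨hy, hyJ⟩
      exact ⟨hyJ.1, iff_of_true hy hyJ⟩
    · rintro y ⟨⟨-, hiff⟩, hyJ⟩
      exact hiff.2 hyJ
    · rintro y ⟨hy, -, hiff⟩
      exact hiff.1 hy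
  obtain ⟨K', hK', hP, hiff⟩ := hpair K₁ hK₁
  refine h.card_le_of_pairs T hT hm (fun K hK => by
    obtain ⟨K', hK', hP', -⟩ := hpair K hK; exact ⟨K', hK', hP'⟩) hK₁ hK' hP ?_
  have e1 : K' = K₂ := by
    ext y
    rw [hiff]
    constructor
    · rintro ⟨hy, hi⟩
      by_cases h1 : y ∈ K₁
      · exact (hi.1 h1).2.1 h1
      · by_contra h2
        exact h1 (hi.2 ⟨hy, iff_of_false h1 h2⟩)
    · intro h2
      exact ⟨hK₂.le h2, fun h1 => ⟨hK₂.le h2, iff_of_true h1 h2⟩, fun h1 => h1.2.2 h2⟩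
  rwa [e1]

end Cfsg.Agent.Lib.HHS57
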