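import Cfsg.Agent.Lib.HHS57.Bad
import Cfsg.Agent.Lib.HHS57.Points
import Mathlib.GroupTheory.Index

/-!
# An element of `Z̄` fixing one point (helper42, node G)

If some `b ∈ Z̄` fixes only the base point, then `C ⊄ M̄`, the fixed part of `M̄` is transitive on the
involutions of `Z̄`, `|Z̄| ≥ 4` and every involution of `Z̄` fixes only the base point.
-/

set_option autoImplicit false
set_option linter.style.haveILetI false
set_option linter.unusedSectionVars false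

namespace Cfsg.Agent.Lib.HHS57

open Cfsg Cfsg.Agent.Lib
open Cfsg.Agent.Lib.FpfAut (exists_invariant_sylow)
open Subgroup MulAction

universe u

/-- `b` fixes only the base point. -/
def OneFix {H : Type u} [Group H] (α : MulAut H) (T : Sylow 2 H) (b : H ⧸ Subgroup.center H) : Prop :=
  ∀ g, g * b * g⁻¹ ∈ gM α T → g ∈ gM α T

/-- An involution `b` of the abelian normal `Z ≤ M` fixing one point only; centralisers of elements of
`Z` lie in `M`. -/
structure OneB {G : Type u} [Group G] (M Z : Subgroup G) (b : G) : Prop where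
  le : Z ≤ M
  conj : ∀ m ∈ M, ∀ z ∈ Z, m * z * m⁻¹ ∈ Z
  mem : b ∈ Z
  ne : b ≠ 1
  sq : b * b = 1
  cen : ∀ z ∈ Z, z ≠ 1 → ∀ g, g * z = z * g → g ∈ M
  one : ∀ g, g * b * g⁻¹ ∈ M → g ∈ M

/-- `x` is conjugate to `b` at the point `w`. -/
def AtPt {G : Type u} [Group G] (M : Subgroup G) (b : G) (w : G ⧸ M) (x : G) : Prop :=
  ∃ g : G, (g : G ⧸ M) = w ∧ g * b * g⁻¹ = x

/-- An odd product: a conjugate of `x` conjugates `x` to `y`. -/
theorem exists_swap {G : Type u} [Group G] {x y : G} (hx : x * x = 1) (hy : y * y = 1)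
    (hodd : Odd (orderOf (x * y))) :
    ∃ k : G, (k * x * k⁻¹) * x * (k * x * k⁻¹) = y := by
  obtain ⟨i, hi⟩ := hodd
  set c := x * y with hc
  have hxi : x⁻¹ = x := inv_eq_of_mul_eq_one_right hx
  have hyi : y⁻¹ = y := inv_eq_of_mul_eq_one_right hy
  have hcn : c ^ (2 * i + 1) = 1 := by rw [← hi, pow_orderOf_eq_one]
  refine ⟨c ^ (i * (i + 1)), ?_⟩
  have e1 : c ^ (i * (i + 1)) * x * (c ^ (i * (i + 1)))⁻¹ = c ^ i * x := by
    rw [mul_assoc, semiconj_pow hx hy, ← hc, ← mul_assoc, ← pow_add,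
      show i * (i + 1) + i * (i + 1) = (2 * i + 1) * i + i by ring, pow_add, pow_mul, hcn, one_pow, one_mul]
  have e2 : c ^ (2 * i) = c⁻¹ := eq_inv_of_mul_eq_one_left (by rw [← pow_succ, hcn])
  rw [e1]
  calc c ^ i * x * x * (c ^ i * x) = c ^ i * (x * x) * c ^ i * x := by group
    _ = c ^ (2 * i) * x := by rw [hx, mul_one, ← pow_add, two_mul]
    _ = y := by rw [e2, hc, mul_inv_rev, hxi, hyi, mul_assoc, hx, mul_one]

namespace OneB

variable {G : Type u} [Group G] {M Z : Subgroup G} {b : G} (hB : OneB M Z b)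

include hB

theorem mem_Z {g : G} (hg : g * b * g⁻¹ ∈ M) : g * b * g⁻¹ ∈ Z := hB.conj g (hB.one g hg) b hB.mem

theorem fix {w : G ⧸ M} {x : G} (hx : AtPt M b w x) : x • w = w := by
  obtain ⟨g, rfl, rfl⟩ := hx
  rw [mk_smul_eq_iff, show g⁻¹ * (g * b * g⁻¹) * g = b by group]
  exact hB.le hB.mem

theorem eq_of_fix {w w' : G ⧸ M} {x : G} (hx : AtPt M b w x) (hf : x • w' = w') : w' = w := by
  obtain ⟨g, rfl, rfl⟩ := hx
  obtain ⟨k, rfl⟩ := QuotientGroup.mk_surjective w'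
  rw [mk_smul_eq_iff] at hf
  refine QuotientGroup.eq.2 (hB.one (k⁻¹ * g) ?_)
  convert hf using 1
  group

theorem at_conj {w : G ⧸ M} {x : G} (hx : AtPt M b w x) (k : G) : AtPt M b (k • w) (k * x * k⁻¹) := by
  obtain ⟨g, rfl, rfl⟩ := hx
  exact ⟨k * g, rfl, by group⟩

theorem at_sq {w : G ⧸ M} {x : G} (hx : AtPt M b w x) : x * x = 1 := by
  obtain ⟨g, rfl, rfl⟩ := hx
  rw [show g * b * g⁻¹ * (g * b * g⁻¹) = g * (b * b) * g⁻¹ by group, hB.sq, mul_one, mul_inv_cancel]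

theorem at_self (g : G) : AtPt M b (g : G ⧸ M) (g * b * g⁻¹) := ⟨g, rfl, rfl⟩

theorem card_at (w : G ⧸ M) :
    Nat.card {x // AtPt M b w x} = Nat.card {x // AtPt M b ((1 : G) : G ⧸ M) x} := by
  obtain ⟨g, rfl⟩ := QuotientGroup.mk_surjective w
  refine Nat.card_congr
    { toFun := fun x => ⟨g⁻¹ * x.1 * g⁻¹⁻¹, ?_⟩
      invFun := fun x => ⟨g * x.1 * g⁻¹, ?_⟩
      left_inv := fun x => Subtype.ext (by simp [mul_assoc])
      right_inv := fun x => Subtype.ext (by simp [mul_assoc]) }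
  · have := hB.at_conj x.2 g⁻¹
    rwa [MulAction.Quotient.smul_mk, smul_eq_mul, inv_mul_cancel] at this
  · have := hB.at_conj x.2 g
    rwa [MulAction.Quotient.smul_mk, smul_eq_mul, mul_one] at this

/-- If `j` centralises `y` and `j y` is conjugate to `b`, everything centralising `j` fixes the point of `y`. -/
theorem fix_of_product {w : G ⧸ M} {y j : G} (hy : AtPt M b w y) (hj : j ≠ 1) (hjy : j * y = y * j)
    {k : G} (hk : j * y = k * b * k⁻¹) {u : G} (hu : u * j = j * u) : u • w = w := by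
  obtain ⟨g, rfl, rfl⟩ := hy
  have hjc : g⁻¹ * j * g * b = b * (g⁻¹ * j * g) := by
    calc g⁻¹ * j * g * b = g⁻¹ * (j * (g * b * g⁻¹)) * g := by group
      _ = b * (g⁻¹ * j * g) := by rw [hjy]; group
  have hjM : g⁻¹ * j * g ∈ M := hB.cen b hB.mem hB.ne _ hjc
  have hprod : g⁻¹ * j * g * b = (g⁻¹ * k) * b * (g⁻¹ * k)⁻¹ := by
    calc g⁻¹ * j * g * b = g⁻¹ * (j * (g * b * g⁻¹)) * g := by group
      _ = (g⁻¹ * k) * b * (g⁻¹ * k)⁻¹ := by rw [hk]; group
  have hjZ : g⁻¹ * j * g ∈ Z := by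
    have h1 := hB.mem_Z (g := g⁻¹ * k) (hprod ▸ M.mul_mem hjM (hB.le hB.mem))
    rw [← hprod] at h1
    have h2 := Z.mul_mem h1 hB.mem
    rwa [mul_assoc, hB.sq, mul_one] at h2
  rw [mk_smul_eq_iff]
  refine hB.cen _ hjZ (fun e => hj ?_) _ ?_
  · calc j = g * (g⁻¹ * j * g) * g⁻¹ := by group
      _ = 1 := by rw [e]; group
  · calc g⁻¹ * u * g * (g⁻¹ * j * g) = g⁻¹ * (u * j) * g := by group
      _ = g⁻¹ * j * g * (g⁻¹ * u * g) := by rw [hu]; group

variable [Finite G]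

/-- Conjugates at different points have odd product. -/
theorem odd {w w' : G ⧸ M} {x y : G} (hx : AtPt M b w x) (hy : AtPt M b w' y) (hne : w ≠ w') :
    Odd (orderOf (x * y)) := by
  by_contra hodd
  obtain ⟨j, hj, -, hjx, hjy, g, hg | hg⟩ :=
    exists_central (hB.at_sq hx) (hB.at_sq hy) (Nat.not_odd_iff_even.1 hodd)
  all_goals obtain ⟨g₁, -, hx'⟩ := id hx
  · exact hne (hB.eq_of_fix hy (hB.fix_of_product hx hj hjx (k := g * g₁)
      (by rw [hg, ← hx']; group) hjy.symm))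
  · exact hne.symm (hB.eq_of_fix hx (hB.fix_of_product hy hj hjy (k := g * g₁)
      (by rw [hg, ← hx']; group) hjx.symm))

/-- If all products at different points are `p`-elements and none of them is a nontrivial element of
`M`, `b` is isolated in `M`. -/
theorem isolated {p : ℕ}
    (hMp : ∀ w w' : G ⧸ M, ∀ x y : G, AtPt M b w x → AtPt M b w' y → w ≠ w' → x * y ∈ M →
      ∀ i, orderOf (x * y) = p ^ i → i = 0)
    (hprod : ∀ w w' : G ⧸ M, ∀ x y : G, AtPt M b w x → AtPt M b w' y → w ≠ w' →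
      ∃ k, orderOf (x * y) = p ^ k)
    (hcore : M.normalCore = ⊥) {g : G} (hg : g * b * g⁻¹ ∈ M) : g * b * g⁻¹ = b := by
  set o : G ⧸ M := ((1 : G) : G ⧸ M) with ho
  -- swappers of `o` and `u` exist and lie at one point
  have hsw : ∀ u : G ⧸ M, u ≠ o → ∀ y, AtPt M b u y → ∀ x, AtPt M b o x →
      ∃ p' v, AtPt M b p' v ∧ v * x * v = y ∧ v • o = u ∧ v • u = o := by
    intro u hu y hy x hx
    obtain ⟨k, hk⟩ := exists_swap (hB.at_sq hx) (hB.at_sq hy) (hB.odd hx hy hu.symm)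
    have hv := hB.at_conj hx k
    set v := k * x * k⁻¹
    have hvv := hB.at_sq hv
    have hvu : v • o = u := by
      refine hB.eq_of_fix hy ?_
      rw [← hk, mul_smul, mul_smul, ← mul_smul v v, hvv, one_smul, hB.fix hx]
    exact ⟨k • o, v, hv, hk, hvu, by rw [← hvu, ← mul_smul, hvv, one_smul]⟩
  have hex : ∀ u : G ⧸ M, u ≠ o → ∃ w : G ⧸ M, w ≠ o ∧ ∀ v, AtPt M b w v → v • o = u ∧ v • u = o := by
    intro u hu
    obtain ⟨k, rfl⟩ := QuotientGroup.mk_surjective u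
    have hy := hB.at_self k
    choose P V hV hxy hou huo using fun x : {x // AtPt M b o x} => hsw _ hu _ hy x.1 x.2
    let x₀ : {x // AtPt M b o x} := ⟨_, hB.at_self 1⟩
    have hsame : ∀ x, P x = P x₀ := fun x => by
      by_contra hne
      obtain ⟨i, hi⟩ := hprod _ _ _ _ (hV x) (hV x₀) hne
      have hM : V x * V x₀ ∈ M := (fix_one_iff _).1 (by rw [mul_smul, hou x₀, huo x])
      have h1 : i = 0 := hMp _ _ _ _ (hV x) (hV x₀) hne hM i hi
      rw [h1, pow_zero, orderOf_eq_one_iff] at hi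
      have e1 : V x = V x₀ := by
        rw [eq_inv_of_mul_eq_one_left hi, inv_eq_of_mul_eq_one_right (hB.at_sq (hV x₀))]
      exact hne (hB.eq_of_fix (hV x₀) (e1 ▸ hB.fix (hV x)))
    refine ⟨P x₀, fun e => hu ?_, fun v hv => ?_⟩
    · have h1 := hB.fix (hV x₀)
      rw [e] at h1
      exact (hou x₀).symm.trans h1
    · let F : {x // AtPt M b o x} → {x // AtPt M b (P x₀) x} := fun x => ⟨V x, hsame x ▸ hV x⟩
      have hinj : Function.Injective F := fun x x' e => Subtype.ext (by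
        have e1 : V x = V x' := congrArg Subtype.val e
        have e2 := (hxy x).trans (hxy x').symm
        rw [e1] at e2
        exact mul_left_cancel (mul_right_cancel e2))
      obtain ⟨x, hx⟩ := (hinj.bijective_of_nat_card_le (hB.card_at _).le).2 ⟨v, hv⟩
      have e1 : V x = v := congrArg Subtype.val hx
      exact e1 ▸ ⟨hou x, huo x⟩
  choose φ hφ1 hφ2 using hex
  let Φ : {u : G ⧸ M // u ≠ o} → {u : G ⧸ M // u ≠ o} := fun u => ⟨φ u.1 u.2, hφ1 u.1 u.2⟩
  have hΦ : Function.Injective Φ := fun u u' e => by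
    obtain ⟨k, hk⟩ := QuotientGroup.mk_surjective (φ u.1 u.2)
    have hv : AtPt M b (φ u.1 u.2) (k * b * k⁻¹) := ⟨k, hk, rfl⟩
    have e1 : φ u.1 u.2 = φ u'.1 u'.2 := congrArg Subtype.val e
    exact Subtype.ext ((hφ2 _ u.2 _ hv).1.symm.trans (hφ2 _ u'.2 _ (e1 ▸ hv)).1)
  have hsurj := Finite.injective_iff_surjective.1 hΦ
  -- all conjugates at one point act alike at every point
  have hact : ∀ w, w ≠ o → ∀ v v', AtPt M b w v → AtPt M b w v' → v • o = v' • o := by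
    intro w hw v v' hv hv'
    obtain ⟨⟨u, hu⟩, e⟩ := hsurj ⟨w, hw⟩
    have e1 : φ u hu = w := congrArg Subtype.val e
    rw [(hφ2 u hu v (e1 ▸ hv)).1, (hφ2 u hu v' (e1 ▸ hv')).1]
  have hgM := hB.one g hg
  have hxo : AtPt M b o (g * b * g⁻¹) :=
    ⟨g, (QuotientGroup.eq.2 (by simpa using hgM) : (g : G ⧸ M) = o), rfl⟩
  have hbo : AtPt M b o b := ⟨1, rfl, by group⟩
  have hall : ∀ v : G ⧸ M, (g * b * g⁻¹) • v = b • v := by
    intro v
    by_cases hv : v = o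
    · rw [hv, hB.fix hxo, hB.fix hbo]
    obtain ⟨k, rfl⟩ := QuotientGroup.mk_surjective v
    have hne : k⁻¹ • o ≠ o := fun e => hv (by
      conv_rhs => rw [← one_smul G o, ← mul_inv_cancel k, mul_smul, e]
      rw [ho, MulAction.Quotient.smul_mk, smul_eq_mul, mul_one])
    have e := hact _ hne _ _ (hB.at_conj hxo k⁻¹) (hB.at_conj hbo k⁻¹)
    have hk : (k⁻¹)⁻¹ • o = (k : G ⧸ M) := by
      rw [ho, inv_inv, MulAction.Quotient.smul_mk, smul_eq_mul, mul_one]
    have hk' : ∀ x : G, (k⁻¹ * x * k⁻¹⁻¹) • o = k⁻¹ • (x • (k : G ⧸ M)) := fun x => by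
      rw [mul_smul, mul_smul, hk]
    rw [hk', hk'] at e
    exact smul_left_cancel _ e
  have hmem : b⁻¹ * (g * b * g⁻¹) ∈ M.normalCore := fun h => by
    have h1 := hall ((h⁻¹ : G) : G ⧸ M)
    have h2 : (b⁻¹ * (g * b * g⁻¹)) • ((h⁻¹ : G) : G ⧸ M) = ((h⁻¹ : G) : G ⧸ M) := by
      rw [mul_smul, h1, inv_smul_smul]
    rw [mk_smul_eq_iff, inv_inv] at h2
    exact h2
  rw [hcore, Subgroup.mem_bot] at hmem
  exact (inv_mul_eq_one.1 hmem).symm

end OneB

variable {H : Type u} [Group H] [Finite H] {p r : ℕ} {α : MulAut H} {V : Type u} [CommGroup V]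
  [Finite V] {ψ : H →* MulAut V} {e : MulAut V}
  (h : Min p r α ψ e) (T : Sylow 2 H) (hT : Stb α (T : Subgroup H))

include h hT

theorem Min.oneB {b : H ⧸ Subgroup.center H} (hb : b ∈ gZ α T) (hb1 : b ≠ 1) (hF : OneFix α T b) :
    OneB (gM α T) (gZ α T) b where
  le := (h.gZ_le_gD T hT).trans (h.gD_le_gM T hT)
  conj m hm z hz := h.gZ_conj T hT hm hz
  mem := hb
  ne := hb1
  sq := h.gZ_sq T hT hb
  cen z hz hz1 g hg := h.gCent_le T hT hz hz1 hg
  one := hF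

/-- `b` is not isolated in `gM`. -/
theorem Min.not_isolated {b : H ⧸ Subgroup.center H} (hb : b ∈ gZ α T) (hb1 : b ≠ 1)
    (hiso : ∀ g, g * b * g⁻¹ ∈ gM α T → g * b * g⁻¹ = b) : False := by
  obtain ⟨P, hP⟩ := (h.gD_isPGroup T hT).exists_le_sylow
  exact h.no_isolated T hT (h.gZ_sq T hT hb) hb1 P (hP (h.gZ_le_gD T hT hb))
    fun g hg => hiso g (h.two_le_gM T hT P.isPGroup' hP hg)

/-- G1. -/
theorem Min.exists_fixed_not_mem {b : H ⧸ Subgroup.center H} (hb : b ∈ gZ α T) (hb1 : b ≠ 1)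
    (hF : OneFix α T b) : ∃ c, qAut α c = c ∧ c ∉ gM α T := by
  by_contra! hall
  haveI : Fact (Nat.Prime 2) := ⟨Nat.prime_two⟩
  have hB := h.oneB T hT hb hb1 hF
  set M := gM α T with hM
  -- invariant `2`-subgroups lie in `gM`
  have htwo : ∀ A : Subgroup (H ⧸ Subgroup.center H), IsPGroup 2 A → Stb (qAut α) A → A ≤ M := by
    intro A hA hAα a ha
    obtain ⟨c, hc, hle⟩ := h.gExists_cm_le T hT hA hAα
    obtain ⟨a₁, -, ha₁, d, hd, rfl⟩ := exists_fixed_mul_cm h.hr h.qPow h.qCo hAα ha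
    have h1 := M.mul_mem (M.mul_mem (hall c hc) (h.gD_le_gM T hT (hle d hd))) (M.inv_mem (hall c hc))
    refine M.mul_mem (hall a₁ ha₁) ?_
    simpa [mul_assoc] using h1
  -- no inverted element of odd prime order is conjugate to a fixed one
  have hkey : ∀ w w' : (H ⧸ Subgroup.center H) ⧸ M, ∀ x y, AtPt M b w x → AtPt M b w' y → w ≠ w' →
      ∀ s : ℕ, s.Prime → s ≠ 2 → s ∣ orderOf (x * y) →
      (∃ g, qAut α (g * (x * y) ^ (orderOf (x * y) / s) * g⁻¹) =
        g * (x * y) ^ (orderOf (x * y) / s) * g⁻¹) → False := by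
    intro w w' x y hx hy hne s hs hs2 hsd hgfix
    set c := (x * y) ^ (orderOf (x * y) / s) with hc
    have hco : orderOf c = s := orderOf_pow_orderOf_div (orderOf_pos _).ne' hsd
    have hxx := hB.at_sq hx
    have hinv : x * c * x = c⁻¹ := by
      have e1 := semiconj_pow hxx (hB.at_sq hy) (orderOf (x * y) / s)
      rw [← hc] at e1
      calc x * c * x = x * (c * x) := by group
        _ = x * (x * c⁻¹) := by rw [e1]
        _ = c⁻¹ := by rw [← mul_assoc, hxx, one_mul]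
    obtain ⟨g, hg⟩ := hgfix
    set c' := g * c * g⁻¹ with hc'
    set x' := g * x * g⁻¹ with hx'
    have hc'o : orderOf c' = s := by
      rw [hc', ← MulAut.conj_apply, MulEquiv.orderOf_eq, hco]
    have hinv' : x' * c' * x'⁻¹ = c'⁻¹ := by
      rw [hx', hc', show g * x * g⁻¹ * (g * c * g⁻¹) * (g * x * g⁻¹)⁻¹ = g * (x * c * x⁻¹) * g⁻¹ by group,
        inv_eq_of_mul_eq_one_right hxx, hinv]
      group
    have hCstb : Stb (qAut α) (Subgroup.zpowers c') := fun u hu => by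
      obtain ⟨i, rfl⟩ := Subgroup.mem_zpowers_iff.1 hu
      rw [map_zpow, hg]
      exact Subgroup.zpow_mem _ (Subgroup.mem_zpowers c') i
    set N := Subgroup.normalizer (Subgroup.zpowers c' : Set (H ⧸ Subgroup.center H)) with hN
    have hNα : Stb (qAut α) N := hCstb.normalizer
    have hNc : ∀ n ∈ N, ∀ u ∈ Subgroup.zpowers c', n * u * n⁻¹ ∈ Subgroup.zpowers c' :=
      fun n hn u hu => (Subgroup.mem_normalizer_iff.1 hn u).1 hu
    have hxN : x' ∈ N := by
      refine Lib.FS.mem_normalizer_of_conj_mem fun u hu => ?_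
      obtain ⟨i, rfl⟩ := Subgroup.mem_zpowers_iff.1 hu
      rw [← conj_zpow, hinv']
      exact Subgroup.zpow_mem _ (Subgroup.inv_mem _ (Subgroup.mem_zpowers c')) i
    obtain ⟨R, hR⟩ := exists_invariant_sylow h.hr (resA_pow_r h.qPow hNα) (not_dvd_sub h.qCo N) 2
    have hRM : (R : Subgroup N).map N.subtype ≤ M :=
      htwo _ (R.isPGroup'.map _) (stb_map_subtype (fun u => resA_apply hNα u) hR)
    obtain ⟨R₂, hR₂⟩ : ∃ R₂ : Sylow 2 N, Subgroup.zpowers (⟨x', hxN⟩ : N) ≤ R₂ := by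
      refine IsPGroup.exists_le_sylow ?_
      rintro ⟨u, i, rfl⟩
      refine ⟨1, Subtype.ext ?_⟩
      show (_ ^ i) ^ 2 ^ 1 = (1 : N)
      rw [pow_one, ← zpow_natCast (((⟨x', hxN⟩ : N)) ^ i), ← zpow_mul, mul_comm, zpow_mul,
        zpow_natCast, pow_two, show (⟨x', hxN⟩ : N) * ⟨x', hxN⟩ = 1 from Subtype.ext (by
          show x' * x' = 1
          rw [hx', show g * x * g⁻¹ * (g * x * g⁻¹) = g * (x * x) * g⁻¹ by group, hxx]
          group), one_zpow]
    obtain ⟨n, hn⟩ := MulAction.exists_smul_eq N R₂ R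
    set x₂ := (n : H ⧸ Subgroup.center H) * x' * (n : H ⧸ Subgroup.center H)⁻¹ with hx₂
    have hx₂M : x₂ ∈ M := hRM ⟨n * ⟨x', hxN⟩ * n⁻¹, by
      have h1 := Subgroup.smul_mem_pointwise_smul (a := MulAut.conj n) _ (R₂ : Subgroup N)
        (hR₂ (Subgroup.mem_zpowers _))
      rw [← Sylow.coe_subgroup_smul, hn] at h1
      simp only [MulAut.smul_def, MulAut.conj_apply] at h1
      exact h1, rfl⟩
    have hx₂Z : x₂ ∈ gZ α T := by
      obtain ⟨g₁, -, hxe⟩ := id hx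
      have e1 : x₂ = (n * g * g₁ : H ⧸ Subgroup.center H) * b * (n * g * g₁ : H ⧸ Subgroup.center H)⁻¹ := by
        rw [hx₂, hx', ← hxe]; group
      rw [e1] at hx₂M ⊢
      exact hB.mem_Z hx₂M
    set c₂ := (n : H ⧸ Subgroup.center H) * c' * (n : H ⧸ Subgroup.center H)⁻¹ with hc₂
    have hc₂M : c₂ ∈ M := by
      refine hall _ ?_
      obtain ⟨i, hi⟩ := Subgroup.mem_zpowers_iff.1 (hNc n n.2 c' (Subgroup.mem_zpowers c'))
      rw [hc₂, ← hi, map_zpow, hg]
    have hx₂2 : x₂⁻¹ = x₂ := inv_eq_of_mul_eq_one_right (h.gZ_sq T hT hx₂Z)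
    have hc₂inv : x₂ * c₂ * x₂⁻¹ = c₂⁻¹ := by
      rw [hx₂, hc₂, show (n : H ⧸ Subgroup.center H) * x' * (n : H ⧸ Subgroup.center H)⁻¹ *
        (n * c' * (n : H ⧸ Subgroup.center H)⁻¹) * (n * x' * (n : H ⧸ Subgroup.center H)⁻¹)⁻¹ =
        n * (x' * c' * x'⁻¹) * (n : H ⧸ Subgroup.center H)⁻¹ by group, hinv']
      group
    have hsq : c₂ * c₂ ∈ gZ α T := by
      have h1 := Subgroup.mul_mem _ (h.gZ_conj T hT hc₂M hx₂Z) hx₂Z
      have e2 : x₂ * c₂⁻¹ * x₂⁻¹ = c₂ := by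
        have := congrArg (·⁻¹) hc₂inv
        simpa [mul_inv_rev, mul_assoc] using this
      rwa [show c₂ * x₂ * c₂⁻¹ * x₂ = c₂ * (x₂ * c₂⁻¹ * x₂⁻¹) by
        conv_lhs => enter [2]; rw [← hx₂2]
        group, e2] at h1
    have h4 : c₂ ^ 4 = 1 := by
      rw [show c₂ ^ 4 = (c₂ ^ 2) ^ 2 by rw [← pow_mul], pow_two c₂, pow_two, h.gZ_sq T hT hsq]
    have hc₂o : orderOf c₂ = s := by
      rw [hc₂, ← MulAut.conj_apply, MulEquiv.orderOf_eq, hc'o]
    have h5 := orderOf_dvd_of_pow_eq_one h4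
    rw [hc₂o] at h5
    exact hs2 ((Nat.prime_dvd_prime_iff_eq hs Nat.prime_two).1 (hs.dvd_of_dvd_pow (n := 2) h5))
  -- the products are `p`-elements
  have hprod : ∀ w w' : (H ⧸ Subgroup.center H) ⧸ M, ∀ x y, AtPt M b w x → AtPt M b w' y → w ≠ w' →
      ∃ k, orderOf (x * y) = p ^ k := by
    intro w w' x y hx hy hne
    refine ⟨_, Nat.eq_prime_pow_of_unique_prime_dvd (orderOf_pos _).ne' fun {s} hs hsd => ?_⟩
    by_contra hsp
    have hs2 : s ≠ 2 := fun e => by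
      subst e
      exact (Nat.not_even_iff_odd.2 (hB.odd hx hy hne)) (even_iff_two_dvd.2 hsd)
    exact hkey w w' x y hx hy hne s hs hs2 hsd (h.gExists_fixed_conj T hT hs hs2 hsp
      (orderOf_pow_orderOf_div (orderOf_pos _).ne' hsd))
  have hMp : ∀ w w' : (H ⧸ Subgroup.center H) ⧸ M, ∀ x y, AtPt M b w x → AtPt M b w' y → w ≠ w' →
      x * y ∈ M → ∀ i, orderOf (x * y) = p ^ i → i = 0 := by
    intro w w' x y hx hy hne hxy i hi
    by_contra h0
    have hsd : p ∣ orderOf (x * y) := hi ▸ dvd_pow_self p h0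
    refine hkey w w' x y hx hy hne p h.hp h.hp2 hsd ?_
    obtain ⟨g, -, hgf⟩ := h.gM_fixed_conj T hT (Subgroup.pow_mem _ hxy _)
      (orderOf_pow_orderOf_div (orderOf_pos _).ne' hsd)
    exact ⟨g, hgf⟩
  have hcore : M.normalCore = ⊥ := by
    refine (h.gNormal T hT (N := M.normalCore) fun x hx k => ?_).resolve_right fun e1 =>
      h.gM_ne_top T hT (top_le_iff.1 (e1 ▸ M.normalCore_le))
    obtain ⟨k', rfl⟩ := (qAut α).surjective k
    rw [← map_inv, ← map_mul, ← map_mul]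
    exact h.gM_stb T hT _ (hx k')
  exact h.not_isolated T hT hb hb1 fun g hg =>
    hB.isolated hMp hprod hcore hg

/-- G2. -/
theorem Min.gZ_trans {b : H ⧸ Subgroup.center H} (hb : b ∈ gZ α T) (hb1 : b ≠ 1)
    (hF : OneFix α T b) : ∀ z ∈ gZ α T, z ≠ 1 → ∀ z' ∈ gZ α T, z' ≠ 1 →
      ∃ m ∈ gM α T, qAut α m = m ∧ m * z * m⁻¹ = z' := by
  intro z hz hz1 z' hz' hz'1
  obtain ⟨g, hg, hgM⟩ := h.exists_fixed_not_mem T hT hb hb1 hF
  have hgiM : g⁻¹ ∉ gM α T := fun e1 => hgM (inv_mem_iff.1 e1)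
  set y := g * z' * g⁻¹ with hy
  have hyy : y * y = 1 := by
    rw [hy, show g * z' * g⁻¹ * (g * z' * g⁻¹) = g * (z' * z') * g⁻¹ by group, h.gZ_sq T hT hz']; group
  have hyf : qAut α y = y := by rw [hy, map_mul, map_mul, map_inv, hg, h.gZ_fixed T hT hz']
  set x₁ : fixG (qAut α) := ⟨z, mem_fixG.2 (h.gZ_fixed T hT hz)⟩
  set y₁ : fixG (qAut α) := ⟨y, mem_fixG.2 hyf⟩
  have hx₁ : x₁ * x₁ = 1 := Subtype.ext (h.gZ_sq T hT hz)
  have hy₁ : y₁ * y₁ = 1 := Subtype.ext hyy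
  rcases Nat.even_or_odd (orderOf (x₁ * y₁)) with he | ho
  · exfalso
    obtain ⟨⟨j, hjf⟩, hj1, -, hjx, hjy, ⟨k, hkf⟩, hk⟩ := exists_central hx₁ hy₁ he
    have hjf' : qAut α j = j := mem_fixG.1 hjf
    have hjne : j ≠ 1 := fun e1 => hj1 (Subtype.ext e1)
    have ejx : j * z = z * j := congrArg Subtype.val hjx
    have ejy : j * y = y * j := congrArg Subtype.val hjy
    rcases hk with hk | hk
    · have ek : j * z = k * z * k⁻¹ := congrArg Subtype.val hk
      have hjM : j ∈ gM α T := h.gCent_le T hT hz hz1 ejx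
      have hjzM : j * z ∈ gM α T := Subgroup.mul_mem _ hjM (h.gD_le_gM T hT (h.gZ_le_gD T hT hz))
      have hkM : k ∈ gM α T := by
        by_contra hkM
        exact h.fixed_conj_absurd T hT hkM hz hz1 ek.symm hjzM
          (by rw [map_mul, hjf', h.gZ_fixed T hT hz])
      have hjZ : j ∈ gZ α T := by
        have h1 := Subgroup.mul_mem _ (ek.symm ▸ h.gZ_conj T hT hkM hz : j * z ∈ gZ α T) hz
        rwa [mul_assoc, h.gZ_sq T hT hz, mul_one] at h1
      exact h.fixed_conj_absurd T hT hgM hz' hz'1 rfl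
        (h.gCent_le T hT hjZ hjne ejy.symm) hyf
    · have ek : j * y = k * z * k⁻¹ := congrArg Subtype.val hk
      set i := g⁻¹ * j * g with hi
      have eiz : i * z' = z' * i := by
        calc i * z' = g⁻¹ * (j * y) * g := by rw [hi, hy]; group
          _ = z' * i := by rw [ejy, hi, hy]; group
      have hiM : i ∈ gM α T := h.gCent_le T hT hz' hz'1 eiz
      have hif : qAut α i = i := by rw [hi, map_mul, map_mul, map_inv, hg, hjf']
      have hizM : i * z' ∈ gM α T := Subgroup.mul_mem _ hiM (h.gD_le_gM T hT (h.gZ_le_gD T hT hz'))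
      have eiz' : (g⁻¹ * k) * z * (g⁻¹ * k)⁻¹ = i * z' := by
        calc (g⁻¹ * k) * z * (g⁻¹ * k)⁻¹ = g⁻¹ * (k * z * k⁻¹) * g := by group
          _ = i * z' := by rw [← ek, hi, hy]; group
      have hkM : g⁻¹ * k ∈ gM α T := by
        by_contra hkM
        exact h.fixed_conj_absurd T hT hkM hz hz1 eiz' hizM
          (by rw [map_mul, hif, h.gZ_fixed T hT hz'])
      have hiZ : i ∈ gZ α T := by
        have h1 := Subgroup.mul_mem _ (eiz' ▸ h.gZ_conj T hT hkM hz : i * z' ∈ gZ α T) hz'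
        rwa [mul_assoc, h.gZ_sq T hT hz', mul_one] at h1
      have hine : i ≠ 1 := fun e1 => hjne (by
        calc j = g * i * g⁻¹ := by rw [hi]; group
          _ = 1 := by rw [e1]; group)
      refine h.fixed_conj_absurd T hT hgiM hz hz1 (x := g⁻¹ * z * g) (by rw [inv_inv])
        (h.gCent_le T hT hiZ hine ?_) ?_
      · calc g⁻¹ * z * g * i = g⁻¹ * (z * j) * g := by rw [hi]; group
          _ = i * (g⁻¹ * z * g) := by rw [← ejx, hi]; group
      · rw [map_mul, map_mul, map_inv, hg, h.gZ_fixed T hT hz]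
  · obtain ⟨⟨k, hkf⟩, hk, -, -⟩ := exists_mover hx₁ hy₁ ho
    have ek : k * z * k⁻¹ = y := congrArg Subtype.val hk
    have e1 : (g⁻¹ * k) * z * (g⁻¹ * k)⁻¹ = z' := by
      calc (g⁻¹ * k) * z * (g⁻¹ * k)⁻¹ = g⁻¹ * (k * z * k⁻¹) * g := by group
        _ = z' := by rw [ek, hy]; group
    refine ⟨g⁻¹ * k, h.gTI T hT hz' hz'1 hz e1, ?_, e1⟩
    rw [map_mul, map_inv, hg, mem_fixG.1 hkf]

/-- G4. -/
theorem Min.gOnePoint {b : H ⧸ Subgroup.center H} (hb : b ∈ gZ α T) (hb1 : b ≠ 1)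
    (hF : OneFix α T b) : OnePoint (gM α T) (gZ α T) where
  ltM := h.gM_ne_top T hT
  leM := (h.gZ_le_gD T hT).trans (h.gD_le_gM T hT)
  sq z hz := h.gZ_sq T hT hz
  conjZ m hm z hz := h.gZ_conj T hT hm hz
  onePoint z hz hz1 g hg := by
    obtain ⟨m, hm, -, rfl⟩ := h.gZ_trans T hT hb hb1 hF b hb hb1 z hz hz1
    have h1 : g⁻¹ * m ∈ gM α T := hF _ (by convert hg using 1; group)
    have h2 := Subgroup.mul_mem _ hm (Subgroup.inv_mem _ h1)
    simpa using h2

/-- G3. -/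
theorem Min.four_le_gZ {b : H ⧸ Subgroup.center H} (hb : b ∈ gZ α T) (hb1 : b ≠ 1)
    (hF : OneFix α T b) : 4 ≤ Nat.card (gZ α T) := by
  haveI : Fact (Nat.Prime 2) := ⟨Nat.prime_two⟩
  obtain ⟨k, hk⟩ := IsPGroup.iff_card.1 ((h.gD_isPGroup T hT).to_le (h.gZ_le_gD T hT))
  by_contra! hlt
  rw [hk] at hlt
  have hk1 : k ≤ 1 := by
    by_contra! hk2
    have := Nat.pow_le_pow_right (show 0 < 2 by norm_num) hk2
    omega
  have hZ : gZ α T = Subgroup.zpowers b := by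
    refine (Subgroup.eq_of_le_of_card_ge (Subgroup.zpowers_le.2 hb) ?_).symm
    rw [Nat.card_zpowers, orderOf_eq_prime (by rw [pow_two, h.gZ_sq T hT hb]) hb1, hk]
    calc 2 ^ k ≤ 2 ^ 1 := Nat.pow_le_pow_right (by norm_num) hk1
      _ = 2 := pow_one 2
  refine h.not_isolated T hT hb hb1 fun g hg => ?_
  have h1 := (h.oneB T hT hb hb1 hF).mem_Z hg
  rw [hZ, Subgroup.mem_zpowers_iff] at h1
  obtain ⟨i, hi⟩ := h1
  rcases Int.even_or_odd' i with ⟨j, rfl | rfl⟩
  · rw [zpow_mul, zpow_two, h.gZ_sq T hT hb, one_zpow] at hi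
    exact absurd (conj_eq_one_iff.1 hi.symm) hb1
  · rw [zpow_add, zpow_mul, zpow_two, h.gZ_sq T hT hb, one_zpow, one_mul, zpow_one] at hi
    exact hi.symm

end Cfsg.Agent.Lib.HHS57
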