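import Cfsg.Agent.Lib.HHS57.FLine
import Cfsg.Agent.Lib.HHS57.SingLine
import Cfsg.Agent.Lib.HHS57.Pair
import Cfsg.Agent.Lib.HHS57.Transitive
import Cfsg.Agent.Lib.HHS57.Interface

/-!
# Some element of `Z̄` fixes only its point; `Z̄ = 1` is impossible (helper18)
-/

set_option autoImplicit false
set_option linter.style.haveILetI false
set_option linter.unusedSectionVars false

namespace Cfsg.Agent.Lib.HHS57

open Cfsg Cfsg.Agent.Lib
open Subgroup
open scoped commutatorElement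

universe u

variable {H : Type u} [Group H] [Finite H] {p r : ℕ} {α : MulAut H} {V : Type u} [CommGroup V]
  [Finite V] {ψ : H →* MulAut V} {e : MulAut V}

variable (h : Min p r α ψ e) (T : Sylow 2 H) (hT : Stb α (T : Subgroup H))

include h hT

/-- Some nontrivial element of `gZ` fixes only the base point. -/
theorem Min.exists_oneFix (hneg : CenNeg ψ) (hZ : gZ α T ≠ ⊥) :
    ∃ b ∈ gZ α T, b ≠ 1 ∧ OneFix α T b := by
  obtain ⟨m, -, hm⟩ := h.exists_m T hT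
  by_cases hk : Nat.card (gD α T) ≤ Nat.card (gZ α T) * 2 ^ (4 * m)
  · obtain ⟨b, hb, hb1⟩ : ∃ b ∈ gZ α T, b ≠ 1 := by
      by_contra hh
      push Not at hh
      exact hZ ((Subgroup.eq_bot_iff_forall _).2 hh)
    exact ⟨b, hb, hb1, fun g hg => by_contra fun hgM => h.oneFix_of_card T hT hm hk hgM hb hb1 rfl hg⟩
  have hnoT : ¬ TCase α T := fun ht => hk (h.card_le_of_tCase T hT hneg hm ht)
  obtain ⟨b, hb, hb1, hbal⟩ : ∃ b ∈ gZ α T, b ≠ 1 ∧ ¬ ∃ v, v * b = b * v ∧ LiftNC b v := by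
    by_contra hh
    push Not at hh
    exact hk (h.card_le_of_balanced T hT hneg hm fun b hb hb1 => hh b hb hb1)
  refine ⟨b, hb, hb1, fun g hg => by_contra fun hgM => ?_⟩
  rcases h.offender_split T hT hgM hb hb1 rfl hg with ⟨a, ha, hxa, ha2⟩ |
      ⟨A, hAD, hA, hcm, hcomm, hxA, -, hf, -⟩
  · exact hnoT (h.tCase_of_good T hT hgM hb hb1 rfl ha hxa ha2)
  · obtain ⟨v, hvA, hnc⟩ := h.exists_liftNC T hT hAD hA hcm hcomm hf
      (fun hfix => h.offender_moved T hT hgM hb hb1 rfl hg (by rw [hfix, inv_mul_cancel]; exact one_mem _))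
    refine hbal ⟨g⁻¹ * v * g, ?_, ?_⟩
    · calc g⁻¹ * v * g * b = g⁻¹ * (v * (g * b * g⁻¹)) * g := by group
        _ = b * (g⁻¹ * v * g) := by rw [← hxA v hvA]; group
    · have h1 := hnc.conj g⁻¹
      rwa [inv_inv, show g⁻¹ * (g * b * g⁻¹) * g = b by group] at h1

/-- `Z̄ = 1` is impossible. -/
theorem Min.gZ_ne_bot (hneg : CenNeg ψ) : gZ α T ≠ ⊥ := by
  intro hZ
  haveI : Fact (Nat.Prime 2) := ⟨Nat.prime_two⟩
  obtain ⟨m, -, hm⟩ := h.exists_m T hT
  have hDc : ∀ a ∈ gD α T, ∀ b ∈ gD α T, a * b = b * a := fun a ha b hb => by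
    have h1 := h.gD_commutator T hT ha hb
    rwa [hZ, Subgroup.mem_bot, commutatorElement_eq_one_iff_mul_comm] at h1
  have hk : Nat.card (gD α T) ≤ 2 ^ (2 * m) := le_of_eq
    (h.gAbelian_card T hT hneg hm le_rfl (h.gD_stb T hT) (h.cm_gD T hT) hDc (h.gD_ne_bot T hT))
  have hconj : ∀ c ∈ gM α T, qAut α c = c → ∀ d ∈ gD α T, c * d = d * c := fun c hc hcf =>
    h.line_pointwise T hT hneg hm le_rfl (h.gD_stb T hT) (h.cm_gD T hT) hDc hcf
      fun d hd => h.gD_conj T hT hc hd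
  have hcen : ∀ x ∈ gM α T, ∀ d ∈ gD α T, x * d = d * x := fun x hx d hd => by
    obtain ⟨c, hc, hcf, d', hd', rfl⟩ := h.gM_eq T hT hx
    rw [mul_assoc, hDc d' hd' d hd, ← mul_assoc, hconj c hc hcf d hd, mul_assoc]
  obtain ⟨t, ht, ht1⟩ : ∃ t ∈ gD α T, t ≠ 1 := by
    by_contra hh
    push Not at hh
    exact h.gD_ne_bot T hT ((Subgroup.eq_bot_iff_forall _).2 hh)
  have htt : t * t = 1 := by
    have h1 := h.gD_sq T hT ht
    rwa [hZ, Subgroup.mem_bot] at h1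
  obtain ⟨P, hP⟩ := (h.gD_isPGroup T hT).exists_le_sylow
  refine h.no_isolated T hT htt ht1 P (hP ht) fun g hg => ?_
  set a := g * t * g⁻¹ with ha
  set C := Subgroup.centralizer ({a} : Set (H ⧸ Subgroup.center H)) with hC
  have hPM : (P : Subgroup (H ⧸ Subgroup.center H)) ≤ gM α T := h.two_le_gM T hT P.isPGroup' hP
  have hD₁ : gD α T ≤ C := fun d hd => mem_centralizer_singleton_iff.2
    (hcen a (hPM hg) d hd).symm
  have hD₂ : (gD α T).map (MulAut.conj g).toMonoidHom ≤ C := by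
    rintro _ ⟨d, hd, rfl⟩
    rw [hC, mem_centralizer_singleton_iff]
    simp only [MulEquiv.coe_toMonoidHom, MulAut.conj_apply]
    rw [ha, show g * d * g⁻¹ * (g * t * g⁻¹) = g * (d * t) * g⁻¹ by group, hDc d hd t ht]; group
  obtain ⟨Q₁, hQ₁⟩ := ((h.gD_isPGroup T hT).of_equiv (Subgroup.subgroupOfEquivOfLe hD₁).symm).exists_le_sylow
  obtain ⟨Q₂, hQ₂⟩ := (((h.gD_isPGroup T hT).map _).of_equiv
    (Subgroup.subgroupOfEquivOfLe hD₂).symm).exists_le_sylow
  obtain ⟨k, hk'⟩ := MulAction.exists_smul_eq C Q₂ Q₁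
  have hQ₁M : (Q₁ : Subgroup C).map C.subtype ≤ gM α T := h.two_le_gM T hT (Q₁.isPGroup'.map _)
    fun d hd => ⟨⟨d, hD₁ hd⟩, hQ₁ hd, rfl⟩
  have hkg : (k : H ⧸ Subgroup.center H) * g ∈ gM α T := h.mem_gM_of_conj T hT fun d hd => by
    have hmem : (⟨g * d * g⁻¹, hD₂ ⟨d, hd, by simp⟩⟩ : C) ∈ (Q₂ : Subgroup C) :=
      hQ₂ ⟨d, hd, by simp⟩
    have h1 := Subgroup.smul_mem_pointwise_smul (a := MulAut.conj k) _ (Q₂ : Subgroup C) hmem
    rw [← Sylow.coe_subgroup_smul, hk'] at h1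
    have h2 := hQ₁M ⟨_, h1, rfl⟩
    simpa [MulAut.smul_def, mul_assoc] using h2
  have hka : (k : H ⧸ Subgroup.center H) * a = a * k := mem_centralizer_singleton_iff.1 k.2
  have h3 := hcen _ hkg t ht
  calc a = (k : H ⧸ Subgroup.center H) * a * (k : H ⧸ Subgroup.center H)⁻¹ := by
        rw [hka, mul_inv_cancel_right]
    _ = (k : H ⧸ Subgroup.center H) * g * t * ((k : H ⧸ Subgroup.center H) * g)⁻¹ := by rw [ha]; group
    _ = t := by rw [h3, mul_inv_cancel_right]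

end Cfsg.Agent.Lib.HHS57
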