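import Cfsg.Agent.Lib.HHS57.Bad

/-!
# No conjugate of an element of `Z̄` leaves its point if `|gD : gZ| ≤ 2 ^ (4 m)` (helper18)

Two layers: either all lines are nonabelian (then no offender), or all are abelian and an offender gives
two points whose groups normalise `⟨U, [gD, U], U', [gD', U']⟩`.
-/

set_option autoImplicit false
set_option linter.style.haveILetI false
set_option linter.unusedSectionVars false

namespace Cfsg.Agent.Lib.HHS57

open Cfsg Cfsg.Agent.Lib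
open Cfsg.Agent.Lib.FpfAut (exists_fixed_mul)
open Subgroup
open scoped commutatorElement

universe u

variable {H : Type u} [Group H] [Finite H] {p r : ℕ} {α : MulAut H} {V : Type u} [CommGroup V]
  [Finite V] {ψ : H →* MulAut V} {e : MulAut V}

/-- All lines are abelian. -/
def LinesAb (α : MulAut H) (T : Sylow 2 H) : Prop :=
  ∀ S : Subgroup (H ⧸ Subgroup.center H), S ≤ gM α T → IsPGroup 2 S →
    (∃ s ∈ S, MovesD α T s) → ∀ a ∈ fixL α T S, ∀ b ∈ fixL α T S, a * b = b * a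

/-- The commutators of `gD` with the moved part of `L`. -/
noncomputable def bGrp (α : MulAut H) (T : Sylow 2 H) (L : Subgroup (H ⧸ Subgroup.center H)) :
    Subgroup (H ⧸ Subgroup.center H) :=
  closure {k | ∃ d ∈ gD α T, ∃ u ∈ cm (qAut α) L, k = ⁅d, u⁆}

/-- `U × [gD, U]`. -/
noncomputable def ubGrp (α : MulAut H) (T : Sylow 2 H) (L : Subgroup (H ⧸ Subgroup.center H)) :
    Subgroup (H ⧸ Subgroup.center H) := cm (qAut α) L ⊔ bGrp α T L

/-- The two-group of an element. -/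
theorem isPGroup_zpowers_of_twoEl {X : Type u} [Group X] [Finite X] {c : X} (hc : TwoEl c) :
    IsPGroup 2 (Subgroup.zpowers c) := by
  obtain ⟨k, hk⟩ := hc
  haveI : Fact (Nat.Prime 2) := ⟨Nat.prime_two⟩
  obtain ⟨j, -, hj⟩ := (Nat.dvd_prime_pow Nat.prime_two).1 (orderOf_dvd_of_pow_eq_one hk)
  exact IsPGroup.of_card (n := j) (by rw [Nat.card_zpowers, hj])

variable (h : Min p r α ψ e) (T : Sylow 2 H) (hT : Stb α (T : Subgroup H))

include h hT

theorem Min.fixL_mono {S S' : Subgroup (H ⧸ Subgroup.center H)} (hS : S ≤ gM α T) (hS' : S' ≤ gM α T)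
    (hle : S ≤ S') : fixL α T S' ≤ fixL α T S := fun _ hd =>
  (h.mem_fixL T hT hS).2 ⟨((h.mem_fixL T hT hS').1 hd).1, fun s hs => ((h.mem_fixL T hT hS').1 hd).2 s (hle hs)⟩

/-- The moved part of an element lying in `L` lies in `cm L`. -/
theorem Min.moved_mem_cm {L : Subgroup (H ⧸ Subgroup.center H)} (hZL : gZ α T ≤ L) (hLD : L ≤ gD α T)
    (hL : Stb (qAut α) L) {s : H ⧸ Subgroup.center H} (hs : s ∈ gM α T) (hf : s⁻¹ * qAut α s ∈ L) :
    ∃ c ∈ gM α T, qAut α c = c ∧ ∃ u ∈ cm (qAut α) L, s = c * u ∧ s⁻¹ * qAut α s = u⁻¹ * qAut α u := by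
  obtain ⟨c, hc, hcf, d, hd, rfl⟩ := h.gM_eq T hT hs
  have hfd : (c * d)⁻¹ * qAut α (c * d) = d⁻¹ * qAut α d := by rw [map_mul, hcf]; group
  rw [hfd] at hf
  obtain ⟨n, hn, hf'⟩ := exists_fixed_mul h.hr h.qPow hL (fun hd' => h.qCo
    (hd'.trans (Subgroup.card_subgroup_dvd_card _))) (x := d) hf
  have hdL : d ∈ L := by
    simpa using mul_mem (hZL (h.gD_fixed T hT (mul_mem hd (hLD hn)) hf')) (inv_mem hn)
  obtain ⟨k, hk, hkf, u, hu, hdu⟩ := exists_fixed_mul_cm h.hr h.qPow h.qCo hL hdL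
  refine ⟨c * k, mul_mem hc (h.gD_le_gM T hT (hLD hk)), by rw [map_mul, hcf, hkf], u, hu,
    by rw [hdu, mul_assoc], ?_⟩
  rw [hdu, map_mul, map_mul, hcf, hkf]; group

theorem Min.bGrp_le {L : Subgroup (H ⧸ Subgroup.center H)} (hLD : L ≤ gD α T) (hL : Stb (qAut α) L) :
    bGrp α T L ≤ gZ α T := (closure_le _).2 (by
  rintro _ ⟨d, hd, u, hu, rfl⟩
  exact h.gD_commutator T hT hd (hLD (cm_le hL hu)))

theorem Min.ubGrp_le {L : Subgroup (H ⧸ Subgroup.center H)} (hZL : gZ α T ≤ L) (hLD : L ≤ gD α T)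
    (hL : Stb (qAut α) L) : ubGrp α T L ≤ L :=
  sup_le (cm_le hL) ((h.bGrp_le T hT hLD hL).trans hZL)

/-- `gD` normalises `U × [gD, U]`. -/
theorem Min.ubGrp_conj {L : Subgroup (H ⧸ Subgroup.center H)} (hLD : L ≤ gD α T)
    (hL : Stb (qAut α) L) {d : H ⧸ Subgroup.center H} (hd : d ∈ gD α T) :
    ∀ w ∈ ubGrp α T L, d * w * d⁻¹ ∈ ubGrp α T L := by
  intro w hw
  refine (?_ : ubGrp α T L ≤ (ubGrp α T L).comap (MulAut.conj d).toMonoidHom) hw
  refine sup_le (fun u hu => ?_) (fun k hk => ?_) <;>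
    simp only [Subgroup.mem_comap, MulEquiv.coe_toMonoidHom, MulAut.conj_apply]
  · have h1 : ⁅d, u⁆ * u ∈ ubGrp α T L :=
      mul_mem (mem_sup_right (subset_closure ⟨d, hd, u, hu, rfl⟩)) (mem_sup_left hu)
    simpa [commutatorElement_def] using h1
  · rw [← h.gZ_comm T hT (h.bGrp_le T hT hLD hL hk) hd, mul_inv_cancel_right]
    exact mem_sup_right hk

/-- Brackets of `gD` with elements of `InW L`. -/
theorem Min.inW_bracket {L : Subgroup (H ⧸ Subgroup.center H)} (hZL : gZ α T ≤ L) (hLD : L ≤ gD α T)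
    (hL : Stb (qAut α) L) {w : H ⧸ Subgroup.center H}
    (hw : InW α T L w) {d : H ⧸ Subgroup.center H} (hd : d ∈ gD α T) :
    d * w * d⁻¹ * w⁻¹ ∈ ubGrp α T L := by
  obtain ⟨hw0, hw1, hw2, hw3⟩ := hw
  obtain ⟨c, hc, hcf, u₀, hu₀, hwc, -⟩ := h.moved_mem_cm T hT hZL hLD hL hw0 hw3
  have hu₀D : u₀ ∈ gD α T := hLD (cm_le hL hu₀)
  have hk : ∀ y ∈ gD α T, c * (u₀ * y * u₀⁻¹ * y⁻¹) * c⁻¹ ∈ gZ α T := fun y hy =>
    h.gZ_conj T hT hc (h.gD_commutator T hT hu₀D hy)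
  have hsplit : ∀ y, w * y * w⁻¹ * y⁻¹ = (c * (u₀ * y * u₀⁻¹ * y⁻¹) * c⁻¹) * (c * y * c⁻¹ * y⁻¹) :=
    fun y => by rw [hwc]; group
  have hcD : ∀ y ∈ gD α T, c * y * c⁻¹ * y⁻¹ ∈ L := fun y hy => by
    have h1 := hw1 y hy
    rw [hsplit] at h1
    exact (Subgroup.mul_mem_cancel_left _ (hZL (hk y hy))).1 h1
  have hcL : ∀ y ∈ L, c * y * c⁻¹ * y⁻¹ ∈ gZ α T := fun y hy => by
    have h1 := hw2 y hy
    rw [hsplit] at h1
    exact (Subgroup.mul_mem_cancel_left _ (hk y (hLD hy))).1 h1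
  have hcu := h.fixed_comm_cm T hT hcf hLD hL hcL
  set X := ubGrp α T L with hX
  let Good : Subgroup (H ⧸ Subgroup.center H) :=
    { carrier := {y | y ∈ gD α T ∧ c * y * c⁻¹ * y⁻¹ ∈ X}
      one_mem' := ⟨one_mem _, by simp⟩
      mul_mem' := fun {a b} ha hb => ⟨mul_mem ha.1 hb.1, by
        rw [show c * (a * b) * c⁻¹ * (a * b)⁻¹ =
          (c * a * c⁻¹ * a⁻¹) * (a * (c * b * c⁻¹ * b⁻¹) * a⁻¹) by group]
        exact mul_mem ha.2 (h.ubGrp_conj T hT hLD hL ha.1 _ hb.2)⟩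
      inv_mem' := fun {a} ha => ⟨inv_mem ha.1, by
        rw [show c * a⁻¹ * c⁻¹ * a⁻¹⁻¹ = a⁻¹ * (c * a * c⁻¹ * a⁻¹)⁻¹ * a⁻¹⁻¹ by group]
        exact h.ubGrp_conj T hT hLD hL (inv_mem ha.1) _ (inv_mem ha.2)⟩ }
  have hGood : gD α T ≤ Good := by
    rw [← h.cm_gD T hT]
    refine cm_le_iff.2 fun y hy => ?_
    have hy' : y⁻¹ * qAut α y ∈ gD α T := mul_mem (inv_mem hy) (h.gD_stb T hT y hy)
    refine ⟨hy', ?_⟩
    obtain ⟨k₁, hk₁, hk₁f, u₁, hu₁, he⟩ := exists_fixed_mul_cm h.hr h.qPow h.qCo hL (hcD y hy)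
    have h1 : c * y * c⁻¹ = k₁ * u₁ * y := by rw [← he]; group
    have h2 : c * qAut α y * c⁻¹ = k₁ * qAut α u₁ * qAut α y := by
      have := congrArg (qAut α) h1
      rwa [map_mul, map_mul, map_mul, map_mul, map_inv, hcf, hk₁f] at this
    rw [show c * (y⁻¹ * qAut α y) * c⁻¹ * (y⁻¹ * qAut α y)⁻¹ =
      (c * y * c⁻¹)⁻¹ * (c * qAut α y * c⁻¹) * (y⁻¹ * qAut α y)⁻¹ by group, h1, h2,
      show (k₁ * u₁ * y)⁻¹ * (k₁ * qAut α u₁ * qAut α y) * (y⁻¹ * qAut α y)⁻¹ =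
        y⁻¹ * (u₁⁻¹ * qAut α u₁) * y⁻¹⁻¹ by group]
    exact h.ubGrp_conj T hT hLD hL (inv_mem hy) _
      (mem_sup_left (mul_mem (inv_mem hu₁) (stb_cm hL _ hu₁)))
  rw [hwc, show d * (c * u₀) * d⁻¹ * (c * u₀)⁻¹ =
    (c * d * c⁻¹ * d⁻¹)⁻¹ * (c * (d * u₀ * d⁻¹ * u₀⁻¹) * c⁻¹) by group]
  refine mul_mem (inv_mem (hGood hd).2) (mem_sup_right ?_)
  refine subset_closure ⟨c * d * c⁻¹, h.gD_conj T hT hc hd, u₀, hu₀, ?_⟩
  rw [commutatorElement_def]
  calc c * (d * u₀ * d⁻¹ * u₀⁻¹) * c⁻¹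
      = (c * d * c⁻¹) * (c * u₀ * c⁻¹) * (c * d * c⁻¹)⁻¹ * (c * u₀ * c⁻¹)⁻¹ := by group
    _ = c * d * c⁻¹ * u₀ * (c * d * c⁻¹)⁻¹ * u₀⁻¹ := by rw [hcu u₀ hu₀, mul_inv_cancel_right]

/-- An involution of `gM` fixes a nontrivial element of `gZ`. -/
theorem Min.exists_comm_gZ {x b : H ⧸ Subgroup.center H} (hx : x ∈ gM α T) (hxx : x * x = 1)
    (hb : b ∈ gZ α T) (hb1 : b ≠ 1) : ∃ k ∈ gZ α T, k ≠ 1 ∧ x * k = k * x := by
  have hxi : x⁻¹ = x := inv_eq_of_mul_eq_one_right hxx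
  by_cases hc : x * b = b * x
  · exact ⟨b, hb, hb1, hc⟩
  refine ⟨b * (x * b * x⁻¹), mul_mem hb (h.gZ_conj T hT hx hb), fun e1 => hc ?_, ?_⟩
  · have h1 : x * b * x⁻¹ = b := by
      rw [← inv_eq_of_mul_eq_one_right e1, inv_eq_of_mul_eq_one_right (h.gZ_sq T hT hb)]
    exact mul_inv_eq_iff_eq_mul.1 h1
  · calc x * (b * (x * b * x⁻¹)) = (x * b * x⁻¹) * (x * x * b * x⁻¹) := by group
      _ = (x * b * x⁻¹) * (b * x⁻¹) := by rw [hxx, one_mul]
      _ = b * (x * b * x⁻¹) * x⁻¹ := by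
        rw [← mul_assoc, ← h.gZ_comm T hT hb (h.gD_conj T hT hx (h.gZ_le_gD T hT hb))]
      _ = b * (x * b * x⁻¹) * x := by rw [hxi]

section Lines

variable {m : ℕ} (hm : r = 2 ^ m + 1) (hk : Nat.card (gD α T) ≤ Nat.card (gZ α T) * 2 ^ (4 * m))

include hm hk

/-- Fixed parts of nested moving `2`-groups agree. -/
theorem Min.fixL_eq {S S' : Subgroup (H ⧸ Subgroup.center H)} (hS' : S' ≤ gM α T) (hS2 : IsPGroup 2 S')
    (hle : S ≤ S') {s : H ⧸ Subgroup.center H} (hs : s ∈ S) (hmv : MovesD α T s) :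
    fixL α T S' = fixL α T S := by
  have hS := hle.trans hS'
  refine Subgroup.eq_of_le_of_card_ge (h.fixL_mono T hT hS hS' hle) ?_
  rw [h.line_card T hT hm hk (h.gZ_le_fixL T hT hS) (h.fixL_le T hT hS) (h.fixL_stb T hT hS)
    (h.fixL_ne_gZ T hT hS (hS2.to_le hle)) (h.fixL_ne_gD T hT hS hs hmv),
    h.line_card T hT hm hk (h.gZ_le_fixL T hT hS') (h.fixL_le T hT hS') (h.fixL_stb T hT hS')
    (h.fixL_ne_gZ T hT hS' hS2) (h.fixL_ne_gD T hT hS' (hle hs) hmv)]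

/-- If one line is nonabelian, all are. -/
theorem Min.fixL_noncomm (hab : ¬ LinesAb α T) {S : Subgroup (H ⧸ Subgroup.center H)} (hS : S ≤ gM α T)
    (hS2 : IsPGroup 2 S) (hmv : ∃ s ∈ S, MovesD α T s) :
    ¬ ∀ a ∈ fixL α T S, ∀ b ∈ fixL α T S, a * b = b * a := by
  intro hc
  refine hab fun S₀ hS₀ hS₀2 hmv₀ a ha b hb => ?_
  obtain ⟨s, hs, hsm⟩ := hmv
  obtain ⟨s₀, hs₀, hs₀m⟩ := hmv₀
  haveI : Fact (Nat.Prime 2) := ⟨Nat.prime_two⟩
  obtain ⟨P₁, hP₁⟩ := (hS₀2.of_equiv (Subgroup.subgroupOfEquivOfLe hS₀).symm).exists_le_sylow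
  obtain ⟨P₂, hP₂⟩ := (hS2.of_equiv (Subgroup.subgroupOfEquivOfLe hS).symm).exists_le_sylow
  obtain ⟨m₀, hm₀⟩ := MulAction.exists_smul_eq (gM α T) P₁ P₂
  set Q₁ := (P₁ : Subgroup (gM α T)).map (gM α T).subtype with hQ₁
  set Q₂ := (P₂ : Subgroup (gM α T)).map (gM α T).subtype with hQ₂
  have hQ₁M : Q₁ ≤ gM α T := map_subtype_le _
  have hQ₂M : Q₂ ≤ gM α T := map_subtype_le _
  have hle₁ : S₀ ≤ Q₁ := fun y hy => ⟨⟨y, hS₀ hy⟩, hP₁ hy, rfl⟩
  have hle₂ : S ≤ Q₂ := fun y hy => ⟨⟨y, hS hy⟩, hP₂ hy, rfl⟩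
  have e₁ := h.fixL_eq T hT hm hk hQ₁M (P₁.isPGroup'.map _) hle₁ hs₀ hs₀m
  have e₂ := h.fixL_eq T hT hm hk hQ₂M (P₂.isPGroup'.map _) hle₂ hs hsm
  have hmap : ∀ y ∈ fixL α T S₀, (m₀ : H ⧸ Subgroup.center H) * y * (m₀ : H ⧸ Subgroup.center H)⁻¹ ∈
      fixL α T S := by
    intro y hy
    rw [← e₁, h.mem_fixL T hT hQ₁M] at hy
    rw [← e₂, h.mem_fixL T hT hQ₂M]
    refine ⟨h.gD_conj T hT m₀.2 hy.1, ?_⟩
    rintro _ ⟨q, hq, rfl⟩
    rw [← hm₀] at hq
    have hq' : m₀⁻¹ * q * m₀ ∈ (P₁ : Subgroup (gM α T)) := by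
      rw [SetLike.mem_coe, Sylow.coe_subgroup_smul, Subgroup.mem_pointwise_smul_iff_inv_smul_mem] at hq
      simpa [MulAut.smul_def] using hq
    have h1 := h.gZ_conj T hT m₀.2 (hy.2 _ ⟨_, hq', rfl⟩)
    simpa [mul_assoc] using h1
  have h2 := hc _ (hmap a ha) _ (hmap b hb)
  calc a * b = (m₀ : H ⧸ Subgroup.center H)⁻¹ *
        (((m₀ : H ⧸ Subgroup.center H) * a * (m₀ : H ⧸ Subgroup.center H)⁻¹) *
          ((m₀ : H ⧸ Subgroup.center H) * b * (m₀ : H ⧸ Subgroup.center H)⁻¹)) * m₀ := by group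
    _ = b * a := by rw [h2]; group

/-- `TCase` gives an abelian line. -/
theorem Min.linesAb_of_tCase (ht : TCase α T) : LinesAb α T := by
  by_contra hab
  obtain ⟨c, hc, hcf, hc2, hcZ, hmv⟩ := ht
  set S := Subgroup.zpowers c with hSdef
  have hS : S ≤ gM α T := Subgroup.zpowers_le.2 hc
  have hS2 : IsPGroup 2 S := isPGroup_zpowers_of_twoEl hc2
  set L := fixL α T S with hLdef
  refine h.fixL_noncomm T hT hm hk hab hS hS2 ⟨c, Subgroup.mem_zpowers c, hmv⟩ ?_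
  have hLD := h.fixL_le T hT hS
  have hser := h.fixL_series T hT hm hk hS hS2 (Subgroup.mem_zpowers c) hmv
  let Y : Subgroup (H ⧸ Subgroup.center H) :=
    closure ({a | ∃ d ∈ gD α T, a = c * d * c⁻¹ * d⁻¹} ∪ (gZ α T : Set (H ⧸ Subgroup.center H)))
  have hYL : Y ≤ L := (closure_le _).2 (by
    rintro a (⟨d, hd, rfl⟩ | ha)
    · exact hser c (Subgroup.mem_zpowers c) d hd
    · exact h.gZ_le_fixL T hT hS ha)
  have hcomm : ∀ l ∈ L, ∀ a ∈ Y, a * l = l * a := by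
    intro l hl a ha
    refine mem_centralizer_singleton_iff.1 ((?_ : Y ≤ Subgroup.centralizer {l}) ha)
    refine (closure_le _).2 ?_
    rintro a (⟨d, hd, rfl⟩ | ha) <;> rw [SetLike.mem_coe, mem_centralizer_singleton_iff]
    swap
    · exact h.gZ_comm T hT ha (hLD hl)
    set a := c * d * c⁻¹ * d⁻¹ with ha
    have haD : a ∈ gD α T := hLD (hser c (Subgroup.mem_zpowers c) d hd)
    have hk := h.gD_commutator T hT hd (hLD hl)
    have hζ := ((h.mem_fixL T hT hS).1 hl).2 c (Subgroup.mem_zpowers c)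
    set ζ := c * l * c⁻¹ * l⁻¹ with hζdef
    have h1 : ⁅a * d, ζ * l⁆ = ⁅d, l⁆ := by
      rw [show a * d = c * d * c⁻¹ by rw [ha]; group, show ζ * l = c * l * c⁻¹ by rw [hζdef]; group,
        show ⁅c * d * c⁻¹, c * l * c⁻¹⁆ = c * ⁅d, l⁆ * c⁻¹ by simp only [commutatorElement_def]; group,
        hcZ _ hk, mul_inv_cancel_right]
    have h2 : ⁅a * d, ζ * l⁆ = ⁅d, l⁆ * ⁅a, l⁆ := by
      have hadD : a * d ∈ gD α T := mul_mem haD hd
      calc ⁅a * d, ζ * l⁆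
          = (a * d * ζ * (a * d)⁻¹) * ζ⁻¹ * (ζ * ⁅a * d, l⁆ * ζ⁻¹) := by
            simp only [commutatorElement_def]; group
        _ = ⁅a * d, l⁆ := by
            rw [← h.gZ_comm T hT hζ hadD, mul_inv_cancel_right, mul_inv_cancel, one_mul,
              h.gZ_comm T hT hζ (h.gZ_le_gD T hT (h.gD_commutator T hT hadD (hLD hl))),
              mul_inv_cancel_right]
        _ = (a * ⁅d, l⁆ * a⁻¹) * ⁅a, l⁆ := by simp only [commutatorElement_def]; group
        _ = ⁅d, l⁆ * ⁅a, l⁆ := by rw [← h.gZ_comm T hT hk haD, mul_inv_cancel_right]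
    exact commutatorElement_eq_one_iff_mul_comm.1 (mul_left_cancel ((h2.symm.trans h1).trans (mul_one _).symm))
  have hYα : Stb (qAut α) Y := stb_closure (by
    rintro a (⟨d, hd, rfl⟩ | ha)
    · refine subset_closure (Or.inl ⟨qAut α d, h.gD_stb T hT d hd, ?_⟩)
      rw [map_mul, map_mul, map_mul, map_inv, map_inv, hcf]
    · exact subset_closure (Or.inr (h.gZ_stb T hT a ha)))
  have hZY : gZ α T ≤ Y := fun a ha => subset_closure (Or.inr ha)
  have hYZ : Y ≠ gZ α T := fun e1 => by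
    obtain ⟨d, hd, hne⟩ := hmv
    exact hne (e1 ▸ subset_closure (Or.inl ⟨d, hd, rfl⟩))
  have hLne := h.fixL_ne_gD T hT hS (Subgroup.mem_zpowers c) hmv
  have e1 : Y = L := Subgroup.eq_of_le_of_card_ge hYL (le_of_eq (by
    rw [h.line_card T hT hm hk hZY (hYL.trans hLD) hYα hYZ
        (fun e1 => hLne (le_antisymm hLD (e1 ▸ hYL))),
      h.line_card T hT hm hk (h.gZ_le_fixL T hT hS) hLD (h.fixL_stb T hT hS)
        (h.fixL_ne_gZ T hT hS hS2) hLne]))
  exact fun a ha b hb => hcomm b hb a (e1.symm ▸ ha)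

/-- An elementary abelian moving subgroup of `gM` lies in `InW` of its line. -/
theorem Min.elem_inW {S : Subgroup (H ⧸ Subgroup.center H)} (hS : S ≤ gM α T)
    (hcomm : ∀ a ∈ S, ∀ b ∈ S, a * b = b * a) (hexp : ∀ a ∈ S, a * a = 1)
    {v : H ⧸ Subgroup.center H} (hv : v ∈ S) (hmv : MovesD α T v) :
    IsPGroup 2 S ∧ ∀ s ∈ S, InW α T (fixL α T S) s := by
  have hS2 : IsPGroup 2 S := fun a => ⟨1, Subtype.ext (by
    rw [pow_one, pow_two, Subgroup.coe_mul, hexp a a.2, Subgroup.coe_one])⟩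
  have hser := h.fixL_series T hT hm hk hS hS2 hv hmv
  refine ⟨hS2, fun s hs => ⟨hS hs, hser s hs, fun l hl => ((h.mem_fixL T hT hS).1 hl).2 s hs, ?_⟩⟩
  by_cases hsm : MovesD α T s
  · rw [h.fixL_eq T hT hm hk hS hS2 (Subgroup.zpowers_le.2 hs) (Subgroup.mem_zpowers s) hsm]
    refine (h.mem_fixL T hT (Subgroup.zpowers_le.2 (hS hs))).2 ⟨h.gM_moved T hT (hS hs), ?_⟩
    rintro _ ⟨i, rfl⟩
    rcases Int.even_or_odd' i with ⟨j, rfl | rfl⟩
    · show s ^ (2 * j) * _ * (s ^ (2 * j))⁻¹ * _ ∈ _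
      rw [zpow_mul, zpow_two, hexp s hs, one_zpow]
      simp
    · show s ^ (2 * j + 1) * _ * (s ^ (2 * j + 1))⁻¹ * _ ∈ _
      rw [zpow_add_one, zpow_mul, zpow_two, hexp s hs, one_zpow, one_mul]
      exact h.invol_moved T hT (hS hs) (hexp s hs)
  · refine (h.mem_fixL T hT hS).2 ⟨h.gM_moved T hT (hS hs), fun t ht => ?_⟩
    refine h.commute_moved T hT (hS ht) (hS hs) (hcomm t ht s hs) ?_
    by_contra hne
    exact hsm ⟨_, h.gM_moved T hT (hS ht), hne⟩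

omit h hT hm hk in
/-- The hypotheses on an offender relative to an abelian line. -/
structure LType (α : MulAut H) (T : Sylow 2 H) (g b x : H ⧸ Subgroup.center H)
    (L : Subgroup (H ⧸ Subgroup.center H)) : Prop where
  notMem : g ∉ gM α T
  memZ : b ∈ gZ α T
  ne : b ≠ 1
  conj : g * b * g⁻¹ = x
  memM : x ∈ gM α T
  leL : gZ α T ≤ L
  leD : L ≤ gD α T
  stb : Stb (qAut α) L
  neD : L ≠ gD α T
  comm : ∀ a ∈ L, ∀ b ∈ L, a * b = b * a
  inW : InW α T L x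

/-- One side: elementary abelian data at the other point. -/
theorem Min.lType_side (hab : LinesAb α T) {g b x : H ⧸ Subgroup.center H}
    {L : Subgroup (H ⧸ Subgroup.center H)} (hl : LType α T g b x L) :
    ∃ L' : Subgroup (H ⧸ Subgroup.center H),
      (∀ k ∈ gZ α T, k ≠ 1 → x * k = k * x → LType α T g⁻¹ k (g⁻¹ * k * g) L') ∧
      ∀ w, (w ∈ ubGrp α T L ∨ (w ∈ gZ α T ∧ x * w = w * x)) → InW α T L' (g⁻¹ * w * g) := by
  obtain ⟨hgM, hb, hb1, hgx, hx, hZL, hLD, hL, hLne, hcomm, hxW⟩ := hl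
  set U := cm (qAut α) L with hU
  have hUL : U ≤ L := cm_le hL
  have hUfacts := h.gAbelian_facts T hT (hUL.trans hLD) (stb_cm hL) (cm_cm h.hr h.qPow h.qCo hL)
    (fun a ha a' ha' => hcomm a (hUL ha) a' (hUL ha'))
  have hxU : ∀ u ∈ U, x * u = u * x := h.inW_comm T hT hLD hL hcomm hxW
  have hxB : ∀ k ∈ bGrp α T L, x * k = k * x := by
    intro k hk
    refine ((mem_centralizer_singleton_iff).1 ((?_ : bGrp α T L ≤ Subgroup.centralizer {x}) hk)).symm
    refine (closure_le _).2 ?_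
    rintro _ ⟨d, hd, u, hu, rfl⟩
    rw [SetLike.mem_coe, mem_centralizer_singleton_iff]
    have ha := hxW.2.1 d hd
    set a := x * d * x⁻¹ * d⁻¹ with hadef
    have hk := h.gD_commutator T hT hd (hLD (hUL hu))
    have hau : a * u * a⁻¹ * u⁻¹ = 1 := by
      rw [hcomm a ha u (hUL hu), mul_inv_cancel_right, mul_inv_cancel]
    refine (mul_inv_eq_iff_eq_mul (a := x * ⁅d, u⁆) (b := x)).1 ?_ |>.symm
    calc x * ⁅d, u⁆ * x⁻¹ = (x * d * x⁻¹) * (x * u * x⁻¹) * (x * d * x⁻¹)⁻¹ * (x * u * x⁻¹)⁻¹ := by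
          simp only [commutatorElement_def]; group
      _ = (a * d) * u * (a * d)⁻¹ * u⁻¹ := by
          rw [hxU u hu, mul_inv_cancel_right, hadef]; group
      _ = (a * ⁅d, u⁆ * a⁻¹) * (a * u * a⁻¹ * u⁻¹) := by simp only [commutatorElement_def]; group
      _ = ⁅d, u⁆ := by rw [hau, mul_one, ← h.gZ_comm T hT hk (hLD ha), mul_inv_cancel_right]
  set Y := U ⊔ (gZ α T ⊓ Subgroup.centralizer {x}) with hY
  have hYL : Y ≤ L := sup_le hUL (inf_le_left.trans hZL)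
  have hYx : Y ≤ Subgroup.centralizer {x} :=
    sup_le (fun u hu => mem_centralizer_singleton_iff.2 (hxU u hu).symm) inf_le_right
  have hYexp : ∀ a ∈ Y, a * a = 1 := by
    intro a ha
    rw [hY, ← Subgroup.closure_eq U, ← Subgroup.closure_eq (gZ α T ⊓ Subgroup.centralizer {x}),
      ← Subgroup.closure_union] at ha
    have hgen : closure ((U : Set (H ⧸ Subgroup.center H)) ∪
        (gZ α T ⊓ Subgroup.centralizer {x} : Subgroup (H ⧸ Subgroup.center H))) ≤ L :=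
      (closure_le _).2 (Set.union_subset hUL fun y hy => hZL hy.1)
    induction ha using closure_induction with
    | mem y hy => exact hy.elim (hUfacts.2 y) fun hy' => h.gZ_sq T hT hy'.1
    | one => simp
    | mul s t hs ht ihs iht =>
      calc s * t * (s * t) = s * (t * s) * t := by group
        _ = (s * s) * (t * t) := by rw [hcomm t (hgen ht) s (hgen hs)]; group
        _ = 1 := by rw [ihs, iht, one_mul]
    | inv s _ ihs => rw [← mul_inv_rev, ihs, inv_one]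
  set S := Y.map (MulAut.conj g⁻¹).toMonoidHom with hSdef
  have hmemS : ∀ w ∈ Y, g⁻¹ * w * g ∈ S := fun w hw => ⟨w, hw, by simp⟩
  have hSM : S ≤ gM α T := by
    rintro _ ⟨w, hw, rfl⟩
    simp only [MulEquiv.coe_toMonoidHom, MulAut.conj_apply, inv_inv]
    refine h.gCent_le T hT hb hb1 ?_
    calc g⁻¹ * w * g * b = g⁻¹ * (w * x) * g := by rw [← hgx]; group
      _ = b * (g⁻¹ * w * g) := by rw [mem_centralizer_singleton_iff.1 (hYx hw), ← hgx]; group
  have hScomm : ∀ a ∈ S, ∀ a' ∈ S, a * a' = a' * a := by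
    rintro _ ⟨w, hw, rfl⟩ _ ⟨w', hw', rfl⟩
    rw [← map_mul, ← map_mul, hcomm w (hYL hw) w' (hYL hw')]
  have hSexp : ∀ a ∈ S, a * a = 1 := by
    rintro _ ⟨w, hw, rfl⟩
    rw [← map_mul, hYexp w hw, map_one]
  have hf : x⁻¹ * qAut α x ∈ U := by
    obtain ⟨c, -, -, u, hu, -, hfu⟩ := h.moved_mem_cm T hT hZL hLD hL hx hxW.2.2.2
    rw [hfu]
    exact mul_mem (inv_mem hu) (stb_cm hL u hu)
  obtain ⟨v, hvU, hnc⟩ := h.exists_liftNC T hT (hUL.trans hLD) (stb_cm hL) (cm_cm h.hr h.qPow h.qCo hL)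
    (fun a ha a' ha' => hcomm a (hUL ha) a' (hUL ha')) hf
    (fun hfix => h.offender_moved T hT hgM hb hb1 hgx hx (by rw [hfix, inv_mul_cancel]; exact one_mem _))
  have hmv := (h.moves_of_liftNC T hT hb hb1 hgx (hxU v hvU) hnc).2
  obtain ⟨hS2, hW⟩ := h.elem_inW T hT hm hk hSM hScomm hSexp (hmemS v (mem_sup_left hvU)) hmv
  refine ⟨fixL α T S, fun k hkZ hk1 hxk => ?_, fun w hw => hW _ (hmemS w ?_)⟩
  · refine ⟨fun e1 => hgM (inv_mem_iff.1 e1), hkZ, hk1, by rw [inv_inv], ?_, h.gZ_le_fixL T hT hSM,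
      h.fixL_le T hT hSM, h.fixL_stb T hT hSM, h.fixL_ne_gD T hT hSM (hmemS v (mem_sup_left hvU)) hmv,
      hab S hSM hS2 ⟨_, hmemS v (mem_sup_left hvU), hmv⟩, ?_⟩
    all_goals
      have hkY : k ∈ Y := mem_sup_right ⟨hkZ, mem_centralizer_singleton_iff.2 hxk.symm⟩
    · exact hSM (hmemS k hkY)
    · exact hW _ (hmemS k hkY)
  · rcases hw with hw | ⟨hwZ, hxw⟩
    · refine (sup_le le_sup_left (fun k hk => ?_) : ubGrp α T L ≤ Y) hw
      exact mem_sup_right ⟨h.bGrp_le T hT hLD hL hk, mem_centralizer_singleton_iff.2 (hxB k hk).symm⟩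
    · exact mem_sup_right ⟨hwZ, mem_centralizer_singleton_iff.2 hxw.symm⟩

omit hm hk in
/-- `gD` normalises `⟨U, [gD, U], W⟩`. -/
theorem Min.normalises_half {L : Subgroup (H ⧸ Subgroup.center H)} (hZL : gZ α T ≤ L)
    (hLD : L ≤ gD α T) (hL : Stb (qAut α) L) (W : Set (H ⧸ Subgroup.center H))
    (hW : ∀ w ∈ W, InW α T L w) {d : H ⧸ Subgroup.center H} (hd : d ∈ gD α T) :
    ∀ y ∈ closure ((ubGrp α T L : Set (H ⧸ Subgroup.center H)) ∪ W),
      d * y * d⁻¹ ∈ closure ((ubGrp α T L : Set (H ⧸ Subgroup.center H)) ∪ W) := by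
  intro y hy
  set F := closure ((ubGrp α T L : Set (H ⧸ Subgroup.center H)) ∪ W) with hF
  refine (?_ : F ≤ F.comap (MulAut.conj d).toMonoidHom) hy
  rw [hF, closure_le]
  rintro w (hw | hw) <;> rw [SetLike.mem_coe, Subgroup.mem_comap] <;>
    simp only [MulEquiv.coe_toMonoidHom, MulAut.conj_apply]
  · exact subset_closure (Or.inl (h.ubGrp_conj T hT hLD hL hd w hw))
  · have h1 : (d * w * d⁻¹ * w⁻¹) * w ∈ F :=
      mul_mem (subset_closure (Or.inl (h.inW_bracket T hT hZL hLD hL (hW w hw) hd)))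
        (subset_closure (Or.inr hw))
    simpa using h1

/-- An offender with an abelian line is impossible. -/
theorem Min.lType_false (hab : LinesAb α T) {g b x : H ⧸ Subgroup.center H}
    {L : Subgroup (H ⧸ Subgroup.center H)} (hl : LType α T g b x L) : False := by
  obtain ⟨L₂, hside, hW₂⟩ := h.lType_side T hT hm hk hab hl
  obtain ⟨hgM, hb, hb1, hgx, hx, hZL, hLD, hL, hLne, hcomm, hxW⟩ := hl
  have hxx := h.offender_sq T hT hb hgx
  obtain ⟨z, hz, hz1, hxz⟩ := h.exists_comm_gZ T hT hx hxx hb hb1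
  have hl₂ := hside z hz hz1 hxz
  obtain ⟨L₁, hside₁, hW₁⟩ := h.lType_side T hT hm hk hab hl₂
  have hzb : g⁻¹ * z * g * b = b * (g⁻¹ * z * g) := by
    calc g⁻¹ * z * g * b = g⁻¹ * (z * x) * g := by rw [← hgx]; group
      _ = b * (g⁻¹ * z * g) := by rw [← hxz, ← hgx]; group
  have hl₁ : LType α T g b x L₁ := by
    have := hside₁ b hb hb1 hzb
    rwa [inv_inv, hgx] at this
  have hLeq : L₁ = L := h.line_eq T hT hm hk hl₁.leL hl₁.leD hl₁.stb hl₁.neD hZL hLD hL hLne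
    hl₁.inW.2.2.2 hxW.2.2.2 (h.offender_moved T hT hgM hb hb1 hgx hx)
  subst hLeq
  have hW₁' : ∀ w, w ∈ ubGrp α T L₂ → InW α T L₁ (g * w * g⁻¹) := fun w hw => by
    have := hW₁ w (Or.inl hw)
    rwa [inv_inv] at this
  set U₂ := ubGrp α T L₂ with hU₂
  set F := closure ((ubGrp α T L₁ : Set (H ⧸ Subgroup.center H)) ∪
    {w | g⁻¹ * w * g ∈ U₂}) with hF
  have hWF : ∀ w ∈ {w | g⁻¹ * w * g ∈ U₂}, InW α T L₁ w := fun w hw => by
    have := hW₁' _ hw
    rwa [show g * (g⁻¹ * w * g) * g⁻¹ = w by group] at this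
  have hD1 : ∀ d ∈ gD α T, ∀ w ∈ F, d * w * d⁻¹ ∈ F := fun d hd =>
    h.normalises_half T hT hZL hLD hL _ hWF hd
  set F₂ := closure ((ubGrp α T L₂ : Set (H ⧸ Subgroup.center H)) ∪
    {w | g * w * g⁻¹ ∈ ubGrp α T L₁}) with hF₂
  have hWF₂ : ∀ w ∈ {w | g * w * g⁻¹ ∈ ubGrp α T L₁}, InW α T L₂ w := fun w hw => by
    have := hW₂ _ (Or.inl hw)
    rwa [show g⁻¹ * (g * w * g⁻¹) * g = w by group] at this
  have hflip : F ≤ F₂.comap (MulAut.conj g⁻¹).toMonoidHom := (closure_le _).2 (by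
    rintro w (hw | hw) <;> rw [SetLike.mem_coe, Subgroup.mem_comap] <;>
      simp only [MulEquiv.coe_toMonoidHom, MulAut.conj_apply, inv_inv]
    · refine subset_closure (Or.inr ?_)
      show g * (g⁻¹ * w * g) * g⁻¹ ∈ ubGrp α T L₁
      rwa [show g * (g⁻¹ * w * g) * g⁻¹ = w by group]
    · exact subset_closure (Or.inl hw))
  have hflip' : F₂ ≤ F.comap (MulAut.conj g).toMonoidHom := (closure_le _).2 (by
    rintro w (hw | hw) <;> rw [SetLike.mem_coe, Subgroup.mem_comap] <;>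
      simp only [MulEquiv.coe_toMonoidHom, MulAut.conj_apply]
    · refine subset_closure (Or.inr ?_)
      show g⁻¹ * (g * w * g⁻¹) * g ∈ U₂
      rwa [show g⁻¹ * (g * w * g⁻¹) * g = w by group]
    · exact subset_closure (Or.inl hw))
  have hD2 : ∀ d ∈ gD α T, ∀ w ∈ F, (g * d * g⁻¹) * w * (g * d * g⁻¹)⁻¹ ∈ F := by
    intro d hd w hw
    have h1 : g⁻¹ * w * g ∈ F₂ := by simpa using hflip hw
    have h2 := hflip' (h.normalises_half T hT hl₂.leL hl₂.leD hl₂.stb _ hWF₂ hd _ h1)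
    simpa [mul_assoc] using h2
  have hFM : F ≤ gM α T := (closure_le _).2 (by
    rintro w (hw | hw)
    · exact h.gD_le_gM T hT (hLD (h.ubGrp_le T hT hZL hLD hL hw))
    · exact (hWF w hw).1)
  have hFα : Stb (qAut α) F := stb_closure (by
    rintro w (hw | hw)
    · refine subset_closure (Or.inl ?_)
      refine (Stb.sup (stb_cm hL) ?_ : Stb (qAut α) (ubGrp α T L₁)) w hw
      exact fun k hk => by rwa [h.gZ_fixed T hT (h.bGrp_le T hT hLD hL hk)]
    · obtain ⟨c, -, -, u, hu, -, hfu⟩ := h.moved_mem_cm T hT hZL hLD hL (hWF w hw).1 (hWF w hw).2.2.2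
      rw [show qAut α w = w * (w⁻¹ * qAut α w) by group, hfu]
      exact mul_mem (subset_closure (Or.inr hw)) (subset_closure (Or.inl (mem_sup_left
        (mul_mem (inv_mem hu) (stb_cm hL u hu))))))
  have hNne : Subgroup.normalizer (F : Set (H ⧸ Subgroup.center H)) ≠ ⊤ := by
    intro e1
    haveI := Subgroup.normalizer_eq_top_iff.1 e1
    rcases h.gNormal T hT hFα with h2 | h2
    · obtain ⟨c, -, -, u, hu, -, hfu⟩ := h.moved_mem_cm T hT hZL hLD hL hx hxW.2.2.2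
      have h3 : x⁻¹ * qAut α x ∈ F := subset_closure (Or.inl (mem_sup_left
        (hfu ▸ mul_mem (inv_mem hu) (stb_cm hL u hu))))
      rw [h2, Subgroup.mem_bot] at h3
      exact h.offender_moved T hT hgM hb hb1 hgx hx (by rw [h3]; exact one_mem _)
    · exact h.gM_ne_top T hT (top_le_iff.1 (h2 ▸ hFM))
  have hDN : gD α T ≤ Subgroup.normalizer (F : Set (H ⧸ Subgroup.center H)) := fun d hd =>
    Lib.FS.mem_normalizer_of_conj_mem (hD1 d hd)
  have hNM := h.le_gM T hT hFα.normalizer hNne hDN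
  exact hgM (h.mem_gM_of_conj T hT fun d hd => hNM (Lib.FS.mem_normalizer_of_conj_mem (hD2 d hd)))

/-- Data at the other point for a bad offender not moving `gD`. -/
theorem Min.bad_side {g b x : H ⧸ Subgroup.center H} (hgM : g ∉ gM α T) (hb : b ∈ gZ α T)
    (hb1 : b ≠ 1) (hgx : g * b * g⁻¹ = x) (hx : x ∈ gM α T) (hxm : ¬ MovesD α T x)
    {A : Subgroup (H ⧸ Subgroup.center H)} (hAD : A ≤ gD α T) (hA : Stb (qAut α) A)
    (hcm : cm (qAut α) A = A) (hcomm : ∀ a ∈ A, ∀ a' ∈ A, a * a' = a' * a)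
    (hxA : ∀ a ∈ A, x * a = a * x) (hf : x⁻¹ * qAut α x ∈ A) :
    ∃ S : Subgroup (H ⧸ Subgroup.center H), ∃ v ∈ S, S ≤ gM α T ∧ IsPGroup 2 S ∧ MovesD α T v ∧
      g⁻¹ * b * g ∈ S ∧ InW α T (fixL α T S) (g⁻¹ * b * g) := by
  have hxZ := h.comm_gZ_of_not_moves T hT hx hxm
  have hA2 := (h.gAbelian_facts T hT hAD hA hcm hcomm).2
  set Y := A ⊔ gZ α T with hY
  have hYD : Y ≤ gD α T := sup_le hAD (h.gZ_le_gD T hT)
  have hYc : ∀ y ∈ Y, ∀ a ∈ Y, y * a = a * y := by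
    have h0 : ∀ w ∈ A, ∀ y ∈ Y, y * w = w * y := fun w hw y hy => by
      refine mem_centralizer_singleton_iff.1 ((?_ : Y ≤ Subgroup.centralizer {w}) hy)
      exact sup_le (fun t ht => mem_centralizer_singleton_iff.2 (hcomm t ht w hw))
        (fun t ht => mem_centralizer_singleton_iff.2 (h.gZ_comm T hT ht (hAD hw)))
    intro y hy a ha
    refine (mem_centralizer_singleton_iff.1 ((?_ : Y ≤ Subgroup.centralizer {y}) ha)).symm
    exact sup_le (fun t ht => mem_centralizer_singleton_iff.2 (h0 t ht y hy).symm)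
      (fun t ht => mem_centralizer_singleton_iff.2 (h.gZ_comm T hT ht (hYD hy)))
  have hYexp : ∀ a ∈ Y, a * a = 1 := by
    intro a ha
    rw [hY, ← Subgroup.closure_eq A, ← Subgroup.closure_eq (gZ α T), ← Subgroup.closure_union] at ha
    have hgen : closure ((A : Set (H ⧸ Subgroup.center H)) ∪ (gZ α T : Set (H ⧸ Subgroup.center H))) ≤ Y :=
      (closure_le _).2 (Set.union_subset (fun t ht => mem_sup_left ht) fun t ht => mem_sup_right ht)
    induction ha using closure_induction with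
    | mem y hy => exact hy.elim (hA2 y) fun hy' => h.gZ_sq T hT hy'
    | one => simp
    | mul s t hs ht ihs iht =>
      calc s * t * (s * t) = s * (t * s) * t := by group
        _ = (s * s) * (t * t) := by rw [hYc t (hgen ht) s (hgen hs)]; group
        _ = 1 := by rw [ihs, iht, one_mul]
    | inv s _ ihs => rw [← mul_inv_rev, ihs, inv_one]
  set S := Y.map (MulAut.conj g⁻¹).toMonoidHom with hSdef
  have hmemS : ∀ w ∈ Y, g⁻¹ * w * g ∈ S := fun w hw => ⟨w, hw, by simp⟩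
  have hSM : S ≤ gM α T := by
    rintro _ ⟨w, hw, rfl⟩
    simp only [MulEquiv.coe_toMonoidHom, MulAut.conj_apply, inv_inv]
    refine h.gCent_le T hT hb hb1 ?_
    have hxw : x * w = w * x := by
      refine (mem_centralizer_singleton_iff.1 ((?_ : Y ≤ Subgroup.centralizer {x}) hw)).symm
      exact sup_le (fun t ht => mem_centralizer_singleton_iff.2 (hxA t ht).symm)
        (fun t ht => mem_centralizer_singleton_iff.2 (hxZ t ht).symm)
    calc g⁻¹ * w * g * b = g⁻¹ * (w * x) * g := by rw [← hgx]; group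
      _ = b * (g⁻¹ * w * g) := by rw [← hxw, ← hgx]; group
  have hScomm : ∀ a ∈ S, ∀ a' ∈ S, a * a' = a' * a := by
    rintro _ ⟨w, hw, rfl⟩ _ ⟨w', hw', rfl⟩
    rw [← map_mul, ← map_mul, hYc w hw w' hw']
  have hSexp : ∀ a ∈ S, a * a = 1 := by
    rintro _ ⟨w, hw, rfl⟩
    rw [← map_mul, hYexp w hw, map_one]
  obtain ⟨v, hvA, hnc⟩ := h.exists_liftNC T hT hAD hA hcm hcomm hf
    (fun hfix => h.offender_moved T hT hgM hb hb1 hgx hx (by rw [hfix, inv_mul_cancel]; exact one_mem _))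
  have hmv := (h.moves_of_liftNC T hT hb hb1 hgx (hxA v hvA) hnc).2
  have hvS := hmemS v (mem_sup_left hvA)
  obtain ⟨hS2, hW⟩ := h.elem_inW T hT hm hk hSM hScomm hSexp hvS hmv
  exact ⟨S, _, hvS, hSM, hS2, hmv, hmemS b (mem_sup_right hb), hW _ (hmemS b (mem_sup_right hb))⟩

omit hm in
/-- A line containing a moved abelian subgroup is abelian. -/
theorem Min.line_comm_of_abelian (hm : r = 2 ^ m + 1) {L A : Subgroup (H ⧸ Subgroup.center H)}
    (hZL : gZ α T ≤ L) (hLD : L ≤ gD α T) (hL : Stb (qAut α) L) (hLne : L ≠ gD α T) (hAL : A ≤ L)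
    (hA : Stb (qAut α) A) (hcomm : ∀ a ∈ A, ∀ a' ∈ A, a * a' = a' * a)
    (hne : ∃ a ∈ A, a ∉ gZ α T) : ∀ a ∈ L, ∀ a' ∈ L, a * a' = a' * a := by
  obtain ⟨a₀, ha₀, ha₀Z⟩ := hne
  set Y := A ⊔ gZ α T with hY
  have hYL : Y ≤ L := sup_le hAL hZL
  have e1 : Y = L := h.line_eq T hT hm hk le_sup_right (hYL.trans hLD) (hA.sup (h.gZ_stb T hT))
    (fun e1 => hLne (le_antisymm hLD (e1 ▸ hYL))) hZL hLD hL hLne (mem_sup_left ha₀) (hAL ha₀) ha₀Z
  have h0 : ∀ w ∈ A, ∀ y ∈ Y, y * w = w * y := fun w hw y hy => by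
    refine mem_centralizer_singleton_iff.1 ((?_ : Y ≤ Subgroup.centralizer {w}) hy)
    exact sup_le (fun t ht => mem_centralizer_singleton_iff.2 (hcomm t ht w hw))
      (fun t ht => mem_centralizer_singleton_iff.2 (h.gZ_comm T hT ht (hLD (hAL hw))))
  intro a ha a' ha'
  refine (mem_centralizer_singleton_iff.1 ((?_ : Y ≤ Subgroup.centralizer {a}) (e1.symm ▸ ha'))).symm
  exact sup_le (fun t ht => mem_centralizer_singleton_iff.2 (h0 t ht a (e1.symm ▸ ha)).symm)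
    (fun t ht => mem_centralizer_singleton_iff.2 (h.gZ_comm T hT ht (hLD ha)))

/-- No conjugate of an element of `gZ` leaves its point. -/
theorem Min.oneFix_of_card {g b x : H ⧸ Subgroup.center H} (hgM : g ∉ gM α T) (hb : b ∈ gZ α T)
    (hb1 : b ≠ 1) (hgx : g * b * g⁻¹ = x) (hx : x ∈ gM α T) : False := by
  have hxx := h.offender_sq T hT hb hgx
  have hgiM : g⁻¹ ∉ gM α T := fun e1 => hgM (inv_mem_iff.1 e1)
  have hxoff := h.offender_moved T hT hgM hb hb1 hgx hx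
  by_cases hab : LinesAb α T
  · by_cases hxm : MovesD α T x
    · have hS : Subgroup.zpowers x ≤ gM α T := Subgroup.zpowers_le.2 hx
      have hexp : ∀ a ∈ Subgroup.zpowers x, a * a = 1 := by
        rintro _ ⟨i, rfl⟩
        show x ^ i * x ^ i = 1
        rw [← zpow_add, ← two_mul, zpow_mul, zpow_two, hxx, one_zpow]
      have hcomm : ∀ a ∈ Subgroup.zpowers x, ∀ a' ∈ Subgroup.zpowers x, a * a' = a' * a := by
        rintro _ ⟨i, rfl⟩ _ ⟨j, rfl⟩
        exact zpow_mul_comm x i j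
      obtain ⟨hS2, hW⟩ := h.elem_inW T hT hm hk hS hcomm hexp (Subgroup.mem_zpowers x) hxm
      exact h.lType_false T hT hm hk hab ⟨hgM, hb, hb1, hgx, hx, h.gZ_le_fixL T hT hS, h.fixL_le T hT hS,
        h.fixL_stb T hT hS, h.fixL_ne_gD T hT hS (Subgroup.mem_zpowers x) hxm,
        hab _ hS hS2 ⟨x, Subgroup.mem_zpowers x, hxm⟩, hW x (Subgroup.mem_zpowers x)⟩
    rcases h.offender_split T hT hgM hb hb1 hgx hx with ⟨a, ha, hxa, ha2⟩ |
        ⟨A, hAD, hA, hcm, hcomm, hxA, -, hf, -⟩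
    · -- the square of the element at the other point
      set a' := g⁻¹ * a * g with ha'
      have ha'M : a' ∈ gM α T := h.gCent_le T hT hb hb1 (by
        calc g⁻¹ * a * g * b = g⁻¹ * (a * x) * g := by rw [← hgx]; group
          _ = b * (g⁻¹ * a * g) := by rw [← hxa, ← hgx]; group)
      have hsq := h.gD_sq T hT ha
      have hss : g⁻¹ * (a * a) * g⁻¹⁻¹ = a' * a' := by rw [ha', inv_inv]; group
      have hsM : a' * a' ∈ gM α T := mul_mem ha'M ha'M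
      have hoff := h.offender_moved T hT hgiM hsq ha2 hss hsM
      have hfD := h.gM_moved T hT ha'M
      set f := a'⁻¹ * qAut α a' with hfdef
      have hsf : (a' * a')⁻¹ * qAut α (a' * a') = (a'⁻¹ * f * a'⁻¹⁻¹ * f⁻¹) * (f * f) := by
        rw [map_mul, hfdef]; group
      have hS : Subgroup.zpowers a' ≤ gM α T := Subgroup.zpowers_le.2 ha'M
      have hmv : MovesD α T a' := by
        by_contra hno
        refine hoff ?_
        rw [hsf]
        refine mul_mem ?_ (h.gD_sq T hT hfD)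
        have h1 : a' * f * a'⁻¹ * f⁻¹ ∈ gZ α T := by
          by_contra hne
          exact hno ⟨f, hfD, hne⟩
        have := h.gZ_conj T hT (inv_mem ha'M) (inv_mem h1)
        simpa [mul_assoc] using this
      have hS2 : IsPGroup 2 (Subgroup.zpowers a') := by
        refine isPGroup_zpowers_of_twoEl ?_
        obtain ⟨k, hk'⟩ := h.gD_isPGroup T hT ⟨a, ha⟩
        refine ⟨k, ?_⟩
        rw [ha', show g⁻¹ * a * g = g⁻¹ * a * g⁻¹⁻¹ by group, conj_pow,
          show a ^ 2 ^ k = 1 from congrArg Subtype.val hk']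
        group
      set L := fixL α T (Subgroup.zpowers a') with hLdef
      have hser := h.fixL_series T hT hm hk hS hS2 (Subgroup.mem_zpowers a') hmv
      exact h.lType_false T hT hm hk hab (g := g⁻¹) (b := a * a) (x := a' * a') (L := L)
        ⟨hgiM, hsq, ha2, hss, hsM, h.gZ_le_fixL T hT hS, h.fixL_le T hT hS, h.fixL_stb T hT hS,
          h.fixL_ne_gD T hT hS (Subgroup.mem_zpowers a') hmv,
          hab _ hS hS2 ⟨a', Subgroup.mem_zpowers a', hmv⟩,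
          ⟨hsM, hser _ (mul_mem (Subgroup.mem_zpowers a') (Subgroup.mem_zpowers a')),
            fun l hl => ((h.mem_fixL T hT hS).1 hl).2 _
              (mul_mem (Subgroup.mem_zpowers a') (Subgroup.mem_zpowers a')), by
            rw [hsf]
            exact mul_mem (hser _ (inv_mem (Subgroup.mem_zpowers a')) f hfD)
              (h.gZ_le_fixL T hT hS (h.gD_sq T hT hfD))⟩⟩
    · obtain ⟨S, v, hvS, hSM, hS2, hmv, hzS, hW⟩ :=
        h.bad_side T hT hm hk hgM hb hb1 hgx hx hxm hAD hA hcm hcomm hxA hf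
      exact h.lType_false T hT hm hk hab (g := g⁻¹) (b := b)
        ⟨hgiM, hb, hb1, by rw [inv_inv], hSM hzS, h.gZ_le_fixL T hT hSM, h.fixL_le T hT hSM,
          h.fixL_stb T hT hSM, h.fixL_ne_gD T hT hSM hvS hmv, hab _ hSM hS2 ⟨v, hvS, hmv⟩, hW⟩
  · have hnoT : ¬ TCase α T := fun ht => hab (h.linesAb_of_tCase T hT hm hk ht)
    rcases h.offender_split T hT hgM hb hb1 hgx hx with ⟨a, ha, hxa, ha2⟩ |
        ⟨A, hAD, hA, hcm, hcomm, hxA, hAfix, hf, -⟩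
    · exact hnoT (h.tCase_of_good T hT hgM hb hb1 hgx ha hxa ha2)
    by_cases hxm : MovesD α T x
    · have hS : Subgroup.zpowers x ≤ gM α T := Subgroup.zpowers_le.2 hx
      have hS2 : IsPGroup 2 (Subgroup.zpowers x) :=
        isPGroup_zpowers_of_twoEl ⟨1, by rw [pow_one, pow_two, hxx]⟩
      exact h.fixL_noncomm T hT hm hk hab hS hS2 ⟨x, Subgroup.mem_zpowers x, hxm⟩
        (h.line_comm_of_abelian T hT hk hm (h.gZ_le_fixL T hT hS) (h.fixL_le T hT hS)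
          (h.fixL_stb T hT hS) (h.fixL_ne_gD T hT hS (Subgroup.mem_zpowers x) hxm) hAfix hA hcomm
          ⟨_, hf, hxoff⟩)
    · obtain ⟨S, v, hvS, hSM, hS2, hmv, hzS, hW⟩ :=
        h.bad_side T hT hm hk hgM hb hb1 hgx hx hxm hAD hA hcm hcomm hxA hf
      have hgz : g⁻¹ * b * g⁻¹⁻¹ = g⁻¹ * b * g := by rw [inv_inv]
      rcases h.offender_split T hT hgiM hb hb1 hgz (hSM hzS) with ⟨a, ha, hxa, ha2⟩ |
          ⟨A₂, hA₂D, hA₂, -, hcomm₂, -, -, hf₂, hA₂L⟩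
      · exact hnoT (h.tCase_of_good T hT hgiM hb hb1 hgz ha hxa ha2)
      refine h.fixL_noncomm T hT hm hk hab hSM hS2 ⟨v, hvS, hmv⟩
        (h.line_comm_of_abelian T hT hk hm (h.gZ_le_fixL T hT hSM) (h.fixL_le T hT hSM)
          (h.fixL_stb T hT hSM) (h.fixL_ne_gD T hT hSM hvS hmv)
          (hA₂L _ (h.gZ_le_fixL T hT hSM) (h.fixL_le T hT hSM) (h.fixL_stb T hT hSM) hW.2.2.2)
          hA₂ hcomm₂ ⟨_, hf₂, h.offender_moved T hT hgiM hb hb1 hgz (hSM hzS)⟩)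

end Lines

end Cfsg.Agent.Lib.HHS57
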