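import Cfsg.Agent.Lib.HHS57.Fixing
import Cfsg.Agent.Lib.Components.GenFitting
import Cfsg.Agent.Lib.FStarTools.Basic

/-!
# Families of commuting quasisimple subgroups permuted by `β` and its fixed points (helper57)

If `β` of prime order `r ∤ |X|` and `S` is such a family, every member is centralised by `β` or lies
in the layer; in a group equal to its layer a member not centralised by `β` is a component or lies
in a `β`-invariant component.
-/

set_option autoImplicit false
set_option linter.style.haveILetI false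
set_option linter.unusedSectionVars false

namespace Cfsg.Agent.Lib.HHS57

open Cfsg Cfsg.Agent.Lib Cfsg.Agent.Lib.Components
open Subgroup
open scoped commutatorElement

universe u

variable {X : Type u} [Group X] [Finite X] {r : ℕ} {β : MulAut X}

/-- An endomorphism of a perfect group moving elements by central ones is the identity. -/
theorem eq_of_central_diff {K : Type u} [Group K] (hK : commutator K = ⊤) (σ : K →* K)
    (h : ∀ k, k⁻¹ * σ k ∈ Subgroup.center K) (k : K) : σ k = k := by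
  let f : K →* K := MonoidHom.mk' (fun x => x⁻¹ * σ x) fun x y => by
    rw [map_mul, mul_inv_rev]
    calc y⁻¹ * x⁻¹ * (σ x * σ y) = y⁻¹ * (x⁻¹ * σ x) * σ y := by group
      _ = x⁻¹ * σ x * (y⁻¹ * σ y) := by rw [mem_center_iff.1 (h x) y⁻¹, mul_assoc]
  have hle : commutator K ≤ f.ker := by
    rw [_root_.commutator_def, commutator_le]
    intro x _ y _
    rw [MonoidHom.mem_ker, map_commutatorElement, commutatorElement_eq_one_iff_mul_comm]
    exact (mem_center_iff.1 (h x) (f y)).symm
  exact (inv_mul_eq_one.1 (hle (hK ▸ mem_top k) : k⁻¹ * σ k = 1)).symm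

theorem commutator_top_of_qs {K : Subgroup X} (hK : IsQuasisimple K) : commutator K = ⊤ :=
  hK.1.commutator_eq_top

theorem commutator_self_of_qs {K : Subgroup X} (hK : IsQuasisimple K) : ⁅K, K⁆ = K :=
  Subgroup.isPerfect_iff.1 hK.1

theorem not_le_centralizer_of_qs {K : Subgroup X} (hK : IsQuasisimple K) :
    ¬ K ≤ Subgroup.centralizer (K : Set X) := fun h =>
  Quasisimple.not_isMulCommutative hK (le_centralizer_iff_isMulCommutative.1 h)

/-- A normal subgroup meets a quasisimple subgroup it does not contain in its centre. -/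
theorem mem_center_of_qs {K : Subgroup X} (hK : IsQuasisimple K) {N : Subgroup X}
    (hN : ∀ k ∈ K, ∀ y ∈ N, k * y * k⁻¹ ∈ N) (hKN : ¬ K ≤ N) {x : K} (hx : (x : X) ∈ N) :
    x ∈ Subgroup.center K := by
  have hn : (N.subgroupOf K).Normal := ⟨fun y hy k => hN k k.2 y hy⟩
  exact (Quasisimple.normal_le_center_or_eq_top hK hn).resolve_right
    (fun e => hKN (subgroupOf_eq_top.1 e)) hx

/-- An element normalising a quasisimple `K` trivially modulo `N` centralises it. -/
theorem commute_of_normalizes {K : Subgroup X} (hK : IsQuasisimple K) {N : Subgroup X}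
    (hN : ∀ k ∈ K, ∀ y ∈ N, k * y * k⁻¹ ∈ N) (hKN : ¬ K ≤ N) {d : X}
    (hd : ∀ k ∈ K, d * k * d⁻¹ ∈ K) (hdN : ∀ k ∈ K, k⁻¹ * (d * k * d⁻¹) ∈ N) :
    d ∈ Subgroup.centralizer (K : Set X) := by
  let σ : K →* K := MonoidHom.mk' (fun k => ⟨d * k * d⁻¹, hd k k.2⟩) fun a b => Subtype.ext (by
    simp [mul_assoc])
  refine mem_centralizer_iff.2 fun k hk => ?_
  have e1 : d * k * d⁻¹ = k := congrArg Subtype.val (eq_of_central_diff (commutator_top_of_qs hK) σ
    (fun a => mem_center_of_qs hK hN hKN (hdN a a.2)) ⟨k, hk⟩)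
  exact (mul_inv_eq_iff_eq_mul.1 e1).symm

/-- The family. -/
structure Fam (β : MulAut X) (S : Set (Subgroup X)) : Prop where
  qs : ∀ K ∈ S, IsQuasisimple K
  comm : ∀ K ∈ S, ∀ K' ∈ S, K ≠ K' → ⁅K, K'⁆ = ⊥
  stb : ∀ K ∈ S, K.map β.toMonoidHom ∈ S
  fixed : ∀ K ∈ S, ∀ c, β c = c → K.map (MulAut.conj c).toMonoidHom ∈ S

/-- The join of the `β`-images. -/
def orb (β : MulAut X) (K : Subgroup X) : Subgroup X := ⨆ j : ℕ, K.map (β ^ j).toMonoidHom

theorem map_pow_succ (K : Subgroup X) (j : ℕ) :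
    (K.map (β ^ j).toMonoidHom).map β.toMonoidHom = K.map (β ^ (j + 1)).toMonoidHom := by
  rw [map_map, pow_succ']
  rfl

theorem map_pow_zero (K : Subgroup X) : K.map (β ^ 0).toMonoidHom = K := by
  rw [pow_zero]
  exact K.map_id

theorem le_orb (K : Subgroup X) : K ≤ orb β K :=
  (map_pow_zero (β := β) K).ge.trans (le_iSup (fun j : ℕ => K.map (β ^ j).toMonoidHom) 0)

theorem stb_orb (K : Subgroup X) : Stb β (orb β K) := by
  have h : (orb β K).map β.toMonoidHom ≤ orb β K := by
    rw [orb, Subgroup.map_iSup]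
    refine iSup_le fun j => ?_
    rw [map_pow_succ]
    exact le_iSup (fun j : ℕ => K.map (β ^ j).toMonoidHom) (j + 1)
  exact fun x hx => h ⟨x, hx, rfl⟩

theorem Stb.pow {N : Subgroup X} (hN : Stb β N) : ∀ j : ℕ, Stb (β ^ j) N
  | 0, x, hx => hx
  | j + 1, x, hx => by rw [pow_succ, MulAut.mul_apply]; exact Stb.pow hN j _ (hN x hx)

theorem le_of_pow_le {K N : Subgroup X} (hN : Stb β N) {j : ℕ}
    (h : K.map (β ^ j).toMonoidHom ≤ N) : K ≤ N := by
  rw [← (hN.pow j).map_eq] at h
  exact (map_le_map_iff_of_injective (β ^ j).injective).1 h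

variable {S : Set (Subgroup X)} (hS : Fam β S)
include hS

theorem Fam.pow_mem {K : Subgroup X} (hK : K ∈ S) : ∀ j : ℕ, K.map (β ^ j).toMonoidHom ∈ S
  | 0 => (map_pow_zero (β := β) K).symm ▸ hK
  | j + 1 => map_pow_succ (β := β) K j ▸ hS.stb _ (Fam.pow_mem hK j)

theorem Fam.orb_perfect {K : Subgroup X} (hK : K ∈ S) : ⁅orb β K, orb β K⁆ = orb β K := by
  refine le_antisymm (commutator_le_self _) (iSup_le fun j => ?_)
  rw [← commutator_self_of_qs (hS.qs _ (hS.pow_mem hK j))]
  exact commutator_mono (le_iSup (fun j : ℕ => K.map (β ^ j).toMonoidHom) j)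
    (le_iSup (fun j : ℕ => K.map (β ^ j).toMonoidHom) j)

/-- A fixed element of a normal subgroup not containing `K` centralises `K`. -/
theorem Fam.fixed_mem_centralizer {K : Subgroup X} (hK : K ∈ S) {N : Subgroup X} [N.Normal]
    (hKN : ¬ K ≤ N) {d : X} (hdN : d ∈ N) (hd : β d = d) :
    d ∈ Subgroup.centralizer (K : Set X) := by
  have hdiff : ∀ k : X, k⁻¹ * (d * k * d⁻¹) ∈ N := fun k => by
    rw [show k⁻¹ * (d * k * d⁻¹) = k⁻¹ * d * (k⁻¹)⁻¹ * d⁻¹ by group]
    exact mul_mem (Subgroup.Normal.conj_mem inferInstance d hdN _) (inv_mem hdN)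
  have heq : K.map (MulAut.conj d).toMonoidHom = K := by
    by_contra hne
    have hc := commutator_eq_bot_iff_le_centralizer.1
      (hS.comm K hK _ (hS.fixed K hK d hd) (fun e => hne e.symm))
    refine hKN ?_
    rw [← commutator_self_of_qs (hS.qs K hK), commutator_le]
    intro a ha b hb
    have e1 : d * b * d⁻¹ * a = a * (d * b * d⁻¹) :=
      mem_centralizer_iff.1 (hc ha) _ ⟨b, hb, rfl⟩
    rw [← QuotientGroup.eq_one_iff, ← QuotientGroup.mk'_apply, map_commutatorElement,
      commutatorElement_eq_one_iff_mul_comm]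
    have hb' : QuotientGroup.mk' N b = QuotientGroup.mk' N (d * b * d⁻¹) :=
      QuotientGroup.eq.2 (hdiff b)
    rw [hb', ← map_mul, ← map_mul, e1]
  exact commute_of_normalizes (hS.qs K hK)
    (fun k _ y hy => Subgroup.Normal.conj_mem inferInstance y hy k) hKN
    (fun k hk => heq.le ⟨k, hk, rfl⟩) (fun k _ => hdiff k)

theorem Fam.le_cm {K : Subgroup X} (hK : K ∈ S) (hnf : ¬ K ≤ fixG β) :
    K ≤ cm β (orb β K) := by
  set C := cm β (orb β K) with hC
  have hle := le_orb (β := β) K
  have hnorm : ∀ k ∈ K, ∀ y ∈ C, k * y * k⁻¹ ∈ C := fun k hk y hy => conj_mem_cm' (hle hk) hy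
  by_cases hβK : K.map β.toMonoidHom = K
  · by_contra hKC
    refine hnf fun k hk => ?_
    have hst : Stb β K := fun x hx => hβK.le ⟨x, hx, rfl⟩
    exact congrArg Subtype.val (eq_of_central_diff (commutator_top_of_qs (hS.qs K hK))
      (resA β K hst).toMonoidHom
      (fun a => mem_center_of_qs (hS.qs K hK) hnorm hKC (by
        show (a : X)⁻¹ * β a ∈ C
        exact mem_cm (hle a.2))) ⟨k, hk⟩)
  · have hc := commutator_eq_bot_iff_le_centralizer.1
      (hS.comm K hK _ (hS.stb K hK) (fun e => hβK e.symm))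
    rw [← commutator_self_of_qs (hS.qs K hK), commutator_le]
    intro a ha b hb
    have e1 : β a⁻¹ * b = b * β a⁻¹ := mem_centralizer_iff.1 (hc hb) _ ⟨a⁻¹, inv_mem ha, rfl⟩
    have hx : a * β a⁻¹ ∈ C := by
      have := mem_cm (β := β) (hle (inv_mem ha))
      rwa [inv_inv] at this
    have h2 := mul_mem hx (hnorm b hb _ (inv_mem hx))
    have e2 : a * β a⁻¹ * (b * (a * β a⁻¹)⁻¹ * b⁻¹) = ⁅a, b⁆ := by
      rw [commutatorElement_def]
      calc a * β a⁻¹ * (b * (a * β a⁻¹)⁻¹ * b⁻¹) = a * (β a⁻¹ * b) * (β a⁻¹)⁻¹ * a⁻¹ * b⁻¹ := by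
            group
        _ = a * (b * β a⁻¹) * (β a⁻¹)⁻¹ * a⁻¹ * b⁻¹ := by rw [e1]
        _ = a * b * a⁻¹ * b⁻¹ := by group
    rwa [e2] at h2

/-- A member centralises every invariant normal subgroup not containing it. -/
theorem Fam.le_centralizer (hr : r.Prime) (hβ : β ^ r = 1) (hco : ¬ r ∣ Nat.card X)
    {K : Subgroup X} (hK : K ∈ S) (hnf : ¬ K ≤ fixG β) {N : Subgroup X} [N.Normal] (hN : Stb β N)
    (hKN : ¬ K ≤ N) : K ≤ Subgroup.centralizer (N : Set X) := by
  have hgen : cm β (orb β K) = orb β K := by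
    refine le_antisymm (cm_le (stb_orb K)) (iSup_le fun j => ?_)
    rintro _ ⟨k, hk, rfl⟩
    exact (stb_cm (stb_orb K)).pow j _ (hS.le_cm hK hnf hk)
  refine (le_orb (β := β) K).trans
    (le_centralizer_of_fixed hr hβ hco (stb_orb K) hN (hS.orb_perfect hK) hgen ?_)
  intro d hd
  rw [mem_centralizer_iff]
  intro m hm
  suffices h : orb β K ≤ Subgroup.centralizer {d} from
    (mem_centralizer_singleton_iff.1 (h hm))
  refine iSup_le fun j => fun k hk => mem_centralizer_singleton_iff.2 ?_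
  exact mem_centralizer_iff.1 (hS.fixed_mem_centralizer (hS.pow_mem hK j)
    (fun h => hKN (le_of_pow_le hN h)) hd.1 hd.2) k hk

/-- A member not centralised by `β` lies in the layer. -/
theorem Fam.le_layer (hr : r.Prime) (hβ : β ^ r = 1) (hco : ¬ r ∣ Nat.card X)
    {K : Subgroup X} (hK : K ∈ S) (hnf : ¬ K ≤ fixG β) : K ≤ layer X := by
  by_contra hKE
  haveI : Group.IsSolvable (fittingSubgroup X) := FStarTools.isSolvable_fitting
  haveI : (fittingSubgroup X).Characteristic :=
    Subgroup.characteristic_iff_map_eq.mpr fun e => Cores.map_fittingSubgroup_equiv e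
  have hKF : ¬ K ≤ fittingSubgroup X := fun h => Quasisimple.not_isSolvable (hS.qs K hK)
    (Group.isSolvable_of_isSolvable_injective (f := inclusion h) (inclusion_injective h))
  have h1 := hS.le_centralizer hr hβ hco hK hnf (N := layer X) stb_char hKE
  have h2 := hS.le_centralizer hr hβ hco hK hnf (N := fittingSubgroup X) stb_char hKF
  have h3 : K ≤ Subgroup.centralizer (generalizedFittingSubgroup X : Set X) := by
    rw [le_centralizer_iff]
    exact sup_le (le_centralizer_iff.1 h1) (le_centralizer_iff.1 h2)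
  exact not_le_centralizer_of_qs (hS.qs K hK)
    (h3.trans (Subgroup.centralizer_le (SetLike.coe_subset_coe.2
      (h3.trans GenFitting.centralizer_le))))

end Cfsg.Agent.Lib.HHS57
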