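import Cfsg.Agent.Lib.HHS57.ExactBasics
import Mathlib.GroupTheory.Transfer

/-!
# Fixed classes square to one (helper18)

If no fixed `2`-element moves `gD`, averaging over the fixed elements of `gM` gives a homomorphism
`gM →* gD / gZ`; transfer and perfectness show that a class fixed by them squares to `1`.
-/

set_option autoImplicit false
set_option linter.style.haveILetI false
set_option linter.unusedSectionVars false

namespace Cfsg.Agent.Lib.HHS57

open Cfsg Cfsg.Agent.Lib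
open Subgroup
open scoped commutatorElement

universe u

variable {H : Type u} [Group H] [Finite H] {p r : ℕ} {α : MulAut H} {V : Type u} [CommGroup V]
  [Finite V] {ψ : H →* MulAut V} {e : MulAut V}

/-- A homomorphism trivial at all orbits but the base one. -/
theorem map_eq_one_of_transfer {G A : Type*} [Group G] [Finite G] [CommGroup A] (M : Subgroup G)
    (hG : commutator G = ⊤) (φ : M →* A) {a : G} (ha : a ∈ M) (h4 : a ^ 4 = 1)
    (hone : ∀ g : G, g⁻¹ * (a * a) * g ∈ M → g ∈ M) : φ ⟨a, ha⟩ = 1 := by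
  classical
  haveI := Fintype.ofFinite (Quotient (MulAction.orbitRel (zpowers a) (G ⧸ M)))
  have h0 : MonoidHom.transfer φ a = 1 := by
    have h1 : commutator G ≤ (MonoidHom.transfer φ).ker := Abelianization.commutator_subset_ker _
    exact h1 (hG ▸ mem_top a)
  rw [MonoidHom.transfer_eq_prod_quotient_orbitRel_zpowers_quot] at h0
  set base : Quotient (MulAction.orbitRel (zpowers a) (G ⧸ M)) :=
    Quotient.mk'' ((1 : G) : G ⧸ M) with hbase
  have hfix : a • ((1 : G) : G ⧸ M) = ((1 : G) : G ⧸ M) := by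
    rw [MulAction.Quotient.smul_mk, QuotientGroup.eq, smul_eq_mul]
    simpa using inv_mem ha
  have hout : base.out = ((1 : G) : G ⧸ M) := by
    have h2 : base.out ∈ MulAction.orbit (zpowers a) ((1 : G) : G ⧸ M) :=
      MulAction.orbitRel_apply.1 (Quotient.exact' (by rw [Quotient.out_eq']))
    obtain ⟨⟨s, hs⟩, hs'⟩ := h2
    rw [← hs']
    show s • ((1 : G) : G ⧸ M) = _
    exact (show zpowers a ≤ MulAction.stabilizer G ((1 : G) : G ⧸ M) from
      zpowers_le.2 (MulAction.mem_stabilizer_iff.2 hfix)) hs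
  have hper : ∀ x : G ⧸ M, x ≠ ((1 : G) : G ⧸ M) → a ^ Function.minimalPeriod (a • ·) x = 1 := by
    intro x hx
    have hp : Function.minimalPeriod (a • ·) x ∣ 4 := by
      refine Function.IsPeriodicPt.minimalPeriod_dvd ?_
      show (a • ·)^[4] x = x
      rw [smul_iterate]
      show a ^ 4 • x = x
      rw [h4, one_smul]
    obtain ⟨i, hi, e1⟩ := (Nat.dvd_prime_pow Nat.prime_two).1 (show _ ∣ 2 ^ 2 from hp)
    rcases (show i ≤ 1 ∨ i = 2 by omega) with hi1 | rfl
    · refine absurd ?_ hx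
      have h2 : (a * a) • x = x := by
        have h3 : Function.IsPeriodicPt (a • ·) 2 x := by
          refine (Function.isPeriodicPt_minimalPeriod _ x).trans_dvd ?_
          rw [e1]
          exact Nat.pow_dvd_pow 2 hi1
        have h4' : (a • ·)^[2] x = x := h3
        rw [smul_iterate] at h4'
        rw [← pow_two]; exact h4'
      induction x using QuotientGroup.induction_on with
      | H g =>
        have h3 := hone g (by
          rw [MulAction.Quotient.smul_mk, QuotientGroup.eq, smul_eq_mul] at h2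
          simpa [mul_assoc] using inv_mem h2)
        rw [QuotientGroup.eq, mul_one]
        exact inv_mem h3
    · rw [e1]; exact h4
  rw [Finset.prod_eq_single base] at h0
  · have hm : base.out.out ∈ M := by
      have h2 : (base.out.out : G ⧸ M) = ((1 : G) : G ⧸ M) := (QuotientGroup.out_eq' _).trans hout
      rw [QuotientGroup.eq, mul_one] at h2
      simpa using inv_mem h2
    have hp1 : Function.minimalPeriod (a • ·) base.out = 1 :=
      Function.minimalPeriod_eq_one_iff_isFixedPt.2 (by rw [hout]; exact hfix)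
    set g := base.out.out with hg
    have e1 : φ ⟨a, ha⟩ = φ ⟨g⁻¹ * a ^ Function.minimalPeriod (a • ·) base.out * g,
        QuotientGroup.out_conj_pow_minimalPeriod_mem M a base.out⟩ := by
      rw [show (⟨g⁻¹ * a ^ Function.minimalPeriod (a • ·) base.out * g,
        QuotientGroup.out_conj_pow_minimalPeriod_mem M a base.out⟩ : M) =
        (⟨g, hm⟩ : M)⁻¹ * ⟨a, ha⟩ * ⟨g, hm⟩ from Subtype.ext (by simp [hp1]),
        map_mul, map_mul, map_inv, mul_comm _ (φ ⟨g, hm⟩), mul_inv_cancel_left]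
    rw [e1]; exact h0
  · intro q _ hq
    have hne : q.out ≠ ((1 : G) : G ⧸ M) := fun e1 => hq (by rw [← Quotient.out_eq' q, e1])
    rw [show (⟨q.out.out⁻¹ * a ^ Function.minimalPeriod (a • ·) q.out * q.out.out,
      QuotientGroup.out_conj_pow_minimalPeriod_mem M a q.out⟩ : M) = 1 from
      Subtype.ext (by simp [hper _ hne]), map_one]
  · simp

variable (h : Min p r α ψ e) (T : Sylow 2 H) (hT : Stb α (T : Subgroup H))

include h hT

/-- A class fixed by the fixed elements squares to `1`. -/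
theorem Min.fixL_sq (hnm : FixedNoMove α T) (hP : OnePoint (gM α T) (gZ α T))
    {a : H ⧸ Subgroup.center H} (ha : a ∈ fixL α T (cgM α T)) : a * a = 1 := by
  classical
  haveI : Fact (Nat.Prime 2) := ⟨Nat.prime_two⟩
  have hCM : cgM α T ≤ gM α T := inf_le_left
  obtain ⟨haD, hac⟩ := (h.mem_fixL T hT hCM).1 ha
  by_contra ha2
  have ha2Z := h.gD_sq T hT haD
  have haZ : a ∉ gZ α T := fun e1 => ha2 (h.gZ_sq T hT e1)
  set C := cgM α T with hCdef
  set N := (trivOn α T (gZ α T)).subgroupOf C with hN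
  haveI : N.Normal := ⟨fun s hs g => mem_subgroupOf.2 (h.trivOn_conj T hT g.2.1 (mem_subgroupOf.1 hs))⟩
  set D := gD α T with hD
  set Z' := (gZ α T).subgroupOf D with hZ'
  haveI : Z'.Normal := ⟨fun z hz g => Subgroup.mem_subgroupOf.2 (by
    show (g : H ⧸ Subgroup.center H) * z * (g : H ⧸ Subgroup.center H)⁻¹ ∈ gZ α T
    rw [← h.gZ_comm T hT (Subgroup.mem_subgroupOf.1 hz) g.2, mul_inv_cancel_right]
    exact Subgroup.mem_subgroupOf.1 hz)⟩
  letI : CommGroup (D ⧸ Z') :=
    { (inferInstance : Group (D ⧸ Z')) with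
      mul_comm := fun x y => QuotientGroup.induction_on x fun x => QuotientGroup.induction_on y fun y => by
        rw [← QuotientGroup.mk_mul, ← QuotientGroup.mk_mul, QuotientGroup.eq_iff_div_mem, mem_subgroupOf]
        have h1 := h.gD_commutator T hT x.2 y.2
        simpa [commutatorElement_def, div_eq_mul_inv, mul_assoc] using h1 }
  -- the average
  haveI := Fintype.ofFinite (C ⧸ N)
  let cd : C → D → D := fun c d => ⟨(c : H ⧸ Subgroup.center H) * d * (c : H ⧸ Subgroup.center H)⁻¹,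
    h.gD_conj T hT c.2.1 d.2⟩
  have hcong : ∀ (c c' : C) (d : D), (c : C ⧸ N) = c' →
      ((cd c d : D) : D ⧸ Z') = (cd c' d : D) := fun c c' d e1 => by
    have hν := mem_subgroupOf.1 (QuotientGroup.eq.1 e1)
    rw [QuotientGroup.eq, mem_subgroupOf]
    have h1 := h.gZ_conj T hT c.2.1 ((mem_trivOn.1 hν).2.2 _ d.2)
    rw [Subgroup.coe_mul, Subgroup.coe_inv] at h1
    show ((c : H ⧸ Subgroup.center H) * d * (c : H ⧸ Subgroup.center H)⁻¹)⁻¹ *
      ((c' : H ⧸ Subgroup.center H) * d * (c' : H ⧸ Subgroup.center H)⁻¹) ∈ gZ α T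
    set w := (c' : H ⧸ Subgroup.center H) * d * (c' : H ⧸ Subgroup.center H)⁻¹ with hw
    set v := (c : H ⧸ Subgroup.center H) * d * (c : H ⧸ Subgroup.center H)⁻¹ with hv
    have hvD : v ∈ D := h.gD_conj T hT c.2.1 d.2
    rw [show (c : H ⧸ Subgroup.center H) * ((c : H ⧸ Subgroup.center H)⁻¹ * c' * d *
      ((c : H ⧸ Subgroup.center H)⁻¹ * c')⁻¹ * (d : H ⧸ Subgroup.center H)⁻¹) *
      (c : H ⧸ Subgroup.center H)⁻¹ = w * v⁻¹ by rw [hw, hv]; group] at h1
    have h2 := h.gZ_comm T hT h1 (inv_mem hvD)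
    rw [show v⁻¹ * w = v⁻¹ * (w * v⁻¹) * v by group, ← h2, inv_mul_cancel_right]
    exact h1
  let Nav : D → D ⧸ Z' := fun d => ∏ q : C ⧸ N, ((cd q.out d : D) : D ⧸ Z')
  have hmul : ∀ d d', Nav (d * d') = Nav d * Nav d' := fun d d' => by
    show ∏ q : C ⧸ N, ((cd q.out (d * d') : D) : D ⧸ Z') = _
    rw [← Finset.prod_mul_distrib]
    refine Finset.prod_congr rfl fun q _ => ?_
    rw [← QuotientGroup.mk_mul]
    congr 1
    exact Subtype.ext (by simp [cd, mul_assoc])
  have hker : ∀ d : D, (d : H ⧸ Subgroup.center H) ∈ gZ α T → Nav d = 1 := fun d hd =>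
    Finset.prod_eq_one fun q _ => (QuotientGroup.eq_one_iff _).2
      (mem_subgroupOf.2 (h.gZ_conj T hT q.out.2.1 hd))
  have hinv : ∀ (c : C) (d : D), Nav (cd c d) = Nav d := fun c d => by
    refine Fintype.prod_equiv (Equiv.mulRight (c : C ⧸ N)) _ _ fun q => ?_
    rw [Equiv.coe_mulRight]
    rw [show cd q.out (cd c d) = cd (q.out * c) d from Subtype.ext (by simp [cd, mul_assoc])]
    exact hcong _ _ _ (by rw [QuotientGroup.mk_mul, QuotientGroup.out_eq', QuotientGroup.out_eq'])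
  -- the homomorphism on `gM`
  set M := gM α T with hM
  choose cp hcp hcpf dp hdp hdec using fun x : M => h.gM_eq T hT x.2
  let F : M → D ⧸ Z' := fun x => Nav ⟨dp x, hdp x⟩
  have hF : ∀ (x : M) (c d : H ⧸ Subgroup.center H), c ∈ M → qAut α c = c → ∀ hd : d ∈ D,
      (x : H ⧸ Subgroup.center H) = c * d → F x = Nav ⟨d, hd⟩ := by
    intro x c d hc hcf hd e1
    rw [hdec x] at e1
    have h2 : c⁻¹ * cp x = d * (dp x)⁻¹ := by
      rw [show d * (dp x)⁻¹ = c⁻¹ * (c * d) * (dp x)⁻¹ by group, ← e1]; group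
    have h1 : d * (dp x)⁻¹ ∈ gZ α T := h.gD_fixed T hT (mul_mem hd (inv_mem (hdp x)))
      (by rw [← h2, map_mul, map_inv, hcf, hcpf x])
    have h3 : (⟨d, hd⟩ : D) = ⟨d * (dp x)⁻¹, h.gZ_le_gD T hT h1⟩ * ⟨dp x, hdp x⟩ :=
      Subtype.ext (by simp)
    rw [h3, hmul, hker _ h1, one_mul]
  let φ : M →* D ⧸ Z' := MonoidHom.mk' F fun x y => by
    have hd' : (cp y)⁻¹ * dp x * cp y * dp y ∈ D :=
      mul_mem (by simpa using h.gD_conj T hT (inv_mem (hcp y)) (hdp x)) (hdp y)
    rw [hF (x * y) (cp x * cp y) _ (mul_mem (hcp x) (hcp y)) (by rw [map_mul, hcpf, hcpf]) hd'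
      (by rw [Subgroup.coe_mul, hdec x, hdec y]; group)]
    show _ = Nav ⟨dp x, hdp x⟩ * Nav ⟨dp y, hdp y⟩
    rw [← hinv ⟨(cp y)⁻¹, mem_cgM.2 ⟨inv_mem (hcp y), by rw [map_inv, hcpf y]⟩⟩ ⟨dp x, hdp x⟩,
      ← hmul]
    congr 1
    exact Subtype.ext (by simp [cd])
  have hone : φ ⟨a, h.gD_le_gM T hT haD⟩ = 1 := by
    refine map_eq_one_of_transfer M (h.gPerfect T hT) φ _ ?_ (hP.onePoint _ ha2Z ha2)
    rw [show (4 : ℕ) = 2 * 2 from rfl, pow_mul, pow_two a, pow_two, h.gZ_sq T hT ha2Z]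
  rw [show φ ⟨a, h.gD_le_gM T hT haD⟩ = Nav ⟨a, haD⟩ from
    hF _ 1 a (one_mem _) (map_one _) haD (by simp)] at hone
  have hval : Nav ⟨a, haD⟩ = ((⟨a, haD⟩ : D) : D ⧸ Z') ^ Fintype.card (C ⧸ N) := by
    rw [← Finset.card_univ, ← Finset.prod_const]
    refine Finset.prod_congr rfl fun q _ => ?_
    rw [QuotientGroup.eq, mem_subgroupOf]
    show ((q.out : H ⧸ Subgroup.center H) * a * (q.out : H ⧸ Subgroup.center H)⁻¹)⁻¹ * a ∈ gZ α T
    have h1 := inv_mem (hac _ q.out.2)
    rw [mul_inv_rev, inv_inv] at h1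
    set b := ((q.out : H ⧸ Subgroup.center H) * a * (q.out : H ⧸ Subgroup.center H)⁻¹)⁻¹ with hb
    have h2 := h.gZ_comm T hT h1 haD
    rw [show b * a = a⁻¹ * (a * b * a) by group, h2, inv_mul_cancel_left]
    exact h1
  have hsq : ((⟨a, haD⟩ : D) : D ⧸ Z') ^ 2 = 1 := by
    rw [← QuotientGroup.mk_pow, QuotientGroup.eq_one_iff, mem_subgroupOf, Subgroup.coe_pow, pow_two]
    exact ha2Z
  have hodd : Odd (Fintype.card (C ⧸ N)) := by
    rw [← Nat.not_even_iff_odd, even_iff_two_dvd, ← Nat.card_eq_fintype_card]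
    intro hd
    obtain ⟨x, hx⟩ := exists_prime_orderOf_dvd_card' 2 hd
    obtain ⟨P, hP2, hP'⟩ := exists_lift_twoGroup N (S := zpowers x)
      (isPGroup_zpowers_of_twoEl ⟨1, by rw [pow_one, ← hx, pow_orderOf_eq_one]⟩)
    obtain ⟨y, hy, hyx⟩ := hP' x (mem_zpowers x)
    obtain ⟨k, hk⟩ := hP2 ⟨y, hy⟩
    have hyN : y ∈ N := mem_subgroupOf.2 (h.twoEl_trivOn T hT hnm y.2.1
      ⟨k, congrArg Subtype.val (congrArg Subtype.val hk)⟩)
    rw [← hyx, (QuotientGroup.eq_one_iff y).2 hyN, orderOf_one] at hx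
    norm_num at hx
  obtain ⟨i, hi⟩ := hodd
  rw [hval, hi, pow_succ, pow_mul, hsq, one_pow, one_mul, QuotientGroup.eq_one_iff] at hone
  exact haZ (mem_subgroupOf.1 hone)

end Cfsg.Agent.Lib.HHS57
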