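import Cfsg.Agent.Lib.HHS57.Main
import Cfsg.Agent.Lib.Balance.FixingPerfect
import Cfsg.Agent.Lib.ZStar.StronglyClosed
import Cfsg.Agent.Lib.OddOrder.FeitThompson
import Cfsg.Agent.Lib.Frobenius.Nilpotent
import Cfsg.Agent.Lib.Cores.Pi

/-!
# A perfect group `G = [G, β]` fixing the fixed points of a coprime `β` acts trivially (helper57)

`A` is acted on by `β` of prime order `r` not dividing `|A|` and by a perfect group `G = [G, γ]`
compatibly, and `G` fixes `C_A(β)` pointwise.  Then `G` acts trivially.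
-/

set_option autoImplicit false
set_option linter.style.haveILetI false
set_option linter.unusedSectionVars false

namespace Cfsg.Agent.Lib.HHS57

open Cfsg Cfsg.Agent.Lib
open Cfsg.Agent.Lib.FpfAut (exists_fixed_mul exists_invariant_sylow)
open Subgroup
open scoped Pointwise

universe u

/-- The hypotheses. -/
structure Fix {A G : Type u} [Group A] [Group G] (r : ℕ) (β : MulAut A) (γ : MulAut G)
    (φ : G →* MulAut A) : Prop where
  hr : r.Prime
  hβ : β ^ r = 1
  hco : ¬ r ∣ Nat.card A
  hγ : γ ^ r = 1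
  hcoG : ¬ r ∣ Nat.card G
  perfect : commutator G = ⊤
  gen : cm γ (⊤ : Subgroup G) = ⊤
  compat : ∀ g a, φ (γ g) (β a) = β (φ g a)
  fix : ∀ g a, β a = a → φ g a = a

theorem eq_bot_of_perfect_odd {X : Type u} [Group X] [Finite X] {R : Subgroup X} (h : ⁅R, R⁆ = R)
    (hodd : Odd (Nat.card R)) : R = ⊥ := by
  by_contra hne
  haveI : Nontrivial R := R.nontrivial_iff_ne_bot.2 hne
  haveI := OddOrder.FeitThompson.isSolvable_of_odd_card hodd
  haveI : Group.IsPerfect R := Subgroup.isPerfect_iff.2 h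
  exact (Group.IsSolvable.commutator_lt_top_of_nontrivial (G := R)).ne
    Group.IsPerfect.commutator_eq_top

theorem cm_resA_top {X : Type u} [Group X] [Finite X] {β : MulAut X} {N : Subgroup X} (hN : Stb β N)
    (h : cm β N = N) : cm (resA β N hN) (⊤ : Subgroup N) = ⊤ := by
  refine eq_top_iff.2 fun x _ => ?_
  have hle : cm β N ≤ (cm (resA β N hN) (⊤ : Subgroup N)).map N.subtype := by
    refine cm_le_iff.2 fun y hy => ⟨(⟨y, hy⟩ : N)⁻¹ * resA β N hN ⟨y, hy⟩, mem_cm (mem_top _), ?_⟩
    simp [resA_apply]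
  obtain ⟨y, hy, e1⟩ := hle (show (x : X) ∈ cm β N by rw [h]; exact x.2)
  rwa [← Subtype.ext e1]

/-- The action on an invariant subgroup. -/
noncomputable def resHom {A G : Type u} [Group A] [Finite A] [Group G] (φ : G →* MulAut A) (B : Subgroup A)
    (hB : ∀ g, Stb (φ g) B) : G →* MulAut B :=
  MonoidHom.mk' (fun g => resA (φ g) B (hB g)) fun g h => MulEquiv.ext fun b => Subtype.ext (by
    rw [MulAut.mul_apply, resA_apply, resA_apply, resA_apply, map_mul, MulAut.mul_apply])

theorem resHom_apply {A G : Type u} [Group A] [Finite A] [Group G] (φ : G →* MulAut A) (B : Subgroup A)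
    (hB : ∀ g, Stb (φ g) B) (g : G) (b : B) : (resHom φ B hB g b : A) = φ g b :=
  resA_apply (hB g) b

/-- The action on an invariant quotient. -/
noncomputable def quotAct {A : Type u} [Group A] (β : MulAut A) (N : Subgroup A) [N.Normal]
    (hN : Stb β N) [Finite A] : MulAut (A ⧸ N) :=
  QuotientGroup.congr N N β hN.map_eq

theorem quotAct_mk {A : Type u} [Group A] [Finite A] (β : MulAut A) (N : Subgroup A) [N.Normal]
    (hN : Stb β N) (a : A) : quotAct β N hN (a : A ⧸ N) = (β a : A ⧸ N) := rfl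

/-- The induction. -/
theorem Fix.eq_one_aux : ∀ (n : ℕ) {A G : Type u} [Group A] [Finite A] [Group G] [Finite G] {r : ℕ}
    {β : MulAut A} {γ : MulAut G} {φ : G →* MulAut A}, Fix r β γ φ → Nat.card A < n →
    ∀ g, φ g = 1 := by
  intro n
  induction n with
  | zero => intro A G _ _ _ _ r β γ φ _ h; exact absurd h (Nat.not_lt_zero _)
  | succ n ih =>
  intro A G _ _ _ _ r β γ φ h hlt g0
  haveI : Fact r.Prime := ⟨h.hr⟩
  haveI : Fact (Nat.Prime 2) := ⟨Nat.prime_two⟩
  haveI : Finite (MulAut A) := Finite.of_injective (fun f : MulAut A => (f : A → A)) DFunLike.coe_injective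
  have hn : Nat.card A ≤ n := Nat.lt_succ_iff.1 hlt
  suffices hall : ∀ g a, φ g a = a from MulEquiv.ext (hall g0)
  -- proper invariant subgroups are fixed pointwise
  have hprop : ∀ B : Subgroup A, Stb β B → (∀ g, Stb (φ g) B) → B ≠ ⊤ →
      ∀ g, ∀ b ∈ B, φ g b = b := by
    intro B hBβ hBφ hne g b hb
    have hF : Fix r (resA β B hBβ) γ (resHom φ B hBφ) :=
      { hr := h.hr, hβ := resA_pow_r h.hβ hBβ, hco := not_dvd_sub h.hco B, hγ := h.hγ
        hcoG := h.hcoG, perfect := h.perfect, gen := h.gen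
        compat := fun g a => Subtype.ext (by
          rw [resHom_apply, resA_apply, resA_apply, resHom_apply, h.compat])
        fix := fun g a ha => Subtype.ext (by
          rw [resHom_apply, h.fix g a ((resA_apply hBβ a).symm.trans (congrArg Subtype.val ha))]) }
    have hcard : Nat.card B < n := lt_of_lt_of_le
      (lt_of_le_of_ne (card_le_card_group B) fun e => hne (eq_top_of_card_eq B e)) hn
    have e1 := congrArg (fun f : MulAut B => ((f ⟨b, hb⟩ : B) : A)) (ih hF hcard g)
    simpa [resHom_apply] using e1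
  by_cases hN : ∃ N : Subgroup A, N.Normal ∧ Stb β N ∧ (∀ g, Stb (φ g) N) ∧ N ≠ ⊥ ∧ N ≠ ⊤
  · -- an invariant normal subgroup
    obtain ⟨N, hNn, hNβ, hNφ, hNb, hNt⟩ := hN
    haveI := hNn
    have hfixN := hprop N hNβ hNφ hNt
    let ψ : G →* MulAut (A ⧸ N) := MonoidHom.mk' (fun g => quotAct (φ g) N (hNφ g)) fun g k =>
      MulEquiv.ext fun x => QuotientGroup.induction_on x fun a => by
        rw [MulAut.mul_apply, quotAct_mk, quotAct_mk, quotAct_mk, map_mul, MulAut.mul_apply]
    have hF : Fix r (quotAct β N hNβ) γ ψ :=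
      { hr := h.hr
        hβ := by
          have key : ∀ k (a : A), (quotAct β N hNβ ^ k) (a : A ⧸ N) = ((β ^ k) a : A ⧸ N) := by
            intro k
            induction k with
            | zero => intro a; rfl
            | succ k ihk => intro a; rw [pow_succ, MulAut.mul_apply, quotAct_mk, ihk, pow_succ,
                MulAut.mul_apply]
          refine MulEquiv.ext fun x => QuotientGroup.induction_on x fun a => ?_
          rw [key, h.hβ]; rfl
        hco := fun hd => h.hco (hd.trans (card_quotient_dvd_card N))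
        hγ := h.hγ, hcoG := h.hcoG, perfect := h.perfect, gen := h.gen
        compat := fun g x => QuotientGroup.induction_on x fun a => by
          change quotAct (φ (γ g)) N (hNφ _) (quotAct β N hNβ (a : A ⧸ N)) =
            quotAct β N hNβ (quotAct (φ g) N (hNφ g) (a : A ⧸ N))
          rw [quotAct_mk, quotAct_mk, quotAct_mk, quotAct_mk, h.compat]
        fix := fun g x hx => by
          obtain ⟨a, rfl⟩ := QuotientGroup.mk'_surjective N x
          change quotAct β N hNβ (a : A ⧸ N) = (a : A ⧸ N) at hx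
          change quotAct (φ g) N (hNφ g) (a : A ⧸ N) = (a : A ⧸ N)
          rw [quotAct_mk] at hx ⊢
          obtain ⟨d, hd, hf⟩ := exists_fixed_mul h.hr h.hβ hNβ (not_dvd_sub h.hco N)
            (show a⁻¹ * β a ∈ N from QuotientGroup.eq.1 hx.symm)
          have e2 := h.fix g _ hf
          rw [map_mul, hfixN g d hd] at e2
          rw [mul_right_cancel e2] }
    have hcard : Nat.card (A ⧸ N) < n := by
      have h2 : 1 < Nat.card N := N.one_lt_card_iff_ne_bot.2 hNb
      have h3 := card_eq_card_quotient_mul_card_subgroup N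
      have h4 : 0 < Nat.card (A ⧸ N) := Nat.card_pos
      nlinarith
    intro g a
    have hd : ∀ g, a⁻¹ * φ g a ∈ N := fun g => by
      have e1 := congrArg (fun f : MulAut (A ⧸ N) => f (a : A ⧸ N)) (ih hF hcard g)
      exact QuotientGroup.eq.1 (e1 : (φ g a : A ⧸ N) = (a : A ⧸ N)).symm
    have hcen : ∀ g, ∀ m ∈ N, (a⁻¹ * φ g a) * m = m * (a⁻¹ * φ g a) := by
      intro g m hm
      have e1 := hfixN g _ (hNn.conj_mem m hm a)
      rw [map_mul, map_mul, map_inv, hfixN g m hm] at e1
      calc (a⁻¹ * φ g a) * m = a⁻¹ * (φ g a * m * (φ g a)⁻¹) * φ g a := by group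
        _ = a⁻¹ * (a * m * a⁻¹) * φ g a := by rw [e1]
        _ = m * (a⁻¹ * φ g a) := by group
    let f : G →* A := MonoidHom.mk' (fun g => a⁻¹ * φ g a) fun g k => by
      calc a⁻¹ * φ (g * k) a = a⁻¹ * φ g (a * (a⁻¹ * φ k a)) := by
            rw [mul_inv_cancel_left, map_mul, MulAut.mul_apply]
        _ = a⁻¹ * φ g a * (a⁻¹ * φ k a) := by rw [map_mul, hfixN g _ (hd k), mul_assoc]
    have hker : commutator G ≤ f.ker := by
      rw [commutator_def, commutator_le]
      intro x _ y _
      rw [MonoidHom.mem_ker, map_commutatorElement, commutatorElement_eq_one_iff_mul_comm]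
      exact hcen x _ (hd y)
    have e1 : a⁻¹ * φ g a = 1 := hker (h.perfect ▸ mem_top g)
    exact (inv_mul_eq_one.1 e1).symm
  push Not at hN
  by_cases hab : ∀ a b : A, a * b = b * a
  · -- the abelian case
    have hnormal : ∀ B : Subgroup A, B.Normal := fun B => ⟨fun b hb a => by
      rwa [hab a b, mul_inv_cancel_right]⟩
    by_cases hCt : fixG β = ⊤
    · exact fun g a => h.fix g a (show β a = a from mem_fixG.1 (hCt ▸ mem_top a))
    have hCb : fixG β = ⊥ := by
      by_contra hne
      exact hCt (hN _ (hnormal _) stb_fixG (fun g a ha => by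
        rw [h.fix g a (mem_fixG.1 ha)]; exact ha) hne)
    by_cases h1 : Nat.card A = 1
    · haveI := (Nat.card_eq_one_iff_unique.1 h1).1
      exact fun g a => Subsingleton.elim _ _
    obtain ⟨p, hp, hpd⟩ := Nat.exists_prime_and_dvd h1
    haveI := Fact.mk hp
    letI : CommGroup A := { (inferInstance : Group A) with mul_comm := hab }
    let E : Subgroup A := (powMonoidHom p).ker
    have hE : E = ⊤ := by
      refine hN E (hnormal _) ?_ ?_ ?_
      · intro x hx; show (β x) ^ p = 1; rw [← map_pow, show x ^ p = 1 from hx, map_one]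
      · intro g x hx; show (φ g x) ^ p = 1; rw [← map_pow, show x ^ p = 1 from hx, map_one]
      · obtain ⟨x, hx⟩ := exists_prime_orderOf_dvd_card' p hpd
        refine fun e => hp.ne_one ?_
        have : x ∈ E := show x ^ p = 1 from hx ▸ pow_orderOf_eq_one x
        rw [e, mem_bot] at this
        rw [← hx, this, orderOf_one]
    intro g a
    have hexp : ∀ v : A, v ^ p = 1 := fun v => (hE ▸ mem_top v : v ∈ E)
    have e1 := eq_one_of_perfect hp h.hr h.hγ h.hcoG h.perfect h.gen φ hexp h.hβ
      (fun v hv => mem_bot.1 (hCb ▸ (mem_fixG.2 hv : v ∈ fixG β)))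
      (fun k => MulEquiv.ext fun v => by
        rw [MulAut.mul_apply, MulAut.mul_apply, ← h.compat, MulAut.apply_inv_self]) g
    rw [e1]; rfl
  -- no invariant normal subgroup
  have hZ : Subgroup.center A = ⊥ := by
    by_contra hne
    refine hab fun a b => ?_
    have e1 : Subgroup.center A = ⊤ :=
      hN _ inferInstance stb_center (fun g => stb_center) hne
    exact (mem_center_iff.1 (e1 ▸ mem_top b) a)
  have hnotp : ∀ {p : ℕ} [Fact p.Prime], ¬ IsPGroup p A := by
    intro p _ hp
    haveI : Nontrivial A := not_subsingleton_iff_nontrivial.1 fun hs =>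
      hab fun a b => Subsingleton.elim _ _
    exact (Subgroup.nontrivial_iff_ne_bot _).1 hp.center_nontrivial hZ
  have hO : ∀ N : Subgroup A, N.Normal → Odd (Nat.card N) → N = ⊥ := by
    intro N hNn hodd
    haveI := hNn
    have hO' : oddCore A = ⊥ := by
      by_contra hne
      have e1 : oddCore A = ⊤ := hN _ inferInstance stb_char (fun g => stb_char) hne
      have hoA := Cores.oddCore_odd (G := A)
      rw [e1, card_top] at hoA
      haveI := OddOrder.FeitThompson.isSolvable_of_odd_card hoA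
      haveI : Nontrivial A := not_subsingleton_iff_nontrivial.1 fun hs =>
        hab fun a b => Subsingleton.elim _ _
      have hlt := Group.IsSolvable.commutator_lt_top_of_nontrivial (G := A)
      haveI : (commutator A).Characteristic := inferInstance
      refine hne (eq_bot_iff.2 ?_)
      exfalso
      apply hab
      have e2 : commutator A = ⊥ := by
        by_contra hne2
        exact hlt.ne (hN _ inferInstance stb_char (fun g => stb_char) hne2)
      rw [commutator_eq_bot_iff_center_eq_top] at e2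
      exact fun a b => mem_center_iff.1 (e2 ▸ mem_top b) a
    exact le_bot_iff.1 (hO' ▸ Cores.le_oddCore hodd)
  set c : MulAut (MulAut A) := MulAut.conj β with hc
  have hcφ : ∀ g, c (φ g) = φ (γ g) := fun g => MulEquiv.ext fun v => by
    rw [hc, MulAut.conj_apply, MulAut.mul_apply, MulAut.mul_apply, ← h.compat,
      MulAut.apply_inv_self]
  set R : Subgroup (MulAut A) := φ.range with hR
  have hRperf : ⁅R, R⁆ = R := by
    rw [hR, MonoidHom.range_eq_map, ← map_commutator, ← _root_.commutator_def, h.perfect]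
  have hRgen : R ≤ cm c R := by
    rintro _ ⟨g, rfl⟩
    refine (show (⊤ : Subgroup G) ≤ (cm c R).comap φ from ?_) (mem_top g)
    rw [← h.gen, cm_le_iff]
    intro x _
    rw [mem_comap, map_mul, map_inv, ← hcφ]
    exact mem_cm ⟨x, rfl⟩
  -- it is enough that `R` be trivial
  suffices hRbot : R = ⊥ by
    intro g a
    have hm : φ g ∈ R := ⟨g, rfl⟩
    rw [hRbot, mem_bot] at hm
    rw [hm]
    rfl
  by_cases hU : ∃ U : Subgroup A, IsPGroup 2 U ∧ Stb β U ∧ (∀ g, ∀ u ∈ U, φ g u = u) ∧ U ≠ ⊥
  · obtain ⟨U, ⟨hU2, hUβ, hUφ, hUb⟩, hmax⟩ := wellFounded_gt.has_min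
      {U : Subgroup A | IsPGroup 2 U ∧ Stb β U ∧ (∀ g, ∀ u ∈ U, φ g u = u) ∧ U ≠ ⊥} hU
    have hst : ∀ g, Stb (φ g) U := fun g u hu => by rwa [hUφ g u hu]
    set N := Subgroup.normalizer (U : Set A) with hNdef
    have hNt : N ≠ ⊤ := fun e => by
      have hUn : U.Normal := normalizer_eq_top_iff.1 e
      have hUt : U = ⊤ := hN U hUn hUβ hst hUb
      exact hnotp (p := 2) (fun x => by
        obtain ⟨k, hk⟩ := hU2 ⟨x, hUt ▸ mem_top x⟩
        exact ⟨k, congrArg Subtype.val hk⟩)
    have hNfix := hprop N hUβ.normalizer (fun g => (hst g).normalizer) hNt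
    obtain ⟨P, hUP, hPβ⟩ := exists_invariant_sylow_ge h.hr h.hβ h.hco hU2 hUβ
    have hPfix : ∀ g, ∀ u ∈ (P : Subgroup A), φ g u = u := by
      intro g u hu
      have hV : ¬ (U < N ⊓ (P : Subgroup A)) := fun hlt' => hmax (N ⊓ (P : Subgroup A))
        ⟨P.isPGroup'.to_le inf_le_right, hUβ.normalizer.inf hPβ, fun k v hv => hNfix k v hv.1,
          fun e => hUb (le_bot_iff.1 (e ▸ hlt'.le))⟩ hlt'
      have hPU : (P : Subgroup A) ≤ U := by
        by_contra hPU
        have hlt2 : U.subgroupOf (P : Subgroup A) < ⊤ :=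
          lt_top_iff_ne_top.2 fun h1 => hPU (subgroupOf_eq_top.1 h1)
        haveI := P.isPGroup'.isNilpotent
        obtain ⟨⟨x, hxP⟩, hx, hxU⟩ := SetLike.exists_of_lt
          (Group.normalizerCondition_of_isNilpotent (G := (P : Subgroup A)) _ hlt2)
        rw [mem_subgroupOf] at hxU
        refine hV (lt_of_le_of_ne (le_inf le_normalizer hUP) fun e => hxU ?_)
        show x ∈ U
        rw [e]
        refine ⟨Subgroup.mem_normalizer_iff.2 ?_, hxP⟩
        intro y
        refine ⟨fun hy => (mem_normalizer_iff.1 hx ⟨y, hUP hy⟩).1 hy, fun hy => ?_⟩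
        have hyP : y ∈ (P : Subgroup A) := by
          have := mul_mem (mul_mem (inv_mem hxP) (hUP hy)) hxP
          simpa [mul_assoc] using this
        exact (mem_normalizer_iff.1 hx ⟨y, hyP⟩).2 hy
      exact hUφ g u (hPU hu)
    refine eq_bot_of_perfect_odd hRperf (Balance.Fixing.card_odd_of_perfect
      ZStar.StronglyClosed.involutionThm hO P R hRperf ?_)
    rintro _ ⟨g, rfl⟩ s hs
    exact hPfix g s hs
  push Not at hU
  obtain ⟨P, hPβ⟩ := exists_invariant_sylow h.hr h.hβ h.hco 2
  have hPfpf : ∀ a ∈ (P : Subgroup A), β a = a → a = 1 := by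
    intro a haP ha
    have hle : zpowers a ≤ fixG β := zpowers_le.2 (mem_fixG.2 ha)
    refine zpowers_eq_bot.1 (hU _ (P.isPGroup'.to_le (zpowers_le.2 haP)) (fun x hx => ?_)
      (fun g x hx => h.fix g x (hle hx)))
    rwa [show β x = x from hle hx]
  let I : Subgroup (MulAut A) := (MulAut.conj : A →* MulAut A).range
  haveI hIn : I.Normal := ⟨by
    rintro _ ⟨a, rfl⟩ f
    exact ⟨f a, MulEquiv.ext fun v => by simp [MulAut.mul_apply]⟩⟩
  let W := I ⊔ R
  let L := W ⊓ MulAction.stabilizer (MulAut A) (P : Subgroup A)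
  have hcW : Stb c W := by
    refine Stb.sup ?_ ?_
    · intro x hx; exact hIn.conj_mem x hx β
    · rintro _ ⟨g, rfl⟩; exact ⟨γ g, (hcφ g).symm⟩
  have hPs : β • (P : Subgroup A) = (P : Subgroup A) := Stb.map_eq hPβ
  have hcL : Stb c L := by
    refine hcW.inf fun f hf => ?_
    rw [MulAction.mem_stabilizer_iff] at hf ⊢
    show (β * f * β⁻¹) • (P : Subgroup A) = P
    rw [mul_smul, mul_smul, show β⁻¹ • (P : Subgroup A) = P from inv_smul_eq_iff.2 hPs.symm, hf, hPs]
  have hRL : R ≤ I ⊔ L := by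
    intro k hk
    obtain ⟨a, ha⟩ := MulAction.exists_smul_eq A (k • P) P
    have hmem : MulAut.conj a * k ∈ L := by
      refine ⟨mul_mem (mem_sup_left ⟨a, rfl⟩) (mem_sup_right hk), ?_⟩
      show (MulAut.conj a * k) • (P : Subgroup A) = P
      have e1 := congrArg (fun Q : Sylow 2 A => (Q : Subgroup A)) ha
      simp only [Sylow.coe_subgroup_smul] at e1
      rw [mul_smul]
      exact e1
    have := mul_mem (mem_sup_left (show MulAut.conj a⁻¹ ∈ I from ⟨a⁻¹, rfl⟩) : _ ∈ I ⊔ L)
      (mem_sup_right hmem : _ ∈ I ⊔ L)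
    rwa [map_inv, inv_mul_cancel_left] at this
  obtain ⟨Y, ⟨hYL, hYc, hRY⟩, hmin⟩ := wellFounded_lt.has_min
    {Y : Subgroup (MulAut A) | Y ≤ L ∧ Stb c Y ∧ R ≤ I ⊔ Y} ⟨L, le_rfl, hcL, hRL⟩
  have hYperf : ⁅Y, Y⁆ = Y := by
    have hle : ⁅Y, Y⁆ ≤ Y := commutator_le_self Y
    by_contra hne
    refine hmin ⁅Y, Y⁆ ⟨hle.trans hYL, ?_, ?_⟩ (lt_of_le_of_ne hle hne)
    · have e1 : (⁅Y, Y⁆).map c.toMonoidHom ≤ ⁅Y, Y⁆ := by
        rw [map_commutator]
        exact commutator_mono (map_le_iff_le_comap.2 hYc) (map_le_iff_le_comap.2 hYc)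
      exact fun x hx => e1 ⟨x, hx, rfl⟩
    · set q := QuotientGroup.mk' I
      have hq : ∀ Z : Subgroup (MulAut A), R ≤ I ⊔ Z ↔ R.map q ≤ Z.map q := fun Z => by
        rw [map_le_iff_le_comap, comap_map_eq, QuotientGroup.ker_mk', sup_comm]
      rw [hq, map_commutator, ← hRperf, map_commutator]
      exact commutator_mono ((hq Y).1 hRY) ((hq Y).1 hRY)
  have hYgen : cm c Y = Y := by
    by_contra hne
    refine hmin (cm c Y) ⟨(cm_le hYc).trans hYL, stb_cm hYc, ?_⟩ (lt_of_le_of_ne (cm_le hYc) hne)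
    refine hRgen.trans (cm_le_iff.2 fun k hk => ?_)
    obtain ⟨i, hi, y, hy, rfl⟩ := mem_sup_of_normal_left.1 (hRY hk)
    rw [map_mul, show (i * y)⁻¹ * (c i * c y) = (y⁻¹ * (i⁻¹ * c i) * (y⁻¹)⁻¹) * (y⁻¹ * c y) by group]
    exact mul_mem (mem_sup_left (hIn.conj_mem _ (mul_mem (inv_mem hi) (hIn.conj_mem i hi β)) _))
      (mem_sup_right (mem_cm hy))
  have hcoW : ¬ r ∣ Nat.card W := by
    intro hd
    have e1 : Nat.card W = Nat.card I * I.relIndex R := by
      have e2 := relIndex_mul_relIndex ⊥ I (I ⊔ R) bot_le le_sup_left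
      rw [relIndex_bot_left, relIndex_bot_left, relIndex_sup_left] at e2
      exact e2.symm
    rw [e1] at hd
    rcases h.hr.dvd_mul.1 hd with h1 | h1
    · exact h.hco (h1.trans (card_range_dvd _))
    · exact h.hcoG ((h1.trans (relIndex_dvd_card I R)).trans (card_range_dvd φ))
  have hYst : ∀ y : Y, ∀ a ∈ (P : Subgroup A), (y : MulAut A) a ∈ (P : Subgroup A) := fun y a ha => by
    have e1 : (y : MulAut A) • (P : Subgroup A) = P := (hYL y.2).2
    rw [← e1]
    exact smul_mem_pointwise_smul a _ _ ha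
  have hPne : (P : Subgroup A) ≠ ⊤ := fun e => hnotp (p := 2) (fun x => by
    obtain ⟨k, hk⟩ := P.isPGroup' ⟨x, e ▸ mem_top x⟩
    exact ⟨k, congrArg Subtype.val hk⟩)
  have hF : Fix r (resA β (P : Subgroup A) hPβ) (resA c Y hYc)
      (resHom Y.subtype (P : Subgroup A) hYst) :=
    { hr := h.hr, hβ := resA_pow_r h.hβ hPβ, hco := not_dvd_sub h.hco _
      hγ := resA_pow_r (by rw [hc, ← map_pow, h.hβ, map_one]) hYc
      hcoG := fun hd => hcoW (hd.trans (card_dvd_of_le (hYL.trans inf_le_left)))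
      perfect := by
        haveI : Group.IsPerfect Y := Subgroup.isPerfect_iff.2 hYperf
        exact Group.IsPerfect.commutator_eq_top
      gen := cm_resA_top hYc hYgen
      compat := fun y a => Subtype.ext (by
        show c (y : MulAut A) (β a) = β ((y : MulAut A) a)
        rw [hc, MulAut.conj_apply, MulAut.mul_apply, MulAut.mul_apply, MulAut.inv_apply_self])
      fix := fun y a ha => by
        have ha1 : a = 1 := Subtype.ext (hPfpf a a.2 ((resA_apply hPβ a).symm.trans
          (congrArg Subtype.val ha)))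
        rw [ha1, map_one] }
  have hYfix : ∀ y ∈ Y, ∀ s ∈ P, y s = s := fun y hy s hs => by
    have hcard : Nat.card (P : Subgroup A) < n := lt_of_lt_of_le
      (lt_of_le_of_ne (card_le_card_group _) fun e => hPne (eq_top_of_card_eq _ e)) hn
    exact congrArg (fun f : MulAut (P : Subgroup A) => ((f ⟨s, hs⟩ : (P : Subgroup A)) : A))
      (ih hF hcard ⟨y, hy⟩)
  have hYbot : Y = ⊥ := eq_bot_of_perfect_odd hYperf (Balance.Fixing.card_odd_of_perfect
    ZStar.StronglyClosed.involutionThm hO P Y hYperf hYfix)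
  rw [hYbot, sup_bot_eq] at hRY
  -- `R` consists of inner automorphisms
  let M : Subgroup A := R.comap MulAut.conj
  have hMR : ∀ k ∈ R, ∃ m ∈ M, MulAut.conj m = k := fun k hk => by
    obtain ⟨m, rfl⟩ := hRY hk
    exact ⟨m, hk, rfl⟩
  have hMβ : Stb β M := fun m hm => by
    obtain ⟨g, hg⟩ := (hm : MulAut.conj m ∈ R)
    refine ⟨γ g, ?_⟩
    rw [← hcφ, hg, hc]
    exact MulEquiv.ext fun v => by simp [MulAut.mul_apply]
  have hMφ : ∀ g, Stb (φ g) M := fun g m hm => by
    show MulAut.conj (φ g m) ∈ R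
    rw [show MulAut.conj (φ g m) = φ g * MulAut.conj m * (φ g)⁻¹ from
      MulEquiv.ext fun v => by simp [MulAut.mul_apply]]
    exact mul_mem (mul_mem ⟨g, rfl⟩ hm) (inv_mem ⟨g, rfl⟩)
  by_cases hMt : M = ⊤
  · exfalso
    have hfpf : MonoidHom.FixedPointFree (β : A →* A) := fun a ha => by
      have hac : a ∈ Subgroup.center A := mem_center_iff.2 fun x => by
        obtain ⟨g, hg⟩ := (hMt ▸ mem_top x : x ∈ M)
        have e1 := h.fix g a ha
        rw [hg, MulAut.conj_apply, mul_inv_eq_iff_eq_mul] at e1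
        exact e1
      exact mem_bot.1 (hZ ▸ hac)
    have hit : ∀ k (x : A), (⇑β)^[k] x = (β ^ k) x := by
      intro k
      induction k with
      | zero => intro x; rfl
      | succ k ihk => intro x; rw [Function.iterate_succ_apply, ihk, pow_succ, MulAut.mul_apply]
    haveI : Nontrivial A := not_subsingleton_iff_nontrivial.1 fun hs =>
      hab fun a b => Subsingleton.elim _ _
    haveI := Frobenius.Nilpotent.nontrivial_center (Frobenius.Nilpotent.isNilpotent_of_fixedPointFree
      h.hr β hfpf fun x => by rw [hit, h.hβ]; rfl)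
    exact (Subgroup.nontrivial_iff_ne_bot _).1 (by assumption) hZ
  · refine le_bot_iff.1 (hRperf.ge.trans (le_of_eq ?_))
    rw [Subgroup.commutator_eq_bot_iff_le_centralizer]
    intro k hk
    rw [mem_centralizer_iff]
    intro l hl
    obtain ⟨m, hm, rfl⟩ := hMR k hk
    obtain ⟨m', hm', rfl⟩ := hMR l hl
    obtain ⟨g, hg⟩ := (hm' : MulAut.conj m' ∈ R)
    have e1 := hprop M hMβ hMφ hMt g m hm
    rw [hg, MulAut.conj_apply, mul_inv_eq_iff_eq_mul] at e1
    rw [← map_mul, ← map_mul, e1]

/-- A perfect group `G = [G, γ]` fixing the fixed points of `β` acts trivially. -/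
theorem Fix.eq_one {A G : Type u} [Group A] [Finite A] [Group G] [Finite G] {r : ℕ} {β : MulAut A}
    {γ : MulAut G} {φ : G →* MulAut A} (h : Fix r β γ φ) (g : G) : φ g = 1 :=
  Fix.eq_one_aux _ h (Nat.lt_succ_self _) g

/-- Inside a group: `M = [M, β]` perfect centralising `C_N(β)` centralises `N`. -/
theorem le_centralizer_of_fixed {X : Type u} [Group X] [Finite X] {r : ℕ} (hr : r.Prime)
    {β : MulAut X} (hβ : β ^ r = 1) (hco : ¬ r ∣ Nat.card X) {M N : Subgroup X} [N.Normal]
    (hM : Stb β M) (hN : Stb β N) (hperf : ⁅M, M⁆ = M) (hgen : cm β M = M)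
    (hfix : N ⊓ fixG β ≤ Subgroup.centralizer (M : Set X)) :
    M ≤ Subgroup.centralizer (N : Set X) := by
  let φ : M →* MulAut N := (MulAut.conjNormal).comp M.subtype
  have hF : Fix r (resA β N hN) (resA β M hM) φ :=
    { hr := hr, hβ := resA_pow_r hβ hN, hco := not_dvd_sub hco N
      hγ := resA_pow_r hβ hM, hcoG := not_dvd_sub hco M
      perfect := by
        haveI : Group.IsPerfect M := Subgroup.isPerfect_iff.2 hperf
        exact Group.IsPerfect.commutator_eq_top
      gen := cm_resA_top hM hgen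
      compat := fun m a => Subtype.ext (by
        simp [φ, MulAut.conjNormal_apply, resA_apply, map_mul, map_inv])
      fix := fun m a ha => Subtype.ext (by
        have e1 := mem_centralizer_iff.1 (hfix ⟨a.2, mem_fixG.2 ((resA_apply hN a).symm.trans
          (congrArg Subtype.val ha))⟩) m m.2
        simp [φ, MulAut.conjNormal_apply, e1]) }
  intro m hm
  rw [mem_centralizer_iff]
  intro a ha
  have e1 := congrArg (fun f : MulAut N => ((f ⟨a, ha⟩ : N) : X)) (hF.eq_one ⟨m, hm⟩)
  simp only [φ, MonoidHom.comp_apply, Subgroup.coe_subtype, MulAut.conjNormal_apply,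
    MulAut.one_apply] at e1
  exact (mul_inv_eq_iff_eq_mul.1 e1).symm

end Cfsg.Agent.Lib.HHS57
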