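import Cfsg.Agent.Lib.HHS57.Weak

/-!
# Sign patterns of `Z` and their forms on `D` (helper18)

A pattern is given by its kernel `K ≤ Z`.  `sgnSp` is its eigenspace, `Occ` says that it occurs,
`rad K` is the radical of `(x, y) ↦ [x, y] mod K` on `D`.
-/

set_option autoImplicit false
set_option linter.style.haveILetI false
set_option linter.unusedSectionVars false

namespace Cfsg.Agent.Lib.HHS57

open Cfsg Cfsg.Agent.Lib
open Subgroup
open scoped commutatorElement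

universe u

variable {H : Type u} [Group H] {V : Type u} [CommGroup V]

/-- The vectors on which `Z` acts by the signs given by `K`. -/
def sgnSp (ψ : H →* MulAut V) (Z K : Subgroup H) : Subgroup V where
  carrier := {t | ∀ z ∈ Z, (z ∈ K → ψ z t = t) ∧ (z ∉ K → ψ z t = t⁻¹)}
  one_mem' z _ := ⟨fun _ => map_one _, fun _ => by rw [map_one, inv_one]⟩
  mul_mem' {a b} ha hb z hz := ⟨fun e1 => by rw [map_mul, (ha z hz).1 e1, (hb z hz).1 e1],
    fun e1 => by rw [map_mul, (ha z hz).2 e1, (hb z hz).2 e1, mul_inv]⟩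
  inv_mem' {a} ha z hz := ⟨fun e1 => by rw [map_inv, (ha z hz).1 e1],
    fun e1 => by rw [map_inv, (ha z hz).2 e1]⟩

variable [Finite H] [Finite V] {p r : ℕ} {α : MulAut H} {ψ : H →* MulAut V} {e : MulAut V}

/-- An occurring pattern. -/
structure Occ (α : MulAut H) (ψ : H →* MulAut V) (T : Sylow 2 H) (K : Subgroup H) : Prop where
  le : K ≤ zGrp α T
  two : K.relIndex (zGrp α T) = 2
  ne : ∃ t ∈ sgnSp ψ (zGrp α T) K, t ≠ 1

variable (h : Min p r α ψ e) (T : Sylow 2 H) (hT : Stb α (T : Subgroup H))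

include h hT

/-- Fixed by a sign and inverted by it: trivial. -/
theorem Min.eq_one_of_sgn {t : V} {g : MulAut V} (h1 : g t = t) (h2 : g t = t⁻¹) : t = 1 := by
  have h3 : t ^ 2 = 1 := by rw [pow_two]; exact eq_inv_iff_mul_eq_one.1 (h1.symm.trans h2)
  have h4 : t ^ Nat.gcd 2 p = 1 := pow_gcd_eq_one.mpr ⟨h3, h.hexp t⟩
  rwa [(Nat.coprime_primes Nat.prime_two h.hp).2 h.hp2.symm, pow_one] at h4

theorem Min.sgnSp_stb (K : Subgroup H) {d : H} (hd : d ∈ dGrp α T) {t : V}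
    (ht : t ∈ sgnSp ψ (zGrp α T) K) : ψ d t ∈ sgnSp ψ (zGrp α T) K := by
  intro z hz
  have hc : ψ z (ψ d t) = ψ d (ψ z t) := by
    rw [← MulAut.mul_apply, ← map_mul, h.zGrp_le_centralizer T hT hz hd, map_mul, MulAut.mul_apply]
  exact ⟨fun e1 => by rw [hc, (ht z hz).1 e1], fun e1 => by rw [hc, (ht z hz).2 e1, map_inv]⟩

theorem Min.sgnSp_e (K : Subgroup H) {t : V} (ht : t ∈ sgnSp ψ (zGrp α T) K) :
    e t ∈ sgnSp ψ (zGrp α T) K := by
  intro z hz
  have hc : ψ z (e t) = e (ψ z t) := by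
    conv_lhs => rw [← mem_fixG.1 hz.2, h.compat, MulAut.mul_apply, MulAut.mul_apply, MulAut.inv_apply_self]
  exact ⟨fun e1 => by rw [hc, (ht z hz).1 e1], fun e1 => by rw [hc, (ht z hz).2 e1, map_inv]⟩

/-- Some occurring pattern separates a given element of `Z` from `1`. -/
theorem Min.exists_occ {z : H} (hz : z ∈ zGrp α T) (hz1 : z ≠ 1) :
    ∃ K : Subgroup H, Occ α ψ T K ∧ z ∉ K := by
  classical
  set Z := zGrp α T with hZ
  obtain ⟨w, hw, hwz⟩ : ∃ w : V, (∀ y ∈ Z, FpfAut.Sgn (ψ y) w) ∧ ψ z w ≠ w := by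
    by_contra hh
    push Not at hh
    refine hz1 (h.inj ?_)
    rw [map_one]
    refine MulEquiv.ext fun t => ?_
    set L := ((Set.toFinite (ψ '' (Z : Set H))).toFinset.toList) with hL
    have hmem : ∀ x, x ∈ L ↔ ∃ y ∈ Z, ψ y = x := fun x => by simp [hL]
    have ht := FpfAut.eigen_span (h.hp.odd_of_ne_two h.hp2) h.hexp L
      (fun x hx => by
        obtain ⟨y, hy, rfl⟩ := (hmem x).1 hx
        rw [← map_mul, h.zGrp_sq T hT hy, map_one])
      (fun x hx x' hx' => by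
        obtain ⟨y, hy, rfl⟩ := (hmem x).1 hx
        obtain ⟨y', hy', rfl⟩ := (hmem x').1 hx'
        rw [← map_mul, ← map_mul, h.zGrp_le_centralizer T hT hy hy'.1]) t
    induction ht using Subgroup.closure_induction with
    | mem w hw => exact hh w fun y hy => hw _ ((hmem _).2 ⟨y, hy, rfl⟩)
    | one => simp
    | mul a b _ _ ha hb => rw [map_mul, ha, hb]; simp
    | inv a _ ha => rw [map_inv, ha]; simp
  let K : Subgroup H :=
    { carrier := {y | y ∈ Z ∧ ψ y w = w}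
      one_mem' := ⟨one_mem _, by simp⟩
      mul_mem' := fun {a b} ha hb => ⟨mul_mem ha.1 hb.1, by rw [map_mul, MulAut.mul_apply, hb.2, ha.2]⟩
      inv_mem' := fun {a} ha => ⟨inv_mem ha.1, by
        conv_lhs => rw [← ha.2, map_inv, MulAut.inv_apply_self]⟩ }
  have hw1 : w ≠ 1 := fun e1 => hwz (by rw [e1, map_one])
  refine ⟨K, ⟨fun y hy => hy.1, ?_, w, fun y hy => ⟨fun e1 => e1.2, fun e1 => ?_⟩, hw1⟩, fun e1 => hwz e1.2⟩
  · rw [Subgroup.relIndex, Subgroup.index_eq_two_iff]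
    refine ⟨⟨z, hz⟩, fun b => ?_⟩
    have hzi : ψ z w = w⁻¹ := (hw z hz).resolve_left hwz
    rcases hw (b : H) b.2 with hb | hb
    · refine Or.inr ⟨Subgroup.mem_subgroupOf.2 ⟨b.2, hb⟩, fun e1 => hwz ?_⟩
      have h1 := (Subgroup.mem_subgroupOf.1 e1).2
      rw [Subgroup.coe_mul, map_mul, MulAut.mul_apply] at h1
      rw [hzi, map_inv, hb] at h1
      exact hzi.trans h1
    · refine Or.inl ⟨Subgroup.mem_subgroupOf.2 ⟨(b * ⟨z, hz⟩ : Z).2, ?_⟩, fun e1 => hw1 ?_⟩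
      · rw [Subgroup.coe_mul, map_mul, MulAut.mul_apply]
        show ψ (b : H) (ψ z w) = w
        rw [hzi, map_inv, hb, inv_inv]
      · exact h.eq_one_of_sgn T hT (Subgroup.mem_subgroupOf.1 e1).2 hb
  · exact (hw y hy).resolve_left fun e2 => e1 ⟨hy, e2⟩

omit h in
/-- The radical. -/
noncomputable def rad (α : MulAut H) (T : Sylow 2 H) (K : Subgroup H) : Set H :=
  {d | d ∈ dGrp α T ∧ ∀ y ∈ dGrp α T, ⁅d, y⁆ ∈ K}

/-- The radical of an occurring pattern is a subgroup of index `2 ^ (2 m)`. -/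
theorem Min.exists_rad {K : Subgroup H} (hK : Occ α ψ T K) :
    ∃ R : Subgroup H, ∃ m : ℕ, (R : Set H) = rad α T K ∧ 0 < m ∧ r = 2 ^ m + 1 ∧
      R.relIndex (dGrp α T) = 2 ^ (2 * m) ∧ (∀ d ∈ dGrp α T, d⁻¹ * α d ∈ R → d ∈ R) := by
  set E := sgnSp ψ (zGrp α T) K with hE
  obtain ⟨t₀, ht₀, ht₁⟩ := hK.ne
  have hmem : ∀ z ∈ zGrp α T, (∀ t ∈ E, ψ z t = t) ↔ z ∈ K := fun z hz =>
    ⟨fun hh => by_contra fun e1 => ht₁ (h.eq_one_of_sgn T hT (hh t₀ ht₀) ((ht₀ z hz).2 e1)),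
      fun e1 t ht => (ht z hz).1 e1⟩
  have hne : ∃ a ∈ dGrp α T, ∃ b ∈ dGrp α T, ∃ t ∈ E, ψ ⁅a, b⁆ t ≠ t := by
    by_contra hh
    push Not at hh
    have hle : closure {c | ∃ a ∈ dGrp α T, ∃ b ∈ dGrp α T, c = ⁅a, b⁆} ≤ K := (closure_le _).2 (by
      rintro _ ⟨a, ha, b, hb, rfl⟩
      exact (hmem _ (h.commutator_mem_zGrp T hT ha hb)).1 fun t ht => hh a ha b hb t ht)
    have h2 := hK.two
    rw [Subgroup.relIndex_eq_one.2 ((h.zGrp_le_closure T hT).trans hle)] at h2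
    omega
  obtain ⟨R, m, hR, hm0, hrm, hidx, hfix⟩ := h.eigen_index T hT E (fun d hd t => h.sgnSp_stb T hT K hd)
    (fun t => h.sgnSp_e T hT K)
    (fun z hz => (em (z ∈ K)).imp (fun e1 t ht => (ht z hz).1 e1) (fun e1 t ht => (ht z hz).2 e1)) hne
  refine ⟨R, m, Set.ext fun d => (hR d).trans ⟨fun hd => ⟨hd.1, fun y hy => ?_⟩, fun hd => ⟨hd.1, ?_⟩⟩,
    hm0, hrm, hidx, hfix⟩
  · exact (hmem _ (h.commutator_mem_zGrp T hT hd.1 hy)).1 (hd.2 y hy)
  · exact fun y hy => (hmem _ (h.commutator_mem_zGrp T hT hd.1 hy)).2 (hd.2 y hy)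

/-- `r = 2 ^ m + 1`. -/
theorem Min.exists_m : ∃ m, 0 < m ∧ r = 2 ^ m + 1 := by
  obtain ⟨a, ha, b, hb, hab⟩ := h.exists_not_commute T hT
  obtain ⟨K, hK, -⟩ := h.exists_occ T hT (h.commutator_mem_zGrp T hT ha hb) hab
  obtain ⟨R, m, -, hm0, hrm, -⟩ := h.exists_rad T hT hK
  exact ⟨m, hm0, hrm⟩

omit h hT in
/-- `m` is determined by `r`. -/
theorem eq_of_pow_add_one {m m' : ℕ} (h1 : r = 2 ^ m + 1) (h2 : r = 2 ^ m' + 1) : m = m' :=
  Nat.pow_right_injective le_rfl (Nat.add_right_cancel (h1.symm.trans h2))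

end Cfsg.Agent.Lib.HHS57
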