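import Cfsg.Agent.Lib.HHS57.Basics
import Mathlib.LinearAlgebra.Dual.Lemmas
import Mathlib.Algebra.Module.ZMod
import Mathlib.RingTheory.Finiteness.Basic
import Mathlib.LinearAlgebra.FiniteDimensional.Basic

/-!
# Fixed vectors of `p`-groups in characteristic `p` and a weight equation (helper57)
-/

set_option autoImplicit false
set_option linter.style.haveILetI false

namespace Cfsg.Agent.Lib.HHS57

open scoped BigOperators

universe u v w

variable {H : Type u} [Group H] [Finite H] {p : ℕ} {k : Type v} [Field k] [CharP k p]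

/-- A `p`-group in characteristic `p` fixes a nonzero vector in every invariant nonzero subspace. -/
theorem exists_fixed_vector (hp : p.Prime) {W : Type w} [AddCommGroup W] [Module k W]
    (ρ : H →* Module.End k W) {M : Subgroup H} (hM : IsPGroup p M) {S : Submodule k W} (hS : S ≠ ⊥)
    (hinv : ∀ g ∈ M, ∀ x ∈ S, ρ g x ∈ S) : ∃ x ∈ S, x ≠ 0 ∧ ∀ g ∈ M, ρ g x = x := by
  haveI := Fact.mk hp
  obtain ⟨s, hs, hs0⟩ := Submodule.exists_mem_ne_zero_of_ne_bot hS
  haveI hzmod : Module (ZMod p) W := AddCommGroup.zmodModule (n := p) fun x => by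
    rw [← Nat.cast_smul_eq_nsmul k, CharP.cast_eq_zero, zero_smul]
  let T : Submodule (ZMod p) W := Submodule.span (ZMod p) (Set.range fun g : M => ρ (g : H) s)
  haveI : Module.Finite (ZMod p) ↥T :=
    Module.Finite.span_of_finite (ZMod p) (Set.finite_range fun g : M => ρ (g : H) s)
  haveI : Finite ↥T := Module.finite_of_finite (ZMod p)
  have hTinv : ∀ g ∈ M, ∀ x ∈ T, ρ g x ∈ T := by
    intro g hg x hx
    induction hx using Submodule.span_induction with
    | mem y hy =>
      obtain ⟨h, rfl⟩ := hy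
      refine Submodule.subset_span ⟨⟨g * h, mul_mem hg h.2⟩, ?_⟩
      show ρ (g * h) s = _
      rw [map_mul]; rfl
    | zero => rw [map_zero]; exact zero_mem _
    | add y z _ _ hy hz => rw [map_add]; exact add_mem hy hz
    | smul a y _ hy =>
      rw [show ρ g (a • y) = a • ρ g y from ZMod.map_smul (ρ g).toAddMonoidHom a y]
      exact T.smul_mem a hy
  have hTS : ∀ x ∈ T, x ∈ S := by
    intro x hx
    induction hx using Submodule.span_induction with
    | mem y hy => obtain ⟨h, rfl⟩ := hy; exact hinv _ h.2 s hs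
    | zero => exact zero_mem _
    | add y z _ _ hy hz => exact add_mem hy hz
    | smul a y _ hy =>
      rw [← ZMod.natCast_zmod_val a, Nat.cast_smul_eq_nsmul]
      exact S.smul_of_tower_mem _ hy
  letI : MulAction M ↥T :=
    { smul := fun g x => ⟨ρ g x, hTinv g g.2 x x.2⟩
      one_smul := fun x => Subtype.ext (by show ρ ((1 : M) : H) x = (x : W); simp)
      mul_smul := fun g g' x => Subtype.ext (by
        show ρ ((g * g' : M) : H) x = ρ g (ρ g' x)
        rw [Subgroup.coe_mul, map_mul]; rfl) }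
  have hsT : s ∈ T := Submodule.subset_span ⟨1, by simp⟩
  have hp0 : ∀ x : T, p • x = 0 := fun x => by
    rw [← Nat.cast_smul_eq_nsmul (ZMod p), ZMod.natCast_self, zero_smul]
  have hdvd : p ∣ Nat.card T := by
    have h1 : addOrderOf (⟨s, hsT⟩ : T) = p :=
      addOrderOf_eq_prime (hp0 _) (fun e => hs0 (congrArg Subtype.val e))
    exact h1.symm.dvd.trans (addOrderOf_dvd_natCard _)
  obtain ⟨x, hx, hx0⟩ := hM.exists_fixed_point_of_prime_dvd_card_of_fixed_point (α := T) hdvd
    (a := (0 : T)) fun g => Subtype.ext (map_zero (ρ g))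
  exact ⟨x, hTS x x.2, fun e => hx0 (Subtype.ext e.symm), fun g hg =>
    congrArg Subtype.val (hx ⟨g, hg⟩)⟩

/-- An invariant subspace inside its augmentation is zero. -/
theorem eq_bot_of_le_augmentation (hp : p.Prime) {W : Type w} [AddCommGroup W] [Module k W]
    (ρ : H →* Module.End k W) {M : Subgroup H} (hM : IsPGroup p M) {S : Submodule k W}
    (hinv : ∀ g ∈ M, ∀ x ∈ S, ρ g x ∈ S)
    (hle : S ≤ Submodule.span k {y | ∃ g ∈ M, ∃ x ∈ S, y = ρ g x - x}) : S = ⊥ := by
  by_contra hS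
  let ρS : M →* Module.End k S :=
    { toFun := fun g => (ρ g).restrict (hinv g g.2)
      map_one' := LinearMap.ext fun x => Subtype.ext (by simp)
      map_mul' := fun g g' => LinearMap.ext fun x => Subtype.ext (by simp) }
  let ρD : M →* Module.End k (Module.Dual k S) :=
    { toFun := fun g => (ρS g⁻¹).dualMap
      map_one' := by rw [inv_one, map_one]; exact LinearMap.dualMap_id
      map_mul' := fun g g' => by
        rw [mul_inv_rev, map_mul]
        rfl }
  obtain ⟨x₀, hx₀, hx₀0⟩ := Submodule.exists_mem_ne_zero_of_ne_bot hS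
  obtain ⟨φ, hφ⟩ := Module.Projective.exists_dual_ne_zero k (x := (⟨x₀, hx₀⟩ : S))
    (fun e => hx₀0 (congrArg Subtype.val e))
  have htop : IsPGroup p (⊤ : Subgroup M) := hM.of_equiv Subgroup.topEquiv.symm
  obtain ⟨f, -, hf0, hf⟩ := exists_fixed_vector hp ρD htop (S := ⊤)
    (fun e => hφ (by
      have h1 : φ ∈ (⊥ : Submodule k (Module.Dual k S)) := e ▸ Submodule.mem_top
      rw [Submodule.mem_bot] at h1
      rw [h1]; rfl))
    fun _ _ _ _ => Submodule.mem_top
  refine hf0 (LinearMap.ext fun x => ?_)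
  have hker : ∀ y ∈ Submodule.span k {y | ∃ g ∈ M, ∃ x ∈ S, y = ρ g x - x},
      ∃ hy : y ∈ S, f ⟨y, hy⟩ = 0 := by
    intro y hy
    induction hy using Submodule.span_induction with
    | mem y hy =>
      obtain ⟨g, hg, x, hx, rfl⟩ := hy
      refine ⟨sub_mem (hinv g hg x hx) hx, ?_⟩
      have h1 : f ((ρS (⟨g, hg⟩⁻¹ : M)⁻¹) ⟨x, hx⟩) = f ⟨x, hx⟩ :=
        DFunLike.congr_fun (hf (⟨g, hg⟩⁻¹ : M) (Subgroup.mem_top _)) ⟨x, hx⟩
      rw [inv_inv] at h1
      rw [show (⟨ρ g x - x, _⟩ : S) = ρS ⟨g, hg⟩ ⟨x, hx⟩ - ⟨x, hx⟩ from rfl, map_sub, h1, sub_self]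
    | zero => exact ⟨zero_mem _, map_zero f⟩
    | add y z _ _ hy hz =>
      obtain ⟨hy, hy'⟩ := hy
      obtain ⟨hz, hz'⟩ := hz
      refine ⟨add_mem hy hz, ?_⟩
      rw [show (⟨y + z, add_mem hy hz⟩ : S) = ⟨y, hy⟩ + ⟨z, hz⟩ from rfl, map_add, hy', hz', add_zero]
    | smul a y _ hy =>
      obtain ⟨hy, hy'⟩ := hy
      refine ⟨S.smul_mem a hy, ?_⟩
      rw [show (⟨a • y, S.smul_mem a hy⟩ : S) = a • ⟨y, hy⟩ from rfl, map_smul, hy', smul_zero]
  obtain ⟨_, h⟩ := hker x (hle x.2)
  exact h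

variable {r : ℕ}

/-- The weight equation: if `a` moves `α^j n v` by `c j • w`, then `∑ μ^j c j = 0`. -/
theorem weight_sum_eq_zero (hp : p.Prime) {W : Type w} [AddCommGroup W] [Module k W]
    (ρ : H →* Module.End k W) (σ : Module.End k W) (hσr : σ ^ r = 1) (hσ : ∀ v, σ v = v → v = 0)
    (α : MulAut H) (hcompat : ∀ x, σ * ρ x = ρ (α x) * σ) {M : Subgroup H} (hM : IsPGroup p M)
    (hMα : ∀ g ∈ M, α g ∈ M) {n : H} (hn : n ∈ M) {a : H} {v w : W} (hw : w ≠ 0) {μ : k}
    (hv : σ v = μ • v) (c : ℕ → k)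
    (hc : ∀ j, ρ a (ρ ((α ^ j) n) v) = ρ ((α ^ j) n) (v + c j • w)) :
    ∑ j ∈ Finset.range r, μ ^ j * c j = 0 := by
  have hMj : ∀ j : ℕ, (α ^ j) n ∈ M := by
    intro j
    induction j with
    | zero => exact hn
    | succ j ih => rw [pow_succ', MulAut.mul_apply]; exact hMα _ ih
  have hσj : ∀ j : ℕ, (σ ^ j) (ρ n v) = μ ^ j • ρ ((α ^ j) n) v := by
    intro j
    induction j with
    | zero => simp
    | succ j ih =>
      rw [pow_succ', Module.End.mul_apply, ih, map_smul, ← Module.End.mul_apply, hcompat,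
        Module.End.mul_apply, hv, map_smul, smul_smul, ← pow_succ, pow_succ' α, MulAut.mul_apply]
  have hsum : ∑ j ∈ Finset.range r, μ ^ j • ρ ((α ^ j) n) v = 0 := by
    refine hσ _ ?_
    simp only [← hσj, map_sum]
    have h2 := Finset.sum_range_succ' (fun j => (σ ^ j) (ρ n v)) r
    rw [Finset.sum_range_succ, hσr, pow_zero] at h2
    simp only [pow_succ', Module.End.mul_apply] at h2
    exact (add_right_cancel h2).symm
  have h1 : ∑ j ∈ Finset.range r, (μ ^ j * c j) • ρ ((α ^ j) n) w = 0 := by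
    have h2 := congrArg (ρ a) hsum
    rw [map_zero, map_sum] at h2
    simp only [map_smul, hc, map_add, smul_add, smul_smul, Finset.sum_add_distrib, hsum, zero_add] at h2
    exact h2
  by_contra hne
  set S : Submodule k W := Submodule.span k (Set.range fun g : M => ρ (g : H) w) with hS
  have hwS : w ∈ S := Submodule.subset_span ⟨1, by simp⟩
  have hinv : ∀ g ∈ M, ∀ x ∈ S, ρ g x ∈ S := by
    intro g hg x hx
    induction hx using Submodule.span_induction with
    | mem y hy =>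
      obtain ⟨h, rfl⟩ := hy
      refine Submodule.subset_span ⟨⟨g * h, mul_mem hg h.2⟩, ?_⟩
      show ρ (g * h) w = _
      rw [map_mul]; rfl
    | zero => rw [map_zero]; exact zero_mem _
    | add y z _ _ hy hz => rw [map_add]; exact add_mem hy hz
    | smul a y _ hy => rw [map_smul]; exact S.smul_mem a hy
  set S₁ := Submodule.span k {y | ∃ g ∈ M, ∃ x ∈ S, y = ρ g x - x} with hS₁
  have hd : ∀ g ∈ M, ρ g w - w ∈ S₁ := fun g hg => Submodule.subset_span ⟨g, hg, w, hwS, rfl⟩
  have hw1 : w ∈ S₁ := by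
    have h3 : (∑ j ∈ Finset.range r, μ ^ j * c j) • w =
        - ∑ j ∈ Finset.range r, (μ ^ j * c j) • (ρ ((α ^ j) n) w - w) := by
      simp only [smul_sub, Finset.sum_sub_distrib, h1, zero_sub, neg_neg, Finset.sum_smul]
    have h4 : (∑ j ∈ Finset.range r, μ ^ j * c j) • w ∈ S₁ := by
      rw [h3]
      exact neg_mem (sum_mem fun j _ => S₁.smul_mem _ (hd _ (hMj j)))
    exact (Submodule.smul_mem_iff _ hne).1 h4
  refine hw ((Submodule.mem_bot k).1 (eq_bot_of_le_augmentation hp ρ hM hinv ?_ ▸ hwS))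
  rw [hS, Submodule.span_le]
  rintro _ ⟨g, rfl⟩
  show ρ (g : H) w ∈ S₁
  rw [← sub_add_cancel (ρ (g : H) w) w]
  exact add_mem (hd _ g.2) hw1

end Cfsg.Agent.Lib.HHS57
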