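import Cfsg.Agent.Lib.HHS57.LemmaL
import Cfsg.Agent.Lib.HHS57.LinFix
import Cfsg.Agent.Lib.HHS57.EigenU
import Mathlib.RingTheory.Polynomial.Cyclotomic.Roots

/-!
# Conjugates of a moved `p`-subgroup centralised by `U = [U, α]` (helper57)

`A = [A, α]` lies in the `p`-group `W` centralised by `U`, `P ⊇ W` normalises `W` and `U`, and is
`W` times fixed elements.  If `n` lies in an invariant `p`-group and `n⁻¹ A n ≤ P` then `n⁻¹ A n`
centralises `U`: otherwise some `n⁻¹ a n` permutes the sign spaces of `U'` on `C_V(W)`, each of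
which carries every nontrivial eigenvalue of `α`, and the weight equation gives a contradiction.
-/

set_option autoImplicit false
set_option linter.style.haveILetI false
set_option linter.unusedSectionVars false

namespace Cfsg.Agent.Lib.HHS57

open Cfsg Cfsg.Agent.Lib
open Subgroup
open scoped commutatorElement

universe u v

/-- A maximal subgroup of a `p`-group over a given proper subgroup, with a coordinate. -/
theorem exists_pgroup_coord {G : Type u} [Group G] [Finite G] {p : ℕ} (hp : p.Prime) (hG : IsPGroup p G)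
    {Y : Subgroup G} (hY : Y ≠ ⊤) :
    ∃ (K : Subgroup G) (t : G), Y ≤ K ∧ K.Normal ∧ t ∉ K ∧ t ^ p ∈ K ∧
      ∀ x : G, ∃ i : ℕ, (t ^ i)⁻¹ * x ∈ K := by
  haveI := Fact.mk hp
  haveI := hG.isNilpotent
  obtain ⟨K, hK, hYK⟩ := (eq_top_or_exists_le_coatom Y).resolve_left hY
  haveI hKn : K.Normal := NormalizerCondition.normal_of_coatom K Group.normalizerCondition_of_isNilpotent hK
  obtain ⟨t, -, ht⟩ := SetLike.exists_of_lt (lt_top_iff_ne_top.2 hK.1)
  have hgen : ∀ s : G, s ∉ K → ∀ x, ∃ i : ℕ, (s ^ i)⁻¹ * x ∈ K := by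
    intro s hs x
    have htop : K ⊔ zpowers s = ⊤ :=
      hK.2 _ (lt_of_le_of_ne le_sup_left fun e => hs (e.symm ▸ mem_sup_right (mem_zpowers s)))
    obtain ⟨k, hk, y, hy, rfl⟩ := Subgroup.mem_sup_of_normal_left.1 (htop ▸ mem_top x : x ∈ K ⊔ zpowers s)
    obtain ⟨i, rfl⟩ := mem_powers_iff_mem_zpowers.2 hy
    exact ⟨i, by simpa [mul_assoc] using hKn.conj_mem k hk (s ^ i)⁻¹⟩
  refine ⟨K, t, hYK, hKn, ht, ?_, hgen t ht⟩
  by_contra htp
  obtain ⟨i, hi⟩ := hgen _ htp t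
  -- `t ^ (1 - p i) ∈ K`
  obtain ⟨j, hj⟩ := hG t
  set q := QuotientGroup.mk' K with hq
  have h1 : q t = q t ^ (p * i) := by
    rw [← map_pow]
    exact ((QuotientGroup.eq).2 (by rw [pow_mul]; exact hi)).symm
  have h2 : ∀ m : ℕ, q t = q t ^ (p * i) ^ m := by
    intro m
    induction m with
    | zero => simp
    | succ m ih => rw [pow_succ, pow_mul, ← ih, ← h1]
  refine ht ((QuotientGroup.eq_one_iff t).1 ?_)
  show q t = 1
  rw [h2 j, mul_pow, pow_mul, ← map_pow, hj, map_one, one_pow]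

/-- Weights killed by every nontrivial root of unity are constant. -/
theorem weights_const {k : Type v} [Field k] {r : ℕ} {ζ : k} (hζ : IsPrimitiveRoot ζ r)
    (C : ℕ → k) (h : ∀ i, 1 ≤ i → i < r → ∑ j ∈ Finset.range r, (ζ ^ i) ^ j * C j = 0) :
    ∀ j < r, C j = C (r - 1) := by
  classical
  intro j hj
  set K := C (r - 1) with hK
  let P : Polynomial k := ∑ l ∈ Finset.range r, Polynomial.monomial l (C l - K)
  have hcoef : ∀ l, P.coeff l = if l < r then C l - K else 0 := fun l => by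
    simp [P, Polynomial.coeff_monomial]
    split_ifs <;> simp
  suffices hP : P = 0 by
    have := hcoef j
    rw [hP, Polynomial.coeff_zero, if_pos hj] at this
    exact sub_eq_zero.1 this.symm
  by_contra hP0
  have hdeg : P.natDegree < r - 1 := by
    by_contra hlt
    push Not at hlt
    have h1 := Polynomial.leadingCoeff_ne_zero.2 hP0
    rw [Polynomial.leadingCoeff, hcoef] at h1
    by_cases h2 : P.natDegree < r
    · rw [if_pos h2, show P.natDegree = r - 1 by omega, ← hK, sub_self] at h1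
      exact h1 rfl
    · rw [if_neg h2] at h1
      exact h1 rfl
  refine hP0 (Polynomial.eq_zero_of_natDegree_lt_card_of_eval_eq_zero P
    (f := fun i : Fin (r - 1) => ζ ^ (i.1 + 1)) ?_ ?_ (by simpa using hdeg))
  · intro a b hab
    exact Fin.ext (by have := hζ.pow_inj (by omega) (by omega) hab; omega)
  · intro i
    have hi : ζ ^ (i.1 + 1) ≠ 1 := hζ.pow_ne_one_of_pos_of_lt (by omega) (by omega)
    have hg : ∑ l ∈ Finset.range r, (ζ ^ (i.1 + 1)) ^ l = 0 := by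
      rw [geom_sum_eq hi, ← pow_mul, mul_comm, pow_mul, hζ.pow_eq_one, one_pow, sub_self, zero_div]
    simp only [P, Polynomial.eval_finsetSum, Polynomial.eval_monomial, sub_mul, Finset.sum_sub_distrib,
      ← Finset.mul_sum, hg, mul_zero, sub_zero]
    rw [← h (i.1 + 1) (by omega) (by omega)]
    exact Finset.sum_congr rfl fun l _ => mul_comm _ _

variable {H : Type u} [Group H] [Finite H] {p r : ℕ} {α : MulAut H} {V : Type u} [CommGroup V]
  [Finite V] {ψ : H →* MulAut V} {e : MulAut V}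

/-- The conjugate `n⁻¹ A n` centralises `U'`. -/
theorem Min.conj_centralizes_commutator (h : Min p r α ψ e) (hr2 : r ≠ 2) {U : Subgroup H}
    (hU : IsPGroup 2 U) (hUα : Stb α U) (hU1 : cm α U = U) {W : Subgroup H} (hW : IsPGroup p W)
    (hWα : Stb α W) (hWU : ∀ w ∈ W, ∀ u ∈ U, w * u = u * w) {P : Subgroup H} (hP : IsPGroup p P)
    (hPU : ∀ g ∈ P, ∀ u ∈ U, g * u * g⁻¹ ∈ U) (hPW : ∀ g ∈ P, ∀ w ∈ W, g * w * g⁻¹ ∈ W)
    (hPeq : ∀ g ∈ P, ∃ w ∈ W, ∃ b ∈ P, g = w * b ∧ α b = b) (hPα : Stb α P) {A : Subgroup H} (hAα : Stb α A)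
    (hA1 : cm α A = A) (hAW : A ≤ W) {M : Subgroup H} (hM : IsPGroup p M) (hMα : Stb α M) {n : H}
    (hn : n ∈ M) (hnP : ∀ a ∈ A, n⁻¹ * a * n ∈ P) :
    ∀ a ∈ A, ∀ c ∈ ⁅U, U⁆, n⁻¹ * a * n * c = c * (n⁻¹ * a * n) := by
  classical
  haveI := h.factP
  haveI : Fact (Nat.Prime 2) := ⟨Nat.prime_two⟩
  obtain ⟨hCU, hC⟩ := h.commutator_facts hr2 hU hUα hU1
  obtain ⟨W', _, _, _, ψ', hψ', hψfix⟩ :=
    Shult.exists_linear (N := MulAut V) (p := p) h.hexp (MonoidHom.id _)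
  let k := AlgebraicClosure (ZMod p)
  let ρ : H →* Module.End k W' := ψ'.comp ψ
  let σ : Module.End k W' := ψ' e
  have hσr : σ ^ r = 1 := by rw [← map_pow, h.he, map_one]
  have hσ : ∀ v, σ v = v → v = 0 := hψfix _ h.hfpf
  have hcompat : ∀ x, σ * ρ x = ρ (α x) * σ := fun x => by
    show ψ' e * ψ' (ψ x) = ψ' (ψ (α x)) * ψ' e
    rw [← map_mul, ← map_mul, h.compat, inv_mul_cancel_right]
  have hinj : ∀ x, ρ x = 1 → x = 1 := fun x hx => h.inj (by
    rw [map_one]; exact MulEquiv.ext fun a => hψ' _ hx a)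
  have happ : ∀ (x : H) (v : W'), σ (ρ x v) = ρ (α x) (σ v) := fun x v =>
    LinearMap.congr_fun (hcompat x) v
  have hmul : ∀ (x y : H) (v : W'), ρ x (ρ y v) = ρ (x * y) v := fun x y v => by
    rw [map_mul]; rfl
  intro a₀ ha₀ c₀ hc₀
  by_contra hne
  set g₀ := n⁻¹ * a₀ * n with hg₀
  set c₁ := g₀ * c₀ * g₀⁻¹ with hc₁
  have hPC : ∀ g ∈ P, ∀ c ∈ ⁅U, U⁆, g * c * g⁻¹ ∈ ⁅U, U⁆ := by
    intro g hg c hc
    refine (show ⁅U, U⁆ ≤ ⁅U, U⁆.comap (MulAut.conj g).toMonoidHom from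
      Subgroup.commutator_le.2 fun x hx y hy => ?_) hc
    show g * ⁅x, y⁆ * g⁻¹ ∈ ⁅U, U⁆
    rw [show g * ⁅x, y⁆ * g⁻¹ = ⁅g * x * g⁻¹, g * y * g⁻¹⁆ by simp only [commutatorElement_def]; group]
    exact commutator_mem_commutator (hPU g hg x hx) (hPU g hg y hy)
  set c := c₁⁻¹ * c₀ with hcdef
  have hc : c ∈ ⁅U, U⁆ := mul_mem (inv_mem (hPC _ (hnP a₀ ha₀) c₀ hc₀)) hc₀
  have hc1 : c ≠ 1 := fun e1 => hne (by
    have e2 : c₁ = c₀ := inv_mul_eq_one.1 e1
    calc g₀ * c₀ = g₀ * c₀ * g₀⁻¹ * g₀ := by group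
      _ = c₀ * g₀ := by rw [← hc₁, e2])
  -- the fixed space of `W`
  let S₀ : Submodule k W' :=
    { carrier := {v | ∀ w ∈ W, ρ w v = v}
      add_mem' := fun hx hy w hw => by rw [map_add, hx w hw, hy w hw]
      zero_mem' := fun w _ => map_zero _
      smul_mem' := fun s x hx w hw => by rw [map_smul, hx w hw] }
  have hS₀σ : ∀ v ∈ S₀, σ v ∈ S₀ := fun v hv w hw => by
    obtain ⟨w', rfl⟩ := α.surjective w
    rw [← happ, hv w' ((hWα.mem_iff).1 hw)]
  have hS₀U : ∀ x ∈ U, ∀ v ∈ S₀, ρ x v ∈ S₀ := fun x hx v hv w hw => by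
    rw [hmul, hWU w hw x hx, ← hmul, hv w hw]
  have hS₀P : ∀ x ∈ P, ∀ v ∈ S₀, ρ x v ∈ S₀ := fun x hx v hv w hw => by
    have := hPW x⁻¹ (inv_mem hx) w hw
    rw [inv_inv] at this
    rw [hmul, show w * x = x * (x⁻¹ * w * x) by group, ← hmul, hv _ this]
  have h2 : (2 : k) ≠ 0 := fun h0 => by
    have : ((2 : ℕ) : k) = 0 := by exact_mod_cast h0
    rw [CharP.cast_eq_zero_iff k p] at this
    exact h.hp2 ((Nat.prime_dvd_prime_iff_eq h.hp Nat.prime_two).1 this)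
  have hcc : ∀ v, ρ c (ρ c v) = v := fun v => by rw [hmul, (hC c hc).1, map_one]; rfl
  -- `c` is nontrivial on `S₀`
  obtain ⟨v₁, hv₁, hv₁c⟩ : ∃ v ∈ S₀, ρ c v ≠ v := by
    by_contra hall
    push Not at hall
    have hne1 : LinearMap.range (ρ c - 1) ≠ ⊥ := fun e1 => hc1 (hinj _
      (sub_eq_zero.1 (LinearMap.range_eq_bot.1 e1)))
    obtain ⟨y, hy, hy0, hyW⟩ := exists_fixed_vector h.hp ρ hW hne1 (by
      rintro w hw _ ⟨z, rfl⟩
      refine ⟨ρ w z, ?_⟩
      show ρ c (ρ w z) - ρ w z = ρ w (ρ c z - z)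
      rw [map_sub, hmul, hmul, hWU w hw c (hCU hc)])
    obtain ⟨z, rfl⟩ := hy
    have e1 : ρ c (ρ c z - z) = ρ c z - z := hall _ hyW
    rw [map_sub, hcc] at e1
    refine hy0 ((smul_eq_zero.1 (?_ : (2 : k) • (ρ c z - z) = 0)).resolve_left h2)
    rw [two_smul]
    exact (congrArg (fun x => x + (ρ c z - z)) e1).symm.trans (by abel)
  -- a common eigenspace of `U'` in `S₀` on which `c = -1`
  set Sc : Set (Submodule k W') := {T | T ≠ ⊥ ∧ T ≤ S₀ ∧ (∀ v ∈ T, ρ c v = -v) ∧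
    (∀ x ∈ U, ∀ v ∈ T, ρ x v ∈ T) ∧ ∀ v ∈ T, σ v ∈ T}
  let T₀ : Submodule k W' :=
    { carrier := {v | v ∈ S₀ ∧ ρ c v = -v}
      add_mem' := fun hx hy => ⟨add_mem hx.1 hy.1, by rw [map_add, hx.2, hy.2, neg_add]⟩
      zero_mem' := ⟨zero_mem _, by rw [map_zero, neg_zero]⟩
      smul_mem' := fun s x hx => ⟨S₀.smul_mem s hx.1, by rw [map_smul, hx.2, smul_neg]⟩ }
  obtain ⟨T, ⟨hT0, hTS, hTc, hTU, hTσ⟩, hmin⟩ := wellFounded_lt.has_min Sc
    ⟨T₀, fun e1 => hv₁c (by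
      have h3 : ρ c v₁ - v₁ ∈ T₀ := ⟨sub_mem (hS₀U c (hCU hc) v₁ hv₁) hv₁, by
        rw [map_sub, hcc, neg_sub]⟩
      rw [e1, Submodule.mem_bot] at h3
      exact sub_eq_zero.1 h3), fun v hv => hv.1, fun v hv => hv.2,
      fun x hx v hv => ⟨hS₀U x hx v hv.1, by rw [hmul, (hC c hc).2.2 x hx, ← hmul, hv.2, map_neg]⟩,
      fun v hv => ⟨hS₀σ v hv.1, by rw [← (hC c hc).2.1, ← happ, hv.2, map_neg]⟩⟩
  have hchar : ∀ d ∈ ⁅U, U⁆, ∃ s : k, (s * s = 1) ∧ ∀ v ∈ T, ρ d v = s • v := by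
    intro d hd
    let Tp : Submodule k W' :=
      { carrier := {v | v ∈ T ∧ ρ d v = v}
        add_mem' := fun hx hy => ⟨add_mem hx.1 hy.1, by rw [map_add, hx.2, hy.2]⟩
        zero_mem' := ⟨zero_mem _, map_zero _⟩
        smul_mem' := fun s x hx => ⟨T.smul_mem s hx.1, by rw [map_smul, hx.2]⟩ }
    have hdd : ∀ v, ρ d (ρ d v) = v := fun v => by rw [hmul, (hC d hd).1, map_one]; rfl
    have hdT : ∀ v ∈ T, ρ d v ∈ T := fun v hv => hTU d (hCU hd) v hv
    by_cases hTp : Tp = ⊥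
    · refine ⟨-1, by ring, fun v hv => ?_⟩
      have h3 : ρ d v + v ∈ Tp := ⟨add_mem (hdT v hv) hv, by rw [map_add, hdd, add_comm]⟩
      rw [hTp, Submodule.mem_bot] at h3
      rw [neg_one_smul]
      exact eq_neg_of_add_eq_zero_left h3
    · refine ⟨1, mul_one 1, fun v hv => ?_⟩
      have hle : Tp ≤ T := fun v hv => hv.1
      have heq : Tp = T := eq_of_le_of_not_lt hle (hmin Tp ⟨hTp, hle.trans hTS, fun v hv => hTc v hv.1,
        fun x hx v hv => ⟨hTU x hx v hv.1, by rw [hmul, (hC d hd).2.2 x hx, ← hmul, hv.2]⟩,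
        fun v hv => ⟨hTσ v hv.1, by rw [← (hC d hd).2.1, ← happ, hv.2]⟩⟩)
      rw [one_smul]
      exact (heq.symm ▸ hv : v ∈ Tp).2
  choose! χ hχ2 hχ using hchar
  obtain ⟨u₁, hu₁, hu₁0⟩ := Submodule.exists_mem_ne_zero_of_ne_bot hT0
  have hχmul : ∀ d ∈ ⁅U, U⁆, ∀ d' ∈ ⁅U, U⁆, χ (d * d') = χ d * χ d' := fun d hd d' hd' => by
    have h3 := hχ (d * d') (mul_mem hd hd') u₁ hu₁
    rw [← hmul, hχ d' hd' u₁ hu₁, map_smul, hχ d hd u₁ hu₁, smul_smul] at h3
    exact ((smul_left_injective k hu₁0) h3).symm.trans (mul_comm _ _)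
  have hχc : χ c = -1 := by
    have h3 := hχ c hc u₁ hu₁
    rw [hTc u₁ hu₁, ← neg_one_smul k] at h3
    exact (smul_left_injective k hu₁0 h3).symm
  -- the whole eigenspace
  let S : Submodule k W' :=
    { carrier := {v | v ∈ S₀ ∧ ∀ d ∈ ⁅U, U⁆, ρ d v = χ d • v}
      add_mem' := fun hx hy => ⟨add_mem hx.1 hy.1, fun d hd => by
        rw [map_add, hx.2 d hd, hy.2 d hd, smul_add]⟩
      zero_mem' := ⟨zero_mem _, fun d _ => by rw [map_zero, smul_zero]⟩
      smul_mem' := fun s x hx => ⟨S₀.smul_mem s hx.1, fun d hd => by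
        rw [map_smul, hx.2 d hd, smul_comm]⟩ }
  have hSS₀ : ∀ v ∈ S, v ∈ S₀ := fun v hv => hv.1
  have hSU : ∀ x ∈ U, ∀ v ∈ S, ρ x v ∈ S := fun x hx v hv => ⟨hS₀U x hx v hv.1, fun d hd => by
    rw [hmul, (hC d hd).2.2 x hx, ← hmul, hv.2 d hd, map_smul]⟩
  have hSσ : ∀ v ∈ S, σ v ∈ S := fun v hv => ⟨hS₀σ v hv.1, fun d hd => by
    conv_lhs => rw [← (hC d hd).2.1]
    rw [← happ, hv.2 d hd, map_smul]⟩
  -- elements of `P` commute with `σ` on `S₀`
  have hPσ : ∀ g ∈ P, ∀ v ∈ S₀, σ (ρ g v) = ρ g (σ v) ∧ ρ (α g) v = ρ g v := by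
    intro g hg v hv
    obtain ⟨w, hw, b, hb, rfl, hbf⟩ := hPeq g hg
    have h3 : ∀ w ∈ W, ∀ v ∈ S₀, ρ (w * b) v = ρ b v := fun w hw v hv => by
      rw [← hmul]; exact hS₀P b hb v hv w hw
    refine ⟨?_, ?_⟩
    · rw [happ, map_mul α, hbf, h3 _ (hWα w hw) _ (hS₀σ v hv), h3 w hw _ (hS₀σ v hv)]
    · rw [map_mul α, hbf, h3 _ (hWα w hw) v hv, h3 w hw v hv]
  -- the stabiliser of `χ` in `A`
  let θ : A →* H := (MulAut.conj n⁻¹).toMonoidHom.comp A.subtype
  have hθ : ∀ a : A, θ a = n⁻¹ * a * n := fun a => by simp [θ]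
  have hθP : ∀ a : A, θ a ∈ P := fun a => by rw [hθ]; exact hnP a a.2
  let Y₀ : Subgroup A :=
    { carrier := {a | ∀ d ∈ ⁅U, U⁆, χ (θ a * d * (θ a)⁻¹) = χ d}
      one_mem' := fun d _ => by simp
      mul_mem' := fun {a b} ha hb d hd => by
        rw [map_mul, show θ a * θ b * d * (θ a * θ b)⁻¹ = θ a * (θ b * d * (θ b)⁻¹) * (θ a)⁻¹ by group,
          ha _ (hPC _ (hθP b) d hd), hb d hd]
      inv_mem' := fun {a} ha d hd => by
        have h3 := ha (θ a⁻¹ * d * (θ a⁻¹)⁻¹) (hPC _ (hθP _) d hd)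
        rw [map_inv, show θ a * ((θ a)⁻¹ * d * (θ a)⁻¹⁻¹) * (θ a)⁻¹ = d by group] at h3
        rw [map_inv]
        exact h3.symm }
  have hY₀ : Y₀ ≠ ⊤ := fun e1 => by
    have h3 : (⟨a₀, ha₀⟩ : A) ∈ Y₀ := e1 ▸ mem_top _
    have h4 := h3 c₀ hc₀
    rw [hθ] at h4
    have hc₁C : c₁ ∈ ⁅U, U⁆ := hPC _ (hnP a₀ ha₀) c₀ hc₀
    have h5 : χ c = 1 := by
      rw [hcdef, show c₁⁻¹ = c₁ from inv_eq_of_mul_eq_one_right (hC _ hc₁C).1,
        hχmul _ hc₁C _ hc₀, show χ c₁ = χ c₀ from h4, hχ2 c₀ hc₀]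
    rw [hχc] at h5
    refine h2 ?_
    linear_combination -h5
  obtain ⟨Y₁, t, hY01, hY₁n, ht, htp, hcoord⟩ := exists_pgroup_coord h.hp (hW.to_le hAW) hY₀
  -- a nonzero eigenvector of `σ` fixed by `Y₀`
  have hr0 : (r : k) ≠ 0 := by
    rw [Ne, CharP.cast_eq_zero_iff k p]
    exact fun hd => h.r_ne_p ((Nat.prime_dvd_prime_iff_eq h.hp h.hr).1 hd).symm
  haveI : NeZero ((r : ℕ) : k) := ⟨hr0⟩
  obtain ⟨ζ, hζ⟩ := IsAlgClosed.exists_root (Polynomial.cyclotomic r k)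
    (by
      rw [Polynomial.degree_cyclotomic]
      exact_mod_cast (Nat.totient_pos.2 h.hr.pos).ne')
  rw [Polynomial.isRoot_cyclotomic_iff] at hζ
  let κ : A → ℕ := fun a => (hcoord a).choose
  have hκ : ∀ a, (t ^ κ a)⁻¹ * a ∈ Y₁ := fun a => (hcoord a).choose_spec
  have hκuniq : ∀ (a : A) (i : ℕ), (t ^ i)⁻¹ * a ∈ Y₁ → (κ a : k) = (i : k) := by
    intro a i hi
    set q := QuotientGroup.mk' Y₁ with hq
    have h3 : ∀ l : ℕ, (t ^ l)⁻¹ * a ∈ Y₁ → q a = q t ^ l := fun l hl => by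
      rw [← map_pow]; exact (QuotientGroup.eq.2 hl).symm
    have hord : orderOf (q t) = p := orderOf_eq_prime
      (by rw [← map_pow]; exact (QuotientGroup.eq_one_iff _).2 htp)
      (fun e1 => ht ((QuotientGroup.eq_one_iff t).1 e1))
    have h4 := pow_eq_pow_iff_modEq.1 ((h3 _ (hκ a)).symm.trans (h3 i hi))
    rw [hord] at h4
    exact (CharP.natCast_eq_natCast k p).2 h4
  have hκmul : ∀ a b, (κ (a * b) : k) = κ a + κ b := fun a b => by
    rw [← Nat.cast_add]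
    refine hκuniq _ _ ?_
    rw [pow_add, show (t ^ κ a * t ^ κ b)⁻¹ * (a * b) =
      ((t ^ κ b)⁻¹ * ((t ^ κ a)⁻¹ * a) * (t ^ κ b)⁻¹⁻¹) * ((t ^ κ b)⁻¹ * b) by group]
    exact mul_mem (hY₁n.conj_mem _ (hκ a) _) (hκ b)
  let β : MulAut A := resA α A hAα
  have hβr : β ^ r = 1 := resA_pow_r h.hα hAα
  letI : Fintype (Y₁ ⧸ Y₀.subgroupOf Y₁) := Fintype.ofFinite _
  letI : Fintype (⁅U, U⁆ : Subgroup H) := Fintype.ofFinite _
  obtain ⟨x₁, y₁, hx₁, hy₁, hxy⟩ : ∃ x y, x ∈ U ∧ y ∈ U ∧ χ ⁅x, y⁆ = -1 := by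
    by_contra hall
    push Not at hall
    let K₁ : Subgroup H :=
      { carrier := {d | d ∈ ⁅U, U⁆ ∧ χ d = 1}
        one_mem' := ⟨one_mem _, by
          have h3 := hχ 1 (one_mem _) u₁ hu₁
          rw [map_one, Module.End.one_apply] at h3
          exact (smul_left_injective k hu₁0 ((one_smul k u₁).trans h3)).symm⟩
        mul_mem' := fun ha hb => ⟨mul_mem ha.1 hb.1, by rw [hχmul _ ha.1 _ hb.1, ha.2, hb.2, mul_one]⟩
        inv_mem' := fun {a} ha => ⟨inv_mem ha.1, by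
          rw [show a⁻¹ = a from inv_eq_of_mul_eq_one_right (hC a ha.1).1]; exact ha.2⟩ }
    have hle : ⁅U, U⁆ ≤ K₁ := Subgroup.commutator_le.2 fun x hx y hy =>
      ⟨commutator_mem_commutator hx hy, (mul_self_eq_one_iff.1
        (hχ2 _ (commutator_mem_commutator hx hy))).resolve_right (hall x y hx hy)⟩
    have h3 : χ c = 1 := (hle hc).2
    rw [hχc] at h3
    refine h2 ?_
    linear_combination -h3
  -- the action of `θ a` on the test vectors
  have hkill : ∀ (a : A) (μ : k), μ ^ r = 1 → μ ≠ 1 →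
      ∑ j ∈ Finset.range r, μ ^ j * (κ ((β ^ j)⁻¹ a) : k) = 0 := by
    intro a μ hμr hμ1
    obtain ⟨e₁, he₁, he₁0, he₁μ⟩ := exists_eigen_vector hU h.hp h.hp2 h.hr hr2 h.r_ne_p (resA α U hUα)
      (resA_pow_r h.hα hUα) (cm_resA_eq_top hUα hU1)
      (fun x hx => (((h.fpfRep hr2 hU hUα).classTwo (cm_resA_eq_top hUα hU1)).2.2.2 x).2 hx)
      (ρ.comp U.subtype) σ hσr hσ (fun x => hcompat x) (S := S)
      (fun e1 => hu₁0 (by
        have h3 : u₁ ∈ S := ⟨hTS hu₁, fun d hd => hχ d hd u₁ hu₁⟩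
        rw [e1, Submodule.mem_bot] at h3
        exact h3))
      (fun x v hv => hSU x x.2 v hv) hSσ (a := ⟨x₁, hx₁⟩) (b := ⟨y₁, hy₁⟩)
      (fun v hv hv0 e1 => by
        have h3 : ρ ⁅x₁, y₁⁆ v = v := e1
        rw [hv.2 _ (commutator_mem_commutator hx₁ hy₁), hxy, neg_one_smul, neg_eq_iff_add_eq_zero,
          ← two_smul k] at h3
        exact hv0 ((smul_eq_zero.1 h3).resolve_left h2))
      hμr hμ1
    let Sμ : Submodule k W' :=
      { carrier := {v | v ∈ S ∧ σ v = μ • v}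
        add_mem' := fun hx hy => ⟨add_mem hx.1 hy.1, by rw [map_add, hx.2, hy.2, smul_add]⟩
        zero_mem' := ⟨zero_mem _, by rw [map_zero, smul_zero]⟩
        smul_mem' := fun s x hx => ⟨S.smul_mem s hx.1, by rw [map_smul, hx.2, smul_comm]⟩ }
    have hθS₀ : ∀ (b : A), ∀ v ∈ S₀, ρ (θ b) v ∈ S₀ := fun b v hv => hS₀P _ (hθP b) v hv
    have hθd : ∀ (b : A), ∀ v ∈ S, ∀ d ∈ ⁅U, U⁆,
        ρ d (ρ (θ b) v) = χ ((θ b)⁻¹ * d * (θ b)) • ρ (θ b) v := fun b v hv d hd => by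
      have h3 := hPC _ (inv_mem (hθP b)) d hd
      rw [inv_inv] at h3
      rw [hmul, show d * θ b = θ b * ((θ b)⁻¹ * d * θ b) by group, ← hmul, hv.2 _ h3, map_smul]
    have hθσ : ∀ (b : A), ∀ v ∈ S₀, σ v = μ • v → σ (ρ (θ b) v) = μ • ρ (θ b) v := fun b v hv hvμ => by
      rw [(hPσ _ (hθP b) v hv).1, hvμ, map_smul]
    obtain ⟨u₀, hu₀, hu₀0, hu₀Y⟩ := exists_fixed_vector h.hp ρ
      (hP.to_le (map_le_iff_le_comap.2 fun b _ => hθP b : Y₀.map θ ≤ P)) (S := Sμ)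
      (fun e1 => he₁0 (by
        have h3 : e₁ ∈ Sμ := ⟨he₁, he₁μ⟩
        rw [e1, Submodule.mem_bot] at h3
        exact h3))
      (by
        rintro _ ⟨b, hb, rfl⟩ v ⟨hv, hvμ⟩
        refine ⟨⟨hθS₀ b v hv.1, fun d hd => ?_⟩, hθσ b v hv.1 hvμ⟩
        have h3 := inv_mem hb d hd
        rw [map_inv, inv_inv] at h3
        rw [hθd b v hv d hd, h3])
    obtain ⟨⟨hu₀S, hu₀μ⟩, -⟩ := And.intro hu₀ trivial
    have hu₀Y' : ∀ b ∈ Y₀, ρ (θ b) u₀ = u₀ := fun b hb => hu₀Y _ ⟨b, hb, rfl⟩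
    let v₀ : W' := ∑ q : Y₁ ⧸ Y₀.subgroupOf Y₁, ρ (θ (q.out : A)) u₀
    have hθmul : ∀ (b b' : A) (v : W'), ρ (θ b) (ρ (θ b') v) = ρ (θ (b * b')) v := fun b b' v => by
      rw [hmul, ← map_mul θ]
    have hv₀fix : ∀ y ∈ Y₁, ρ (θ y) v₀ = v₀ := by
      intro y hy
      show ρ (θ y) (∑ q : Y₁ ⧸ Y₀.subgroupOf Y₁, ρ (θ (q.out : A)) u₀) = _
      rw [map_sum]
      refine Fintype.sum_equiv (MulAction.toPerm (⟨y, hy⟩ : Y₁)) _ _ fun q => ?_
      show ρ (θ y) (ρ (θ (q.out : A)) u₀) = ρ (θ ((((⟨y, hy⟩ : Y₁) • q).out : Y₁) : A)) u₀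
      set q' := (⟨y, hy⟩ : Y₁) • q with hq'
      have hq : QuotientGroup.mk (s := Y₀.subgroupOf Y₁) ((⟨y, hy⟩ : Y₁) * q.out) = q' := by
        conv_rhs => rw [hq', ← QuotientGroup.out_eq' q]
        rfl
      have hdiff : ((q'.out : Y₁) : A)⁻¹ * (y * (q.out : A)) ∈ Y₀ := by
        have h3 := mem_subgroupOf.1 (QuotientGroup.eq.1 ((QuotientGroup.out_eq' q').trans hq.symm))
        simpa [mul_assoc] using h3
      rw [hθmul, show y * (q.out : A) = (q'.out : A) * ((q'.out : A)⁻¹ * (y * (q.out : A))) by group,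
        ← hθmul, hu₀Y' _ hdiff]
    let f : ℕ → W' := fun i => ρ (θ (t ^ i)) v₀
    have hfY : ∀ y ∈ Y₁, ∀ i, ρ (θ y) (f i) = f i := fun y hy i => by
      show ρ (θ y) (ρ (θ (t ^ i)) v₀) = ρ (θ (t ^ i)) v₀
      rw [hθmul, show y * t ^ i = t ^ i * ((t ^ i)⁻¹ * y * (t ^ i)⁻¹⁻¹) by group, ← hθmul,
        hv₀fix _ (hY₁n.conj_mem y hy _)]
    have hfsucc : ∀ i, ρ (θ t) (f i) = f (i + 1) := fun i => by
      show ρ (θ t) (ρ (θ (t ^ i)) v₀) = ρ (θ (t ^ (i + 1))) v₀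
      rw [hθmul, ← pow_succ']
    have hf0 : f 0 = v₀ := by
      show ρ (θ (t ^ 0)) v₀ = v₀
      rw [pow_zero, map_one, map_one]; rfl
    have hfp : f p = f 0 := by
      rw [hf0]; exact hv₀fix _ htp
    let w : W' := ∑ i ∈ Finset.range p, f i
    let v : W' := ∑ i ∈ Finset.range p, (i : k) • f i
    have hτw : ρ (θ t) w = w := by
      show ρ (θ t) (∑ i ∈ Finset.range p, f i) = ∑ i ∈ Finset.range p, f i
      simp only [map_sum, hfsucc]
      have h3 := Finset.sum_range_succ' f p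
      rw [Finset.sum_range_succ, hfp] at h3
      exact (add_right_cancel h3).symm
    have hτv : ρ (θ t) v = v - w := by
      show ρ (θ t) (∑ i ∈ Finset.range p, (i : k) • f i) = v - w
      simp only [map_sum, map_smul, hfsucc]
      have h3 := Finset.sum_range_succ' (fun i => ((i : k) - 1) • f i) p
      rw [Finset.sum_range_succ, hfp] at h3
      simp only [Nat.cast_succ, add_sub_cancel_right, Nat.cast_zero, CharP.cast_eq_zero] at h3
      rw [← (add_right_cancel h3)]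
      simp only [sub_smul, one_smul, Finset.sum_sub_distrib]
      rfl
    have hτn : ∀ i : ℕ, ρ (θ (t ^ i)) v = v - (i : k) • w ∧ ρ (θ (t ^ i)) w = w := by
      intro i
      induction i with
      | zero => simp
      | succ i ih =>
        rw [pow_succ', ← hθmul, ← hθmul, ih.1, ih.2, map_sub, map_smul, hτv, hτw, Nat.cast_succ,
          add_smul, one_smul]
        exact ⟨by abel, rfl⟩
    have hact : ∀ b : A, ρ (θ b) v = v - (κ b : k) • w := fun b => by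
      rw [show b = t ^ κ b * ((t ^ κ b)⁻¹ * b) by group, ← hθmul,
        show ρ (θ ((t ^ κ b)⁻¹ * b)) v = v by
          show ρ (θ ((t ^ κ b)⁻¹ * b)) (∑ i ∈ Finset.range p, (i : k) • f i) = _
          simp only [map_sum, map_smul, hfY _ (hκ b)]
          rfl,
        (hτn _).1, show t ^ κ b * ((t ^ κ b)⁻¹ * b) = b by group]
    -- membership
    have hterm : ∀ (i : ℕ), f i ∈ S₀ ∧ σ (f i) = μ • f i := by
      have h0 : v₀ ∈ S₀ ∧ σ v₀ = μ • v₀ := by
        refine ⟨Submodule.sum_mem _ fun q _ => hθS₀ _ _ hu₀S.1, ?_⟩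
        show σ (∑ q : Y₁ ⧸ Y₀.subgroupOf Y₁, ρ (θ (q.out : A)) u₀) = μ • ∑ q : Y₁ ⧸ Y₀.subgroupOf Y₁, _
        rw [map_sum, Finset.smul_sum]
        exact Finset.sum_congr rfl fun q _ => hθσ _ _ hu₀S.1 hu₀μ
      exact fun i => ⟨hθS₀ _ _ h0.1, hθσ _ _ h0.1 h0.2⟩
    have hvS : v ∈ S₀ := Submodule.sum_mem _ fun i _ => S₀.smul_mem _ (hterm i).1
    have hvμ : σ v = μ • v := by
      show σ (∑ i ∈ Finset.range p, (i : k) • f i) = μ • ∑ i ∈ Finset.range p, (i : k) • f i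
      rw [map_sum, Finset.smul_sum]
      exact Finset.sum_congr rfl fun i _ => by rw [map_smul, (hterm i).2, smul_comm]
    -- `w` is nonzero
    have hw0 : w ≠ 0 := by
      intro hw0
      let π : Module.End k W' := ∑ d : (⁅U, U⁆ : Subgroup H), χ (d : H) • ρ (d : H)
      have hsum : ∀ b : A, π (ρ (θ b) u₀) =
          if b ∈ Y₀ then (Fintype.card (⁅U, U⁆ : Subgroup H) : k) • u₀ else 0 := by
        intro b
        simp only [π, LinearMap.sum_apply, LinearMap.smul_apply]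
        rw [Finset.sum_congr rfl fun (d : (⁅U, U⁆ : Subgroup H)) _ => by
          rw [hθd b u₀ hu₀S d d.2, smul_smul], ← Finset.sum_smul]
        split_ifs with hb
        · rw [hu₀Y' b hb]
          congr 1
          rw [Finset.sum_congr rfl fun (d : (⁅U, U⁆ : Subgroup H)) _ =>
            (show χ (d : H) * χ ((θ b)⁻¹ * (d : H) * θ b) = (1 : k) by
              have h3 := inv_mem hb (d : H) d.2
              rw [map_inv, inv_inv] at h3
              rw [h3, hχ2 _ d.2])]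
          simp
        · have hbi : b⁻¹ ∉ Y₀ := fun h3 => hb (by simpa using inv_mem h3)
          obtain ⟨d₀, hd₀, hd₀χ⟩ : ∃ d ∈ ⁅U, U⁆, χ (θ b⁻¹ * d * (θ b⁻¹)⁻¹) ≠ χ d := by
            by_contra hall
            push Not at hall
            exact hbi hall
          rw [map_inv, inv_inv] at hd₀χ
          set F : (⁅U, U⁆ : Subgroup H) → k := fun d => χ (d : H) * χ ((θ b)⁻¹ * (d : H) * θ b) with hF
          have hFi : ∀ d : (⁅U, U⁆ : Subgroup H), (θ b)⁻¹ * (d : H) * θ b ∈ ⁅U, U⁆ := fun d => by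
            have h3 := hPC _ (inv_mem (hθP b)) (d : H) d.2
            rwa [inv_inv] at h3
          have hFm : ∀ d d', F (d * d') = F d * F d' := fun d d' => by
            simp only [hF, Subgroup.coe_mul]
            rw [hχmul _ d.2 _ d'.2, show (θ b)⁻¹ * ((d : H) * d') * θ b =
              ((θ b)⁻¹ * (d : H) * θ b) * ((θ b)⁻¹ * (d' : H) * θ b) by group, hχmul _ (hFi d) _ (hFi d')]
            ring
          have hF0 : F ⟨d₀, hd₀⟩ ≠ 1 := fun e1 => hd₀χ (by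
            have h4 : χ d₀ * χ ((θ b)⁻¹ * d₀ * θ b) = 1 := e1
            calc χ ((θ b)⁻¹ * d₀ * θ b) = χ d₀ * (χ d₀ * χ ((θ b)⁻¹ * d₀ * θ b)) := by
                  rw [← mul_assoc, hχ2 d₀ hd₀, one_mul]
              _ = χ d₀ := by rw [h4, mul_one])
          have h4 : F ⟨d₀, hd₀⟩ * ∑ d, F d = ∑ d, F d := by
            rw [Finset.mul_sum]
            exact Fintype.sum_equiv (Equiv.mulLeft (⟨d₀, hd₀⟩ : (⁅U, U⁆ : Subgroup H))) _ _
              fun d => (hFm _ d).symm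
          have h5 : ∑ d, F d = 0 := by
            have h6 : (F ⟨d₀, hd₀⟩ - 1) * ∑ d, F d = 0 := by rw [sub_mul, one_mul, h4, sub_self]
            exact (mul_eq_zero.1 h6).resolve_left (sub_ne_zero.2 hF0)
          show (∑ d, F d) • ρ (θ b) u₀ = 0
          rw [h5, zero_smul]
      have hcard : (Fintype.card (⁅U, U⁆ : Subgroup H) : k) ≠ 0 := by
        obtain ⟨j, hj⟩ := IsPGroup.iff_card.1 (hU.to_le hCU)
        rw [← Nat.card_eq_fintype_card, hj, Nat.cast_pow]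
        exact pow_ne_zero _ (by exact_mod_cast h2)
      have hexp : ∀ i, f i = ∑ q : Y₁ ⧸ Y₀.subgroupOf Y₁, ρ (θ (t ^ i * (q.out : A))) u₀ := fun i => by
        show ρ (θ (t ^ i)) (∑ q : Y₁ ⧸ Y₀.subgroupOf Y₁, ρ (θ (q.out : A)) u₀) = _
        rw [map_sum]
        exact Finset.sum_congr rfl fun q _ => hθmul _ _ _
      have h3 : π w = (Fintype.card (⁅U, U⁆ : Subgroup H) : k) • u₀ := by
        show π (∑ i ∈ Finset.range p, f i) = _
        simp only [hexp, map_sum, hsum]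
        rw [Finset.sum_eq_single 0, Finset.sum_eq_single (QuotientGroup.mk 1)]
        · rw [if_pos]
          rw [pow_zero, one_mul]
          have h4 := mem_subgroupOf.1 (QuotientGroup.eq.1
            (QuotientGroup.out_eq' (QuotientGroup.mk (s := Y₀.subgroupOf Y₁) (1 : Y₁))))
          simpa using inv_mem h4
        · intro q _ hq
          rw [if_neg]
          rw [pow_zero, one_mul]
          intro h4
          refine hq ((QuotientGroup.out_eq' q).symm.trans (QuotientGroup.eq.2 (mem_subgroupOf.2 ?_)))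
          simpa using inv_mem h4
        · simp
        · intro i hi hi0
          refine Finset.sum_eq_zero fun q _ => if_neg fun h4 => ht ?_
          have h5 : t ^ i ∈ Y₁ := by simpa using mul_mem (hY01 h4) (inv_mem q.out.2)
          have hcop : Nat.gcd i p = 1 :=
            ((Nat.Prime.coprime_iff_not_dvd h.hp).2 fun hd => absurd (Nat.le_of_dvd
              (Nat.pos_of_ne_zero hi0) hd) (not_le.2 (Finset.mem_range.1 hi))).symm
          have h6 := Nat.gcd_eq_gcd_ab i p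
          rw [hcop, Nat.cast_one] at h6
          have h7 : t = (t ^ i) ^ Nat.gcdA i p * (t ^ p) ^ Nat.gcdB i p := by
            rw [← zpow_natCast, ← zpow_natCast, ← zpow_mul, ← zpow_mul, ← zpow_add, ← h6, zpow_one]
          rw [h7]
          exact mul_mem (zpow_mem h5 _) (zpow_mem htp _)
        · intro h4
          exact absurd (Finset.mem_range.2 h.hp.pos) h4
      rw [hw0, map_zero] at h3
      exact hu₀0 ((smul_eq_zero.1 h3.symm).resolve_left hcard)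
    have hPpow : ∀ (j : ℕ), ∀ g ∈ P, (α ^ j) g ∈ P ∧ ∀ v ∈ S₀, ρ ((α ^ j) g) v = ρ g v := by
      intro j
      induction j with
      | zero => exact fun g hg => ⟨hg, fun v _ => rfl⟩
      | succ j ih =>
        intro g hg
        rw [pow_succ', MulAut.mul_apply]
        exact ⟨hPα _ (ih g hg).1, fun v hv => ((hPσ _ (ih g hg).1 v hv).2).trans ((ih g hg).2 v hv)⟩
    have h4 := weight_sum_eq_zero h.hp ρ σ hσr hσ α hcompat hM hMα hn (a := (a : H)) hw0 hvμ
      (fun j => -(κ ((β ^ j)⁻¹ a) : k)) (fun j => by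
        have e1 : (a : H) * (α ^ j) n = (α ^ j) n * (α ^ j) (θ ((β ^ j)⁻¹ a)) := by
          rw [hθ, map_mul, map_mul, map_inv, ← resA_pow hAα, MulAut.apply_inv_self]
          group
        rw [hmul, e1, ← hmul, (hPpow j _ (hθP _)).2 v hvS, hact]
        rw [sub_eq_add_neg, neg_smul])
    rw [Finset.sum_congr rfl (fun j _ => mul_neg (μ ^ j) (κ ((β ^ j)⁻¹ a) : k)), Finset.sum_neg_distrib,
      neg_eq_zero] at h4
    exact h4
  -- the coefficients are constant, hence zero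
  have hKtop : cm β (⊤ : Subgroup A) ≤ Y₁ := by
    refine cm_le_iff.2 fun x _ => ?_
    set a := x⁻¹ * β x with ha
    let C : ℕ → k := fun j => (κ ((β ^ j)⁻¹ a) : k)
    have hconst := weights_const hζ C fun i hi hir => hkill a (ζ ^ i)
      (by rw [← pow_mul, mul_comm, pow_mul, hζ.pow_eq_one, one_pow])
      (hζ.pow_ne_one_of_pos_of_lt (by omega) hir)
    have hκ1 : (κ 1 : k) = 0 := by
      have h3 := hκmul 1 1
      rw [mul_one] at h3
      exact left_eq_add.1 h3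
    let g : ℕ → k := fun j => (κ ((β ^ j)⁻¹ (β x)) : k)
    have hCg : ∀ j, C j = g j - g (j + 1) := by
      intro j
      have h4 : (β ^ (j + 1))⁻¹ (β x) = (β ^ j)⁻¹ x := by
        rw [pow_succ', mul_inv_rev, MulAut.mul_apply, MulAut.inv_apply_self]
      show (κ ((β ^ j)⁻¹ a) : k) = (κ ((β ^ j)⁻¹ (β x)) : k) - (κ ((β ^ (j + 1))⁻¹ (β x)) : k)
      rw [h4, ha, map_mul, hκmul, map_inv]
      have h5 := hκmul ((β ^ j)⁻¹ x)⁻¹ ((β ^ j)⁻¹ x)
      rw [inv_mul_cancel, hκ1] at h5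
      rw [eq_sub_iff_add_eq]
      linear_combination -h5
    have hgr : g r = g 0 := by
      show (κ ((β ^ r)⁻¹ (β x)) : k) = (κ ((β ^ 0)⁻¹ (β x)) : k)
      rw [hβr, pow_zero]
    have hsum0 : ∑ j ∈ Finset.range r, C j = 0 := by
      simp only [hCg]
      rw [Finset.sum_range_sub', hgr, sub_self]
    rw [Finset.sum_congr rfl fun j hj => hconst j (Finset.mem_range.1 hj), Finset.sum_const,
      Finset.card_range, nsmul_eq_mul] at hsum0
    have hK : C 0 = 0 := by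
      rw [hconst 0 h.hr.pos]
      exact (mul_eq_zero.1 hsum0).resolve_left hr0
    have hd : p ∣ κ a := by
      have h4 : (κ ((β ^ 0)⁻¹ a) : k) = 0 := hK
      rw [pow_zero, inv_one, MulAut.one_apply] at h4
      exact (CharP.cast_eq_zero_iff k p _).1 h4
    obtain ⟨l, hl⟩ := hd
    have h5 := hκ a
    rw [hl, pow_mul] at h5
    simpa using mul_mem (pow_mem htp l) h5
  exact ht (hKtop (by rw [cm_resA_eq_top hAα hA1]; exact mem_top _))

end Cfsg.Agent.Lib.HHS57
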