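import Cfsg.Agent.Lib.HHS57.SOne
import Cfsg.Agent.Lib.Tech42.FpfAut.Scalar

/-!
# Invariant layers of `gD / gZ` and fixed lines (helper18)

`fixL S` is the part of `gD` that `S ≤ gM` centralises modulo `gZ`.  If `|gD : gZ| ≤ 2 ^ (4 m)`, a
`2`-group moving `gD / gZ` has a line as fixed part and stabilises the series through it.
-/

set_option autoImplicit false
set_option linter.style.haveILetI false
set_option linter.unusedSectionVars false

namespace Cfsg.Agent.Lib.HHS57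

open Cfsg Cfsg.Agent.Lib
open Cfsg.Agent.Lib.FpfAut (exists_fixed_mul)
open Subgroup
open scoped commutatorElement

universe u

variable {H : Type u} [Group H] [Finite H] {p r : ℕ} {α : MulAut H} {V : Type u} [CommGroup V]
  [Finite V] {ψ : H →* MulAut V} {e : MulAut V}

/-- `c` centralises `gD`. -/
def Exact (α : MulAut H) (T : Sylow 2 H) (c : H ⧸ Subgroup.center H) : Prop :=
  ∀ d ∈ gD α T, c * d = d * c

/-- A `2`-element. -/
def TwoEl {X : Type u} [Group X] (c : X) : Prop := ∃ k : ℕ, c ^ 2 ^ k = 1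

/-- `s` acts nontrivially on `gD / gZ`. -/
def MovesD (α : MulAut H) (T : Sylow 2 H) (s : H ⧸ Subgroup.center H) : Prop :=
  ∃ d ∈ gD α T, s * d * s⁻¹ * d⁻¹ ∉ gZ α T

/-- The part of `gD` fixed by `S` modulo `gZ`. -/
noncomputable def fixL (α : MulAut H) (T : Sylow 2 H) (S : Subgroup (H ⧸ Subgroup.center H)) :
    Subgroup (H ⧸ Subgroup.center H) :=
  closure {d | d ∈ gD α T ∧ ∀ s ∈ S, s * d * s⁻¹ * d⁻¹ ∈ gZ α T}

/-- Elements stabilising `gZ ≤ L ≤ gD` with moved part in `L`. -/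
def InW (α : MulAut H) (T : Sylow 2 H) (L : Subgroup (H ⧸ Subgroup.center H))
    (s : H ⧸ Subgroup.center H) : Prop :=
  s ∈ gM α T ∧ (∀ d ∈ gD α T, s * d * s⁻¹ * d⁻¹ ∈ L) ∧ (∀ l ∈ L, s * l * s⁻¹ * l⁻¹ ∈ gZ α T) ∧
    s⁻¹ * qAut α s ∈ L

variable (h : Min p r α ψ e) (T : Sylow 2 H) (hT : Stb α (T : Subgroup H))

include h hT

theorem Min.gZ_cmul {s d : H ⧸ Subgroup.center H} (hs : s ∈ gM α T) (hd : d ∈ gD α T) :
    s * d * s⁻¹ * d⁻¹ ∈ gD α T :=
  mul_mem (h.gD_conj T hT hs hd) (inv_mem hd)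

/-- A subgroup above `gZ` is normal in `gD`. -/
theorem Min.gD_conj_mem {L : Subgroup (H ⧸ Subgroup.center H)} (hZL : gZ α T ≤ L) (hLD : L ≤ gD α T)
    {d l : H ⧸ Subgroup.center H} (hd : d ∈ gD α T) (hl : l ∈ L) : d * l * d⁻¹ ∈ L := by
  have h1 := L.mul_mem (hZL (h.gD_commutator T hT hd (hLD hl))) hl
  simpa [commutatorElement_def] using h1

/-- A proper step of invariant subgroups above `gZ` has index at least `2 ^ (2 m)`. -/
theorem Min.gLayer {m : ℕ} (hm : r = 2 ^ m + 1) {X Y : Subgroup (H ⧸ Subgroup.center H)}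
    (hZX : gZ α T ≤ X) (hXY : X ≤ Y) (hYD : Y ≤ gD α T) (hX : Stb (qAut α) X) (hY : Stb (qAut α) Y)
    (hne : X ≠ Y) : Nat.card X * 2 ^ (2 * m) ≤ Nat.card Y := by
  set β := resA (qAut α) Y hY with hβ
  haveI : (X.subgroupOf Y).Normal := ⟨fun x hx g => Subgroup.mem_subgroupOf.2
    (h.gD_conj_mem T hT hZX (hXY.trans hYD) (hYD g.2) (Subgroup.mem_subgroupOf.1 hx))⟩
  have hst : (X.subgroupOf Y).map β.toMonoidHom = X.subgroupOf Y :=
    Stb.map_eq (β := β) fun x hx => Subgroup.mem_subgroupOf.2 (hX _ (Subgroup.mem_subgroupOf.1 hx))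
  set γ : MulAut (Y ⧸ X.subgroupOf Y) := QuotientGroup.congr _ _ β hst with hγ
  have hγr : γ ^ r = 1 := by
    have hpow : ∀ (j : ℕ) (y : Y), (γ ^ j) (QuotientGroup.mk y) = QuotientGroup.mk ((β ^ j) y) := by
      intro j
      induction j with
      | zero => intro y; rfl
      | succ j ih => intro y; rw [pow_succ, pow_succ, MulAut.mul_apply, MulAut.mul_apply, ← ih]; rfl
    exact MulEquiv.ext fun x => QuotientGroup.induction_on x fun y => by
      rw [hpow, resA_pow_r h.qPow hY]; rfl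
  have hco : ¬ r ∣ Nat.card (X.subgroupOf Y) := fun hd => h.qCo
    ((hd.trans (Subgroup.card_subgroup_dvd_card _)).trans (Subgroup.card_subgroup_dvd_card _))
  have hfpf : ∀ x, γ x = x → x = 1 := fun x => QuotientGroup.induction_on x fun y hy => by
    obtain ⟨n, hn, hf⟩ := exists_fixed_mul h.hr (resA_pow_r h.qPow hY)
      (fun z hz => Subgroup.mem_subgroupOf.2 (hX _ (Subgroup.mem_subgroupOf.1 hz))) hco (x := y)
      (QuotientGroup.eq.1 (show (QuotientGroup.mk y : Y ⧸ X.subgroupOf Y) = QuotientGroup.mk (β y) from hy.symm))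
    have h1 : ((y * n : Y) : H ⧸ Subgroup.center H) ∈ X :=
      hZX (h.gD_fixed T hT (hYD (y * n).2) (congrArg Subtype.val hf))
    refine (QuotientGroup.eq_one_iff y).2 (Subgroup.mem_subgroupOf.2 ?_)
    simpa using X.mul_mem h1 (X.inv_mem (Subgroup.mem_subgroupOf.1 hn))
  have hmod := FpfAut.card_modEq_one h.hr hγr hfpf
  haveI : Fact (Nat.Prime 2) := ⟨Nat.prime_two⟩
  obtain ⟨i, hi⟩ := IsPGroup.iff_card.1
    ((((h.gD_isPGroup T hT).to_le hYD)).to_quotient (X.subgroupOf Y))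
  have hcard := Subgroup.card_eq_card_quotient_mul_card_subgroup (X.subgroupOf Y)
  rw [Nat.card_congr (Subgroup.subgroupOfEquivOfLe hXY).toEquiv, hi] at hcard
  have hi0 : 0 < i := Nat.pos_of_ne_zero fun h0 => hne
    (Subgroup.eq_of_le_of_card_ge hXY (by rw [hcard, h0, pow_zero, one_mul]))
  rw [hi, hm] at hmod
  rw [hcard, mul_comm]
  exact Nat.mul_le_mul_right _ (Nat.pow_le_pow_right (by norm_num) (FpfAut.le_of_modEq_two_pow hi0 hmod))

/-- A `2`-group stabilising a step fixes a nontrivial class of it. -/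
theorem Min.exists_fixed_class {X Y : Subgroup (H ⧸ Subgroup.center H)} (hZX : gZ α T ≤ X)
    (hXY : X ≤ Y) (hYD : Y ≤ gD α T) (hne : X ≠ Y) {S : Subgroup (H ⧸ Subgroup.center H)}
    (hS : IsPGroup 2 S) (hSX : ∀ s ∈ S, ∀ x ∈ X, s * x * s⁻¹ ∈ X)
    (hSY : ∀ s ∈ S, ∀ y ∈ Y, s * y * s⁻¹ ∈ Y) :
    ∃ y ∈ Y, y ∉ X ∧ ∀ s ∈ S, s * y * s⁻¹ * y⁻¹ ∈ X := by
  haveI : Fact (Nat.Prime 2) := ⟨Nat.prime_two⟩
  haveI hn : (X.subgroupOf Y).Normal := ⟨fun x hx g => Subgroup.mem_subgroupOf.2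
    (h.gD_conj_mem T hT hZX (hXY.trans hYD) (hYD g.2) (Subgroup.mem_subgroupOf.1 hx))⟩
  letI : MulAction S (Y ⧸ X.subgroupOf Y) :=
    { smul := fun s => Quotient.lift
        (fun y : Y => (QuotientGroup.mk ⟨(s : H ⧸ Subgroup.center H) * y * (s : H ⧸ Subgroup.center H)⁻¹,
          hSY s s.2 y y.2⟩ : Y ⧸ X.subgroupOf Y))
        (fun a b hab => QuotientGroup.eq.2 (Subgroup.mem_subgroupOf.2 (by
          have h1 := hSX s s.2 _ (Subgroup.mem_subgroupOf.1 (QuotientGroup.leftRel_apply.1 hab))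
          simpa [mul_assoc] using h1)))
      one_smul := fun q => QuotientGroup.induction_on q fun y =>
        congrArg QuotientGroup.mk (Subtype.ext (by simp))
      mul_smul := fun s t q => QuotientGroup.induction_on q fun y =>
        congrArg QuotientGroup.mk (Subtype.ext (by simp [mul_assoc])) }
  have hdvd : 2 ∣ Nat.card (Y ⧸ X.subgroupOf Y) := by
    obtain ⟨i, hi⟩ := IsPGroup.iff_card.1
      ((((h.gD_isPGroup T hT).to_le hYD)).to_quotient (X.subgroupOf Y))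
    rw [hi]
    refine dvd_pow_self 2 fun h0 => hne (Subgroup.eq_of_le_of_card_ge hXY ?_)
    rw [Subgroup.card_eq_card_quotient_mul_card_subgroup (X.subgroupOf Y), hi, h0, pow_zero, one_mul,
      Nat.card_congr (Subgroup.subgroupOfEquivOfLe hXY).toEquiv]
  obtain ⟨v, hv, hv1⟩ := hS.exists_fixed_point_of_prime_dvd_card_of_fixed_point (α := Y ⧸ X.subgroupOf Y) hdvd
    (a := 1) (fun s => by
      show (QuotientGroup.mk _ : Y ⧸ X.subgroupOf Y) = 1
      exact (QuotientGroup.eq_one_iff _).2 (Subgroup.mem_subgroupOf.2 (by simp)))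
  induction v using QuotientGroup.induction_on with
  | H y =>
    refine ⟨y, y.2, fun hyX => hv1 ((QuotientGroup.eq_one_iff y).2 (Subgroup.mem_subgroupOf.2 hyX)).symm,
      fun s hs => ?_⟩
    have h1 : (QuotientGroup.mk ⟨s * y * s⁻¹, hSY s hs y y.2⟩ : Y ⧸ X.subgroupOf Y) =
        QuotientGroup.mk y := hv ⟨s, hs⟩
    exact Subgroup.mem_subgroupOf.1 (QuotientGroup.eq_iff_div_mem.1 h1) |> fun h2 => by
      simpa [div_eq_mul_inv] using h2

theorem Min.mem_fixL {S : Subgroup (H ⧸ Subgroup.center H)} (hS : S ≤ gM α T)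
    {d : H ⧸ Subgroup.center H} :
    d ∈ fixL α T S ↔ d ∈ gD α T ∧ ∀ s ∈ S, s * d * s⁻¹ * d⁻¹ ∈ gZ α T := by
  refine ⟨fun hd => ?_, fun hd => subset_closure hd⟩
  induction hd using closure_induction with
  | mem x hx => exact hx
  | one => exact ⟨one_mem _, fun s _ => by simp⟩
  | mul a b _ _ ha hb =>
    refine ⟨mul_mem ha.1 hb.1, fun s hs => ?_⟩
    rw [show s * (a * b) * s⁻¹ * (a * b)⁻¹ = (s * a * s⁻¹) * (s * b * s⁻¹ * b⁻¹) * a⁻¹ by group,
      ← h.gZ_comm T hT (hb.2 s hs) (h.gD_conj T hT (hS hs) ha.1), mul_assoc]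
    exact mul_mem (hb.2 s hs) (ha.2 s hs)
  | inv a _ ha =>
    refine ⟨inv_mem ha.1, fun s hs => ?_⟩
    rw [show s * a⁻¹ * s⁻¹ * a⁻¹⁻¹ = a⁻¹ * (s * a * s⁻¹ * a⁻¹)⁻¹ * a by group,
      ← h.gZ_comm T hT (inv_mem (ha.2 s hs)) (inv_mem ha.1), inv_mul_cancel_right]
    exact inv_mem (ha.2 s hs)

theorem Min.fixL_le {S : Subgroup (H ⧸ Subgroup.center H)} (hS : S ≤ gM α T) : fixL α T S ≤ gD α T :=
  fun _ hd => ((h.mem_fixL T hT hS).1 hd).1

theorem Min.gZ_le_fixL {S : Subgroup (H ⧸ Subgroup.center H)} (hS : S ≤ gM α T) :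
    gZ α T ≤ fixL α T S := fun z hz => (h.mem_fixL T hT hS).2 ⟨h.gZ_le_gD T hT hz, fun s hs =>
  mul_mem (h.gZ_conj T hT (hS hs) hz) (inv_mem hz)⟩

/-- `s` and its image act alike on `gD / gZ`. -/
theorem Min.act_moved {s d : H ⧸ Subgroup.center H} (hs : s ∈ gM α T) (hd : d ∈ gD α T) :
    (s * d * s⁻¹)⁻¹ * (qAut α s * d * (qAut α s)⁻¹) ∈ gZ α T := by
  have hf := h.gM_moved T hT hs
  have h1 := h.gZ_conj T hT hs (h.gD_commutator T hT (inv_mem hd) hf)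
  simpa [commutatorElement_def, mul_assoc] using h1

theorem Min.fixL_stb {S : Subgroup (H ⧸ Subgroup.center H)} (hS : S ≤ gM α T) :
    Stb (qAut α) (fixL α T S) := by
  refine fun d hd => ?_
  obtain ⟨hdD, hds⟩ := (h.mem_fixL T hT hS).1 hd
  have hαd := h.gD_stb T hT d hdD
  refine (h.mem_fixL T hT hS).2 ⟨hαd, fun s hs => ?_⟩
  have h1 := h.gZ_stb T hT _ (hds s hs)
  rw [map_mul, map_mul, map_mul, map_inv, map_inv] at h1
  have h2 := h.act_moved T hT (hS hs) hαd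
  set ζ := (s * qAut α d * s⁻¹)⁻¹ * (qAut α s * qAut α d * (qAut α s)⁻¹) with hζ
  rw [show qAut α s * qAut α d * (qAut α s)⁻¹ * (qAut α d)⁻¹ =
    (s * qAut α d * s⁻¹) * ζ * (qAut α d)⁻¹ by rw [hζ]; group,
    ← h.gZ_comm T hT h2 (h.gD_conj T hT (hS hs) hαd), mul_assoc] at h1
  simpa using mul_mem (inv_mem h2) h1

/-- `S` normalises its fixed part. -/
theorem Min.fixL_conj {S : Subgroup (H ⧸ Subgroup.center H)} (hS : S ≤ gM α T) :
    ∀ s ∈ S, ∀ l ∈ fixL α T S, s * l * s⁻¹ ∈ fixL α T S := fun s hs l hl => by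
  have h1 := ((h.mem_fixL T hT hS).1 hl).2 s hs
  simpa using mul_mem (h.gZ_le_fixL T hT hS h1) hl

/-- A fixed element centralising modulo `gZ` centralises the moved part. -/
theorem Min.fixed_comm_cm {c : H ⧸ Subgroup.center H} (hc : qAut α c = c)
    {P : Subgroup (H ⧸ Subgroup.center H)} (hPD : P ≤ gD α T) (hP : Stb (qAut α) P)
    (hcP : ∀ d ∈ P, c * d * c⁻¹ * d⁻¹ ∈ gZ α T) : ∀ u ∈ cm (qAut α) P, c * u = u * c := by
  intro u hu
  refine (mem_centralizer_singleton_iff.1 ((?_ : cm (qAut α) P ≤ Subgroup.centralizer {c}) hu)).symm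
  refine cm_le_iff.2 fun d hd => ?_
  set ζ := c * d * c⁻¹ * d⁻¹ with hζ
  have hz := hcP d hd
  have h2 : c * qAut α d * c⁻¹ = ζ * qAut α d := by
    have := congrArg (qAut α) (show c * d * c⁻¹ = ζ * d by rw [hζ]; group)
    rwa [map_mul, map_mul, map_mul, map_inv, hc, h.gZ_fixed T hT hz] at this
  have hd' : d⁻¹ * qAut α d ∈ gD α T := mul_mem (inv_mem (hPD hd)) (h.gD_stb T hT d (hPD hd))
  rw [mem_centralizer_singleton_iff]
  refine ((mul_inv_eq_iff_eq_mul (a := c * (d⁻¹ * qAut α d)) (b := c)).1 ?_).symm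
  calc c * (d⁻¹ * qAut α d) * c⁻¹ = (c * d * c⁻¹)⁻¹ * (c * qAut α d * c⁻¹) := by group
    _ = (ζ * d)⁻¹ * (ζ * qAut α d) := by rw [h2, hζ]; group
    _ = d⁻¹ * qAut α d := by group

/-- Commuting elements: if `s` fixes the moved part of `t`, then `t` fixes that of `s`. -/
theorem Min.commute_moved {s t : H ⧸ Subgroup.center H} (hs : s ∈ gM α T) (ht : t ∈ gM α T)
    (hst : s * t = t * s)
    (hsf : t * (s⁻¹ * qAut α s) * t⁻¹ * (s⁻¹ * qAut α s)⁻¹ ∈ gZ α T) :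
    s * (t⁻¹ * qAut α t) * s⁻¹ * (t⁻¹ * qAut α t)⁻¹ ∈ gZ α T := by
  set f := s⁻¹ * qAut α s with hf
  set g := t⁻¹ * qAut α t with hg
  have hfD := h.gM_moved T hT hs
  have hgD := h.gM_moved T hT ht
  have h1 : qAut α s * qAut α t = qAut α t * qAut α s := by rw [← map_mul, hst, map_mul]
  rw [show qAut α s = s * f by rw [hf]; group, show qAut α t = t * g by rw [hg]; group] at h1
  set ζ := t * f * t⁻¹ * f⁻¹ with hζ
  have hkey : s⁻¹ * g * s = t⁻¹ * f * t * g * f⁻¹ := by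
    have h2 : s * (f * (t * g)) = t * (g * (s * f)) := by simpa [mul_assoc] using h1
    have h3 : f * t * g = s⁻¹ * t * g * s * f := by
      rw [show f * t * g = s⁻¹ * (s * (f * (t * g))) by group, h2]; group
    rw [show t⁻¹ * f * t * g = t⁻¹ * (f * t * g) by group, h3,
      show t⁻¹ * (s⁻¹ * t * g * s * f) = t⁻¹ * (s⁻¹ * t) * g * s * f by group,
      show s⁻¹ * t = t * s⁻¹ from ((show Commute s t from hst).inv_left).eq]
    group
  have h4 : t⁻¹ * f * t * f⁻¹ ∈ gZ α T := by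
    have := h.gZ_conj T hT (inv_mem ht) (inv_mem hsf)
    simpa [hζ, mul_assoc] using this
  have h5 : f * g * f⁻¹ * g⁻¹ ∈ gZ α T := h.gD_commutator T hT hfD hgD
  have h6 : s⁻¹ * g * s * g⁻¹ ∈ gZ α T := by
    rw [hkey, show t⁻¹ * f * t * g * f⁻¹ * g⁻¹ = (t⁻¹ * f * t * f⁻¹) * (f * g * f⁻¹ * g⁻¹) by group]
    exact mul_mem h4 h5
  have := h.gZ_conj T hT hs (inv_mem h6)
  simpa [mul_assoc] using this

/-- An involution fixes its own moved part. -/
theorem Min.invol_moved {s : H ⧸ Subgroup.center H} (hs : s ∈ gM α T) (hss : s * s = 1) :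
    s * (s⁻¹ * qAut α s) * s⁻¹ * (s⁻¹ * qAut α s)⁻¹ ∈ gZ α T := by
  set f := s⁻¹ * qAut α s with hf
  have hfD := h.gM_moved T hT hs
  have h1 : qAut α s * qAut α s = 1 := by rw [← map_mul, hss, map_one]
  rw [show qAut α s = s * f by rw [hf]; group] at h1
  have hsi : s⁻¹ = s := inv_eq_of_mul_eq_one_right hss
  have h2 : s * f * s⁻¹ = f⁻¹ := by
    rw [hsi]; exact eq_inv_of_mul_eq_one_left (by simpa [mul_assoc] using h1)
  rw [h2, ← mul_inv_rev]
  exact inv_mem (h.gD_sq T hT hfD)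


/-- `InW` is closed under products. -/
theorem Min.inW_mul {L : Subgroup (H ⧸ Subgroup.center H)} (hZL : gZ α T ≤ L) (hLD : L ≤ gD α T)
    {s t : H ⧸ Subgroup.center H} (hs : InW α T L s) (ht : InW α T L t) : InW α T L (s * t) := by
  obtain ⟨hs0, hs1, hs2, hs3⟩ := hs
  obtain ⟨ht0, ht1, ht2, ht3⟩ := ht
  have hsL : ∀ l ∈ L, s * l * s⁻¹ ∈ L := fun l hl => by
    simpa using mul_mem (hZL (hs2 l hl)) hl
  have htL : ∀ l ∈ L, t⁻¹ * l * t ∈ L := fun l hl => by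
    have h1 := h.gZ_conj T hT (inv_mem ht0) (inv_mem (ht2 l hl))
    simpa [mul_assoc] using mul_mem (hZL h1) hl
  refine ⟨mul_mem hs0 ht0, fun d hd => ?_, fun l hl => ?_, ?_⟩
  · rw [show s * t * d * (s * t)⁻¹ * d⁻¹ = s * (t * d * t⁻¹ * d⁻¹) * s⁻¹ * (s * d * s⁻¹ * d⁻¹) by group]
    exact mul_mem (hsL _ (ht1 d hd)) (hs1 d hd)
  · rw [show s * t * l * (s * t)⁻¹ * l⁻¹ = s * (t * l * t⁻¹ * l⁻¹) * s⁻¹ * (s * l * s⁻¹ * l⁻¹) by group]
    exact mul_mem (h.gZ_conj T hT hs0 (ht2 l hl)) (hs2 l hl)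
  · rw [map_mul, show (s * t)⁻¹ * (qAut α s * qAut α t) =
      (t⁻¹ * (s⁻¹ * qAut α s) * t) * (t⁻¹ * qAut α t) by group]
    exact mul_mem (htL _ hs3) ht3

/-- Elements of `InW` centralise the moved part of an abelian `L`. -/
theorem Min.inW_comm {L : Subgroup (H ⧸ Subgroup.center H)} (hLD : L ≤ gD α T) (hL : Stb (qAut α) L)
    (hab : ∀ a ∈ L, ∀ b ∈ L, a * b = b * a) {s : H ⧸ Subgroup.center H} (hs : InW α T L s) :
    ∀ u ∈ cm (qAut α) L, s * u = u * s := by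
  obtain ⟨hs0, -, hs2, hs3⟩ := hs
  obtain ⟨c, hc, hcf, d, hd, rfl⟩ := h.gM_eq T hT hs0
  have hdL : d⁻¹ * qAut α d ∈ L := by
    rwa [map_mul, hcf, show (c * d)⁻¹ * (c * qAut α d) = d⁻¹ * qAut α d by group] at hs3
  -- `d ∈ L gZ`
  have hdL' : d ∈ L ⊔ gZ α T := by
    set X := L ⊔ gZ α T with hX
    have hXα : Stb (qAut α) X := hL.sup (h.gZ_stb T hT)
    obtain ⟨n, hn, hf⟩ := exists_fixed_mul h.hr h.qPow hXα (fun hd' => h.qCo
      (hd'.trans (Subgroup.card_subgroup_dvd_card _))) (x := d) (mem_sup_left hdL)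
    have h1 := h.gD_fixed T hT
      (mul_mem hd (sup_le hLD (h.gZ_le_gD T hT) hn)) hf
    simpa using mul_mem (mem_sup_right h1) (inv_mem hn)
  have hcom : ∀ u ∈ L, d * u = u * d := by
    intro u hu
    have hle : L ⊔ gZ α T ≤ Subgroup.centralizer {u} := sup_le
      (fun x hx => mem_centralizer_singleton_iff.2 (hab x hx u hu))
      (fun x hx => mem_centralizer_singleton_iff.2 (h.gZ_comm T hT hx (hLD hu)))
    exact mem_centralizer_singleton_iff.1 (hle hdL')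
  intro u hu
  have hcu : c * u = u * c := h.fixed_comm_cm T hT hcf hLD hL (fun l hl => by
    have h1 := hs2 l hl
    rwa [show c * d * l * (c * d)⁻¹ * l⁻¹ = c * (d * l) * d⁻¹ * c⁻¹ * l⁻¹ by group, hcom l hl,
      show c * (l * d) * d⁻¹ * c⁻¹ * l⁻¹ = c * l * c⁻¹ * l⁻¹ by group] at h1) u hu
  rw [mul_assoc, hcom u (cm_le hL hu), ← mul_assoc, hcu, mul_assoc]

/-- Moving is detected on `fixL`. -/
theorem Min.fixL_ne_gD {S : Subgroup (H ⧸ Subgroup.center H)} (hS : S ≤ gM α T)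
    {s : H ⧸ Subgroup.center H} (hs : s ∈ S) (hmv : MovesD α T s) : fixL α T S ≠ gD α T := by
  obtain ⟨d, hd, hne⟩ := hmv
  exact fun e1 => hne (((h.mem_fixL T hT hS).1 (e1 ▸ hd)).2 s hs)

/-- The fixed part of a `2`-group is larger than `gZ`. -/
theorem Min.fixL_ne_gZ {S : Subgroup (H ⧸ Subgroup.center H)} (hS : S ≤ gM α T) (hS2 : IsPGroup 2 S) :
    fixL α T S ≠ gZ α T := by
  have hne : gZ α T ≠ gD α T := fun e1 => by
    refine h.gD_ne_bot T hT (le_bot_iff.1 ?_)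
    rw [← h.cm_gD T hT]
    exact cm_le_iff.2 fun d hd => by
      rw [Subgroup.mem_bot, h.gZ_fixed T hT (e1.symm ▸ hd), inv_mul_cancel]
  obtain ⟨y, hy, hyZ, hys⟩ := h.exists_fixed_class T hT le_rfl (h.gZ_le_gD T hT) le_rfl hne hS2
    (fun s hs z hz => h.gZ_conj T hT (hS hs) hz) (fun s hs d hd => h.gD_conj T hT (hS hs) hd)
  exact fun e1 => hyZ (e1 ▸ (h.mem_fixL T hT hS).2 ⟨hy, hys⟩)

section Lines

variable {m : ℕ} (hm : r = 2 ^ m + 1) (hk : Nat.card (gD α T) ≤ Nat.card (gZ α T) * 2 ^ (4 * m))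

include hm hk

/-- With two layers every subgroup strictly between is a line. -/
theorem Min.line_card {L : Subgroup (H ⧸ Subgroup.center H)} (hZL : gZ α T ≤ L) (hLD : L ≤ gD α T)
    (hL : Stb (qAut α) L) (h1 : L ≠ gZ α T) (h2 : L ≠ gD α T) :
    Nat.card L = Nat.card (gZ α T) * 2 ^ (2 * m) := by
  have e1 := h.gLayer T hT hm le_rfl hZL hLD (h.gZ_stb T hT) hL (Ne.symm h1)
  have e2 := h.gLayer T hT hm hZL hLD le_rfl hL (h.gD_stb T hT) h2
  refine le_antisymm ?_ e1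
  have e3 := e2.trans hk
  rw [show 2 ^ (4 * m) = 2 ^ (2 * m) * 2 ^ (2 * m) by rw [← pow_add]; congr 1; omega, ← mul_assoc] at e3
  exact Nat.le_of_mul_le_mul_right e3 (pow_pos (by norm_num) _)

/-- Two lines with a common class outside `gZ` are equal. -/
theorem Min.line_eq {L L' : Subgroup (H ⧸ Subgroup.center H)} (hZL : gZ α T ≤ L) (hLD : L ≤ gD α T)
    (hL : Stb (qAut α) L) (h2 : L ≠ gD α T) (hZL' : gZ α T ≤ L') (hLD' : L' ≤ gD α T)
    (hL' : Stb (qAut α) L') (h2' : L' ≠ gD α T) {x : H ⧸ Subgroup.center H} (hx : x ∈ L) (hx' : x ∈ L')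
    (hxZ : x ∉ gZ α T) : L = L' := by
  have hX1 : L ⊓ L' ≠ gZ α T := fun e1 => hxZ (e1 ▸ ⟨hx, hx'⟩)
  have hX2 : L ⊓ L' ≠ gD α T := fun e1 => h2 (le_antisymm hLD (e1 ▸ inf_le_left))
  have c0 := h.line_card T hT hm hk (le_inf hZL hZL') (inf_le_left.trans hLD) (hL.inf hL') hX1 hX2
  have c1 := h.line_card T hT hm hk hZL hLD hL (fun e1 => hxZ (e1 ▸ hx)) h2
  have c2 := h.line_card T hT hm hk hZL' hLD' hL' (fun e1 => hxZ (e1 ▸ hx')) h2'
  rw [← Subgroup.eq_of_le_of_card_ge (inf_le_left : L ⊓ L' ≤ L) (by omega)]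
  exact Subgroup.eq_of_le_of_card_ge (inf_le_right : L ⊓ L' ≤ L') (by omega)

/-- A moving `2`-group stabilises the series through its line. -/
theorem Min.fixL_series {S : Subgroup (H ⧸ Subgroup.center H)} (hS : S ≤ gM α T) (hS2 : IsPGroup 2 S)
    {s₀ : H ⧸ Subgroup.center H} (hs₀ : s₀ ∈ S) (hmv : MovesD α T s₀) :
    ∀ s ∈ S, ∀ d ∈ gD α T, s * d * s⁻¹ * d⁻¹ ∈ fixL α T S := by
  set L := fixL α T S with hL
  have hne := h.fixL_ne_gD T hT hS hs₀ hmv
  have hZL := h.gZ_le_fixL T hT hS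
  have hLD := h.fixL_le T hT hS
  have hcjD : ∀ s ∈ S, ∀ d ∈ gD α T, s * d * s⁻¹ ∈ gD α T := fun s hs d hd => h.gD_conj T hT (hS hs) hd
  let X : Subgroup (H ⧸ Subgroup.center H) :=
    { carrier := {d | d ∈ gD α T ∧ ∀ s ∈ S, s * d * s⁻¹ * d⁻¹ ∈ L}
      one_mem' := ⟨one_mem _, fun s _ => by simp⟩
      mul_mem' := fun {a b} ha hb => ⟨mul_mem ha.1 hb.1, fun s hs => by
        rw [show s * (a * b) * s⁻¹ * (a * b)⁻¹ =
          (s * a * s⁻¹ * a⁻¹) * (a * (s * b * s⁻¹ * b⁻¹) * a⁻¹) by group]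
        exact mul_mem (ha.2 s hs) (h.gD_conj_mem T hT hZL hLD ha.1 (hb.2 s hs))⟩
      inv_mem' := fun {a} ha => ⟨inv_mem ha.1, fun s hs => by
        rw [show s * a⁻¹ * s⁻¹ * a⁻¹⁻¹ = a⁻¹ * (s * a * s⁻¹ * a⁻¹)⁻¹ * a⁻¹⁻¹ by group]
        exact h.gD_conj_mem T hT hZL hLD (inv_mem ha.1) (inv_mem (ha.2 s hs))⟩ }
  obtain ⟨y, hy, hyL, hys⟩ := h.exists_fixed_class T hT hZL hLD le_rfl hne hS2
    (h.fixL_conj T hT hS) hcjD
  have hLX : L ≤ X := fun l hl => ⟨hLD hl, fun s hs => mul_mem (h.fixL_conj T hT hS s hs l hl) (inv_mem hl)⟩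
  have hLne : L ≠ gZ α T := h.fixL_ne_gZ T hT hS hS2
  have hXα : Stb (qAut α) X := fun d hd => by
    have hd' := h.gD_stb T hT d hd.1
    refine ⟨hd', fun s hs => ?_⟩
    have h1 := h.fixL_stb T hT hS _ (hd.2 s hs)
    rw [map_mul, map_mul, map_mul, map_inv, map_inv] at h1
    have h2 := h.act_moved T hT (hS hs) hd'
    set ζ := (s * qAut α d * s⁻¹)⁻¹ * (qAut α s * qAut α d * (qAut α s)⁻¹) with hζ
    rw [show qAut α s * qAut α d * (qAut α s)⁻¹ * (qAut α d)⁻¹ =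
      (s * qAut α d * s⁻¹) * ζ * (qAut α d)⁻¹ by rw [hζ]; group,
      ← h.gZ_comm T hT h2 (hcjD s hs _ hd'), mul_assoc] at h1
    simpa using mul_mem (inv_mem (hZL h2)) h1
  have hXD : X = gD α T := by
    by_contra hX2
    have hX1 : X ≠ gZ α T := fun e1 => hLne (le_antisymm (e1 ▸ hLX) hZL)
    have c1 := h.line_card T hT hm hk hZL hLD (h.fixL_stb T hT hS) hLne hne
    have c2 := h.line_card T hT hm hk (hZL.trans hLX) (fun d hd => hd.1) hXα hX1 hX2
    have e1 : L = X := Subgroup.eq_of_le_of_card_ge hLX (le_of_eq (c2.trans c1.symm))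
    have h3 : y ∈ X := ⟨hy, hys⟩
    exact hyL (show y ∈ L by rw [e1]; exact h3)
  intro s hs d hd
  exact (hXD.symm ▸ hd : d ∈ X).2 s hs

end Lines

end Cfsg.Agent.Lib.HHS57
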