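import Cfsg.Agent.Lib.HHS57.Basics
import Cfsg.Agent.Lib.Tech42.FpfAut.Scalar
import Mathlib.Algebra.Ring.Subring.Basic

/-!
# An automorphism commuting with an irreducible `β` on a symplectic space (helper57)

`Q` has class two with centre `Z`, `|Q : Z| = 2 ^ 2m`, `β` of prime order `r = 2 ^ m + 1` fixes `Z` and
has no other fixed point modulo `Z`.  An automorphism of order prime to `r` commuting with `β` and
preserving commutators is trivial modulo `Z`.
-/

set_option autoImplicit false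
set_option linter.style.haveILetI false

namespace Cfsg.Agent.Lib.HHS57

open Subgroup
open scoped commutatorElement

universe u

theorem inv_mul_mem_of_commute {Q : Type u} [Group Q] [Finite Q] {m r n : ℕ} (hr : r.Prime)
    (hrm : r = 2 ^ m + 1) (hcomm : ∀ a b : Q, ⁅a, b⁆ ∈ center Q) (hsq : ∀ a : Q, a * a ∈ center Q)
    (hidx : (center Q).index = 2 ^ (2 * m)) (β : MulAut Q) (hβ : β ^ r = 1)
    (hβZ : ∀ z ∈ center Q, β z = z) (hfpf : ∀ x, x⁻¹ * β x ∈ center Q → x ∈ center Q) (γ : MulAut Q)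
    (hγβ : ∀ x, γ (β x) = β (γ x)) (hγc : ∀ x y : Q, γ ⁅x, y⁆ = ⁅x, y⁆) (hn : n.Coprime r)
    (hγn : ∀ x, x⁻¹ * (γ ^ n) x ∈ center Q) : ∀ x, x⁻¹ * γ x ∈ center Q := by
  classical
  haveI : Fact (Nat.Prime 2) := ⟨Nat.prime_two⟩
  set Z := center Q with hZ
  letI : CommGroup (Q ⧸ Z) :=
    { (inferInstance : Group (Q ⧸ Z)) with
      mul_comm := fun a b => by
        refine QuotientGroup.induction_on a fun x => QuotientGroup.induction_on b fun y => ?_
        rw [← QuotientGroup.mk_mul, ← QuotientGroup.mk_mul, QuotientGroup.eq]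
        simpa [commutatorElement_def, mul_assoc] using hcomm y⁻¹ x⁻¹ }
  let π : Q → Additive (Q ⧸ Z) := fun x => Additive.ofMul (QuotientGroup.mk x)
  have hπs : Function.Surjective π := fun a =>
    (QuotientGroup.mk_surjective a.toMul).imp fun x hx => congrArg Additive.ofMul hx
  have hπ0 : ∀ x, π x = 0 ↔ x ∈ Z := fun x => QuotientGroup.eq_one_iff x
  have hπe : ∀ x y, π x = π y ↔ x⁻¹ * y ∈ Z := fun x y => QuotientGroup.eq
  have hπm : ∀ x y, π (x * y) = π x + π y := fun x y => rfl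
  have h2 : ∀ a : Additive (Q ⧸ Z), a + a = 0 := fun a => by
    obtain ⟨x, rfl⟩ := hπs a
    rw [← hπm, hπ0]
    exact hsq x
  let ι : MulAut Q →* AddMonoid.End (Additive (Q ⧸ Z)) :=
    { toFun := fun φ => (QuotientGroup.congr Z Z φ
        (Subgroup.characteristic_iff_map_eq.1 inferInstance φ)).toMonoidHom.toAdditive
      map_one' := AddMonoidHom.ext fun a => by
        obtain ⟨x, rfl⟩ := hπs a; rfl
      map_mul' := fun φ φ' => AddMonoidHom.ext fun a => by
        obtain ⟨x, rfl⟩ := hπs a; rfl }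
  have hι : ∀ (φ : MulAut Q) x, ι φ (π x) = π (φ x) := fun φ x => rfl
  rcases Nat.eq_zero_or_pos m with hm0 | hm0
  · intro x
    have h1 : Z = ⊤ := Subgroup.index_eq_one.1 (by rw [hidx, hm0]; rfl)
    rw [h1]; exact mem_top _
  have h2f : ∀ f : AddMonoid.End (Additive (Q ⧸ Z)), f + f = 0 := fun f => AddMonoidHom.ext fun a => h2 (f a)
  have hadd : ∀ (i : ℕ) (f f' : AddMonoid.End (Additive (Q ⧸ Z))), Commute f f' →
      (f + f') ^ 2 ^ i = f ^ 2 ^ i + f' ^ 2 ^ i := by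
    intro i
    induction i with
    | zero => intro f f' _; simp
    | succ i ih =>
      intro f f' hc
      rw [pow_succ, pow_mul, pow_mul, pow_mul, ih f f' hc, pow_two, pow_two, pow_two, add_mul, mul_add,
        mul_add, ← ((hc.pow_left _).pow_right _).eq, add_assoc, ← add_assoc (f ^ 2 ^ i * f' ^ 2 ^ i),
        h2f, zero_add]
  -- the ring generated by `β`
  set b := ι β with hb
  set Λ := Subring.closure ({b} : Set (AddMonoid.End (Additive (Q ⧸ Z)))) with hΛ
  have hΛb : Λ ≤ Subring.centralizer {b} := Subring.closure_le.2 fun f hf => by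
    rw [Set.mem_singleton_iff.1 hf, SetLike.mem_coe, Subring.mem_centralizer_iff]
    intro f' hf'
    rw [Set.mem_singleton_iff.1 hf']
  have hΛc : ∀ f ∈ Λ, ∀ f' ∈ Λ, Commute f f' := by
    have h1 : Λ ≤ Subring.centralizer (Λ : Set (AddMonoid.End (Additive (Q ⧸ Z)))) :=
      Subring.closure_le.2 fun f hf => by
        rw [Set.mem_singleton_iff.1 hf, SetLike.mem_coe, Subring.mem_centralizer_iff]
        intro f' hf'
        exact (Subring.mem_centralizer_iff.1 (hΛb hf') b rfl).symm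
    intro f hf f' hf'
    exact Subring.mem_centralizer_iff.1 (h1 hf') f hf
  -- irreducibility
  have hirr : ∀ K : Subgroup Q, Z ≤ K → Stb β K → K ≠ Z → K = ⊤ := by
    intro K hZK hKβ hKne
    haveI : (Z.subgroupOf K).Normal := inferInstance
    have hco : ¬ r ∣ Nat.card (Q ⧸ Z) := by
      rw [← Subgroup.index_eq_card, hidx]
      intro hd
      have h1 := (Nat.prime_dvd_prime_iff_eq hr Nat.prime_two).1 (hr.dvd_of_dvd_pow hd)
      have : 2 ≤ 2 ^ m := Nat.le_self_pow hm0.ne' 2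
      omega
    set γK : MulAut (Q ⧸ Z) := QuotientGroup.congr Z Z β
      (Subgroup.characteristic_iff_map_eq.1 inferInstance β) with hγK
    set Kb := K.map (QuotientGroup.mk' Z) with hKb
    have hKbβ : Stb γK Kb := by
      rintro _ ⟨x, hx, rfl⟩
      exact ⟨β x, hKβ x hx, rfl⟩
    have hmk : ∀ x, QuotientGroup.mk' Z x ∈ Kb → x ∈ K := by
      rintro x ⟨y, hy, hyx⟩
      have := QuotientGroup.eq.1 hyx
      simpa using K.mul_mem hy (hZK this)
    have hpow : ∀ (i : ℕ) (x : Q), (γK ^ i) (QuotientGroup.mk x) = QuotientGroup.mk ((β ^ i) x) := by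
      intro i
      induction i with
      | zero => intro x; rfl
      | succ i ih => intro x; rw [pow_succ, pow_succ, MulAut.mul_apply, MulAut.mul_apply, ← ih]; rfl
    have hγr : γK ^ r = 1 := MulEquiv.ext fun y => QuotientGroup.induction_on y fun x => by
      rw [hpow, hβ]; rfl
    have hmod := FpfAut.card_modEq_one hr (resA_pow_r hγr hKbβ) (fun y hy => by
      obtain ⟨x, hx⟩ := QuotientGroup.mk_surjective (y : Q ⧸ Z)
      have hy' : γK (y : Q ⧸ Z) = y := congrArg Subtype.val hy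
      rw [← hx] at hy'
      refine Subtype.ext (hx.symm.trans ((QuotientGroup.eq_one_iff x).2 (hfpf x ?_)))
      exact QuotientGroup.eq.1 hy'.symm)
    obtain ⟨d, hd2, hd⟩ := (Nat.dvd_prime_pow Nat.prime_two).1
      (hidx ▸ (Subgroup.index_eq_card Z).symm ▸ Kb.card_subgroup_dvd_card :)
    rw [hd, hrm] at hmod
    rcases Nat.eq_zero_or_pos d with rfl | hd0
    · refine absurd (le_antisymm (fun x hx => ?_) hZK) hKne
      rw [pow_zero, Subgroup.card_eq_one] at hd
      have : QuotientGroup.mk' Z x ∈ Kb := ⟨x, hx, rfl⟩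
      rw [hd, Subgroup.mem_bot] at this
      exact (QuotientGroup.eq_one_iff x).1 this
    · have hge := FpfAut.le_of_modEq_two_pow hd0 hmod
      have hKtop : Kb = ⊤ := Subgroup.eq_top_of_card_eq _ (by
        rw [hd, ← Subgroup.index_eq_card, hidx, show d = 2 * m by omega])
      exact eq_top_iff.2 fun x _ => hmk x (hKtop ▸ mem_top _)
  -- the adjoint of an element of the ring
  let Adj : AddMonoid.End (Additive (Q ⧸ Z)) → Prop := fun f => ∀ x y x' y',
    f (π x) = π x' → (f ^ 2 ^ m) (π y) = π y' → ⁅x', y⁆ = ⁅x, y'⁆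
  have hcz : ∀ x z y : Q, z ∈ Z → ⁅x * z, y⁆ = ⁅x, y⁆ ∧ ⁅y, x * z⁆ = ⁅y, x⁆ := fun x z y hz => by
    have h1 := mem_center_iff.1 hz
    constructor
    · calc ⁅x * z, y⁆ = x * (z * y) * z⁻¹ * x⁻¹ * y⁻¹ := by rw [commutatorElement_def]; group
        _ = x * (y * z) * z⁻¹ * x⁻¹ * y⁻¹ := by rw [h1 y]
        _ = _ := by rw [commutatorElement_def]; group
    · calc ⁅y, x * z⁆ = y * x * (z * y⁻¹) * z⁻¹ * x⁻¹ := by rw [commutatorElement_def]; group
        _ = y * x * (y⁻¹ * z) * z⁻¹ * x⁻¹ := by rw [h1 y⁻¹]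
        _ = _ := by rw [commutatorElement_def]; group
  have hwd : ∀ a a' b, π a = π a' → ⁅a, b⁆ = ⁅a', b⁆ ∧ ⁅b, a⁆ = ⁅b, a'⁆ := fun a a' b e => by
    have h1 := hcz a _ b ((hπe a a').1 e)
    rw [mul_inv_cancel_left] at h1
    exact ⟨h1.1.symm, h1.2.symm⟩
  have hbl : ∀ a a' d : Q, ⁅a * a', d⁆ = ⁅a, d⁆ * ⁅a', d⁆ ∧ ⁅d, a * a'⁆ = ⁅d, a⁆ * ⁅d, a'⁆ := fun a a' d => by
    constructor
    · calc ⁅a * a', d⁆ = a * ⁅a', d⁆ * a⁻¹ * ⁅a, d⁆ := by simp only [commutatorElement_def]; group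
        _ = ⁅a', d⁆ * ⁅a, d⁆ := by rw [mem_center_iff.1 (hcomm a' d) a, mul_inv_cancel_right]
        _ = _ := (mem_center_iff.1 (hcomm a' d) _).symm
    · calc ⁅d, a * a'⁆ = ⁅d, a⁆ * (a * ⁅d, a'⁆ * a⁻¹) := by simp only [commutatorElement_def]; group
        _ = _ := by rw [mem_center_iff.1 (hcomm d a') a, mul_inv_cancel_right]
  have hβm : (β ^ 2 ^ m : MulAut Q) = β⁻¹ := by
    rw [eq_inv_iff_mul_eq_one, ← pow_succ, ← hrm, hβ]
  have hAdj : ∀ f ∈ Λ, Adj f := by
    intro f hf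
    induction hf using Subring.closure_induction with
    | mem f hf =>
      intro x y x' y' hx hy
      rw [Set.mem_singleton_iff.1 hf] at hx hy
      rw [hb, hι] at hx
      rw [hb, ← map_pow, hι, hβm] at hy
      rw [← (hwd _ _ y hx).1, ← (hwd _ _ x hy).2]
      rw [← hβZ _ (hcomm x (β⁻¹ y)), map_commutatorElement, MulAut.apply_inv_self]
    | zero =>
      intro x y x' y' hx hy
      rw [zero_pow (by positivity)] at hy
      rw [show ⁅x', y⁆ = ⁅(1 : Q), y⁆ from (hwd _ _ y hx).1.symm,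
        show ⁅x, y'⁆ = ⁅x, (1 : Q)⁆ from (hwd _ _ x hy).2.symm]
      simp
    | one =>
      intro x y x' y' hx hy
      rw [one_pow] at hy
      rw [← (hwd _ _ y hx).1, ← (hwd _ _ x hy).2]
    | add f f' hfm hfm' hf hf' =>
      intro x y x' y' hx hy
      obtain ⟨a, ha⟩ := hπs (f (π x))
      obtain ⟨a', ha'⟩ := hπs (f' (π x))
      obtain ⟨c, hc⟩ := hπs ((f ^ 2 ^ m) (π y))
      obtain ⟨c', hc'⟩ := hπs ((f' ^ 2 ^ m) (π y))
      rw [hadd m f f' (hΛc f hfm f' hfm')] at hy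
      have e1 : π x' = π (a * a') := by rw [hπm, ha, ha', ← hx]; rfl
      have e2 : π y' = π (c * c') := by rw [hπm, hc, hc', ← hy]; rfl
      rw [(hwd _ _ y e1).1, (hwd _ _ x e2).2, (hbl _ _ _).1, (hbl _ _ _).2, hf x y a c ha.symm hc.symm,
        hf' x y a' c' ha'.symm hc'.symm]
    | neg f hfm hf =>
      intro x y x' y' hx hy
      have hneg : -f = f := (eq_neg_of_add_eq_zero_left (h2f f)).symm
      rw [hneg] at hx hy
      exact hf x y x' y' hx hy
    | mul f f' hfm hfm' hf hf' =>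
      intro x y x' y' hx hy
      obtain ⟨a', ha'⟩ := hπs (f' (π x))
      obtain ⟨c, hc⟩ := hπs ((f ^ 2 ^ m) (π y))
      rw [Commute.mul_pow (hΛc f hfm f' hfm'), ((hΛc f hfm f' hfm').pow_left _ |>.pow_right _).eq] at hy
      have e2 : (f' ^ 2 ^ m) (π c) = π y' := by rw [hc]; exact hy
      have e1 : f (π a') = π x' := by rw [ha']; exact hx
      rw [hf a' y x' c e1 hc.symm, hf' x c a' y' ha'.symm e2]
  -- `γ` lies in the ring
  obtain ⟨x₀, hx₀⟩ : ∃ x : Q, x ∉ Z := by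
    by_contra hh
    push Not at hh
    have h1 : Z.index = 1 := Subgroup.index_eq_one.2 (eq_top_iff.2 fun x _ => hh x)
    rw [hidx] at h1
    exact absurd h1 (Nat.one_lt_two_pow (by omega)).ne'
  let K : Subgroup Q :=
    { carrier := {x | ∃ f ∈ Λ, f (π x₀) = π x}
      one_mem' := ⟨0, Λ.zero_mem, rfl⟩
      mul_mem' := by
        rintro a a' ⟨f, hf, e⟩ ⟨f', hf', e'⟩
        exact ⟨f + f', Λ.add_mem hf hf', by rw [hπm, ← e, ← e']; rfl⟩
      inv_mem' := by
        rintro a ⟨f, hf, e⟩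
        exact ⟨-f, Λ.neg_mem hf, by rw [show π a⁻¹ = -π a from rfl, ← e]; rfl⟩ }
  have hKtop : K = ⊤ := by
    refine hirr K (fun z hz => ⟨0, Λ.zero_mem, ((hπ0 z).2 hz).symm⟩) ?_ fun e => hx₀ ?_
    · rintro x ⟨f, hf, e⟩
      exact ⟨b * f, Λ.mul_mem (Subring.subset_closure rfl) hf, by
        rw [← hι β x, ← e]; rfl⟩
    · rw [← e]; exact ⟨1, Λ.one_mem, rfl⟩
  obtain ⟨f, hf, hfγ⟩ : γ x₀ ∈ K := hKtop ▸ mem_top _
  set g := ι γ with hg
  have hgΛ : ∀ f' ∈ Λ, Commute g f' := by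
    intro f' hf'
    have h1 : Λ ≤ Subring.centralizer {g} := Subring.closure_le.2 fun e he => by
      rw [Set.mem_singleton_iff.1 he, SetLike.mem_coe, Subring.mem_centralizer_iff]
      intro e' he'
      rw [Set.mem_singleton_iff.1 he', hg, hb, ← map_mul, ← map_mul]
      exact congrArg ι (MulEquiv.ext hγβ)
    exact Subring.mem_centralizer_iff.1 (h1 hf') g rfl
  have hgf : g = f := AddMonoidHom.ext fun a => by
    obtain ⟨y, rfl⟩ := hπs a
    obtain ⟨h', hh', e⟩ : y ∈ K := hKtop ▸ mem_top _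
    rw [← e]
    calc g (h' (π x₀)) = h' (g (π x₀)) := DFunLike.congr_fun (hgΛ h' hh').eq (π x₀)
      _ = h' (f (π x₀)) := by rw [hg, hι, ← hfγ]
      _ = f (h' (π x₀)) := DFunLike.congr_fun (hΛc h' hh' f hf).eq (π x₀)
  -- `g ^ r = 1`
  have hgr : g ^ r = 1 := AddMonoidHom.ext fun a => by
    obtain ⟨y, rfl⟩ := hπs a
    obtain ⟨w, hw⟩ := hπs ((g ^ 2 ^ m) (π (γ y)))
    have key : ∀ x, ⁅x, y⁆ = ⁅x, w⁆ := fun x => by
      rw [← hγc, map_commutatorElement]
      exact hAdj f hf x (γ y) (γ x) w (by rw [← hgf, hg, hι]) (by rw [← hgf]; exact hw.symm)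
    have h3 : π y = π w := (hπe _ _).2 (mem_center_iff.2 fun x => by
      have e1 : ⁅x, y⁻¹ * w⁆ = 1 := by
        rw [(hbl _ _ _).2, ← key x, ← (hbl _ _ _).2, inv_mul_cancel, commutatorElement_one_right]
      exact commutatorElement_eq_one_iff_mul_comm.1 e1)
    show (g ^ r) (π y) = π y
    rw [hrm, pow_succ]
    show (g ^ 2 ^ m) (g (π y)) = π y
    rw [show g (π y) = π (γ y) from rfl, ← hw, h3]
  have hgn : g ^ n = 1 := by
    rw [hg, ← map_pow]
    exact AddMonoidHom.ext fun a => by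
      obtain ⟨y, rfl⟩ := hπs a
      show π ((γ ^ n) y) = π y
      exact ((hπe _ _).2 (hγn y)).symm
  have hg1 : g = 1 := by
    have h4 := pow_gcd_eq_one.mpr ⟨hgn, hgr⟩
    rwa [hn.gcd_eq_one, pow_one] at h4
  intro x
  have h5 := DFunLike.congr_fun hg1 (π x)
  rw [hg, hι] at h5
  exact (hπe _ _).1 h5.symm

end Cfsg.Agent.Lib.HHS57
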