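import Cfsg.Agent.Lib.HHS57.Local
import Cfsg.Agent.Lib.HHS57.Unitary

/-!
# A fixed `p`-element centralising `U'` centralises `U = [U, α]` (helper57)
-/

set_option autoImplicit false
set_option linter.style.haveILetI false
set_option linter.unusedSectionVars false

namespace Cfsg.Agent.Lib.HHS57

open Cfsg Cfsg.Agent.Lib
open Cfsg.Agent.Lib.FpfAut (exists_fixed_mul stabS resS mem_stabS resS_apply)
open Subgroup
open scoped commutatorElement

universe u

variable {H : Type u} [Group H] [Finite H]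

theorem cm_resA_eq_top {α : MulAut H} {U : Subgroup H} (hUα : Stb α U) (hU1 : cm α U = U) :
    cm (resA α U hUα) (⊤ : Subgroup U) = ⊤ := by
  rw [eq_top_iff]
  intro x _
  have h1 : U ≤ (cm (resA α U hUα) ⊤).map U.subtype := by
    conv_lhs => rw [← hU1]
    exact cm_le_iff.2 fun y hy => ⟨_, mem_cm (mem_top (⟨y, hy⟩ : U)), rfl⟩
  obtain ⟨w, hw, hwx⟩ := h1 x.2
  rwa [← show w = x from Subtype.ext hwx]

variable {p r : ℕ} {α : MulAut H} {V : Type u} [CommGroup V] [Finite V] {ψ : H →* MulAut V}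
  {e : MulAut V}

/-- The derived subgroup of `U = [U, α]`: elementary, central in `U` and fixed. -/
theorem Min.commutator_facts (h : Min p r α ψ e) (hr2 : r ≠ 2) {U : Subgroup H} (hU : IsPGroup 2 U)
    (hUα : Stb α U) (hU1 : cm α U = U) :
    ⁅U, U⁆ ≤ U ∧ ∀ c ∈ ⁅U, U⁆, c * c = 1 ∧ α c = c ∧ ∀ x ∈ U, c * x = x * c := by
  obtain ⟨hc1, hc2, -, hc4⟩ := (h.fpfRep hr2 hU hUα).classTwo (cm_resA_eq_top hUα hU1)
  have hkey : ⁅U, U⁆ ≤ closure {c | c ∈ U ∧ c * c = 1 ∧ α c = c ∧ ∀ x ∈ U, c * x = x * c} :=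
    Subgroup.commutator_le.2 fun a ha b hb => by
      refine subset_closure ⟨(⁅(⟨a, ha⟩ : U), ⟨b, hb⟩⁆ : U).2, ?_, ?_, fun x hx => ?_⟩
      · have := congrArg Subtype.val (hc2 ⟨a, ha⟩ ⟨b, hb⟩)
        simpa [pow_two, commutatorElement_def] using this
      · exact congrArg Subtype.val ((hc4 _).1 (hc1 ⟨a, ha⟩ ⟨b, hb⟩))
      · exact (congrArg Subtype.val (mem_center_iff.1 (hc1 ⟨a, ha⟩ ⟨b, hb⟩) ⟨x, hx⟩)).symm
  have hall : ∀ c ∈ ⁅U, U⁆, c ∈ U ∧ c * c = 1 ∧ α c = c ∧ ∀ x ∈ U, c * x = x * c := by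
    intro c hc
    have hc' := hkey hc
    clear hc
    induction hc' using closure_induction with
    | mem c hc => exact hc
    | one => exact ⟨U.one_mem, mul_one 1, map_one α, fun x _ => by rw [one_mul, mul_one]⟩
    | mul a b _ _ ha hb =>
      obtain ⟨ha1, ha2, ha3, ha4⟩ := ha
      obtain ⟨hb1, hb2, hb3, hb4⟩ := hb
      refine ⟨mul_mem ha1 hb1, ?_, by rw [map_mul, ha3, hb3], fun x hx => ?_⟩
      · calc a * b * (a * b) = a * (b * a) * b := by group
          _ = (a * a) * (b * b) := by rw [hb4 a ha1]; group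
          _ = 1 := by rw [ha2, hb2, mul_one]
      · rw [mul_assoc, hb4 x hx, ← mul_assoc, ha4 x hx, mul_assoc]
    | inv a _ ha =>
      obtain ⟨ha1, ha2, ha3, ha4⟩ := ha
      exact ⟨inv_mem ha1, by rw [← mul_inv_rev, ha2, inv_one], by rw [map_inv, ha3],
        fun x hx => (Commute.inv_left (ha4 x hx)).eq⟩
  exact ⟨fun c hc => (hall c hc).1, fun c hc => (hall c hc).2⟩

/-- A fixed `p`-element normalising `U = [U, α]` and centralising `U'` centralises `U`. -/
theorem Min.centralizes_of_centralizes_commutator (h : Min p r α ψ e) (hr2 : r ≠ 2) {U : Subgroup H}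
    (hU : IsPGroup 2 U) (hUα : Stb α U) (hU1 : cm α U = U) {b : H} (hbfix : α b = b)
    (hbp : ∃ k, b ^ p ^ k = 1) (hbU : ∀ x ∈ U, b * x * b⁻¹ ∈ U)
    (hbC : ∀ c ∈ ⁅U, U⁆, b * c = c * b) : ∀ x ∈ U, b * x = x * b := by
  classical
  haveI := h.factP
  haveI : Fact (Nat.Prime 2) := ⟨Nat.prime_two⟩
  obtain ⟨hCU, hC⟩ := h.commutator_facts hr2 hU hUα hU1
  obtain ⟨-, -, -, hc4⟩ := (h.fpfRep hr2 hU hUα).classTwo (cm_resA_eq_top hUα hU1)
  set L := ((Set.toFinite (ψ '' ((⁅U, U⁆ : Subgroup H) : Set H))).toFinset.toList) with hL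
  have hmem : ∀ x, x ∈ L ↔ ∃ c ∈ ⁅U, U⁆, ψ c = x := fun x => by simp [hL]
  -- `x⁻¹ b x b⁻¹` is fixed
  suffices hfix : ∀ x ∈ U, α (x⁻¹ * (b * x * b⁻¹)) = x⁻¹ * (b * x * b⁻¹) by
    intro x hx
    rw [← hU1] at hx
    induction hx using closure_induction with
    | mem y hy =>
      obtain ⟨x, hx, rfl⟩ := hy
      set z := x⁻¹ * (b * x * b⁻¹) with hz
      have hzU : z ∈ U := mul_mem (inv_mem hx) (hbU x hx)
      have hzc := mem_center_iff.1 ((hc4 ⟨z, hzU⟩).2 (Subtype.ext (hfix x hx)))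
      have hx' : b * x * b⁻¹ = x * z := by rw [hz]; group
      have h1 : b * (x⁻¹ * α x) * b⁻¹ = x⁻¹ * α x := by
        calc b * (x⁻¹ * α x) * b⁻¹ = (b * x * b⁻¹)⁻¹ * α (b * x * b⁻¹) := by
              rw [map_mul, map_mul, map_inv, hbfix]; group
          _ = z⁻¹ * (x⁻¹ * α x) * z := by rw [hx', map_mul, show α z = z from hfix x hx]; group
          _ = z⁻¹ * (z * (x⁻¹ * α x)) := by
              rw [mul_assoc, show (x⁻¹ * α x) * z = z * (x⁻¹ * α x) from
                congrArg Subtype.val (hzc ⟨_, mul_mem (inv_mem hx) (hUα x hx)⟩)]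
          _ = x⁻¹ * α x := inv_mul_cancel_left _ _
      calc b * (x⁻¹ * α x) = b * (x⁻¹ * α x) * b⁻¹ * b := by group
        _ = _ := by rw [h1]
    | one => rw [mul_one, one_mul]
    | mul a c _ _ ha hc => rw [← mul_assoc, ha, mul_assoc, hc, mul_assoc]
    | inv a _ ha => exact (Commute.inv_right (ha : Commute b a)).eq
  intro x hx
  set y := x⁻¹ * (b * x * b⁻¹) with hy
  have hyU : y ∈ U := mul_mem (inv_mem hx) (hbU x hx)
  refine (inv_mul_eq_one.1 (h.inj (?_ : ψ ((α y)⁻¹ * y) = ψ 1)))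
  rw [map_one]
  refine MulEquiv.ext fun t => ?_
  have ht := FpfAut.eigen_span (h.hp.odd_of_ne_two h.hp2) h.hexp L
    (fun z hz => by
      obtain ⟨c, hc, rfl⟩ := (hmem z).1 hz
      rw [← map_mul, (hC c hc).1, map_one])
    (fun z hz z' hz' => by
      obtain ⟨c, hc, rfl⟩ := (hmem z).1 hz
      obtain ⟨c', hc', rfl⟩ := (hmem z').1 hz'
      rw [← map_mul, ← map_mul, (hC c hc).2.2 c' (hCU hc')]) t
  induction ht using closure_induction with
  | one => simp
  | mul a c _ _ ha hc => simp only [MulAut.one_apply] at ha hc ⊢; rw [map_mul, ha, hc]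
  | inv a _ ha => simp only [MulAut.one_apply] at ha ⊢; rw [map_inv, ha]
  | mem w hw =>
    replace hw : ∀ c ∈ ⁅U, U⁆, FpfAut.Sgn (ψ c) w := fun c hc => hw _ ((hmem _).2 ⟨c, hc, rfl⟩)
    let E : Subgroup V :=
      { carrier := {t | ∀ c ∈ ⁅U, U⁆, (ψ c w = w → ψ c t = t) ∧ (ψ c w ≠ w → ψ c t = t⁻¹)}
        one_mem' := fun c _ => ⟨fun _ => map_one _, fun _ => by rw [map_one, inv_one]⟩
        mul_mem' := fun {a b} ha hb c hc => ⟨fun e1 => by rw [map_mul, (ha c hc).1 e1, (hb c hc).1 e1],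
          fun e1 => by rw [map_mul, (ha c hc).2 e1, (hb c hc).2 e1, mul_inv]⟩
        inv_mem' := fun {a} ha c hc => ⟨fun e1 => by rw [map_inv, (ha c hc).1 e1],
          fun e1 => by rw [map_inv, (ha c hc).2 e1]⟩ }
    have hwE : w ∈ E := fun c hc => ⟨id, fun e1 => (hw c hc).resolve_left e1⟩
    have hinvE : ∀ g : H, (∀ c ∈ ⁅U, U⁆, g * c = c * g) → ∀ v ∈ E, ψ g v ∈ E := by
      intro g hg v hv c hc
      have hcm2 : ψ c (ψ g v) = ψ g (ψ c v) := by
        rw [← MulAut.mul_apply, ← map_mul, ← hg c hc, map_mul, MulAut.mul_apply]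
      exact ⟨fun e1 => by rw [hcm2, (hv c hc).1 e1], fun e1 => by rw [hcm2, (hv c hc).2 e1, map_inv]⟩
    have heE : ∀ v ∈ E, e v ∈ E := by
      intro v hv c hc
      have hcm2 : ψ c (e v) = e (ψ c v) := by
        conv_lhs => rw [← (hC c hc).2.1, h.compat, MulAut.mul_apply, MulAut.mul_apply, MulAut.inv_apply_self]
      exact ⟨fun e1 => by rw [hcm2, (hv c hc).1 e1], fun e1 => by rw [hcm2, (hv c hc).2 e1, map_inv]⟩
    let φ₁ : U →* MulAut E := (resS E).comp ((ψ.comp U.subtype).codRestrict _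
      fun g => mem_stabS (hinvE g fun c hc => ((hC c hc).2.2 g g.2).symm))
    let e₁ : MulAut E := resS E ⟨e, mem_stabS heE⟩
    set β := resA α U hUα with hβ
    have hcompat : ∀ g, φ₁ (β g) = e₁ * φ₁ g * e₁⁻¹ := fun g => MulEquiv.ext fun v => Subtype.ext
      (DFunLike.congr_fun (h.compat g) (v : V))
    set N := φ₁.ker with hN
    have hNβ : Stb β N := fun g hg => by
      rw [hN, MonoidHom.mem_ker] at hg ⊢
      rw [hcompat, hg, mul_one, mul_inv_cancel]
    have hco : ¬ r ∣ Nat.card U := not_dvd_sub h.hco U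
    set γ : MulAut (U ⧸ N) := QuotientGroup.congr N N β hNβ.map_eq with hγ
    let ψQ : U ⧸ N →* MulAut E := QuotientGroup.lift N φ₁ le_rfl
    have hinjQ : Function.Injective ψQ := (injective_iff_map_eq_one ψQ).2 fun q =>
      QuotientGroup.induction_on q fun g hg => (QuotientGroup.eq_one_iff g).2 hg
    have hrep : FpfRep p r γ ψQ e₁ :=
      { hp := h.hp, hp2 := h.hp2, hr := h.hr, hr2 := hr2, hrp := h.r_ne_p, hQ := hU.to_quotient N
        hexp := fun v => Subtype.ext (h.hexp v)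
        hα := MulEquiv.ext fun q => QuotientGroup.induction_on q fun g => by
          rw [congr_pow, hβ, resA_pow_r h.hα]; rfl
        he := by
          show (resS E ⟨e, mem_stabS heE⟩) ^ r = 1
          rw [← map_pow, show (⟨e, mem_stabS heE⟩ : stabS E) ^ r = 1 from Subtype.ext h.he, map_one]
        hfpf := fun v hv => Subtype.ext (h.hfpf _ (congrArg Subtype.val hv))
        inj := hinjQ
        compat := fun q => QuotientGroup.induction_on q fun g => hcompat g }
    have hgen : cm γ (⊤ : Subgroup (U ⧸ N)) = ⊤ := by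
      refine top_le_iff.1 fun q _ => QuotientGroup.induction_on q fun g => ?_
      have hle : cm β (⊤ : Subgroup U) ≤ (cm γ ⊤).comap (QuotientGroup.mk' N) := cm_le_iff.2
        fun z _ => mem_cm (mem_top (QuotientGroup.mk' N z))
      exact hle ((cm_resA_eq_top hUα hU1).symm ▸ mem_top g)
    -- it suffices that `y` is fixed modulo `N`
    suffices hyN : γ (QuotientGroup.mk ⟨y, hyU⟩) = QuotientGroup.mk ⟨y, hyU⟩ by
      have h1 : (β ⟨y, hyU⟩)⁻¹ * ⟨y, hyU⟩ ∈ N := QuotientGroup.eq.1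
        (show (QuotientGroup.mk (β ⟨y, hyU⟩) : U ⧸ N) = _ from hyN)
      exact congrArg Subtype.val (DFunLike.congr_fun (MonoidHom.mem_ker.1 h1) (⟨w, hwE⟩ : E))
    obtain ⟨hq1, -, hq3, hq4⟩ := hrep.classTwo hgen
    by_cases hnt : ∀ q : U ⧸ N, q = 1
    · rw [hnt (γ _), hnt (QuotientGroup.mk _)]
    push Not at hnt
    have hcsign : ∀ c, (hc : c ∈ ⁅U, U⁆) → ψ c w = w → (QuotientGroup.mk ⟨c, hCU hc⟩ : U ⧸ N) = 1 :=
      fun c hc e1 => (QuotientGroup.eq_one_iff _).2 (MonoidHom.mem_ker.2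
        (MulEquiv.ext fun v => Subtype.ext ((v.2 c hc).1 e1)))
    obtain ⟨ν, hν⟩ : ∃ ν : U ⧸ N, ∀ q q' : U ⧸ N, ⁅q, q'⁆ = 1 ∨ ⁅q, q'⁆ = ν := by
      by_cases hone : ∀ c ∈ ⁅U, U⁆, ψ c w = w
      · exact ⟨1, fun q q' => Or.inl (QuotientGroup.induction_on q fun a =>
          QuotientGroup.induction_on q' fun a' => hcsign ⁅(a : H), (a' : H)⁆
            (commutator_mem_commutator a.2 a'.2) (hone _ (commutator_mem_commutator a.2 a'.2)))⟩
      push Not at hone
      obtain ⟨c₀, hc₀, hc₀w⟩ := hone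
      refine ⟨QuotientGroup.mk ⟨c₀, hCU hc₀⟩, fun q q' => ?_⟩
      induction q using QuotientGroup.induction_on with | H a => ?_
      induction q' using QuotientGroup.induction_on with | H a' => ?_
      have hc := commutator_mem_commutator a.2 a'.2
      by_cases e1 : ψ ⁅(a : H), (a' : H)⁆ w = w
      · exact Or.inl (hcsign _ hc e1)
      · refine Or.inr (hinjQ (MulEquiv.ext fun v => Subtype.ext ?_))
        show ψ ⁅(a : H), (a' : H)⁆ (v : V) = ψ c₀ (v : V)
        rw [(v.2 _ hc).2 e1, (v.2 _ hc₀).2 hc₀w]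
    obtain ⟨q₀, hq₀⟩ := hnt
    obtain ⟨m, -, hrm, hidx, -⟩ := hrep.index_center hgen ⟨q₀, hq₀⟩ ν hν
    -- the automorphism induced by `b`
    have hbU' : Stb (MulAut.conj b) U := fun z hz => hbU z hz
    have hNb : Stb (resA (MulAut.conj b) U hbU') N := fun g hg => by
      rw [hN, MonoidHom.mem_ker] at hg ⊢
      refine MulEquiv.ext fun v => Subtype.ext ?_
      show ψ (b * g * b⁻¹) (v : V) = v
      have hbi := hinvE b⁻¹ (fun c hc => (Commute.inv_left (hbC c hc : Commute b c)).eq) v v.2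
      rw [map_mul, map_mul, MulAut.mul_apply, MulAut.mul_apply,
        show ψ (g : H) (ψ b⁻¹ (v : V)) = ψ b⁻¹ (v : V) from
          congrArg Subtype.val (DFunLike.congr_fun hg (⟨_, hbi⟩ : E)),
        ← MulAut.mul_apply, ← map_mul, mul_inv_cancel, map_one, MulAut.one_apply]
    set δ : MulAut (U ⧸ N) := QuotientGroup.congr N N (resA (MulAut.conj b) U hbU') hNb.map_eq with hδ
    obtain ⟨k, hk⟩ := hbp
    have hkey := inv_mul_mem_of_commute h.hr hrm hq1
      (fun q => by simpa [pow_two] using hq3 q) hidx γ hrep.hα (fun z hz => (hq4 z).1 hz)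
      (fun z hz => hrep.mem_center_of_inv_mul hgen hz) δ
      (fun q => QuotientGroup.induction_on q fun g => congrArg QuotientGroup.mk (Subtype.ext (by
        show b * α g * b⁻¹ = α (b * g * b⁻¹)
        rw [map_mul, map_mul, map_inv, hbfix])))
      (fun q q' => QuotientGroup.induction_on q fun g => QuotientGroup.induction_on q' fun g' =>
        congrArg QuotientGroup.mk (Subtype.ext (by
          show b * ⁅(g : H), (g' : H)⁆ * b⁻¹ = ⁅(g : H), (g' : H)⁆
          rw [hbC _ (commutator_mem_commutator g.2 g'.2), mul_inv_cancel_right])))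
      (((Nat.coprime_primes h.hp h.hr).2 h.r_ne_p.symm).pow_left k)
      (fun q => by
        induction q using QuotientGroup.induction_on with | H g => ?_
        rw [congr_pow, show ((resA (MulAut.conj b) U hbU') ^ p ^ k) g = g from Subtype.ext (by
          rw [resA_pow, ← map_pow, hk, map_one, MulAut.one_apply]), inv_mul_cancel]
        exact one_mem _)
    exact (hq4 _).1 (hkey (QuotientGroup.mk ⟨x, hx⟩))

end Cfsg.Agent.Lib.HHS57
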