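import Cfsg.Agent.Lib.HHS57.LineAlg
import Mathlib.LinearAlgebra.Dual.Lemmas
import Mathlib.Tactic.LinearCombination

/-!
# Invariant forms on a plane as `2 × 2` matrices over the endomorphisms of a line (helper42)

If `W = L ⊕ g L` for a line `L`, an invariant bilinear form on `W` is given by four elements
`A, M, M', C` of the domain `Cen` of the line, and it is degenerate iff `A C = M M'`.
C8 (three lines), C9 (affine cube), C10 (eigenline).
-/

set_option autoImplicit false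
set_option linter.style.haveILetI false
set_option linter.unusedSectionVars false

namespace Cfsg.Agent.Lib.HHS57

universe u v

/-- An elementary abelian `2`-group has as many characters as elements. -/
theorem card_hom_zmod_two {L : Type*} [AddCommGroup L] [Finite L] (h : ∀ x : L, x + x = 0) :
    Nat.card (L →+ ZMod 2) = Nat.card L := by
  letI : Module (ZMod 2) L := AddCommGroup.zmodModule fun x => by rw [two_nsmul, h]
  rw [Nat.card_congr (show (L →+ ZMod 2) ≃ Module.Dual (ZMod 2) L from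
      { toFun := fun f => f.toZModLinearMap 2
        invFun := fun l => l.toAddMonoidHom
        left_inv := fun f => rfl
        right_inv := fun l => rfl }),
    Module.natCard_eq_pow_finrank (K := ZMod 2), Module.natCard_eq_pow_finrank (K := ZMod 2) (V := L),
    Subspace.dual_finrank_eq]

/-- Pull a biadditive map back along two maps. -/
def pullForm {A B X Y : Type*} [AddCommGroup A] [AddCommGroup B] [AddCommGroup X] [AddCommGroup Y]
    (φ : X →+ A) (χ : Y →+ B) (F : A →+ B →+ ZMod 2) : X →+ Y →+ ZMod 2 :=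
  (((F.comp φ).flip).comp χ).flip

variable {W : Type u} [AddCommGroup W] [Finite W] {r m : ℕ} {a : W ≃+ W}

/-- The restriction of `a` to an invariant subgroup. -/
noncomputable def resLine (a : W ≃+ W) (L : AddSubgroup W) (hL : AStb a L) : L ≃+ L :=
  AddEquiv.ofBijective ((a.toAddMonoidHom.comp L.subtype).codRestrict L fun x => hL x x.2)
    (Finite.injective_iff_bijective.1 fun _ _ e => Subtype.ext (a.injective (congrArg Subtype.val e)))

theorem resLine_apply {L : AddSubgroup W} (hL : AStb a L) (x : L) :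
    (resLine a L hL x : W) = a x := rfl

namespace FpfMod

theorem restrict (h : FpfMod r m a) {L : AddSubgroup W} (hL : AStb a L) :
    FpfMod r m (resLine a L hL) where
  prime := h.prime
  eq := h.eq
  pos := h.pos
  two x := Subtype.ext (h.two _)
  pow x := by
    have hi : ∀ i : ℕ, (((resLine a L hL)^[i] x : L) : W) = a^[i] x := by
      intro i
      induction i with
      | zero => rfl
      | succ i ih => rw [Function.iterate_succ_apply', Function.iterate_succ_apply', ← ih]; rfl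
    exact Subtype.ext ((hi r).trans (h.pow _))
  fpf x hx := Subtype.ext (h.fpf _ (congrArg Subtype.val hx))

section Line

variable {L : Type v} [AddCommGroup L] [Finite L] {c : L ≃+ L} (h : FpfMod r m c)
  (hL : Nat.card L = 2 ^ (2 * m))

include h hL

/-- Invariant biadditive maps on a line are `f (·, T ·)`. -/
theorem exists_rep {f : L →+ L →+ ZMod 2} (hf : InvForm c f) (hf0 : f ≠ 0)
    (B : L →+ L →+ ZMod 2) (hB : ∀ x y, B (c x) (c y) = B x y) :
    ∃ T : Cen c, ∀ x y, B x y = f x ((T : AddMonoid.End L) y) := by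
  have hinj : Function.Injective f.flip := (injective_iff_map_eq_zero _).2 fun y hy => by
    refine AddSubgroup.mem_bot.1 (h.ker_eq_bot hL hf hf0 ▸ AddMonoidHom.mem_ker.2 ?_)
    exact AddMonoidHom.ext fun x => (h.form_symm hf y x).trans (DFunLike.congr_fun hy x)
  haveI : Finite (L →+ ZMod 2) := Finite.of_injective _ DFunLike.coe_injective
  let e : L ≃+ (L →+ ZMod 2) :=
    AddEquiv.ofBijective f.flip (hinj.bijective_of_nat_card_le (card_hom_zmod_two h.two).le)
  let T : AddMonoid.End L := (e.symm.toAddMonoidHom.comp B.flip : L →+ L)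
  have hT : ∀ x y, B x y = f x (T y) := fun x y =>
    (DFunLike.congr_fun (e.apply_symm_apply (B.flip y)) x).symm
  refine ⟨⟨T, mem_cen.2 fun y => hinj (AddMonoidHom.ext fun x => ?_)⟩, hT⟩
  obtain ⟨x', rfl⟩ := c.surjective x
  show f (c x') (T (c y)) = f (c x') (c (T y))
  rw [← hT, hB, hf.inv, hT]

/-- A nonzero endomorphism of a line is injective. -/
theorem eq_zero_of_apply {T : Cen c} {x : L} (hx : x ≠ 0) (hT : (T : AddMonoid.End L) x = 0) :
    T = 0 :=
  Subtype.ext (h.ext_at hL (mem_cen.1 T.2) (fun _ => (map_zero c).symm) hx hT)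

/-- `Cen` of a line has `2 ^ 2 m` elements. -/
theorem card_cen : Nat.card (Cen c) = 2 ^ (2 * m) := by
  obtain ⟨x, hx⟩ := h.exists_ne_zero hL
  rw [← hL]
  refine Nat.card_eq_of_bijective (fun T : Cen c => (T : AddMonoid.End L) x) ⟨fun T T' e => ?_, fun y => ?_⟩
  · exact Subtype.ext (h.ext_at hL (mem_cen.1 T.2) (mem_cen.1 T'.2) hx e)
  · let ev : Cen c →+ L :=
      { toFun := fun T => (T : AddMonoid.End L) x
        map_zero' := rfl
        map_add' := fun _ _ => rfl }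
    have hE : AStb c ev.range := by
      rintro _ ⟨T, rfl⟩
      exact ⟨⟨(c.toAddMonoidHom : AddMonoid.End L), mem_cen.2 fun _ => rfl⟩ * T, rfl⟩
    rcases h.eq_bot_or_top hL hE with e | e
    · exact absurd (AddSubgroup.mem_bot.1 (e ▸ ev.mem_range.2 ⟨1, rfl⟩)) hx
    · exact AddMonoidHom.mem_range.1 (e ▸ AddSubgroup.mem_top y)

/-- An element of order three. -/
theorem exists_omega : ∃ w : Cen c, w * w + w + 1 = 0 := by
  haveI := h.cen_isDomain hL
  haveI : Finite (Cen c) := Nat.finite_of_card_ne_zero (by rw [h.card_cen hL]; positivity)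
  letI : CommRing (Cen c) :=
    { (inferInstance : Ring (Cen c)) with
      mul_comm := fun b d => Subtype.ext (AddMonoidHom.ext
        (h.commute hL _ _ (mem_cen.1 b.2) (mem_cen.1 d.2))) }
  have hu : Nat.card (Cen c)ˣ = 2 ^ (2 * m) - 1 := by
    rw [← h.card_cen hL]
    letI := Fintype.ofFinite (Cen c)
    letI : DecidableEq (Cen c) := Classical.decEq _
    letI : Field (Cen c) := Fintype.fieldOfDomain (Cen c)
    exact Nat.card_units (Cen c)
  haveI : Fact (Nat.Prime 3) := ⟨Nat.prime_three⟩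
  obtain ⟨u, hu3⟩ := exists_prime_orderOf_dvd_card' (G := (Cen c)ˣ) 3 (by
    rw [hu, pow_mul]
    refine (Nat.modEq_iff_dvd' (Nat.one_le_pow _ _ (by norm_num))).1 ?_
    simpa using ((show (2 ^ 2) ≡ 1 [MOD 3] by decide).pow m).symm)
  refine ⟨u, ?_⟩
  have h1 : (u : Cen c) ^ 3 = 1 := by
    rw [← Units.val_pow_eq_pow_val, ← hu3, pow_orderOf_eq_one, Units.val_one]
  have h2 : ((u : Cen c) - 1) * ((u : Cen c) * u + u + 1) = 0 := by linear_combination h1
  refine (mul_eq_zero.1 h2).resolve_left fun h3 => ?_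
  rw [show u = 1 from Units.ext (sub_eq_zero.1 h3), orderOf_one] at hu3
  exact absurd hu3 (by norm_num)

end Line

/-! ### A plane as two copies of a line -/

variable {L : AddSubgroup W}

/-- The four coefficients of a form with respect to `Φ` and the base form `b`. -/
def Rep {c : L ≃+ L} (Φ : L × L ≃+ W) (b : L →+ L →+ ZMod 2) (F : W →+ W →+ ZMod 2)
    (A M M' C : Cen c) : Prop :=
  ∀ x y x' y', F (Φ (x, y)) (Φ (x', y')) =
    b x ((A : AddMonoid.End L) x') + b x ((M : AddMonoid.End L) y') +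
      (b y ((M' : AddMonoid.End L) x') + b y ((C : AddMonoid.End L) y'))

theorem cen_add_apply {c : L ≃+ L} (A B : Cen c) (x : L) :
    ((A + B : Cen c) : AddMonoid.End L) x = (A : AddMonoid.End L) x + (B : AddMonoid.End L) x := rfl

theorem Rep.add {c : L ≃+ L} {Φ : L × L ≃+ W} {b : L →+ L →+ ZMod 2} {F G : W →+ W →+ ZMod 2}
    {A M M' C A₂ M₂ M₂' C₂ : Cen c} (hF : Rep Φ b F A M M' C) (hG : Rep Φ b G A₂ M₂ M₂' C₂) :
    Rep Φ b (F + G) (A + A₂) (M + M₂) (M' + M₂') (C + C₂) := fun x y x' y' => by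
  rw [AddMonoidHom.add_apply, AddMonoidHom.add_apply, hF, hG]
  simp only [cen_add_apply, map_add]
  abel

theorem Rep.eq {c : L ≃+ L} {Φ : L × L ≃+ W} {b : L →+ L →+ ZMod 2} {F G : W →+ W →+ ZMod 2}
    {A M M' C : Cen c} (hF : Rep Φ b F A M M' C) (hG : Rep Φ b G A M M' C) : F = G := by
  refine AddMonoidHom.ext fun w => AddMonoidHom.ext fun w' => ?_
  obtain ⟨⟨x, y⟩, rfl⟩ := Φ.surjective w
  obtain ⟨⟨x', y'⟩, rfl⟩ := Φ.surjective w'
  rw [hF, hG]

variable (h : FpfMod r m a) (hW : Nat.card W = 2 ^ (4 * m)) (hL : AStb a L)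
  (hLc : Nat.card L = 2 ^ (2 * m))

include h hLc

theorem eq_bot_or_eq {K : AddSubgroup W} (hLs : AStb a L) (hK : AStb a K) :
    L ⊓ K = ⊥ ∨ L ≤ K := by
  rcases (h.restrict hLs).eq_bot_or_top hLc (L := K.comap L.subtype) (fun x hx => hK _ hx) with e | e
  · refine Or.inl ((AddSubgroup.eq_bot_iff_forall _).2 fun x hx => ?_)
    have : (⟨x, hx.1⟩ : L) ∈ K.comap L.subtype := hx.2
    rw [e, AddSubgroup.mem_bot] at this
    exact congrArg Subtype.val this
  · exact Or.inr fun x hx => (e ▸ AddSubgroup.mem_top (⟨x, hx⟩ : L) : (⟨x, hx⟩ : L) ∈ K.comap L.subtype)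

include hW

/-- `W = L ⊕ g L`. -/
theorem exists_plane (hLs : AStb a L) (g : L →+ W) (hg : ∀ x, g (resLine a L hLs x) = a (g x))
    (hgi : ∀ x, g x ∈ L → x = 0) :
    ∃ Φ : L × L ≃+ W, (∀ x y, Φ (x, y) = (x : W) + g y) ∧
      ∀ x y, a (Φ (x, y)) = Φ (resLine a L hLs x, resLine a L hLs y) := by
  let f : L × L →+ W := L.subtype.coprod g
  have hf : ∀ x y, f (x, y) = (x : W) + g y := fun x y => rfl
  have hinj : Function.Injective f := (injective_iff_map_eq_zero _).2 fun t ht => by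
    obtain ⟨x, y⟩ := t
    rw [hf] at ht
    have hy : y = 0 := hgi y (by rw [eq_neg_of_add_eq_zero_right ht]; exact L.neg_mem x.2)
    subst hy
    rw [map_zero, add_zero] at ht
    exact Prod.ext (Subtype.ext ht) rfl
  refine ⟨AddEquiv.ofBijective f (hinj.bijective_of_nat_card_le (le_of_eq ?_)), hf, fun x y => ?_⟩
  · rw [Nat.card_prod, hLc, hW, ← pow_add]
    congr 1
    omega
  · show a (f (x, y)) = f (resLine a L hLs x, resLine a L hLs y)
    rw [hf, hf, map_add, ← hg, resLine_apply]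

omit hW in
/-- Every invariant form has coefficients. -/
theorem exists_coeff (hLs : AStb a L) {Φ : L × L ≃+ W}
    (hΦ : ∀ x y, a (Φ (x, y)) = Φ (resLine a L hLs x, resLine a L hLs y))
    {b : L →+ L →+ ZMod 2} (hb : InvForm (resLine a L hLs) b) (hb0 : b ≠ 0)
    (F : W →+ W →+ ZMod 2) (hF : InvForm a F) :
    ∃ A M M' C : Cen (resLine a L hLs), Rep Φ b F A M M' C := by
  set c := resLine a L hLs
  let ι₁ : L →+ W := Φ.toAddMonoidHom.comp (AddMonoidHom.inl L L)
  let ι₂ : L →+ W := Φ.toAddMonoidHom.comp (AddMonoidHom.inr L L)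
  have h1 : ∀ x, ι₁ (c x) = a (ι₁ x) := fun x => by
    show Φ (c x, 0) = a (Φ (x, 0))
    rw [hΦ, map_zero]
  have h2 : ∀ x, ι₂ (c x) = a (ι₂ x) := fun x => by
    show Φ (0, c x) = a (Φ (0, x))
    rw [hΦ, map_zero]
  have hrep : ∀ ι κ : L →+ W, (∀ x, ι (c x) = a (ι x)) → (∀ x, κ (c x) = a (κ x)) →
      ∃ T : Cen c, ∀ x y, F (ι x) (κ y) = b x ((T : AddMonoid.End L) y) := fun ι κ hι hκ =>
    (h.restrict hLs).exists_rep hLc hb hb0 (pullForm ι κ F) fun x y => by
      show F (ι (c x)) (κ (c y)) = F (ι x) (κ y)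
      rw [hι, hκ, hF.inv]
  obtain ⟨A, hA⟩ := hrep ι₁ ι₁ h1 h1
  obtain ⟨M, hM⟩ := hrep ι₁ ι₂ h1 h2
  obtain ⟨M', hM'⟩ := hrep ι₂ ι₁ h2 h1
  obtain ⟨C, hC⟩ := hrep ι₂ ι₂ h2 h2
  refine ⟨A, M, M', C, fun x y x' y' => ?_⟩
  have e : ∀ u v, Φ (u, v) = ι₁ u + ι₂ v := fun u v => by
    show Φ (u, v) = Φ (u, 0) + Φ (0, v)
    rw [← map_add, Prod.mk_add_mk, add_zero, zero_add]
  simp only [e, map_add, AddMonoidHom.add_apply, hA, hM, hM', hC]
  abel

omit hW in
/-- A form is degenerate iff its determinant vanishes. -/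
theorem ker_ne_bot_iff (hLs : AStb a L) {Φ : L × L ≃+ W}
    {b : L →+ L →+ ZMod 2} (hb : InvForm (resLine a L hLs) b) (hb0 : b ≠ 0)
    {F : W →+ W →+ ZMod 2} (hF : InvForm a F) {A M M' C : Cen (resLine a L hLs)}
    (hR : Rep Φ b F A M M' C) : F.ker ≠ ⊥ ↔ A * C - M * M' = 0 := by
  have hl := h.restrict hLs
  haveI := hl.cen_isDomain hLc
  have hcomm : ∀ (S T : Cen (resLine a L hLs)) (x : L),
      (S : AddMonoid.End L) ((T : AddMonoid.End L) x) = (T : AddMonoid.End L) ((S : AddMonoid.End L) x) :=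
    fun S T => hl.commute hLc _ _ (mem_cen.1 S.2) (mem_cen.1 T.2)
  have hker : ∀ x' y', Φ (x', y') ∈ F.ker ↔
      (A : AddMonoid.End L) x' + (M : AddMonoid.End L) y' = 0 ∧
      (M' : AddMonoid.End L) x' + (C : AddMonoid.End L) y' = 0 := by
    intro x' y'
    have hbk : ∀ z, (∀ x, b x z = 0) → z = 0 := fun z hz => by
      refine AddSubgroup.mem_bot.1 (hl.ker_eq_bot hLc hb hb0 ▸ AddMonoidHom.mem_ker.2 ?_)
      exact AddMonoidHom.ext fun x => (hl.form_symm hb z x).trans (hz x)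
    constructor
    · intro hk
      have h0 : ∀ x y, F (Φ (x, y)) (Φ (x', y')) = 0 := fun x y => by
        rw [h.form_symm hF, AddMonoidHom.mem_ker.1 hk]; rfl
      refine ⟨hbk _ fun x => ?_, hbk _ fun y => ?_⟩
      · have := h0 x 0
        rw [hR] at this
        simpa [map_add] using this
      · have := h0 0 y
        rw [hR] at this
        simpa [map_add] using this
    · rintro ⟨e1, e2⟩
      refine AddMonoidHom.mem_ker.2 (AddMonoidHom.ext fun w => ?_)
      obtain ⟨⟨x, y⟩, rfl⟩ := Φ.surjective w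
      rw [h.form_symm hF, hR, ← map_add, ← map_add, e1, e2, map_zero, map_zero, add_zero]
      rfl
  constructor
  · intro hne
    obtain ⟨w, hw, hw0⟩ := (AddSubgroup.bot_or_exists_ne_zero _).resolve_left hne
    obtain ⟨⟨x, y⟩, rfl⟩ := Φ.surjective w
    obtain ⟨e1, e2⟩ := (hker x y).1 hw
    have e1' : (A : AddMonoid.End L) x = -(M : AddMonoid.End L) y := eq_neg_of_add_eq_zero_left e1
    have e2' : (C : AddMonoid.End L) y = -(M' : AddMonoid.End L) x := eq_neg_of_add_eq_zero_right e2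
    have hx : ((A * C - M * M' : Cen (resLine a L hLs)) : AddMonoid.End L) x = 0 := by
      show (A : AddMonoid.End L) ((C : AddMonoid.End L) x) -
        (M : AddMonoid.End L) ((M' : AddMonoid.End L) x) = 0
      rw [hcomm A C, e1', map_neg, hcomm C M, e2', map_neg, neg_neg, sub_self]
    have hy : ((A * C - M * M' : Cen (resLine a L hLs)) : AddMonoid.End L) y = 0 := by
      show (A : AddMonoid.End L) ((C : AddMonoid.End L) y) -
        (M : AddMonoid.End L) ((M' : AddMonoid.End L) y) = 0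
      rw [e2', map_neg, hcomm A M', e1', map_neg, neg_neg, hcomm M M', sub_self]
    by_cases hx0 : x = 0
    · refine hl.eq_zero_of_apply hLc (fun hy0 => hw0 ?_) hy
      rw [hx0, hy0]
      exact map_zero Φ
    · exact hl.eq_zero_of_apply hLc hx0 hx
  · intro hdet
    obtain ⟨z, hz⟩ := hl.exists_ne_zero hLc
    have hnz : ∀ {T : Cen (resLine a L hLs)}, T ≠ 0 → (T : AddMonoid.End L) z ≠ 0 := fun hT e =>
      hT (hl.eq_zero_of_apply hLc hz e)
    have hd : (A : AddMonoid.End L) ((C : AddMonoid.End L) z) =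
        (M : AddMonoid.End L) ((M' : AddMonoid.End L) z) :=
      sub_eq_zero.1 (DFunLike.congr_fun (congrArg Subtype.val hdet) z)
    have hone : ∀ x' y' : L, (x' ≠ 0 ∨ y' ≠ 0) → Φ (x', y') ∈ F.ker → F.ker ≠ ⊥ := by
      intro x' y' hne hk e
      rw [e, AddSubgroup.mem_bot] at hk
      have := Φ.injective (hk.trans (map_zero Φ).symm)
      rcases hne with h1 | h1
      · exact h1 (congrArg Prod.fst this)
      · exact h1 (congrArg Prod.snd this)
    by_cases hAM : A = 0 ∧ M = 0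
    · obtain ⟨rfl, rfl⟩ := hAM
      by_cases hM' : M' = 0
      · subst hM'
        exact hone z 0 (Or.inl hz) ((hker z 0).2 ⟨by simp, by simp⟩)
      · refine hone (-(C : AddMonoid.End L) z) ((M' : AddMonoid.End L) z) (Or.inr (hnz hM')) ((hker _ _).2 ⟨by simp, ?_⟩)
        rw [map_neg, hcomm C M', neg_add_cancel]
    · refine hone (-(M : AddMonoid.End L) z) ((A : AddMonoid.End L) z) ?_ ((hker _ _).2 ⟨?_, ?_⟩)
      · rcases not_and_or.1 hAM with h1 | h1
        · exact Or.inr (hnz h1)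
        · exact Or.inl (neg_ne_zero.2 (hnz h1))
      · rw [map_neg, hcomm A M, neg_add_cancel]
      · rw [map_neg, hcomm M' M, hcomm C A, hd, neg_add_cancel]

end FpfMod

variable {r m : ℕ}

/-- C8. -/
theorem FpfMod.three_lines (h : FpfMod r m a) (hW : Nat.card W = 2 ^ (4 * m))
    (L : Fin 3 → AddSubgroup W) (hL : ∀ j, AStb a (L j)) (hLc : ∀ j, Nat.card (L j) = 2 ^ (2 * m))
    (hLd : ∀ i j, i ≠ j → L i ⊓ L j = ⊥)
    (f : Fin 3 → W →+ W →+ ZMod 2) (hf : ∀ i, InvForm a (f i)) (hinj : Function.Injective f)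
    (hdeg : ∀ i, Nat.card (f i).ker = 2 ^ (2 * m))
    (hagree : ∀ i i' j, ∀ x ∈ L j, ∀ y ∈ L j, f i x y = f i' x y)
    (hne : ∀ j, ∃ x ∈ L j, ∃ y ∈ L j, f 0 x y ≠ 0) : False := by
  set c := resLine a (L 0) (hL 0) with hc
  -- `g : L 0 → L 1` whose graph is `L 2`
  let s : L 2 × L 1 →+ W := (L 2).subtype.coprod (L 1).subtype
  have hs : Function.Injective s := (injective_iff_map_eq_zero _).2 fun t ht => by
    obtain ⟨x, y⟩ := t
    have hx : (x : W) ∈ L 2 ⊓ L 1 :=
      ⟨x.2, by rw [eq_neg_of_add_eq_zero_left (show (x : W) + y = 0 from ht)]; exact (L 1).neg_mem y.2⟩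
    rw [hLd 2 1 (by decide), AddSubgroup.mem_bot] at hx
    have hy : (y : W) = 0 := by simpa [s, hx] using ht
    exact Prod.ext (Subtype.ext hx) (Subtype.ext hy)
  let S : L 2 × L 1 ≃+ W := AddEquiv.ofBijective s (hs.bijective_of_nat_card_le (le_of_eq (by
    rw [Nat.card_prod, hLc, hLc, hW, ← pow_add]; congr 1; omega)))
  have hS : ∀ x y, S (x, y) = (x : W) + y := fun x y => rfl
  let g : L 0 →+ W := (L 1).subtype.comp ((AddMonoidHom.snd _ _).comp
    (S.symm.toAddMonoidHom.comp (L 0).subtype))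
  have hg1 : ∀ x, g x ∈ L 1 := fun x => SetLike.coe_mem _
  have hg2 : ∀ x : L 0, (x : W) + g x ∈ L 2 := fun x => by
    have e := S.apply_symm_apply (x : W)
    rcases hp : S.symm (x : W) with ⟨u, v⟩
    rw [hp, hS] at e
    have : g x = (v : W) := by simp [g, hp]
    rw [this, ← e, add_assoc, h.two, add_zero]
    exact u.2
  have hgc : ∀ x, g (c x) = a (g x) := fun x => by
    have h1 : g (c x) - a (g x) ∈ L 2 ⊓ L 1 := by
      refine ⟨?_, (L 1).sub_mem (hg1 _) (hL 1 _ (hg1 x))⟩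
      have h2 := (L 2).sub_mem (hg2 (c x)) (hL 2 _ (hg2 x))
      rwa [map_add, hc, resLine_apply, add_sub_add_left_eq_sub] at h2
    rw [hLd 2 1 (by decide), AddSubgroup.mem_bot, sub_eq_zero] at h1
    exact h1
  have hgi : ∀ x, g x ∈ L 0 → x = 0 := fun x hx => by
    have h1 : g x = 0 := AddSubgroup.mem_bot.1 (hLd 0 1 (by decide) ▸ (⟨hx, hg1 x⟩ : g x ∈ L 0 ⊓ L 1))
    have h2 : (x : W) ∈ L 0 ⊓ L 2 := ⟨x.2, by simpa [h1] using hg2 x⟩
    rw [hLd 0 2 (by decide), AddSubgroup.mem_bot] at h2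
    exact Subtype.ext h2
  obtain ⟨Φ, hΦ, hΦa⟩ := h.exists_plane hW (hLc 0) (hL 0) g hgc hgi
  -- the base form
  set b := pullForm (L 0).subtype (L 0).subtype (f 0) with hbdef
  have hb : InvForm c b := ⟨fun x => (hf 0).alt _, fun x y => (hf 0).inv _ _⟩
  have hb0 : b ≠ 0 := fun e => by
    obtain ⟨x, hx, y, hy, hxy⟩ := hne 0
    exact hxy (DFunLike.congr_fun (DFunLike.congr_fun e ⟨x, hx⟩) ⟨y, hy⟩)
  have hl := h.restrict (hL 0)
  choose A M M' C hR using fun i => h.exists_coeff (hLc 0) (hL 0) hΦa hb hb0 (f i) (hf i)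
  haveI := hl.cen_isDomain (hLc 0)
  have huniq : ∀ T T' : FpfMod.Cen c, (∀ x y, b x ((T : AddMonoid.End (L 0)) y) =
      b x ((T' : AddMonoid.End (L 0)) y)) → T = T' := fun T T' e =>
    Subtype.ext (AddMonoidHom.ext fun y => sub_eq_zero.1 (AddSubgroup.mem_bot.1
      (hl.ker_eq_bot (hLc 0) hb hb0 ▸ AddMonoidHom.mem_ker.2 (AddMonoidHom.ext fun x => by
        rw [hl.form_symm hb, map_sub]; exact sub_eq_zero.2 (e x y)))))
  have hA : ∀ i, A i = A 0 := fun i => huniq _ _ fun x y => by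
    have h1 := hR i x 0 y 0
    have h2 := hR 0 x 0 y 0
    have h3 := hagree i 0 0 _ x.2 _ y.2
    simp only [hΦ, map_zero, add_zero, AddMonoidHom.zero_apply] at h1 h2
    rw [← h1, ← h2, h3]
  have hC : ∀ i, C i = C 0 := fun i => huniq _ _ fun x y => by
    have h1 := hR i 0 x 0 y
    have h2 := hR 0 0 x 0 y
    have h3 := hagree i 0 1 _ (hg1 x) _ (hg1 y)
    simp only [hΦ, map_zero, zero_add, AddMonoidHom.zero_apply, ZeroMemClass.coe_zero] at h1 h2
    rw [← h1, ← h2, h3]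
  have hsum : ∀ i, M i + M' i = M 0 + M' 0 := fun i => huniq _ _ fun x y => by
    have h1 := hR i x x y y
    have h2 := hR 0 x x y y
    have h3 := hagree i 0 2 _ (hg2 x) _ (hg2 y)
    rw [hΦ, hΦ] at h1 h2
    rw [h1, h2, hA, hC] at h3
    simp only [FpfMod.cen_add_apply, map_add]
    linear_combination h3
  have hdet : ∀ i, A i * C i - M i * M' i = 0 := fun i =>
    (h.ker_ne_bot_iff (hLc 0) (hL 0) hb hb0 (hf i) (hR i)).1 fun e => by
      have h1 := hdeg i
      rw [e, AddSubgroup.card_bot] at h1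
      have := h.pos
      rcases Nat.pow_eq_one.1 h1.symm with h2 | h2 <;> omega
  letI : CommRing (FpfMod.Cen c) :=
    { (inferInstance : Ring (FpfMod.Cen c)) with
      mul_comm := fun u v => Subtype.ext (AddMonoidHom.ext
        (hl.commute (hLc 0) _ _ (FpfMod.mem_cen.1 u.2) (FpfMod.mem_cen.1 v.2))) }
  have hne' : ∀ i j, i ≠ j → M i + M j = M 0 + M' 0 := fun i j hij => by
    have hp : M i * M' i = M j * M' j := by
      rw [← sub_eq_zero.1 (hdet i), ← sub_eq_zero.1 (hdet j), hA, hC, hA j, hC j]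
    have hmul : (M i - M j) * (M 0 + M' 0 - (M i + M j)) = 0 := by
      linear_combination hp - (M i) * hsum i + (M j) * hsum j
    refine (sub_eq_zero.1 ((mul_eq_zero.1 hmul).resolve_left fun e => hij (hinj ?_))).symm
    have eM : M i = M j := sub_eq_zero.1 e
    have eM' : M' i = M' j := by linear_combination hsum i - hsum j - eM
    exact FpfMod.Rep.eq (hR i) (by rw [hA, hC, eM, eM', ← hA j, ← hC j]; exact hR j)
  have h1 := hne' 0 1 (by decide)
  have h2 := hne' 0 2 (by decide)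
  have h3 := hne' 1 2 (by decide)
  have hM12 : M 1 = M 2 := add_left_cancel (h1.trans h2.symm)
  have hM'12 : M' 1 = M' 2 := by linear_combination hsum 1 - hsum 2 - hM12
  exact absurd (hinj (FpfMod.Rep.eq (hR 1) (by rw [hA, hC, hM12, hM'12, ← hA 2, ← hC 2]; exact hR 2)))
    (by decide)

/-- C9. -/
theorem FpfMod.cube (h : FpfMod r m a) (hW : Nat.card W = 2 ^ (4 * m))
    (f₀ d₁ d₂ d₃ : W →+ W →+ ZMod 2) (h0 : InvForm a f₀) (h1 : InvForm a d₁) (h2 : InvForm a d₂)
    (h3 : InvForm a d₃)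
    (hdeg : ∀ c₁ c₂ c₃ : Bool, (c₁ || c₂ || c₃) = true →
      (f₀ + (if c₁ then d₁ else 0) + (if c₂ then d₂ else 0) + (if c₃ then d₃ else 0)).ker ≠ ⊥)
    (hr1 : Nat.card (f₀ + d₁).ker = 2 ^ (2 * m)) (_hr2 : Nat.card (f₀ + d₂).ker = 2 ^ (2 * m))
    (hne : (f₀ + d₁).ker ⊓ (f₀ + d₂).ker = ⊥)
    (g : W ≃+ W) (hg : ∀ x, g (a x) = a (g x)) (hg12 : ∀ x ∈ (f₀ + d₁).ker, g x ∈ (f₀ + d₂).ker) :
    f₀.ker ≠ ⊥ := by
  have hadd : ∀ {F G : W →+ W →+ ZMod 2}, InvForm a F → InvForm a G → InvForm a (F + G) :=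
    fun hF hG => ⟨fun x => by simp [hF.alt x, hG.alt x], fun x y => by simp [hF.inv x y, hG.inv x y]⟩
  set K := (f₀ + d₁).ker with hK
  set K₂ := (f₀ + d₂).ker with hK₂
  have hKs : AStb a K := h.stb_ker (hadd h0 h1)
  obtain ⟨Φ, hΦ, hΦa⟩ := h.exists_plane hW hr1 hKs (g.toAddMonoidHom.comp K.subtype)
    (fun x => hg x) (fun x hx => by
      have h4 : g x ∈ K ⊓ K₂ := ⟨hx, hg12 x x.2⟩
      rw [hne, AddSubgroup.mem_bot] at h4
      exact Subtype.ext (g.injective (h4.trans (map_zero g).symm)))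
  set b := pullForm K.subtype K.subtype (f₀ + d₂) with hbdef
  have hb : InvForm (resLine a K hKs) b :=
    ⟨fun x => (hadd h0 h2).alt _, fun x y => (hadd h0 h2).inv _ _⟩
  have hb0 : b ≠ 0 := fun e => by
    obtain ⟨x, hx⟩ := (h.restrict hKs).exists_ne_zero hr1
    refine hx (Subtype.ext (AddSubgroup.mem_bot.1 (hne ▸ (⟨x.2, ?_⟩ : (x : W) ∈ K ⊓ K₂))))
    refine AddMonoidHom.mem_ker.2 (AddMonoidHom.ext fun w => ?_)
    obtain ⟨⟨u, v⟩, rfl⟩ := Φ.surjective w
    rw [hΦ, map_add, AddMonoidHom.zero_apply]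
    have e1 : (f₀ + d₂) (x : W) (u : W) = 0 := DFunLike.congr_fun (DFunLike.congr_fun e x) u
    have e2 : (f₀ + d₂) (x : W) (g v) = 0 := by
      rw [h.form_symm (hadd h0 h2), AddMonoidHom.mem_ker.1 (hg12 v v.2)]; rfl
    exact add_eq_zero_iff_eq_neg.2 (by rw [e1]; exact (neg_eq_zero.2 e2).symm)
  obtain ⟨A₀, M₀, N₀, C₀, R₀⟩ := h.exists_coeff hr1 hKs hΦa hb hb0 f₀ h0
  obtain ⟨A₁, M₁, N₁, C₁, R₁⟩ := h.exists_coeff hr1 hKs hΦa hb hb0 d₁ h1
  obtain ⟨A₂, M₂, N₂, C₂, R₂⟩ := h.exists_coeff hr1 hKs hΦa hb hb0 d₂ h2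
  obtain ⟨A₃, M₃, N₃, C₃, R₃⟩ := h.exists_coeff hr1 hKs hΦa hb hb0 d₃ h3
  have det : ∀ {F : W →+ W →+ ZMod 2} {A M N C}, InvForm a F → FpfMod.Rep Φ b F A M N C →
      (F.ker ≠ ⊥ ↔ A * C - M * N = 0) := fun hF hR => h.ker_ne_bot_iff hr1 hKs hb hb0 hF hR
  have e100 := (det (hadd h0 h1) (R₀.add R₁)).1 (by simpa using hdeg true false false rfl)
  have e010 := (det (hadd h0 h2) (R₀.add R₂)).1 (by simpa using hdeg false true false rfl)
  have e001 := (det (hadd h0 h3) (R₀.add R₃)).1 (by simpa using hdeg false false true rfl)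
  have e110 := (det (hadd (hadd h0 h1) h2) ((R₀.add R₁).add R₂)).1
    (by simpa using hdeg true true false rfl)
  have e101 := (det (hadd (hadd h0 h1) h3) ((R₀.add R₁).add R₃)).1
    (by simpa using hdeg true false true rfl)
  have e011 := (det (hadd (hadd h0 h2) h3) ((R₀.add R₂).add R₃)).1
    (by simpa using hdeg false true true rfl)
  have e111 := (det (hadd (hadd (hadd h0 h1) h2) h3) (((R₀.add R₁).add R₂).add R₃)).1
    (by simpa using hdeg true true true rfl)
  refine (det h0 R₀).2 ?_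
  letI : CommRing (FpfMod.Cen (resLine a K hKs)) :=
    { (inferInstance : Ring (FpfMod.Cen (resLine a K hKs))) with
      mul_comm := fun u v => Subtype.ext (AddMonoidHom.ext
        ((h.restrict hKs).commute hr1 _ _ (FpfMod.mem_cen.1 u.2) (FpfMod.mem_cen.1 v.2))) }
  linear_combination e100 + e010 + e001 - e110 - e101 - e011 + e111

/-- C10. -/
theorem FpfMod.eigen_line (h : FpfMod r m a) (hW : Nat.card W = 2 ^ (4 * m)) (g : W ≃+ W)
    (hg : ∀ x, g (a x) = a (g x)) (hg3 : ∀ x, g (g x) + g x + x = 0)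
    {R : AddSubgroup W} (hR : AStb a R) (hRc : Nat.card R = 2 ^ (2 * m)) :
    ∃ L : AddSubgroup W, AStb a L ∧ Nat.card L = 2 ^ (2 * m) ∧ ∀ x ∈ L, g x ∈ L := by
  have hK : AStb a (R.comap g.toAddMonoidHom) := fun x hx => by
    show g (a x) ∈ R
    rw [hg]
    exact hR _ hx
  rcases h.eq_bot_or_eq hRc hR hK with e | e
  swap
  · exact ⟨R, hR, hRc, e⟩
  obtain ⟨Φ, hΦ, hΦa⟩ := h.exists_plane hW hRc hR (g.toAddMonoidHom.comp R.subtype) (fun x => hg x)
    (fun x hx => Subtype.ext (AddSubgroup.mem_bot.1 (e ▸ (⟨x.2, hx⟩ : (x : W) ∈ R ⊓ R.comap g.toAddMonoidHom))))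
  obtain ⟨w, hw⟩ := (h.restrict hR).exists_omega hRc
  let φ : R →+ W := Φ.toAddMonoidHom.comp ((AddMonoidHom.id R).prod ((w : AddMonoid.End R) : R →+ R))
  have hφ : ∀ x, φ x = Φ (x, (w : AddMonoid.End R) x) := fun x => rfl
  have hinj : Function.Injective φ := fun x y exy =>
    congrArg Prod.fst (Φ.injective ((hφ x).symm.trans (exy.trans (hφ y))))
  refine ⟨φ.range, ?_, ?_, ?_⟩
  · rintro _ ⟨x, rfl⟩
    refine ⟨resLine a R hR x, ?_⟩
    rw [hφ, hφ, hΦa, FpfMod.mem_cen.1 w.2]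
  · rw [← hRc]
    exact (Nat.card_congr (AddMonoidHom.ofInjective hinj).toEquiv).symm
  · rintro _ ⟨x, rfl⟩
    refine ⟨(w : AddMonoid.End R) x, ?_⟩
    set y := (w : AddMonoid.End R) x with hy
    have e1 : (w : AddMonoid.End R) y + y + x = 0 :=
      DFunLike.congr_fun (congrArg Subtype.val hw) x
    have hneg : ∀ z : R, -z = z := fun z => Subtype.ext (neg_eq_of_add_eq_zero_left (h.two (z : W)))
    have e2 : (w : AddMonoid.End R) y = y + x := by
      rw [eq_neg_of_add_eq_zero_left ((add_assoc _ _ _).symm.trans e1), hneg]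
    have e3 : g (g (y : W)) = g (y : W) + y := by
      rw [eq_neg_of_add_eq_zero_left ((add_assoc _ _ _).symm.trans (hg3 (y : W)))]
      exact neg_eq_of_add_eq_zero_left (h.two _)
    rw [hφ, hφ, hΦ, hΦ, e2, ← hy]
    simp only [AddMonoidHom.comp_apply, AddSubgroup.coe_subtype, AddEquiv.coe_toAddMonoidHom,
      map_add]
    rw [e3]
    abel

end Cfsg.Agent.Lib.HHS57
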