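import Cfsg.Agent.Lib.HHS57.Min

/-!
# The moved part `D = [T, α]` of an invariant Sylow `2`-subgroup and its normalizer (helper18)

`D` has class two with `Z = D ∩ C(α) = Z(D) = D'` elementary abelian.
-/

set_option autoImplicit false
set_option linter.style.haveILetI false
set_option linter.unusedSectionVars false

namespace Cfsg.Agent.Lib.HHS57

open Cfsg Cfsg.Agent.Lib
open Cfsg.Agent.Lib.FpfAut (exists_invariant_sylow exists_fixed_mul)
open Subgroup
open scoped commutatorElement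

universe u

variable {H : Type u} [Group H] [Finite H] {p r : ℕ} {α : MulAut H}

/-- The moved part of `T`. -/
def dGrp (α : MulAut H) (T : Sylow 2 H) : Subgroup H := cm α (T : Subgroup H)

/-- Its fixed points. -/
def zGrp (α : MulAut H) (T : Sylow 2 H) : Subgroup H := dGrp α T ⊓ fixG α

/-- Its normalizer. -/
def mGrp (α : MulAut H) (T : Sylow 2 H) : Subgroup H := Subgroup.normalizer (dGrp α T : Set H)

theorem le_mGrp_T {T : Sylow 2 H} : (T : Subgroup H) ≤ mGrp α T := by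
  intro t ht
  rw [mGrp, Subgroup.mem_normalizer_iff]
  exact fun y => ⟨fun hy => conj_mem_cm' ht hy, fun hy => by
    have := conj_mem_cm ht hy
    simpa [dGrp, mul_assoc] using this⟩

variable {V : Type u} [CommGroup V] [Finite V] {ψ : H →* MulAut V} {e : MulAut V}
  (h : Min p r α ψ e) (T : Sylow 2 H) (hT : Stb α (T : Subgroup H))

include hT in
theorem stb_dGrp : Stb α (dGrp α T) := stb_cm hT

include hT in
theorem dGrp_le : dGrp α T ≤ (T : Subgroup H) := cm_le hT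

include hT in
theorem isPGroup_dGrp : IsPGroup 2 (dGrp α T) := T.isPGroup'.to_le (dGrp_le T hT)

include hT in
theorem stb_mGrp : Stb α (mGrp α T) := (stb_dGrp T hT).normalizer

include hT in
theorem dGrp_le_mGrp : dGrp α T ≤ mGrp α T := (dGrp_le T hT).trans le_mGrp_T

include h hT

theorem Min.r_ne_two : r ≠ 2 := by
  rintro rfl
  refine h.cm_sylow_two_ne_bot T hT ((Subgroup.eq_bot_iff_forall _).2 fun x hx => ?_)
  by_contra hx1
  obtain ⟨k, hk⟩ := IsPGroup.iff_card.1 T.isPGroup'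
  rcases Nat.eq_zero_or_pos k with rfl | hk0
  · haveI : Fact (Nat.Prime 2) := ⟨Nat.prime_two⟩
    rw [pow_zero, Subgroup.card_eq_one] at hk
    exact hx1 (Subgroup.mem_bot.1 (hk ▸ cm_le hT hx))
  · exact h.hco ((dvd_pow_self 2 hk0.ne').trans (hk ▸ Subgroup.card_subgroup_dvd_card _))

theorem Min.cm_dGrp : cm α (dGrp α T) = dGrp α T := cm_cm h.hr h.hα h.hco hT

theorem Min.dGrp_ne_bot : dGrp α T ≠ ⊥ := h.cm_sylow_two_ne_bot T hT

theorem Min.dRep : FpfRep p r (resA α (dGrp α T) (stb_dGrp T hT)) (ψ.comp (dGrp α T).subtype) e :=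
  h.fpfRep (h.r_ne_two T hT) (isPGroup_dGrp T hT) _

theorem Min.cm_resA_dGrp : cm (resA α (dGrp α T) (stb_dGrp T hT)) (⊤ : Subgroup (dGrp α T)) = ⊤ := by
  rw [eq_top_iff]
  intro x _
  have h1 : dGrp α T ≤ (cm (resA α (dGrp α T) (stb_dGrp T hT)) ⊤).map (dGrp α T).subtype := by
    conv_lhs => rw [← h.cm_dGrp T hT]
    exact cm_le_iff.2 fun y hy => ⟨_, mem_cm (mem_top (⟨y, hy⟩ : dGrp α T)), rfl⟩
  obtain ⟨w, hw, hwx⟩ := h1 x.2
  rwa [← show w = x from Subtype.ext hwx]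

theorem Min.mem_zGrp_iff {x : H} : x ∈ zGrp α T ↔
    x ∈ dGrp α T ∧ ∀ y ∈ dGrp α T, x * y = y * x := by
  obtain ⟨-, -, -, hcen⟩ := (h.dRep T hT).classTwo (h.cm_resA_dGrp T hT)
  constructor
  · rintro ⟨hx, hf⟩
    refine ⟨hx, fun y hy => ?_⟩
    have h1 := (hcen ⟨x, hx⟩).2 (Subtype.ext (mem_fixG.1 hf))
    exact (congrArg Subtype.val (mem_center_iff.1 h1 ⟨y, hy⟩)).symm
  · rintro ⟨hx, hc⟩
    exact ⟨hx, congrArg Subtype.val
      ((hcen ⟨x, hx⟩).1 (mem_center_iff.2 fun y => Subtype.ext (hc y y.2).symm))⟩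

theorem Min.zGrp_le_centralizer {z : H} (hz : z ∈ zGrp α T) {y : H} (hy : y ∈ dGrp α T) :
    z * y = y * z :=
  ((h.mem_zGrp_iff T hT).1 hz).2 y hy

theorem Min.commutator_mem_zGrp {a b : H} (ha : a ∈ dGrp α T) (hb : b ∈ dGrp α T) :
    ⁅a, b⁆ ∈ zGrp α T := by
  obtain ⟨hc, -, -, -⟩ := (h.dRep T hT).classTwo (h.cm_resA_dGrp T hT)
  refine (h.mem_zGrp_iff T hT).2 ⟨?_, fun y hy => ?_⟩
  · exact (⁅(⟨a, ha⟩ : dGrp α T), ⟨b, hb⟩⁆ : dGrp α T).2
  · exact (congrArg Subtype.val (mem_center_iff.1 (hc ⟨a, ha⟩ ⟨b, hb⟩) ⟨y, hy⟩)).symm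

theorem Min.sq_mem_zGrp {a : H} (ha : a ∈ dGrp α T) : a * a ∈ zGrp α T := by
  obtain ⟨-, -, hc, -⟩ := (h.dRep T hT).classTwo (h.cm_resA_dGrp T hT)
  refine (h.mem_zGrp_iff T hT).2 ⟨mul_mem ha ha, fun y hy => ?_⟩
  have := (congrArg Subtype.val (mem_center_iff.1 (hc ⟨a, ha⟩) ⟨y, hy⟩)).symm
  simpa [pow_two] using this

/-- `Z` is generated by commutators. -/
theorem Min.zGrp_le_closure :
    zGrp α T ≤ closure {c | ∃ a ∈ dGrp α T, ∃ b ∈ dGrp α T, c = ⁅a, b⁆} := by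
  intro z hz
  set D := dGrp α T with hD
  set β := resA α D (stb_dGrp T hT) with hβ
  let π : D →* Abelianization D := Abelianization.of
  have hgen := h.cm_resA_dGrp T hT
  let N : D →* Abelianization D :=
    { toFun := fun x => ∏ j ∈ Finset.range r, π ((β ^ j) x)
      map_one' := by simp
      map_mul' := fun x y => by simp [Finset.prod_mul_distrib] }
  have hshift : ∀ x, N (β x) = N x := by
    intro x
    show ∏ j ∈ Finset.range r, π ((β ^ j) (β x)) = ∏ j ∈ Finset.range r, π ((β ^ j) x)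
    have e1 := Finset.prod_range_succ' (fun j => π ((β ^ j) x)) r
    rw [Finset.prod_range_succ, resA_pow_r h.hα, pow_zero] at e1
    simp only [pow_succ, MulAut.mul_apply] at e1
    exact (mul_right_cancel e1).symm
  have hN1 : ∀ x, N x = 1 := by
    intro x
    have hx : x ∈ cm β (⊤ : Subgroup D) := by rw [hgen]; exact mem_top x
    induction hx using closure_induction with
    | mem y hy => obtain ⟨w, -, rfl⟩ := hy; rw [map_mul, map_inv, hshift, inv_mul_cancel]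
    | one => exact map_one N
    | mul a b _ _ ha hb => rw [map_mul, ha, hb, one_mul]
    | inv a _ ha => rw [map_inv, ha, inv_one]
  have hzfix : ∀ j : ℕ, (β ^ j) ⟨z, hz.1⟩ = ⟨z, hz.1⟩ := by
    intro j
    induction j with
    | zero => rfl
    | succ j ih =>
      rw [pow_succ, MulAut.mul_apply,
        show β ⟨z, hz.1⟩ = ⟨z, hz.1⟩ from Subtype.ext (mem_fixG.1 hz.2), ih]
  have hzr : π ⟨z, hz.1⟩ ^ r = 1 := by
    have h1 := hN1 ⟨z, hz.1⟩
    simpa [N, hzfix] using h1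
  have hz1 : π ⟨z, hz.1⟩ = 1 := by
    obtain ⟨k, hk⟩ := isPGroup_dGrp T hT ⟨z, hz.1⟩
    have h2 : π ⟨z, hz.1⟩ ^ Nat.gcd r (2 ^ k) = 1 :=
      pow_gcd_eq_one.mpr ⟨hzr, by rw [← map_pow, hk, map_one]⟩
    rwa [Nat.Coprime.pow_right k ((Nat.coprime_primes h.hr Nat.prime_two).2 (h.r_ne_two T hT)),
      pow_one] at h2
  have hmem : (⟨z, hz.1⟩ : D) ∈ commutator D := (QuotientGroup.eq_one_iff _).1 hz1
  rw [commutator_eq_closure] at hmem
  have h3 : (z : H) ∈ (closure (commutatorSet D)).map D.subtype := ⟨_, hmem, rfl⟩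
  rw [MonoidHom.map_closure] at h3
  refine closure_mono ?_ h3
  rintro _ ⟨_, ⟨a, b, rfl⟩, rfl⟩
  exact ⟨a, a.2, b, b.2, rfl⟩

theorem Min.zGrp_sq {z : H} (hz : z ∈ zGrp α T) : z * z = 1 := by
  obtain ⟨-, hsq, -, -⟩ := (h.dRep T hT).classTwo (h.cm_resA_dGrp T hT)
  have hgens : ∀ c ∈ {c | ∃ a ∈ dGrp α T, ∃ b ∈ dGrp α T, c = ⁅a, b⁆}, c * c = 1 := by
    rintro _ ⟨a, ha, b, hb, rfl⟩
    have := congrArg Subtype.val (hsq ⟨a, ha⟩ ⟨b, hb⟩)
    rw [pow_two] at this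
    simpa [commutatorElement_def] using this
  have hle : closure {c | ∃ a ∈ dGrp α T, ∃ b ∈ dGrp α T, c = ⁅a, b⁆} ≤ zGrp α T :=
    (closure_le _).2 (by rintro _ ⟨a, ha, b, hb, rfl⟩; exact h.commutator_mem_zGrp T hT ha hb)
  have hcl := h.zGrp_le_closure T hT hz
  clear hz
  induction hcl using closure_induction with
  | mem c hc => exact hgens c hc
  | one => exact mul_one 1
  | mul a b ha hb iha ihb =>
    have hab := h.zGrp_le_centralizer T hT (hle hb) (hle ha).1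
    calc a * b * (a * b) = a * (b * a) * b := by group
      _ = (a * a) * (b * b) := by rw [hab]; group
      _ = 1 := by rw [iha, ihb, mul_one]
  | inv a _ iha => rw [← mul_inv_rev, iha, inv_one]

theorem Min.exists_not_commute : ∃ a ∈ dGrp α T, ∃ b ∈ dGrp α T, ⁅a, b⁆ ≠ 1 := by
  by_contra hh
  push Not at hh
  have hfix : ∀ x ∈ dGrp α T, α x = x := fun x hx =>
    congrArg Subtype.val ((h.dRep T hT).fixes_abelian ⊤
      (fun a _ b _ => Subtype.ext (commutatorElement_eq_one_iff_mul_comm.1 (hh a a.2 b b.2)))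
      stb_top ⟨x, hx⟩ (mem_top _))
  refine h.dGrp_ne_bot T hT (le_bot_iff.1 ?_)
  rw [← h.cm_dGrp T hT, cm_le_iff]
  exact fun x hx => Subgroup.mem_bot.2 (by rw [hfix x hx, inv_mul_cancel])

/-- `T = C_T(α) D`. -/
theorem Min.T_eq {x : H} (hx : x ∈ (T : Subgroup H)) :
    ∃ c ∈ (T : Subgroup H), α c = c ∧ ∃ d ∈ dGrp α T, x = c * d :=
  exists_fixed_mul_cm h.hr h.hα h.hco hT hx

/-- The moved part of an invariant `2`-subgroup lies in a conjugate of `D` by a fixed element. -/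
theorem Min.exists_cm_le {A : Subgroup H} (hA : IsPGroup 2 A) (hAα : Stb α A) :
    ∃ c : H, α c = c ∧ ∀ x ∈ cm α A, c⁻¹ * x * c ∈ dGrp α T := by
  obtain ⟨P, hAP, hP⟩ := exists_invariant_sylow_ge h.hr h.hα h.hco hA hAα
  obtain ⟨c, hc, hiff⟩ := exists_fixed_conj h.hr h.hα h.hco T P hT hP
  refine ⟨c, hc, fun x hx => ?_⟩
  refine (show cm α A ≤ (dGrp α T).comap (MulAut.conj c⁻¹).toMonoidHom from cm_le_iff.2 fun a ha => ?_) hx
    |> fun h1 => by simpa using h1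
  show c⁻¹ * (a⁻¹ * α a) * c⁻¹⁻¹ ∈ dGrp α T
  rw [inv_inv, show c⁻¹ * (a⁻¹ * α a) * c = (c⁻¹ * a * c)⁻¹ * α (c⁻¹ * a * c) by
    rw [map_mul, map_mul, map_inv, hc]; group]
  exact mem_cm ((hiff a).1 (hAP ha))

/-- If an invariant `2`-subgroup contains `D`, its moved part is `D`. -/
theorem Min.cm_eq_dGrp {A : Subgroup H} (hA : IsPGroup 2 A) (hAα : Stb α A) (hDA : dGrp α T ≤ A) :
    cm α A = dGrp α T := by
  obtain ⟨c, -, hle⟩ := h.exists_cm_le T hT hA hAα
  have hge : dGrp α T ≤ cm α A := by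
    rw [← h.cm_dGrp T hT]
    exact cm_mono hDA
  refine (eq_of_le_of_card_ge hge ?_).symm
  exact Nat.card_le_card_of_injective (fun x : cm α A => (⟨c⁻¹ * x * c, hle x x.2⟩ : dGrp α T))
    fun x y e => Subtype.ext (mul_left_cancel (mul_right_cancel (congrArg Subtype.val e)))

end Cfsg.Agent.Lib.HHS57
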