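import Cfsg.Agent.Lib.HHS57.Cfg
import Cfsg.Agent.Lib.HHS57.TwoRep
import Cfsg.Agent.Lib.Tech42.FpfAut.Commutator

/-!
# A minimal configuration: first facts (helper18, helper57)

`p`-free invariant subgroups have a `2`-group as commutator with `α`, for a proper invariant
subgroup this holds modulo a `p`-group, `H = [H, α]`, and the invariant Sylow subgroups for `2` and
`p` are moved.
-/

set_option autoImplicit false
set_option linter.style.haveILetI false
set_option linter.unusedSectionVars false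

namespace Cfsg.Agent.Lib.HHS57

open Cfsg Cfsg.Agent.Lib
open Cfsg.Agent.Lib.FpfAut (exists_invariant_sylow)
open Subgroup
open scoped commutatorElement

universe u

section Fixed

variable {H : Type u} [Group H] [Finite H] {α : MulAut H}

/-- The fixed points of a `2`-subgroup of the fixed subgroup are bounded by `C_T(α)`. -/
theorem card_inf_fixG_of_sylow {r : ℕ} (hr : r.Prime) (hα : α ^ r = 1) (hco : ¬ r ∣ Nat.card H)
    {q : ℕ} [Fact q.Prime] (P : Sylow q H) (hP : Stb α (P : Subgroup H)) {R : Subgroup H}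
    (hR : IsPGroup q R) (hRC : R ≤ fixG α) :
    Nat.card R ≤ Nat.card ((P : Subgroup H) ⊓ fixG α : Subgroup H) := by
  obtain ⟨P', hRP, hP'⟩ := exists_invariant_sylow_ge hr hα hco hR (fun x hx => by
    rwa [mem_fixG.1 (hRC hx)])
  obtain ⟨c, hc, hiff⟩ := exists_fixed_conj hr hα hco P P' hP hP'
  refine Nat.card_le_card_of_injective (fun x : R => (⟨c⁻¹ * x * c, (hiff x).1 (hRP x.2), ?_⟩ :
    ((P : Subgroup H) ⊓ fixG α : Subgroup H))) fun x y e => ?_
  · exact (fixG α).mul_mem ((fixG α).mul_mem ((fixG α).inv_mem hc) (hRC x.2)) hc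
  · exact Subtype.ext (mul_left_cancel (mul_right_cancel (congrArg Subtype.val e)))

/-- The `q`-part of the order of the fixed subgroup is read off an invariant Sylow subgroup. -/
theorem card_fixG_factorization {r : ℕ} (hr : r.Prime) (hα : α ^ r = 1) (hco : ¬ r ∣ Nat.card H)
    {q : ℕ} [Fact q.Prime] (P : Sylow q H) (hP : Stb α (P : Subgroup H)) :
    Nat.card ((P : Subgroup H) ⊓ fixG α : Subgroup H) = q ^ (Nat.card (fixG α)).factorization q := by
  have hq : q.Prime := Fact.out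
  obtain ⟨n, hn⟩ := IsPGroup.iff_card.1 (P.isPGroup'.to_le (inf_le_left (b := fixG α)))
  rw [hn]
  obtain ⟨R⟩ : Nonempty (Sylow q (fixG α)) := inferInstance
  have h1 := card_inf_fixG_of_sylow hr hα hco P hP (R.isPGroup'.map (fixG α).subtype) (map_subtype_le _)
  rw [Subgroup.card_map_of_injective (fixG α).subtype_injective, R.card_eq_multiplicity, hn] at h1
  have h2 : q ^ n ∣ Nat.card (fixG α) := hn ▸ Subgroup.card_dvd_of_le inf_le_right
  exact congrArg _ (le_antisymm ((hq.pow_dvd_iff_le_factorization Nat.card_pos.ne').1 h2)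
    ((Nat.pow_le_pow_iff_right hq.two_le).1 h1))

end Fixed

/-- If `|Y : C_Y(β)| ≤ |K : C_K(β)|` for a subgroup `K` of `Y`, then `Y = C(β) K`. -/
theorem exists_fixed_mul_of_card {X : Type u} [Group X] [Finite X] {β : MulAut X} {Y K : Subgroup X}
    (hKY : K ≤ Y)
    (hcard : Nat.card Y * Nat.card (K ⊓ fixG β : Subgroup X) ≤
      Nat.card (Y ⊓ fixG β : Subgroup X) * Nat.card K)
    {x : X} (hx : x ∈ Y) : ∃ c, β c = c ∧ ∃ k ∈ K, x = c * k := by
  set C := fixG β with hC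
  let g : K ⧸ C.subgroupOf K → Y ⧸ C.subgroupOf Y :=
    Quotient.lift (fun k : K => (QuotientGroup.mk (⟨k, hKY k.2⟩ : Y) : Y ⧸ C.subgroupOf Y))
      (fun a b hab => QuotientGroup.eq.2 (mem_subgroupOf.2 (mem_subgroupOf.1 (QuotientGroup.leftRel_apply.1 hab) :)))
  have hg : Function.Injective g := fun a b => QuotientGroup.induction_on a fun a =>
    QuotientGroup.induction_on b fun b e1 => QuotientGroup.eq.2
      (mem_subgroupOf.2 (mem_subgroupOf.1 (QuotientGroup.eq.1 e1) :))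
  have hge : Nat.card (Y ⧸ C.subgroupOf Y) ≤ Nat.card (K ⧸ C.subgroupOf K) := by
    have e1 := Subgroup.card_eq_card_quotient_mul_card_subgroup (C.subgroupOf Y)
    have e2 := Subgroup.card_eq_card_quotient_mul_card_subgroup (C.subgroupOf K)
    have e3 : ∀ L : Subgroup X, Nat.card (C.subgroupOf L) = Nat.card (L ⊓ C : Subgroup X) := by
      intro L
      rw [← Subgroup.inf_subgroupOf_right, inf_comm]
      exact Nat.card_congr (Subgroup.subgroupOfEquivOfLe inf_le_left).toEquiv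
    rw [e3] at e1 e2
    rw [e1, e2] at hcard
    have hpos : 0 < Nat.card (Y ⊓ C : Subgroup X) * Nat.card (K ⊓ C : Subgroup X) :=
      Nat.mul_pos Nat.card_pos Nat.card_pos
    nlinarith
  obtain ⟨w, hw⟩ := (hg.bijective_of_nat_card_le hge).2 (QuotientGroup.mk (⟨x, hx⟩ : Y)⁻¹)
  induction w using QuotientGroup.induction_on with
  | H k =>
    refine ⟨x * k, ?_, (k : X)⁻¹, K.inv_mem k.2, by group⟩
    have h1 : (⟨k, hKY k.2⟩ : Y)⁻¹ * (⟨x, hx⟩ : Y)⁻¹ ∈ C.subgroupOf Y :=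
      QuotientGroup.eq.1 (show (QuotientGroup.mk (⟨k, hKY k.2⟩ : Y) : Y ⧸ C.subgroupOf Y) = _ from hw)
    have h2 := C.inv_mem (mem_subgroupOf.1 h1)
    exact mem_fixG.1 (by simpa [mul_inv_rev] using h2)

/-- A minimal counterexample. -/
structure Min {H : Type u} [Group H] [Finite H] {V : Type u} [CommGroup V] (p r : ℕ) (α : MulAut H)
    (ψ : H →* MulAut V) (e : MulAut V) : Prop extends Cfg p r α ψ e where
  below : Below.{u} (Nat.card H)
  moved : ¬ IsPGroup 2 (cm α (⊤ : Subgroup H))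

variable {H : Type u} [Group H] [Finite H] {V : Type u} [CommGroup V] [Finite V] {p r : ℕ}
  {α : MulAut H} {ψ : H →* MulAut V} {e : MulAut V} (h : Min p r α ψ e)

include h

theorem Min.factP : Fact p.Prime := ⟨h.hp⟩

theorem Min.exists_ne_one_V : ∃ v : V, v ≠ 1 := by
  by_contra hh
  push Not at hh
  haveI : Subsingleton H := ⟨fun a b => h.inj (MulEquiv.ext fun v => by rw [hh v, map_one, map_one])⟩
  exact h.moved fun x => ⟨0, Subsingleton.elim _ _⟩

theorem Min.r_ne_p : r ≠ p := by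
  intro hrp
  subst hrp
  obtain ⟨v, hv⟩ := h.exists_ne_one_V
  haveI := Fact.mk h.hp
  exact not_dvd_card_of_fpf h.hr h.he h.hfpf
    ((orderOf_eq_prime (h.hexp v) hv) ▸ orderOf_dvd_natCard v)

/-- Nontrivial normal `p`-subgroups do not exist. -/
theorem Min.eq_bot_of_normal_pgroup {N : Subgroup H} [N.Normal] (hN : IsPGroup p N) : N = ⊥ :=
  le_bot_iff.1 (h.core ▸ Cores.le_pCore hN)

/-- `[K, α]` is a `2`-group for `p`-free invariant `K`. -/
theorem Min.cm_isPGroup {K : Subgroup H} (hK : Stb α K) (hKp : ¬ p ∣ Nat.card K) :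
    IsPGroup 2 (cm α K) := by
  have hcard : Nat.card (K.map ψ) = Nat.card K :=
    Subgroup.card_map_of_injective h.inj
  have h1 := FpfAut.commE_isPGroup h.hp h.hr h.r_ne_p.symm h.hexp h.he h.hfpf h.exists_ne_one_V
    (K.map ψ) (by rintro _ ⟨k, hk, rfl⟩; exact ⟨α k, hK k hk, h.compat k⟩)
    (hcard ▸ hKp) (hcard ▸ not_dvd_sub h.hco K)
  have hle : (cm α K).map ψ ≤ FpfAut.commE (K.map ψ) e := by
    rw [Subgroup.map_le_iff_le_comap, cm_le_iff]
    intro x hx
    refine Subgroup.subset_closure ⟨ψ x, ⟨x, hx, rfl⟩, ?_⟩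
    rw [map_mul, map_inv, h.compat]
  exact (h1.to_le hle).of_equiv ((cm α K).equivMapOfInjective ψ h.inj).symm

/-- The restriction of the module to an invariant `2`-subgroup. -/
theorem Min.fpfRep (hr2 : r ≠ 2) {A : Subgroup H} (hA : IsPGroup 2 A) (hAα : Stb α A) :
    FpfRep p r (resA α A hAα) (ψ.comp A.subtype) e :=
  { hp := h.hp, hp2 := h.hp2, hr := h.hr, hr2 := hr2, hrp := h.r_ne_p, hQ := hA, hexp := h.hexp
    hα := resA_pow_r h.hα hAα, he := h.he, hfpf := h.hfpf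
    inj := h.inj.comp A.subtype_injective
    compat := fun x => h.compat x }

/-- `p` divides the order. -/
theorem Min.dvd : p ∣ Nat.card H := by
  by_contra hd
  exact h.moved (h.cm_isPGroup stb_top (by rwa [Subgroup.card_top]))

/-- For a proper invariant `Y`, `[Y, α]` is a `2`-group modulo a normal `p`-subgroup. -/
theorem Min.cm_struct {Y : Subgroup H} (hY : Stb α Y) (hne : Y ≠ ⊤) :
    ∃ W : Subgroup H, W ≤ cm α Y ∧ IsPGroup p W ∧ Stb α W ∧ (∀ y ∈ Y, ∀ w ∈ W, y * w * y⁻¹ ∈ W) ∧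
      (∀ R : Subgroup H, R ≤ cm α Y → IsPGroup p R → R ≤ W) ∧
      ∀ x ∈ cm α Y, ∃ k, x ^ 2 ^ k ∈ W := by
  have hlt : Nat.card Y < Nat.card H :=
    lt_of_le_of_ne Y.card_le_card_group fun hc => hne (Subgroup.eq_top_of_card_eq Y hc)
  obtain ⟨W₀, hW₀n, hW₀β, -, hW₀p, hW₀2⟩ := exists_twoMod h.below h.hp h.hp2 h.hr hlt
    (resA_pow_r h.hα hY) (not_dvd_sub h.hco Y) _ V (ψ.comp Y.subtype) e rfl h.hexp h.he h.hfpf
    (fun y => h.compat y)
  haveI := hW₀n
  set W := W₀.map Y.subtype ⊓ cm α Y with hW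
  have hker : (ψ.comp Y.subtype).ker = ⊥ :=
    (MonoidHom.ker_eq_bot_iff _).2 (h.inj.comp Y.subtype_injective)
  have hcm : cm α Y ≤ (cm (resA α Y hY) ⊤).map Y.subtype := cm_le_iff.2 fun y hy =>
    ⟨_, mem_cm (mem_top (⟨y, hy⟩ : Y)), rfl⟩
  have hpow : ∀ x ∈ cm α Y, ∃ k, x ^ 2 ^ k ∈ W := by
    intro x hx
    obtain ⟨y, hy, rfl⟩ := hcm hx
    obtain ⟨k, hk⟩ := hW₀2 y hy
    exact ⟨k, ⟨y ^ 2 ^ k, hk, map_pow _ _ _⟩, pow_mem hx _⟩
  refine ⟨W, inf_le_right, ?_, ?_, ?_, ?_, hpow⟩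
  · rintro ⟨_, ⟨w, hw, rfl⟩, -⟩
    obtain ⟨k, hk⟩ := hW₀p w hw
    rw [hker, Subgroup.mem_bot] at hk
    exact ⟨k, Subtype.ext (by simpa using congrArg Subtype.val hk)⟩
  · exact (stb_map_subtype (fun x => resA_apply hY x) hW₀β).inf (stb_cm hY)
  · rintro y hy _ ⟨⟨w, hw, rfl⟩, hwc⟩
    exact ⟨⟨⟨y, hy⟩ * w * ⟨y, hy⟩⁻¹, hW₀n.conj_mem w hw _, rfl⟩, conj_mem_cm' hy hwc⟩
  · intro R hR hRp x hx
    obtain ⟨k, hk⟩ := hpow x (hR hx)
    obtain ⟨j, hj⟩ := hRp ⟨x, hx⟩
    have hj' : x ^ p ^ j = 1 := congrArg Subtype.val hj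
    have hcop : (orderOf x).Coprime (2 ^ k) :=
      (((Nat.coprime_primes h.hp Nat.prime_two).2 h.hp2).pow j k).coprime_dvd_left
        (orderOf_dvd_of_pow_eq_one hj')
    obtain ⟨m, hm⟩ := exists_pow_eq_self_of_coprime hcop.symm
    rw [← hm]
    exact W.pow_mem hk m

/-- `[N, α]` is a `2`-group for a proper normal invariant `N`. -/
theorem Min.cm_normal_isPGroup {N : Subgroup H} [N.Normal] (hNα : Stb α N) (hne : N ≠ ⊤) :
    IsPGroup 2 (cm α N) := by
  obtain ⟨W, hWc, hWp, -, hWn, -, hpow⟩ := h.cm_struct hNα hne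
  have hWN : W ≤ N := hWc.trans (cm_le hNα)
  haveI : (W.subgroupOf N).Normal := ⟨fun w hw g => hWn g g.2 w hw⟩
  have h1 : W.subgroupOf N ≤ pCore p N :=
    Cores.le_pCore (hWp.of_equiv (Subgroup.subgroupOfEquivOfLe hWN).symm)
  haveI : ((pCore p N).map N.subtype).Normal := by
    haveI : (pCore p N).Characteristic :=
      Subgroup.characteristic_iff_map_eq.2 fun φ => Cores.map_pCore_equiv φ
    infer_instance
  have h2 := h.eq_bot_of_normal_pgroup ((Cores.pCore_isPGroup (G := N) p).map N.subtype)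
  have hW1 : W = ⊥ := le_bot_iff.1 (h2 ▸ fun w hw => ⟨⟨w, hWN hw⟩, h1 hw, rfl⟩)
  rintro ⟨x, hx⟩
  obtain ⟨k, hk⟩ := hpow x hx
  rw [hW1, Subgroup.mem_bot] at hk
  exact ⟨k, Subtype.ext hk⟩

/-- `H = [H, α]`. -/
theorem Min.cm_top : cm α (⊤ : Subgroup H) = ⊤ := by
  by_contra hne
  haveI : (cm α (⊤ : Subgroup H)).Normal := ⟨fun x hx g => conj_mem_cm' (mem_top g) hx⟩
  exact h.moved (cm_cm h.hr h.hα h.hco (stb_top (β := α)) ▸
    h.cm_normal_isPGroup (stb_cm stb_top) hne)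

/-- A normal invariant subgroup fixed by `α` is central. -/
theorem Min.le_center_of_fixed {N : Subgroup H} [hN : N.Normal] (hf : ∀ n ∈ N, α n = n) :
    N ≤ Subgroup.center H := by
  intro n hn
  rw [mem_center_iff]
  intro g
  have hle : cm α (⊤ : Subgroup H) ≤ Subgroup.centralizer {n} := cm_le_iff.2 fun x _ => by
    rw [mem_centralizer_singleton_iff]
    have h1 := hf _ (hN.conj_mem n hn x)
    rw [map_mul, map_mul, map_inv, hf n hn] at h1
    calc x⁻¹ * α x * n = x⁻¹ * (α x * n * (α x)⁻¹) * α x := by group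
      _ = n * (x⁻¹ * α x) := by rw [h1]; group
  exact mem_centralizer_singleton_iff.1 (hle (h.cm_top.symm ▸ mem_top g))

/-- An invariant Sylow subgroup for a prime other than `2` and `p` is fixed. -/
theorem Min.fixes_sylow {q : ℕ} [hq : Fact q.Prime] (hq2 : q ≠ 2) (hqp : q ≠ p) (P : Sylow q H)
    (hP : Stb α (P : Subgroup H)) {x : H} (hx : x ∈ (P : Subgroup H)) : α x = x := by
  have hPp : ¬ p ∣ Nat.card (P : Subgroup H) := by
    obtain ⟨n, hn⟩ := IsPGroup.iff_card.1 P.isPGroup'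
    rw [hn]
    exact fun hd => hqp ((Nat.prime_dvd_prime_iff_eq h.hp hq.out).1 (h.hp.dvd_of_dvd_pow hd)).symm
  obtain ⟨k, hk⟩ := (h.cm_isPGroup hP hPp) ⟨_, mem_cm hx⟩
  have h1 : x⁻¹ * α x = 1 := eq_one_of_isPGroup_of_not_dvd hq.out P.isPGroup' (cm_le hP (mem_cm hx))
    fun hd => hq2 ((Nat.prime_dvd_prime_iff_eq hq.out Nat.prime_two).1 (hq.out.dvd_of_dvd_pow
      (hd.trans (orderOf_dvd_of_pow_eq_one (congrArg Subtype.val hk : (x⁻¹ * α x) ^ 2 ^ k = 1)))))
  exact (inv_mul_eq_one.1 h1).symm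

/-- If only one invariant Sylow subgroup is moved, it contains `[H, α]`. -/
theorem Min.cm_top_le_of_fixed {q : ℕ} [hq : Fact q.Prime] (P : Sylow q H)
    (hP : Stb α (P : Subgroup H))
    (hfix : ∀ s : ℕ, s.Prime → s ≠ q → ∃ Q : Sylow s H, (Q : Subgroup H) ≤ fixG α) :
    cm α (⊤ : Subgroup H) ≤ (P : Subgroup H) := by
  have hcard : Nat.card (⊤ : Subgroup H) * Nat.card ((P : Subgroup H) ⊓ fixG α : Subgroup H) ≤
      Nat.card ((⊤ : Subgroup H) ⊓ fixG α : Subgroup H) * Nat.card (P : Subgroup H) := by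
    rw [top_inf_eq, Subgroup.card_top, card_fixG_factorization h.hr h.hα h.hco P hP,
      P.card_eq_multiplicity]
    refine Nat.le_of_dvd (Nat.mul_pos Nat.card_pos (pow_pos hq.out.pos _)) ?_
    refine (Nat.factorization_le_iff_dvd (mul_ne_zero Nat.card_pos.ne' (pow_pos hq.out.pos _).ne')
      (mul_ne_zero Nat.card_pos.ne' (pow_pos hq.out.pos _).ne')).1 fun s => ?_
    rw [Nat.factorization_mul Nat.card_pos.ne' (pow_pos hq.out.pos _).ne',
      Nat.factorization_mul Nat.card_pos.ne' (pow_pos hq.out.pos _).ne', Finsupp.add_apply,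
      Finsupp.add_apply, Nat.Prime.factorization_pow hq.out, Nat.Prime.factorization_pow hq.out]
    by_cases hsq : s = q
    · subst hsq
      rw [Finsupp.single_eq_same, Finsupp.single_eq_same]
      omega
    rw [Finsupp.single_eq_of_ne hsq, Finsupp.single_eq_of_ne hsq, add_zero, add_zero]
    by_cases hs : s.Prime
    swap
    · simp [Nat.factorization_eq_zero_of_not_prime _ hs]
    haveI := Fact.mk hs
    obtain ⟨Q, hQ⟩ := hfix s hs hsq
    have h1 : Nat.card (Q : Subgroup H) ∣ Nat.card (fixG α) := Subgroup.card_dvd_of_le hQ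
    rw [Q.card_eq_multiplicity] at h1
    exact (hs.pow_dvd_iff_le_factorization Nat.card_pos.ne').1 h1
  refine cm_le_iff.2 fun x _ => ?_
  obtain ⟨c, hc, k, hk, rfl⟩ := exists_fixed_mul_of_card le_top hcard (mem_top x)
  rw [map_mul, hc, show (c * k)⁻¹ * (c * α k) = k⁻¹ * α k by group]
  exact (P : Subgroup H).mul_mem ((P : Subgroup H).inv_mem hk) (hP k hk)

/-- An invariant Sylow `2`-subgroup is moved. -/
theorem Min.cm_sylow_two_ne_bot (T : Sylow 2 H) (hT : Stb α (T : Subgroup H)) :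
    cm α (T : Subgroup H) ≠ ⊥ := by
  intro hbot
  haveI := h.factP
  haveI : Fact (Nat.Prime 2) := ⟨Nat.prime_two⟩
  obtain ⟨S, hS⟩ := exists_invariant_sylow h.hr h.hα h.hco p
  have hle := h.cm_top_le_of_fixed S hS fun s hs hsp => by
    haveI := Fact.mk hs
    by_cases hs2 : s = 2
    · subst hs2
      exact ⟨T, fun x hx => (inv_mul_eq_one.1 (Subgroup.mem_bot.1 (hbot ▸ mem_cm hx))).symm⟩
    · obtain ⟨Q, hQ⟩ := exists_invariant_sylow h.hr h.hα h.hco s
      exact ⟨Q, fun x hx => h.fixes_sylow hs2 hsp Q hQ hx⟩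
  rw [h.cm_top, top_le_iff] at hle
  have htop : (⊤ : Subgroup H) = ⊥ := by
    refine h.eq_bot_of_normal_pgroup ?_
    rw [← hle]
    exact S.isPGroup'
  have := h.dvd
  rw [← Subgroup.card_top, htop, Subgroup.card_bot] at this
  exact h.hp.one_lt.ne (Nat.dvd_one.1 this).symm

/-- An invariant Sylow `p`-subgroup is moved. -/
theorem Min.exists_pelem : ∃ S : Subgroup H, IsPGroup p S ∧ Stb α S ∧ cm α S ≠ ⊥ ∧
    ∀ R : Subgroup H, IsPGroup p R → S ≤ R → R = S := by
  haveI := h.factP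
  haveI : Fact (Nat.Prime 2) := ⟨Nat.prime_two⟩
  obtain ⟨P, hP⟩ := exists_invariant_sylow h.hr h.hα h.hco p
  refine ⟨P, P.isPGroup', hP, fun hbot => ?_, fun R hR hle => P.is_maximal' hR hle⟩
  obtain ⟨T, hT⟩ := exists_invariant_sylow h.hr h.hα h.hco 2
  refine h.moved (T.isPGroup'.to_le (h.cm_top_le_of_fixed T hT fun s hs hs2 => ?_))
  haveI := Fact.mk hs
  by_cases hsp : s = p
  · subst hsp
    exact ⟨P, fun x hx => (inv_mul_eq_one.1 (Subgroup.mem_bot.1 (hbot ▸ mem_cm hx))).symm⟩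
  · obtain ⟨Q, hQ⟩ := exists_invariant_sylow h.hr h.hα h.hco s
    exact ⟨Q, fun x hx => h.fixes_sylow hs2 hsp Q hQ hx⟩

end Cfsg.Agent.Lib.HHS57
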