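import Cfsg.Agent.Lib.HHS57.Pair
import Cfsg.Agent.Lib.HHS57.LineAlg

/-!
# The quotients `D / R` as `F_2[α]`-modules with the forms of the patterns (helper42)

`chiK K` is the indicator of the complement of `K`; a pattern `K` is handled through its values on `Z`.
-/

set_option autoImplicit false
set_option linter.style.haveILetI false
set_option linter.unusedSectionVars false

namespace Cfsg.Agent.Lib.HHS57

open Cfsg Cfsg.Agent.Lib
open Cfsg.Agent.Lib.FpfAut (exists_fixed_mul)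
open Subgroup
open scoped commutatorElement

universe u v

/-- Descend an additive map along a surjection. -/
theorem exists_addHom {D : Type*} [Group D] {W W' : Type*} [AddCommGroup W] [AddCommGroup W']
    (π : D → W) (hs : Function.Surjective π) (hadd : ∀ x y, π (x * y) = π x + π y) (f : D → W')
    (hf : ∀ x y, f (x * y) = f x + f y) (hker : ∀ x, π x = 0 → f x = 0) :
    ∃ g : W →+ W', ∀ x, g (π x) = f x := by
  have hcongr : ∀ x y, π x = π y → f x = f y := fun x y e => by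
    have h1 := hf (x * y⁻¹) y
    rw [inv_mul_cancel_right, hker (x * y⁻¹) ?_, zero_add] at h1
    · exact h1
    · have h2 := hadd (x * y⁻¹) y
      rw [inv_mul_cancel_right, e] at h2
      exact right_eq_add.1 h2
  refine ⟨AddMonoidHom.mk' (fun w => f (Function.surjInv hs w)) fun w w' => ?_, fun x =>
    hcongr _ _ (Function.surjInv_eq hs _)⟩
  rw [← hf]
  exact hcongr _ _ (by rw [hadd, Function.surjInv_eq hs, Function.surjInv_eq hs, Function.surjInv_eq hs])

/-- The value of `K` at `x`. -/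
noncomputable def chiK {H : Type u} [Group H] (K : Subgroup H) (x : H) : ZMod 2 :=
  open Classical in if x ∈ K then 0 else 1

theorem chiK_eq_zero {H : Type u} [Group H] {K : Subgroup H} {x : H} : chiK K x = 0 ↔ x ∈ K := by
  rw [chiK]
  by_cases h : x ∈ K <;> simp [h]

theorem chiK_eq_one {H : Type u} [Group H] {K : Subgroup H} {x : H} : chiK K x = 1 ↔ x ∉ K := by
  rw [chiK]
  by_cases h : x ∈ K <;> simp [h]

/-- `K ↦ chiK K` is additive on `Z` for `K` of index two in `Z`. -/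
theorem chiK_mul {H : Type u} [Group H] {K Z : Subgroup H} (hK : K.relIndex Z = 2) {a b : H}
    (ha : a ∈ Z) (hb : b ∈ Z) : chiK K (a * b) = chiK K a + chiK K b := by
  have h := Subgroup.mul_mem_iff_of_index_two (H := K.subgroupOf Z) hK (a := ⟨a, ha⟩) (b := ⟨b, hb⟩)
  simp only [Subgroup.mem_subgroupOf, Subgroup.coe_mul] at h
  rw [chiK, chiK, chiK]
  by_cases h1 : a ∈ K <;> by_cases h2 : b ∈ K <;> simp [h, h1, h2] <;> decide

/-- Patterns with equal values are equal. -/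
theorem eq_of_chiK {H : Type u} [Group H] {K K' Z : Subgroup H} (hK : K ≤ Z) (hK' : K' ≤ Z)
    (h : ∀ x ∈ Z, chiK K x = chiK K' x) : K = K' := by
  ext x
  by_cases hx : x ∈ Z
  · rw [← chiK_eq_zero, ← chiK_eq_zero (K := K'), h x hx]
  · exact iff_of_false (fun h1 => hx (hK h1)) (fun h1 => hx (hK' h1))

/-- A nonzero additive function on `Z` is a pattern. -/
theorem exists_pat_of_char {H : Type u} [Group H] {Z : Subgroup H} (f : H → ZMod 2)
    (hf : ∀ a ∈ Z, ∀ b ∈ Z, f (a * b) = f a + f b) (hne : ∃ x ∈ Z, f x = 1) :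
    ∃ K : Subgroup H, K ≤ Z ∧ K.relIndex Z = 2 ∧ ∀ x ∈ Z, chiK K x = f x := by
  have h1 : f 1 = 0 := by
    have := hf 1 Z.one_mem 1 Z.one_mem
    rw [mul_one] at this
    exact left_eq_add.1 this
  have h01 : ∀ z : ZMod 2, z = 0 ∨ z = 1 := by decide
  let K : Subgroup H :=
    { carrier := {x | x ∈ Z ∧ f x = 0}
      one_mem' := ⟨Z.one_mem, h1⟩
      mul_mem' := fun {a b} ha hb => ⟨Z.mul_mem ha.1 hb.1, by rw [hf a ha.1 b hb.1, ha.2, hb.2, add_zero]⟩
      inv_mem' := fun {a} ha => ⟨Z.inv_mem ha.1, by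
        have := hf a⁻¹ (Z.inv_mem ha.1) a ha.1
        rwa [inv_mul_cancel, h1, ha.2, add_zero, eq_comm] at this⟩ }
  have hmem : ∀ x, x ∈ K ↔ x ∈ Z ∧ f x = 0 := fun x => Iff.rfl
  refine ⟨K, fun x hx => hx.1, ?_, fun x hx => ?_⟩
  · obtain ⟨x, hx, hfx⟩ := hne
    rw [Subgroup.relIndex, Subgroup.index_eq_two_iff]
    refine ⟨⟨x, hx⟩, fun b => ?_⟩
    rw [Subgroup.mem_subgroupOf, Subgroup.mem_subgroupOf, Subgroup.coe_mul, hmem, hmem,
      hf _ b.2 _ hx, hfx]
    rcases h01 (f b) with e | e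
    · exact Or.inr ⟨⟨b.2, e⟩, by rw [e]; simp⟩
    · exact Or.inl ⟨⟨Z.mul_mem b.2 hx, by rw [e]; decide⟩, by rw [e]; simp⟩
  · rcases h01 (f x) with e | e
    · rw [e, chiK_eq_zero]; exact ⟨hx, e⟩
    · rw [e, chiK_eq_one]; exact fun h2 => absurd (h2.2.symm.trans e) (by decide)

/-- Three values adding up give pairs. -/
theorem paired_of_chiK {H : Type u} [Group H] {J K K' Z : Subgroup H} (hK : K ≤ Z) (hK' : K' ≤ Z)
    (h : ∀ x ∈ Z, chiK J x = chiK K x + chiK K' x) : Paired J K K' := by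
  refine ⟨?_, ?_, ?_⟩
  · rintro x ⟨h1, h2⟩
    have e := h x (hK h1)
    rw [chiK_eq_zero.2 h1, chiK_eq_zero.2 h2, zero_add] at e
    exact chiK_eq_zero.1 e.symm
  · rintro x ⟨h1, h2⟩
    have e := h x (hK' h1)
    rw [chiK_eq_zero.2 h1, chiK_eq_zero.2 h2, add_zero] at e
    exact chiK_eq_zero.1 e.symm
  · rintro x ⟨h1, h2⟩
    have e := h x (hK h1)
    rw [chiK_eq_zero.2 h1, chiK_eq_zero.2 h2, add_zero] at e
    exact chiK_eq_zero.1 e

variable {H : Type u} [Group H] [Finite H] {p r : ℕ} {α : MulAut H} {V : Type u} [CommGroup V]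
  [Finite V] {ψ : H →* MulAut V} {e : MulAut V}
  (h : Min p r α ψ e) (T : Sylow 2 H) (hT : Stb α (T : Subgroup H))

include h hT

theorem Min.m_pos {m : ℕ} (hm : r = 2 ^ m + 1) : 0 < m := by
  obtain ⟨m', hm', hrm⟩ := h.exists_m T hT
  rwa [eq_of_pow_add_one hm hrm]

/-- `|X| |gZ| = |X̄| |Z|` for `Z ≤ X ≤ D`. -/
theorem Min.card_map_mul {X : Subgroup H} (hZX : zGrp α T ≤ X) (hXD : X ≤ dGrp α T) :
    Nat.card X * Nat.card (gZ α T) = Nat.card (X.map (qHom H)) * Nat.card (zGrp α T) := by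
  have key : ∀ Y : Subgroup H, Nat.card Y =
      Nat.card (Y.map (qHom H)) * Nat.card (Y ⊓ Subgroup.center H : Subgroup H) := by
    intro Y
    let f : Y →* Y.map (qHom H) := (qHom H).subgroupMap Y
    have hf : Function.Surjective f := MonoidHom.subgroupMap_surjective (qHom H) Y
    rw [Subgroup.card_eq_card_quotient_mul_card_subgroup f.ker,
      Nat.card_congr (QuotientGroup.quotientKerEquivOfSurjective f hf).toEquiv]
    congr 1
    have e : f.ker = (Y ⊓ Subgroup.center H).subgroupOf Y := by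
      ext y
      rw [MonoidHom.mem_ker, Subgroup.mem_subgroupOf]
      exact ⟨fun hy => ⟨y.2, (QuotientGroup.eq_one_iff _).1 (congrArg Subtype.val hy)⟩,
        fun hy => Subtype.ext ((QuotientGroup.eq_one_iff _).2 hy.2)⟩
    rw [e]
    exact Nat.card_congr (Subgroup.subgroupOfEquivOfLe inf_le_left).toEquiv
  have einf : X ⊓ Subgroup.center H = zGrp α T ⊓ Subgroup.center H :=
    le_antisymm (fun x hx => ⟨⟨hXD hx.1, h.center_fixed hx.2⟩, hx.2⟩) (inf_le_inf_right _ hZX)
  have ez := key (zGrp α T)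
  have eg : (zGrp α T).map (qHom H) = gZ α T := rfl
  rw [eg] at ez
  rw [key X, einf, ez]
  ring

/-- `D / R`. -/
theorem Min.exists_mod {m : ℕ} (hm : r = 2 ^ m + 1) {R : Subgroup H} (hZR : zGrp α T ≤ R)
    (hRD : R ≤ dGrp α T) (hRα : Stb α R) :
    ∃ (W : Type u) (_ : AddCommGroup W) (_ : Finite W) (a : W ≃+ W) (π : dGrp α T → W),
      Function.Surjective π ∧ (∀ x y, π (x * y) = π x + π y) ∧ (∀ x, π x = 0 ↔ (x : H) ∈ R) ∧
      (∀ x, a (π x) = π (resA α (dGrp α T) (stb_dGrp T hT) x)) ∧ FpfMod r m a ∧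
      Nat.card W = R.relIndex (dGrp α T) := by
  set D := dGrp α T with hD
  set β := resA α D (stb_dGrp T hT) with hβ
  set N := R.subgroupOf D with hN
  haveI : N.Normal := ⟨fun x hx g => Subgroup.mem_subgroupOf.2 (by
    have h1 := mul_mem (hZR (h.commutator_mem_zGrp T hT g.2 x.2)) (Subgroup.mem_subgroupOf.1 hx)
    simpa [commutatorElement_def] using h1)⟩
  letI : CommGroup (D ⧸ N) :=
    { (inferInstance : Group (D ⧸ N)) with
      mul_comm := fun a b => by
        refine QuotientGroup.induction_on a fun x => QuotientGroup.induction_on b fun y => ?_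
        rw [← QuotientGroup.mk_mul, ← QuotientGroup.mk_mul, QuotientGroup.eq, hN, Subgroup.mem_subgroupOf]
        have h1 := hZR (h.commutator_mem_zGrp T hT (inv_mem y.2) (inv_mem x.2))
        simpa [commutatorElement_def, mul_assoc] using h1 }
  have hst : N.map β.toMonoidHom = N :=
    Stb.map_eq (β := β) fun x hx => Subgroup.mem_subgroupOf.2 (hRα _ (Subgroup.mem_subgroupOf.1 hx))
  let γ : MulAut (D ⧸ N) := QuotientGroup.congr N N β hst
  refine ⟨Additive (D ⧸ N), inferInstance, inferInstance, MulEquiv.toAdditive γ,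
    fun x => Additive.ofMul (QuotientGroup.mk x), fun w => ?_, fun x y => rfl, fun x => ?_,
    fun x => rfl, ⟨h.hr, hm, h.m_pos T hT hm, ?_, ?_, ?_⟩, rfl⟩
  · obtain ⟨x, hx⟩ := QuotientGroup.mk_surjective (Additive.toMul w)
    exact ⟨x, (congrArg Additive.ofMul hx).trans (ofMul_toMul w)⟩
  · show (QuotientGroup.mk x : D ⧸ N) = 1 ↔ _
    rw [QuotientGroup.eq_one_iff, hN, Subgroup.mem_subgroupOf]
  · intro w
    obtain ⟨x, hx⟩ := QuotientGroup.mk_surjective (Additive.toMul w)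
    rw [← ofMul_toMul w, ← hx]
    show (QuotientGroup.mk (x * x) : D ⧸ N) = 1
    rw [QuotientGroup.eq_one_iff, hN, Subgroup.mem_subgroupOf]
    exact hZR (h.sq_mem_zGrp T hT x.2)
  · intro w
    obtain ⟨x, hx⟩ := QuotientGroup.mk_surjective (Additive.toMul w)
    rw [← ofMul_toMul w, ← hx]
    have hit : ∀ (i : ℕ) (y : D), (MulEquiv.toAdditive γ)^[i] (Additive.ofMul (QuotientGroup.mk y)) =
        Additive.ofMul (QuotientGroup.mk ((β ^ i) y) : D ⧸ N) := by
      intro i
      induction i with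
      | zero => intro y; rfl
      | succ i ih => intro y; rw [Function.iterate_succ_apply, pow_succ, MulAut.mul_apply, ← ih]; rfl
    rw [hit, resA_pow_r h.hα]
    rfl
  · intro w
    obtain ⟨x, hx⟩ := QuotientGroup.mk_surjective (Additive.toMul w)
    rw [← ofMul_toMul w, ← hx]
    intro hfix
    have h1 : x⁻¹ * β x ∈ N :=
      QuotientGroup.eq.1 (show (QuotientGroup.mk x : D ⧸ N) = QuotientGroup.mk (β x) from hfix.symm)
    obtain ⟨n, hn, hf⟩ := exists_fixed_mul h.hr h.hα hRα (not_dvd_sub h.hco R) (x := (x : H))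
      (Subgroup.mem_subgroupOf.1 h1)
    have h2 : (x : H) * n ∈ R := hZR ⟨mul_mem x.2 (hRD hn), hf⟩
    show (QuotientGroup.mk x : D ⧸ N) = 1
    rw [QuotientGroup.eq_one_iff, hN, Subgroup.mem_subgroupOf]
    simpa using mul_mem h2 (inv_mem hn)

section Mod

variable {R : Subgroup H} {W : Type v} [AddCommGroup W] [Finite W] {a : W ≃+ W} {π : dGrp α T → W}
  (hs : Function.Surjective π) (hadd : ∀ x y, π (x * y) = π x + π y)
  (hker : ∀ x, π x = 0 ↔ (x : H) ∈ R)
  (ha : ∀ x, a (π x) = π (resA α (dGrp α T) (stb_dGrp T hT) x))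

include hs hadd hker ha

/-- The form of a pattern. -/
theorem Min.exists_patForm {K : Subgroup H} (hKZ : K ≤ zGrp α T) (hK2 : K.relIndex (zGrp α T) = 2)
    (hR : ∀ d ∈ R, d ∈ rad α T K) :
    ∃ f : W →+ W →+ ZMod 2, InvForm a f ∧ ∀ x y : dGrp α T, f (π x) (π y) = chiK K ⁅(x : H), y⁆ := by
  have hmulr : ∀ x y z : dGrp α T, chiK K ⁅(x : H), ((y * z : dGrp α T) : H)⁆ =
      chiK K ⁅(x : H), y⁆ + chiK K ⁅(x : H), z⁆ := fun x y z => by
    rw [Subgroup.coe_mul, h.dComm_mul_right T hT y.2 z.2 x.2,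
      chiK_mul hK2 (h.commutator_mem_zGrp T hT x.2 y.2) (h.commutator_mem_zGrp T hT x.2 z.2)]
  have hmull : ∀ x y z : dGrp α T, chiK K ⁅((x * y : dGrp α T) : H), (z : H)⁆ =
      chiK K ⁅(x : H), z⁆ + chiK K ⁅(y : H), z⁆ := fun x y z => by
    rw [Subgroup.coe_mul, h.dComm_mul_left T hT x.2 y.2 z.2,
      chiK_mul hK2 (h.commutator_mem_zGrp T hT y.2 z.2) (h.commutator_mem_zGrp T hT x.2 z.2), add_comm]
  choose g hg using fun x : dGrp α T => exists_addHom π hs hadd (fun y => chiK K ⁅(x : H), y⁆)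
    (fun y z => hmulr x y z) fun y hy => chiK_eq_zero.2 (by
      rw [← commutatorElement_inv]
      exact inv_mem ((hR _ ((hker y).1 hy)).2 x x.2))
  obtain ⟨f, hf⟩ := exists_addHom π hs hadd g
    (fun x y => AddMonoidHom.ext fun w => by
      obtain ⟨z, rfl⟩ := hs w
      rw [AddMonoidHom.add_apply, hg, hg, hg, hmull])
    (fun x hx => AddMonoidHom.ext fun w => by
      obtain ⟨z, rfl⟩ := hs w
      rw [hg, AddMonoidHom.zero_apply, chiK_eq_zero]
      exact (hR _ ((hker x).1 hx)).2 z z.2)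
  have hfv : ∀ x y, f (π x) (π y) = chiK K ⁅(x : H), y⁆ := fun x y => by rw [hf, hg]
  refine ⟨f, ⟨fun w => ?_, fun w w' => ?_⟩, hfv⟩
  · obtain ⟨x, rfl⟩ := hs w
    rw [hfv, commutatorElement_self, chiK_eq_zero]
    exact one_mem _
  · obtain ⟨x, rfl⟩ := hs w
    obtain ⟨y, rfl⟩ := hs w'
    rw [ha, ha, hfv, hfv, resA_apply, resA_apply, ← map_commutatorElement,
      mem_fixG.1 (h.commutator_mem_zGrp T hT x.2 y.2).2]

/-- The endomorphism given by a fixed element. -/
theorem Min.exists_conjEnd {c : H} (hc : c ∈ mGrp α T) (hcf : α c = c)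
    (hcR : ∀ d ∈ R, c * d * c⁻¹ ∈ R) :
    ∃ b : W →+ W, (∀ w, b (a w) = a (b w)) ∧
      ∀ (n : ℕ) (x y : dGrp α T), (y : H) = c ^ n * x * (c ^ n)⁻¹ → b^[n] (π x) = π y := by
  have hcD : ∀ d ∈ dGrp α T, c * d * c⁻¹ ∈ dGrp α T := fun d hd =>
    (Subgroup.mem_normalizer_iff.1 hc d).1 hd
  let σ : dGrp α T → dGrp α T := fun x => ⟨c * x * c⁻¹, hcD x x.2⟩
  have hσ : ∀ x y, σ (x * y) = σ x * σ y := fun x y => Subtype.ext (by simp [σ, mul_assoc])
  obtain ⟨b, hb⟩ := exists_addHom π hs hadd (fun x => π (σ x))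
    (fun x y => by rw [hσ, hadd]) fun x hx => (hker _).2 (hcR _ ((hker x).1 hx))
  refine ⟨b, fun w => ?_, fun n => ?_⟩
  · obtain ⟨x, rfl⟩ := hs w
    rw [ha, hb, hb, ha]
    exact congrArg π (Subtype.ext (by simp [σ, resA_apply, hcf]))
  · induction n with
    | zero =>
      intro x y hy
      exact congrArg π (Subtype.ext (by simpa using hy.symm))
    | succ n ih =>
      intro x y hy
      rw [Function.iterate_succ_apply, hb]
      exact ih (σ x) y (by rw [hy, pow_succ]; simp [σ, mul_assoc])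

end Mod

end Cfsg.Agent.Lib.HHS57
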