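import Mathlib.GroupTheory.Sylow
import Mathlib.GroupTheory.PGroup
import Mathlib.GroupTheory.QuotientGroup.Basic

/-!
# Two involutions of a quotient without a common `2`-group (helper18)

Their product has a part of odd prime order; it lifts to an element of odd order normalised by a
`2`-element, and an involution power of that element centralises it modulo any normal subgroup meeting
odd-order elements trivially.
-/

set_option autoImplicit false
set_option linter.style.haveILetI false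

namespace Cfsg.Agent.Lib.HHS57

open Subgroup

universe u

variable {C : Type u} [Group C] [Finite C]

/-- An odd prime order element of a quotient inverted by `γ`, from two involutions. -/
theorem exists_inverted {Q : Type u} [Group Q] [Finite Q] {γ γ' : Q} (hγ : γ * γ = 1)
    (hγ' : γ' * γ' = 1)
    (hno : ¬ ∃ S : Subgroup Q, IsPGroup 2 S ∧ γ ∈ S ∧ γ' ∈ S) :
    ∃ x : Q, ∃ s : ℕ, s.Prime ∧ s ≠ 2 ∧ orderOf x = s ∧ γ * x * γ⁻¹ = x⁻¹ := by
  haveI : Fact (Nat.Prime 2) := ⟨Nat.prime_two⟩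
  set y := γ * γ' with hy
  have hγi : γ⁻¹ = γ := inv_eq_of_mul_eq_one_right hγ
  have hγ'i : γ'⁻¹ = γ' := inv_eq_of_mul_eq_one_right hγ'
  have hinv : γ * y * γ⁻¹ = y⁻¹ := by
    rw [hy, mul_inv_rev, hγi, hγ'i, ← mul_assoc, hγ, one_mul]
  by_cases hodd : ∃ s, s.Prime ∧ s ≠ 2 ∧ s ∣ orderOf y
  · obtain ⟨s, hs, hs2, hsd⟩ := hodd
    refine ⟨y ^ (orderOf y / s), s, hs, hs2, orderOf_pow_orderOf_div (orderOf_pos y).ne' hsd, ?_⟩
    rw [← conj_pow, hinv, inv_pow]
  · exfalso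
    push Not at hodd
    apply hno
    have hy2 : IsPGroup 2 (zpowers y) := by
      refine IsPGroup.of_card (n := (orderOf y).primeFactorsList.length) ?_
      rw [Nat.card_zpowers]
      exact Nat.eq_prime_pow_of_unique_prime_dvd (orderOf_pos y).ne' fun hq hd =>
        by_contra fun hne => hodd _ hq hne hd
    have hγ2 : IsPGroup 2 (zpowers γ) := by
      rintro ⟨g, i, rfl⟩
      refine ⟨1, Subtype.ext ?_⟩
      show (γ ^ i) ^ 2 ^ 1 = 1
      rw [pow_one, ← zpow_natCast, ← zpow_mul, mul_comm, zpow_mul, zpow_natCast, pow_two, hγ, one_zpow]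
    have hle : zpowers γ ≤ Subgroup.normalizer (zpowers y : Set Q) := by
      rw [zpowers_le, Subgroup.mem_normalizer_iff]
      intro w
      constructor
      · rintro ⟨i, rfl⟩
        refine ⟨-i, ?_⟩
        show y ^ (-i) = γ * y ^ i * γ⁻¹
        rw [← conj_zpow, hinv, inv_zpow, zpow_neg]
      · intro hw
        obtain ⟨i, hi⟩ := hw
        refine ⟨-i, ?_⟩
        show y ^ (-i) = w
        have h1 : w = γ * (y ^ i) * γ⁻¹ := by
          rw [show y ^ i = γ * w * γ⁻¹ from hi, hγi, show γ * (γ * w * γ) * γ = (γ * γ) * w * (γ * γ) by group,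
            hγ, one_mul, mul_one]
        rw [h1, ← conj_zpow, hinv, inv_zpow, zpow_neg]
    refine ⟨zpowers γ ⊔ zpowers y, hγ2.to_sup_of_normal_right' hy2 hle,
      mem_sup_left (mem_zpowers γ), ?_⟩
    rw [show γ' = γ * y by rw [hy, ← mul_assoc, hγ, one_mul]]
    exact mul_mem (mem_sup_left (mem_zpowers γ)) (mem_sup_right (mem_zpowers y))

/-- The lift. -/
theorem exists_lift_pair (N : Subgroup C) [N.Normal] {c : C} (hc : c * c ∈ N) {x : C ⧸ N} {s : ℕ}
    (hs : s.Prime) (hs2 : s ≠ 2) (hx : orderOf x = s)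
    (hinv : (c : C ⧸ N) * x * (c : C ⧸ N)⁻¹ = x⁻¹) :
    ∃ a n : C, Odd (orderOf a) ∧ a ∉ N ∧ (∃ k, n ^ 2 ^ k = 1) ∧ n * n ∈ N ∧ n ∉ N ∧
      n * a * n⁻¹ * a ∈ N ∧
      ∀ w : C, w ∈ zpowers n → w * w = 1 → ∀ Z : Subgroup C, w ∈ Z → (∀ g : C, g * w * g⁻¹ ∈ Z) →
        (∀ z ∈ Z, z * z = 1) → w * a = a * w := by
  haveI := Fact.mk hs
  haveI : Fact (Nat.Prime 2) := ⟨Nat.prime_two⟩
  set π := QuotientGroup.mk' N with hπ
  set X := (zpowers x).comap π with hX
  obtain ⟨P⟩ : Nonempty (Sylow s X) := inferInstance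
  have hcN : ∀ w, w ∈ X ↔ c * w * c⁻¹ ∈ X := by
    intro w
    rw [hX, mem_comap, mem_comap, map_mul, map_mul, map_inv]
    have hγ : π c * π c = 1 := by rw [← map_mul]; exact (QuotientGroup.eq_one_iff _).2 hc
    constructor
    · rintro ⟨i, hi⟩
      refine ⟨-i, ?_⟩
      show x ^ (-i) = π c * π w * (π c)⁻¹
      rw [← show x ^ i = π w from hi, ← conj_zpow, show π c * x * (π c)⁻¹ = x⁻¹ from hinv, inv_zpow,
        zpow_neg]
    · rintro ⟨i, hi⟩
      refine ⟨-i, ?_⟩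
      show x ^ (-i) = π w
      rw [show π w = π c * x ^ i * (π c)⁻¹ by
        rw [show x ^ i = π c * π w * (π c)⁻¹ from hi, inv_eq_of_mul_eq_one_right hγ,
          show π c * (π c * π w * π c) * π c = (π c * π c) * π w * (π c * π c) by group, hγ, one_mul, mul_one],
        ← conj_zpow, show π c * x * (π c)⁻¹ = x⁻¹ from hinv, inv_zpow, zpow_neg]
  set cX : MulAut X :=
    { toFun := fun w => ⟨c * w * c⁻¹, (hcN w).1 w.2⟩
      invFun := fun w => ⟨c⁻¹ * w * c, (hcN _).2 (by simpa [mul_assoc] using w.2)⟩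
      left_inv := fun w => Subtype.ext (by simp [mul_assoc])
      right_inv := fun w => Subtype.ext (by simp [mul_assoc])
      map_mul' := fun v w => Subtype.ext (by simp [mul_assoc]) } with hcX
  obtain ⟨y, hy⟩ := MulAction.exists_smul_eq X
    (P.mapSurjective (f := cX.toMonoidHom) cX.surjective) P
  set n₀ := (y : C) * c with hn₀
  have hnorm : ∀ w : X, w ∈ (P : Subgroup X) → ∃ v : X, v ∈ (P : Subgroup X) ∧ (v : C) = n₀ * w * n₀⁻¹ := by
    intro w hw
    have h1 : cX w ∈ ((P.mapSurjective (f := cX.toMonoidHom) cX.surjective : Sylow s X) : Subgroup X) :=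
      ⟨w, hw, rfl⟩
    have h2 := Subgroup.smul_mem_pointwise_smul (a := MulAut.conj y) _ _ h1
    rw [← Sylow.coe_subgroup_smul, hy] at h2
    refine ⟨_, h2, ?_⟩
    show (y : C) * (c * w * c⁻¹) * (y : C)⁻¹ = _
    rw [hn₀]; group
  obtain ⟨j, hj⟩ : ∃ j : ℤ, x ^ j = π y := y.2
  have himg : π n₀ * x * (π n₀)⁻¹ = x⁻¹ := by
    rw [hn₀, map_mul, ← hj,
      show x ^ j * π c * x * (x ^ j * π c)⁻¹ = x ^ j * (π c * x * (π c)⁻¹) * (x ^ j)⁻¹ by group,
      show π c * x * (π c)⁻¹ = x⁻¹ from hinv]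
    group
  have hsq : π n₀ * π n₀ = 1 := by
    rw [hn₀, map_mul, ← hj, show x ^ j * π c * (x ^ j * π c) = x ^ j * (π c * x ^ j * (π c)⁻¹) * (π c * π c) by
      group, ← conj_zpow, show π c * x * (π c)⁻¹ = x⁻¹ from hinv, inv_zpow, mul_inv_cancel, one_mul, ← map_mul]
    exact (QuotientGroup.eq_one_iff _).2 hc
  -- the `2`-part
  set o := orderOf n₀ with ho
  set n := n₀ ^ (ordCompl[2] o) with hn
  have htodd : Odd (ordCompl[2] o) := by
    rw [← Nat.not_even_iff_odd, even_iff_two_dvd]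
    exact Nat.not_dvd_ordCompl Nat.prime_two (orderOf_pos n₀).ne'
  have hn2 : n ^ 2 ^ o.factorization 2 = 1 := by
    rw [hn, ← pow_mul, mul_comm, Nat.ordProj_mul_ordCompl_eq_self, ho, pow_orderOf_eq_one]
  have himgn : π n = π n₀ := by
    obtain ⟨i, hi⟩ := htodd
    rw [hn, map_pow, hi, pow_succ, pow_mul, pow_two, hsq, one_pow, one_mul]
  have hnormn : ∀ k : ℕ, ∀ w : X, w ∈ (P : Subgroup X) →
      ∃ v : X, v ∈ (P : Subgroup X) ∧ (v : C) = n₀ ^ k * w * (n₀ ^ k)⁻¹ := by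
    intro k
    induction k with
    | zero => intro w hw; exact ⟨w, hw, by simp⟩
    | succ k ih =>
      intro w hw
      obtain ⟨v, hv, hve⟩ := hnorm w hw
      obtain ⟨u, hu, hue⟩ := ih v hv
      exact ⟨u, hu, by rw [hue, hve, pow_succ]; group⟩
  -- the odd element
  let πX : X →* zpowers x := (π.comp X.subtype).codRestrict _ fun w => w.2
  have hπX : Function.Surjective πX := fun v => by
    obtain ⟨w, hw⟩ := QuotientGroup.mk'_surjective N (v : C ⧸ N)
    exact ⟨⟨w, by rw [hX, mem_comap, ← hπ] at *; rw [hw]; exact v.2⟩, Subtype.ext hw⟩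
  have htop : ((P.mapSurjective hπX : Sylow s (zpowers x)) : Subgroup (zpowers x)) = ⊤ :=
    ((P.mapSurjective hπX).is_maximal' (Q := ⊤)
      ((IsPGroup.of_card (n := 1) (by rw [Nat.card_zpowers, hx, pow_one]) :
        IsPGroup s (zpowers x)).of_equiv topEquiv.symm) le_top).symm
  obtain ⟨a, ha, hax⟩ : (⟨x, mem_zpowers x⟩ : zpowers x) ∈
      ((P.mapSurjective hπX : Sylow s (zpowers x)) : Subgroup (zpowers x)) := htop ▸ mem_top _
  have hax' : π a = x := congrArg Subtype.val hax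
  have haodd : Odd (orderOf (a : C)) := by
    obtain ⟨k, hk⟩ := IsPGroup.iff_orderOf.1 P.isPGroup' ⟨a, ha⟩
    rw [Subgroup.orderOf_mk] at hk
    rw [Subgroup.orderOf_coe, hk]
    exact (hs.odd_of_ne_two hs2).pow
  have haN : (a : C) ∉ N := fun e1 => by
    have h1 : x = 1 := hax' ▸ (QuotientGroup.eq_one_iff _).2 e1
    rw [h1, orderOf_one] at hx
    exact hs.one_lt.ne hx
  have hnN : n ∉ N := fun e1 => by
    have h1 : π n₀ = 1 := himgn ▸ (QuotientGroup.eq_one_iff _).2 e1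
    rw [h1, one_mul, inv_one, mul_one] at himg
    have h2 : x ^ 2 = 1 := by rw [pow_two]; exact eq_inv_iff_mul_eq_one.1 himg
    have := orderOf_dvd_of_pow_eq_one h2
    rw [hx] at this
    exact hs2 ((Nat.prime_dvd_prime_iff_eq hs Nat.prime_two).1 this)
  refine ⟨a, n, haodd, haN, ⟨_, hn2⟩, ?_, hnN, ?_, ?_⟩
  · rw [← QuotientGroup.eq_one_iff]
    show π (n * n) = 1
    rw [map_mul, himgn, hsq]
  · rw [← QuotientGroup.eq_one_iff]
    show π (n * a * n⁻¹ * a) = 1
    rw [map_mul, map_mul, map_mul, map_inv, himgn, hax', himg, inv_mul_cancel]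
  · intro w hw hw2 Z hwZ hconj hZ
    obtain ⟨i, rfl⟩ := mem_powers_iff_mem_zpowers.2 hw
    obtain ⟨v, hv, hve⟩ := hnormn (ordCompl[2] o * i) a ha
    set k := n ^ i * (a : C) * (n ^ i)⁻¹ * (a : C)⁻¹ with hk
    have hkZ : k ∈ Z := by
      rw [hk, mul_assoc, mul_assoc, ← mul_assoc (a : C)]
      refine mul_mem hwZ (hconj (a : C) |> fun h1 => ?_)
      have h2 := Z.inv_mem h1
      simpa [mul_assoc] using h2
    have hkP : (v * a⁻¹ : X) ∈ (P : Subgroup X) := mul_mem hv (inv_mem ha)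
    have hkv : ((v * a⁻¹ : X) : C) = k := by
      rw [hk, Subgroup.coe_mul, Subgroup.coe_inv, hve, pow_mul, ← hn]
    have hk1 : k = 1 := by
      obtain ⟨e, he⟩ := IsPGroup.iff_orderOf.1 P.isPGroup' ⟨_, hkP⟩
      rw [Subgroup.orderOf_mk, ← Subgroup.orderOf_coe, hkv] at he
      have h2 : orderOf k ∣ 2 := orderOf_dvd_of_pow_eq_one (by rw [pow_two, hZ k hkZ])
      rw [← orderOf_eq_one_iff]
      exact Nat.eq_one_of_dvd_coprimes (((Nat.coprime_primes hs Nat.prime_two).2 hs2).pow_left e)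
        (dvd_of_eq he) h2
    exact mul_inv_eq_iff_eq_mul.1 (mul_inv_eq_one.1 hk1)

end Cfsg.Agent.Lib.HHS57
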