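import Cfsg.Agent.Lib.HHS57.MovingLine
import Cfsg.Agent.Lib.HHS57.OddLift
import Cfsg.Agent.Lib.HHS57.TwoPoint

/-!
# No fixed `2`-element moves `gD` (helper18)

Without moving lines two conjugates of a moving fixed element with no common `2`-group give an odd fixed
element inverted by a moving one and centralising some `z ≠ 1` of `gZ`; this is impossible.
-/

set_option autoImplicit false
set_option linter.style.haveILetI false
set_option linter.unusedSectionVars false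

namespace Cfsg.Agent.Lib.HHS57

open Cfsg Cfsg.Agent.Lib
open Subgroup
open scoped commutatorElement

universe u

variable {H : Type u} [Group H] [Finite H] {p r : ℕ} {α : MulAut H} {V : Type u} [CommGroup V]
  [Finite V] {ψ : H →* MulAut V} {e : MulAut V}

variable (h : Min p r α ψ e) (T : Sylow 2 H) (hT : Stb α (T : Subgroup H))

include h hT

/-- The pair `a`, `n`. -/
theorem Min.exists_odd_moving (hneg : CenNeg ψ) {m : ℕ} (hm : r = 2 ^ m + 1)
    (hnl : ¬ MovingLines α T m) (hP : OnePoint (gM α T) (gZ α T)) (hZ : gZ α T ≠ ⊥)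
    (hC : ∃ c, qAut α c = c ∧ c ∉ gM α T) {c c' : H ⧸ Subgroup.center H} (hc : c ∈ cgM α T)
    (hc' : c' ∈ cgM α T) (hcs : ¬ MovesD α T (c * c)) (hcs' : ¬ MovesD α T (c' * c'))
    (hno : ¬ ∃ P : Subgroup (H ⧸ Subgroup.center H), P ≤ gM α T ∧ IsPGroup 2 P ∧
      ∃ ν ∈ trivOn α T (gZ α T), ∃ ν' ∈ trivOn α T (gZ α T), c * ν ∈ P ∧ c' * ν' ∈ P) :
    ∃ a n z : H ⧸ Subgroup.center H, a ∈ gM α T ∧ qAut α a = a ∧ Odd (orderOf a) ∧ MovesD α T a ∧
      n ∈ gM α T ∧ qAut α n = n ∧ TwoEl n ∧ MovesD α T n ∧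
      n * a * n⁻¹ * a ∈ trivOn α T (gZ α T) ∧ z ∈ gZ α T ∧ z ≠ 1 ∧ a * z = z * a := by
  set C := cgM α T with hCdef
  set N := (trivOn α T (gZ α T)).subgroupOf C with hN
  haveI : N.Normal := ⟨fun s hs g => mem_subgroupOf.2
    (h.trivOn_conj T hT g.2.1 (mem_subgroupOf.1 hs))⟩
  have hin : ∀ s : C, ¬ MovesD α T (s : H ⧸ Subgroup.center H) ↔ s ∈ N := fun s => by
    rw [hN, mem_subgroupOf]; exact h.not_moves_iff T hT s.2.1
  set γ : C := ⟨c, hc⟩ with hγdef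
  set γ' : C := ⟨c', hc'⟩ with hγ'def
  have hγ : γ * γ ∈ N := (hin _).1 hcs
  have hγ' : γ' * γ' ∈ N := (hin _).1 hcs'
  obtain ⟨x, s, hs, hs2, hx, hinv⟩ := exists_inverted (γ := (γ : C ⧸ N)) (γ' := (γ' : C ⧸ N))
    ((QuotientGroup.eq_one_iff _).2 hγ) ((QuotientGroup.eq_one_iff _).2 hγ') (by
      rintro ⟨S, hS, hS1, hS2⟩
      obtain ⟨P, hP2, hP'⟩ := exists_lift_twoGroup N hS
      obtain ⟨y, hy, hyγ⟩ := hP' _ hS1
      obtain ⟨y', hy', hyγ'⟩ := hP' _ hS2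
      refine hno ⟨P.map C.subtype, ?_, hP2.map _, ((γ⁻¹ * y : C) : H ⧸ Subgroup.center H),
        mem_subgroupOf.1 (QuotientGroup.eq.1 hyγ.symm), ((γ'⁻¹ * y' : C) : H ⧸ Subgroup.center H),
        mem_subgroupOf.1 (QuotientGroup.eq.1 hyγ'.symm), ⟨y, hy, ?_⟩, ⟨y', hy', ?_⟩⟩
      · rintro _ ⟨w, -, rfl⟩; exact w.2.1
      · show (y : H ⧸ Subgroup.center H) = c * (c⁻¹ * y)
        rw [mul_inv_cancel_left]
      · show (y' : H ⧸ Subgroup.center H) = c' * (c'⁻¹ * y')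
        rw [mul_inv_cancel_left])
  obtain ⟨a, n, haodd, haN, ⟨k, hk⟩, -, hnN, hnan, hlift⟩ := exists_lift_pair N hγ hs hs2 hx hinv
  obtain ⟨j, -, hj⟩ := (Nat.dvd_prime_pow Nat.prime_two).1 (orderOf_dvd_of_pow_eq_one hk)
  obtain ⟨i, rfl⟩ : ∃ i, j = i + 1 := by
    rcases Nat.eq_zero_or_pos j with rfl | hj0
    · rw [pow_zero, orderOf_eq_one_iff] at hj
      exact absurd (hj ▸ N.one_mem) hnN
    · exact ⟨j - 1, by omega⟩
  set w := n ^ 2 ^ i with hw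
  have hw2 : w * w = 1 := by
    rw [hw, ← pow_add, ← two_mul, ← pow_succ', ← hj, pow_orderOf_eq_one]
  have hw1 : w ≠ 1 := fun e1 => by
    have := orderOf_dvd_of_pow_eq_one e1
    rw [hj, Nat.pow_dvd_pow_iff_le_right (by norm_num)] at this
    omega
  have hw2' : (w : H ⧸ Subgroup.center H) * w = 1 := by rw [← Subgroup.coe_mul, hw2]; rfl
  have hwZ : (w : H ⧸ Subgroup.center H) ∈ gZ α T :=
    h.fixed_invol_mem T hT hP hneg hm hnl hZ hC w.2.1 w.2.2 hw2'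
  have hcom := hlift w (pow_mem (mem_zpowers n) _) hw2 ((gZ α T).subgroupOf C)
    (mem_subgroupOf.2 hwZ) (fun g => mem_subgroupOf.2 (h.gZ_conj T hT g.2.1 hwZ))
    (fun z hz => Subtype.ext (h.gZ_sq T hT (mem_subgroupOf.1 hz)))
  refine ⟨a, n, w, a.2.1, a.2.2, by rwa [Subgroup.orderOf_coe],
    not_not.1 fun e1 => haN ((hin a).1 e1), n.2.1, n.2.2, ⟨k, ?_⟩,
    not_not.1 fun e1 => hnN ((hin n).1 e1), mem_subgroupOf.1 hnan, hwZ,
    fun e1 => hw1 (Subtype.ext e1), ?_⟩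
  · rw [← Subgroup.coe_pow, hk]; rfl
  · exact (congrArg Subtype.val hcom).symm

/-- An odd element inverted modulo nonmoving ones by a moving `2`-element is nonmoving. -/
theorem Min.false_of_inverted {m : ℕ} (hm : r = 2 ^ m + 1)
    (hk : Nat.card (gD α T) ≤ Nat.card (gZ α T) * 2 ^ (4 * m)) {a n : H ⧸ Subgroup.center H}
    (ha : a ∈ gM α T) (haodd : Odd (orderOf a)) (hamv : MovesD α T a) (hn : n ∈ gM α T)
    (hn2 : TwoEl n) (hnmv : MovesD α T n) (hna : n * a * n⁻¹ * a ∈ trivOn α T (gZ α T))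
    (hF : fixL α T (zpowers a) ≠ gZ α T) : False := by
  have hAM : zpowers a ≤ gM α T := zpowers_le.2 ha
  have hSM : zpowers n ≤ gM α T := zpowers_le.2 hn
  have hS2 := isPGroup_zpowers_of_twoEl hn2
  set F := fixL α T (zpowers a) with hFdef
  have hZF := h.gZ_le_fixL T hT hAM
  have hFD := h.fixL_le T hT hAM
  have hFα := h.fixL_stb T hT hAM
  have hFne := h.fixL_ne_gD T hT hAM (mem_zpowers a) hamv
  set ν := n⁻¹ * (n * a * n⁻¹ * a) * n with hν
  have hνN : ν ∈ trivOn α T (gZ α T) := by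
    simpa using h.trivOn_conj T hT (inv_mem hn) hna
  have hnF : ∀ l ∈ F, n * l * n⁻¹ ∈ F := fun l hl => by
    have hlD := hFD hl
    refine h.mem_fixL_zpowers T hT ha (h.gD_conj T hT hn hlD) ?_
    rw [show a * (n * l * n⁻¹) * a⁻¹ * (n * l * n⁻¹)⁻¹ =
      n * (a⁻¹ * (ν * l * ν⁻¹ * l⁻¹) * a * (a⁻¹ * l * a⁻¹⁻¹ * l⁻¹)) * n⁻¹ by rw [hν]; group]
    refine h.gZ_conj T hT hn (mul_mem ?_ (((h.mem_fixL T hT hAM).1 hl).2 _ (inv_mem (mem_zpowers a))))
    simpa using h.gZ_conj T hT (inv_mem ha) ((mem_trivOn.1 hνN).2.2 l hlD)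
  have haF : ∀ l ∈ F, a * l * a⁻¹ ∈ F := h.fixL_conj T hT hAM a (mem_zpowers a)
  obtain ⟨y, hy, hyZ, hys⟩ := h.exists_fixed_class T hT le_rfl hZF hFD hF.symm hS2
    (fun s hs z hz => h.gZ_conj T hT (hSM hs) hz) (zpowers_stab hnF)
  have hFn : F = fixL α T (zpowers n) := h.line_eq T hT hm hk hZF hFD hFα hFne
    (h.gZ_le_fixL T hT hSM) (h.fixL_le T hT hSM) (h.fixL_stb T hT hSM)
    (h.fixL_ne_gD T hT hSM (mem_zpowers n) hnmv) hy ((h.mem_fixL T hT hSM).2 ⟨hFD hy, hys⟩) hyZ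
  have hnT : n ∈ trivOn α T F := mem_trivOn.2 ⟨hn, hnF, fun d hd =>
    hFn ▸ h.fixL_series T hT hm hk hSM hS2 (mem_zpowers n) hnmv n (mem_zpowers n) d hd⟩
  have hνT : n * a * n⁻¹ * a ∈ trivOn α T F := by
    obtain ⟨hM, -, h3⟩ := mem_trivOn.1 hna
    refine mem_trivOn.2 ⟨hM, fun l hl => ?_, fun d hd => hZF (h3 d hd)⟩
    simpa using mul_mem (hZF (h3 l (hFD hl))) hl
  have hanT : a⁻¹ * n * a ∈ trivOn α T F := by
    have hai : ∀ l ∈ F, a⁻¹ * l * a ∈ F := fun l hl => by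
      simpa using h.fixL_conj T hT hAM a⁻¹ (inv_mem (mem_zpowers a)) l hl
    refine mem_trivOn.2 ⟨mul_mem (mul_mem (inv_mem ha) hn) ha, fun l hl => ?_, fun d hd => ?_⟩
    · rw [show a⁻¹ * n * a * l * (a⁻¹ * n * a)⁻¹ = a⁻¹ * (n * (a * l * a⁻¹) * n⁻¹) * a by group]
      exact hai _ (hnF _ (haF l hl))
    · rw [show a⁻¹ * n * a * d * (a⁻¹ * n * a)⁻¹ * d⁻¹ =
        a⁻¹ * (n * (a * d * a⁻¹) * n⁻¹ * (a * d * a⁻¹)⁻¹) * a by group]
      exact hai _ ((mem_trivOn.1 hnT).2.2 _ (h.gD_conj T hT ha hd))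
  have haT : a ∈ trivOn α T F := mem_of_sq_mem haodd (by
    rw [show a * a = n⁻¹ * (n * a * n⁻¹ * a) * (a⁻¹ * n * a) by group]
    exact mul_mem (mul_mem (inv_mem hnT) hνT) hanT)
  refine ((h.not_moves_iff T hT ha).2 (mem_of_sq_mem haodd ?_)) hamv
  refine mem_trivOn.2 ⟨mul_mem ha ha, fun z hz => h.gZ_conj T hT (mul_mem ha ha) hz, fun d hd => ?_⟩
  set f := a * d * a⁻¹ * d⁻¹ with hf
  have hfF : f ∈ F := (mem_trivOn.1 haT).2.2 d hd
  rw [show a * a * d * (a * a)⁻¹ * d⁻¹ = (a * f * a⁻¹ * f⁻¹) * (f * f) by rw [hf]; group]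
  exact mul_mem (((h.mem_fixL T hT hAM).1 hfF).2 a (mem_zpowers a)) (h.gD_sq T hT (hFD hfF))

/-- (II). -/
theorem Min.fixed_not_moves (hneg : CenNeg ψ) {m : ℕ} (hm : r = 2 ^ m + 1)
    (hnl : ¬ MovingLines α T m) (hP : OnePoint (gM α T) (gZ α T)) (hq : 4 ≤ Nat.card (gZ α T))
    (hC : ∃ c, qAut α c = c ∧ c ∉ gM α T) :
    ∀ c ∈ gM α T, qAut α c = c → TwoEl c → ¬ MovesD α T c := by
  have hZ : gZ α T ≠ ⊥ := fun e1 => by rw [e1, Subgroup.card_bot] at hq; omega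
  intro c₀ hc₀ hc₀f hc₀2 hc₀mv
  obtain ⟨Λ, hΛf, hΛM, hΛo, hΛt⟩ := h.exists_pairStab T hT hP hneg hm hnl hZ hC
  have hΛ : TransOdd α T Λ := ⟨hΛf, hΛM, hΛo, hΛt⟩
  obtain ⟨c, hc, hcf, hc2, hmv, hcs⟩ := h.exists_moving_sq T hT hc₀ hc₀f hc₀2 hc₀mv
  -- a conjugate of `c` by a fixed element of `gM`
  have hconj : ∀ g ∈ gM α T, qAut α g = g →
      g * c * g⁻¹ ∈ cgM α T ∧ ¬ MovesD α T (g * c * g⁻¹ * (g * c * g⁻¹)) := fun g hg hgf => by
    have hM : g * c * g⁻¹ ∈ gM α T := mul_mem (mul_mem hg hc) (inv_mem hg)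
    refine ⟨⟨hM, show qAut α (g * c * g⁻¹) = g * c * g⁻¹ by rw [map_mul, map_mul, map_inv, hgf, hcf]⟩, ?_⟩
    rw [h.not_moves_iff T hT (mul_mem hM hM), show g * c * g⁻¹ * (g * c * g⁻¹) = g * (c * c) * g⁻¹ by group]
    exact h.trivOn_conj T hT hg ((h.not_moves_iff T hT (mul_mem hc hc)).1 hcs)
  by_cases hk : Nat.card (gD α T) ≤ Nat.card (gZ α T) * 2 ^ (4 * m)
  · have hab : ¬ LinesAb α T := fun hab => hnl ⟨hk, hab, c, hc, hcf, hc2, hmv⟩
    set S := zpowers c with hS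
    have hSM : S ≤ gM α T := zpowers_le.2 hc
    set L := fixL α T S with hLdef
    have hL := h.fixL_stb T hT hSM
    have hLD := h.fixL_le T hT hSM
    by_cases hall : ∀ g ∈ gM α T, qAut α g = g → ∀ l ∈ L, g * l * g⁻¹ ∈ L
    · refine hab (h.linesAb_of_tCase T hT hm hk ⟨c, hc, hcf, hc2, ?_, hmv⟩)
      have hncomm := h.fixL_noncomm T hT hm hk hab hSM (isPGroup_zpowers_of_twoEl hc2)
        ⟨c, mem_zpowers c, hmv⟩
      set U := cm (qAut α) L with hU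
      have hUD : U ≤ gD α T := (cm_le hL).trans hLD
      obtain ⟨u, hu, v, hv, huv⟩ : ∃ u ∈ U, ∃ v ∈ U, u * v ≠ v * u := by
        by_contra hh
        push Not at hh
        refine hncomm fun a ha b hb => ?_
        obtain ⟨k, hk', hkf, a', ha', rfl⟩ := exists_fixed_mul_cm h.hr h.qPow h.qCo hL ha
        obtain ⟨l, hl', hlf, b', hb', rfl⟩ := exists_fixed_mul_cm h.hr h.qPow h.qCo hL hb
        have hk2 := h.gD_fixed T hT (hLD hk') hkf
        have hl2 := h.gD_fixed T hT (hLD hl') hlf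
        calc k * a' * (l * b') = k * (a' * l) * b' := by group
          _ = k * l * (a' * b') := by rw [← h.gZ_comm T hT hl2 (hUD ha')]; group
          _ = l * k * (b' * a') := by rw [hh a' ha' b' hb', h.gZ_comm T hT hk2 (hLD hl')]
          _ = l * (k * b') * a' := by group
          _ = l * b' * (k * a') := by rw [h.gZ_comm T hT hk2 (hUD hb')]; group
      have hcen : ∀ w ∈ U, Commute c w := h.fixed_comm_cm T hT hcf hLD hL
        fun d hd => ((h.mem_fixL T hT hSM).1 hd).2 c (mem_zpowers c)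
      have hz : ⁅u, v⁆ ∈ gZ α T := h.gD_commutator T hT (hUD hu) (hUD hv)
      intro z hzZ
      rcases eq_or_ne z 1 with rfl | hz1
      · simp
      obtain ⟨g, hgΛ, rfl⟩ := hΛt _ hz (fun e1 => huv (commutatorElement_eq_one_iff_mul_comm.1 e1)) z hzZ hz1
      have hg := hΛM hgΛ
      have hgU := h.conj_cm T hT (hΛf g hgΛ) (hall g hg (hΛf g hgΛ))
      have e1 : g * ⁅u, v⁆ * g⁻¹ = ⁅g * u * g⁻¹, g * v * g⁻¹⁆ := by
        simp only [commutatorElement_def]; group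
      rw [e1, commutatorElement_def]
      exact (((hcen _ (hgU u hu)).mul_right (hcen _ (hgU v hv))).mul_right
        (hcen _ (hgU u hu)).inv_right).mul_right (hcen _ (hgU v hv)).inv_right
    push Not at hall
    obtain ⟨g, hg, hgf, l, hl, hgl⟩ := hall
    obtain ⟨hc', hcs'⟩ := hconj g hg hgf
    have hS'M : zpowers (g * c * g⁻¹) ≤ gM α T := zpowers_le.2 hc'.1
    have hmv' : MovesD α T (g * c * g⁻¹) := by
      by_contra e1
      rw [h.not_moves_iff T hT hc'.1] at e1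
      have e2 := h.trivOn_conj T hT (inv_mem hg) e1
      rw [show g⁻¹ * (g * c * g⁻¹) * g⁻¹⁻¹ = c by group] at e2
      exact (h.not_moves_iff T hT hc).2 e2 hmv
    obtain ⟨a, n, z, ha, haf, haodd, hamv, hn, -, hn2, hnmv, hna, hz, hz1, haz⟩ :=
      h.exists_odd_moving T hT hneg hm hnl hP hZ hC (mem_cgM.2 ⟨hc, hcf⟩) hc' hcs hcs' (by
        rintro ⟨P, hPM, hP2, ν, hν, ν', hν', h1, h2⟩
        obtain ⟨x, hx, hxZ⟩ : ∃ x ∈ fixL α T P, x ∉ gZ α T := by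
          by_contra hh
          push Not at hh
          exact h.fixL_ne_gZ T hT hPM hP2 (le_antisymm hh (h.gZ_le_fixL T hT hPM))
        have hxD := ((h.mem_fixL T hT hPM).1 hx).1
        have key : ∀ b ∈ gM α T, ∀ μ ∈ trivOn α T (gZ α T), b * μ ∈ P →
            x ∈ fixL α T (zpowers b) := fun b hb μ hμ hbP => by
          refine h.mem_fixL_zpowers T hT hb hxD ?_
          have e1 := ((h.mem_fixL T hT hPM).1 hx).2 _ hbP
          rw [show b * μ * x * (b * μ)⁻¹ * x⁻¹ =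
            b * (μ * x * μ⁻¹ * x⁻¹) * b⁻¹ * (b * x * b⁻¹ * x⁻¹) by group] at e1
          exact ((gZ α T).mul_mem_cancel_left
            (h.gZ_conj T hT hb ((mem_trivOn.1 hμ).2.2 x hxD))).1 e1
        have e1 : L = fixL α T (zpowers (g * c * g⁻¹)) := h.line_eq T hT hm hk (h.gZ_le_fixL T hT hSM)
          hLD hL (h.fixL_ne_gD T hT hSM (mem_zpowers c) hmv) (h.gZ_le_fixL T hT hS'M)
          (h.fixL_le T hT hS'M) (h.fixL_stb T hT hS'M)
          (h.fixL_ne_gD T hT hS'M (mem_zpowers _) hmv') (key c hc ν hν h1) (key _ hc'.1 ν' hν' h2) hxZ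
        refine hgl (e1 ▸ h.mem_fixL_zpowers T hT hc'.1 (h.gD_conj T hT hg (hLD hl)) ?_)
        rw [show g * c * g⁻¹ * (g * l * g⁻¹) * (g * c * g⁻¹)⁻¹ * (g * l * g⁻¹)⁻¹ =
          g * (c * l * c⁻¹ * l⁻¹) * g⁻¹ by group]
        exact h.gZ_conj T hT hg (((h.mem_fixL T hT hSM).1 hl).2 c (mem_zpowers c)))
    exact h.false_of_inverted T hT hm hk ha haodd hamv hn hn2 hnmv hna
      (h.fixL_ne_gZ_of_odd T hT hneg hΛ hq ha haf haodd hz hz1 haz)
  -- at least three layers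
  have hq4 : Nat.card (gZ α T) = 4 := by
    by_contra hne
    exact hk ((h.card_le_of_orbit T hT hneg hm hΛ hq).2 hne)
  have hnoT : ¬ ∀ z ∈ gZ α T, c * z = z * c := fun e1 =>
    hk (h.card_le_of_tCase T hT hneg hm ⟨c, hc, hcf, hc2, e1, hmv⟩)
  obtain ⟨z₁, hz₁, hz₁1, hz₁c⟩ := h.exists_two_fix T hT hZ (zpowers_le.2 hc)
    (isPGroup_zpowers_of_twoEl hc2)
  replace hz₁c := hz₁c c (mem_zpowers c)
  push Not at hnoT
  obtain ⟨z₂, hz₂, hz₂c⟩ := hnoT
  have hz₂1 : z₂ ≠ 1 := fun e1 => hz₂c (by rw [e1, mul_one, one_mul])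
  have hz12 : z₁ ≠ z₂ := fun e1 => hz₂c (e1 ▸ hz₁c)
  have honly : ∀ z ∈ gZ α T, z ≠ 1 → c * z = z * c → z = z₁ := fun z hz hz1 hzc => by
    by_contra hne
    refine hz₂c ?_
    rcases h.gZ_four_cases T hT hq4 hz₁ hz hz₁1 hz1 (Ne.symm hne) hz₂ with e1 | e1 | e1 | e1
    · exact absurd e1 hz₂1
    · exact absurd e1.symm hz12
    · rw [e1]; exact hzc
    · rw [e1]; exact Commute.mul_right hz₁c hzc
  obtain ⟨g, hgΛ, hg12⟩ := hΛt z₁ hz₁ hz₁1 z₂ hz₂ hz₂1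
  have hg := hΛM hgΛ
  obtain ⟨hc', hcs'⟩ := hconj g hg (hΛf g hgΛ)
  obtain ⟨a, n, z, ha, haf, haodd, hamv, -, -, -, -, -, hz, hz1, haz⟩ :=
    h.exists_odd_moving T hT hneg hm hnl hP hZ hC (mem_cgM.2 ⟨hc, hcf⟩) hc' hcs hcs' (by
      rintro ⟨P, hPM, hP2, ν, hν, ν', hν', h1, h2⟩
      obtain ⟨z, hz, hz1, hzP⟩ := h.exists_two_fix T hT hZ hPM hP2
      have key : ∀ b μ, μ ∈ trivOn α T (gZ α T) → b * μ ∈ P → Commute b z := fun b μ hμ hbP => by
        have e1 : Commute μ z := h.comm_gZ_of_not_moves T hT (mem_trivOn.1 hμ).1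
          ((h.not_moves_iff T hT (mem_trivOn.1 hμ).1).2 hμ) z hz
        simpa [mul_assoc] using (show Commute (b * μ) z from hzP _ hbP).mul_left e1.inv_left
      have hz_eq : z = z₁ := honly z hz hz1 (key c ν hν h1)
      have e2 : g⁻¹ * z * g = z₁ := by
        refine honly _ (by simpa using h.gZ_conj T hT (inv_mem hg) hz) (fun e3 => hz1 ?_) ?_
        · rw [show z = g * (g⁻¹ * z * g) * g⁻¹ by group, e3, mul_one, mul_inv_cancel]
        · have e3 : g * c * g⁻¹ * z = z * (g * c * g⁻¹) := key _ ν' hν' h2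
          calc c * (g⁻¹ * z * g) = g⁻¹ * (g * c * g⁻¹ * z) * g := by group
            _ = g⁻¹ * (z * (g * c * g⁻¹)) * g := by rw [e3]
            _ = g⁻¹ * z * g * c := by group
      refine hz12 ?_
      calc z₁ = g * (g⁻¹ * z * g) * g⁻¹ := by rw [hz_eq]; group
        _ = z₂ := by rw [e2, hg12])
  refine h.not_moves_of_central T hT hneg ha haf haodd ?_ hamv
  intro y hy
  rcases eq_or_ne y 1 with rfl | hy1
  · simp
  rcases eq_or_ne y z with rfl | hyz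
  · exact haz
  have haz' : Commute a z := haz
  refine mul_inv_eq_iff_eq_mul.1 ?_
  rcases h.gZ_four_cases T hT hq4 hz hy hz1 hy1 (Ne.symm hyz) (h.gZ_conj T hT ha hy) with e1 | e1 | e1 | e1
  · exact absurd (by simpa using e1) hy1
  · refine absurd ?_ hyz
    rw [show y = a⁻¹ * (a * y * a⁻¹) * a by group, e1, mul_assoc, ← haz, inv_mul_cancel_left]
  · exact e1
  · -- `a * a` centralises `y`
    have h2 : a * a ∈ Subgroup.centralizer {y} := mem_centralizer_singleton_iff.2 (by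
      refine mul_inv_eq_iff_eq_mul.1 ?_
      calc a * a * y * (a * a)⁻¹ = a * (a * y * a⁻¹) * a⁻¹ := by group
        _ = a * (z * y) * a⁻¹ := by rw [e1]
        _ = a * z * a⁻¹ * (a * y * a⁻¹) := by group
        _ = z * (z * y) := by rw [e1, haz, mul_inv_cancel_right]
        _ = y := by rw [← mul_assoc, h.gZ_sq T hT hz, one_mul])
    exact mul_inv_eq_iff_eq_mul.2 (mem_centralizer_singleton_iff.1 (mem_of_sq_mem haodd h2))

end Cfsg.Agent.Lib.HHS57
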