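import Cfsg.Agent.Lib.HHS57.SingLine
import Cfsg.Agent.Lib.HHS57.Transitive
import Cfsg.Agent.Lib.HHS57.FAll

/-!
# Elements of `gM` acting trivially above a subgroup (helper18)

`trivOn F` consists of the elements of `gM` stabilising `F` and acting trivially on `gD / F`.
-/

set_option autoImplicit false
set_option linter.style.haveILetI false
set_option linter.unusedSectionVars false

namespace Cfsg.Agent.Lib.HHS57

open Cfsg Cfsg.Agent.Lib
open Subgroup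
open scoped commutatorElement

universe u

variable {H : Type u} [Group H] [Finite H] {p r : ℕ} {α : MulAut H} {V : Type u} [CommGroup V]
  [Finite V] {ψ : H →* MulAut V} {e : MulAut V}

/-- Stabilising `F` and trivial on `gD / F`. -/
noncomputable def trivOn (α : MulAut H) (T : Sylow 2 H) (F : Subgroup (H ⧸ Subgroup.center H)) :
    Subgroup (H ⧸ Subgroup.center H) :=
  closure {s | s ∈ gM α T ∧ (∀ l ∈ F, s * l * s⁻¹ ∈ F) ∧ ∀ d ∈ gD α T, s * d * s⁻¹ * d⁻¹ ∈ F}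

/-- The fixed elements of `gM`. -/
noncomputable def cgM (α : MulAut H) (T : Sylow 2 H) : Subgroup (H ⧸ Subgroup.center H) :=
  gM α T ⊓ fixG (qAut α)

theorem mem_cgM {T : Sylow 2 H} {c : H ⧸ Subgroup.center H} :
    c ∈ cgM α T ↔ c ∈ gM α T ∧ qAut α c = c := Iff.rfl

omit [Finite H] in
theorem mem_trivOn_iff_aux {T : Sylow 2 H} {F : Subgroup (H ⧸ Subgroup.center H)}
    {s t : H ⧸ Subgroup.center H}
    (hs : s ∈ gM α T ∧ (∀ l ∈ F, s * l * s⁻¹ ∈ F) ∧ ∀ d ∈ gD α T, s * d * s⁻¹ * d⁻¹ ∈ F)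
    (ht : t ∈ gM α T ∧ (∀ l ∈ F, t * l * t⁻¹ ∈ F) ∧ ∀ d ∈ gD α T, t * d * t⁻¹ * d⁻¹ ∈ F) :
    s * t ∈ gM α T ∧ (∀ l ∈ F, s * t * l * (s * t)⁻¹ ∈ F) ∧
      ∀ d ∈ gD α T, s * t * d * (s * t)⁻¹ * d⁻¹ ∈ F := by
  refine ⟨mul_mem hs.1 ht.1, fun l hl => ?_, fun d hd => ?_⟩
  · rw [show s * t * l * (s * t)⁻¹ = s * (t * l * t⁻¹) * s⁻¹ by group]
    exact hs.2.1 _ (ht.2.1 l hl)
  · rw [show s * t * d * (s * t)⁻¹ * d⁻¹ =
      s * (t * d * t⁻¹ * d⁻¹) * s⁻¹ * (s * d * s⁻¹ * d⁻¹) by group]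
    exact mul_mem (hs.2.1 _ (ht.2.2 d hd)) (hs.2.2 d hd)

theorem mem_trivOn {T : Sylow 2 H} {F : Subgroup (H ⧸ Subgroup.center H)}
    {s : H ⧸ Subgroup.center H} :
    s ∈ trivOn α T F ↔
      s ∈ gM α T ∧ (∀ l ∈ F, s * l * s⁻¹ ∈ F) ∧ ∀ d ∈ gD α T, s * d * s⁻¹ * d⁻¹ ∈ F := by
  let M : Submonoid (H ⧸ Subgroup.center H) :=
    { carrier := {s | s ∈ gM α T ∧ (∀ l ∈ F, s * l * s⁻¹ ∈ F) ∧ ∀ d ∈ gD α T, s * d * s⁻¹ * d⁻¹ ∈ F}
      one_mem' := ⟨one_mem _, fun l hl => by simpa using hl, fun d _ => by simp⟩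
      mul_mem' := fun hs ht => mem_trivOn_iff_aux hs ht }
  refine ⟨fun hs => ?_, fun hs => subset_closure hs⟩
  show s ∈ M
  induction hs using closure_induction with
  | mem x hx => exact hx
  | one => exact M.one_mem
  | mul x y _ _ hx hy => exact M.mul_mem hx hy
  | inv x _ hx =>
    obtain ⟨k, hk⟩ : x⁻¹ ∈ Submonoid.powers x := by
      rw [mem_powers_iff_mem_zpowers]
      exact inv_mem (mem_zpowers x)
    rw [← hk]
    exact pow_mem hx k

/-- An odd element lies in a subgroup containing its square. -/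
theorem mem_of_sq_mem {X : Type*} [Group X] {K : Subgroup X} {a : X} (ho : Odd (orderOf a))
    (h2 : a * a ∈ K) : a ∈ K := by
  obtain ⟨i, hi⟩ := ho
  have e : a = (a * a) ^ (i + 1) := by
    rw [← pow_two, ← pow_mul, show 2 * (i + 1) = (2 * i + 1) + 1 by ring, pow_succ, ← hi,
      pow_orderOf_eq_one, one_mul]
  rw [e]
  exact pow_mem h2 _

/-- A `2`-subgroup of a quotient is covered by a `2`-subgroup. -/
theorem exists_lift_twoGroup {C : Type*} [Group C] [Finite C] (N : Subgroup C) [N.Normal]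
    {S : Subgroup (C ⧸ N)} (hS : IsPGroup 2 S) :
    ∃ P : Subgroup C, IsPGroup 2 P ∧ ∀ x ∈ S, ∃ y ∈ P, (y : C ⧸ N) = x := by
  haveI : Fact (Nat.Prime 2) := ⟨Nat.prime_two⟩
  set K := S.comap (QuotientGroup.mk' N) with hK
  obtain ⟨P⟩ : Nonempty (Sylow 2 K) := inferInstance
  let f : K →* S := ((QuotientGroup.mk' N).comp K.subtype).codRestrict _ fun w => w.2
  have hf : Function.Surjective f := fun v => by
    obtain ⟨w, hw⟩ := QuotientGroup.mk'_surjective N (v : C ⧸ N)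
    exact ⟨⟨w, by rw [hK, mem_comap, hw]; exact v.2⟩, Subtype.ext hw⟩
  have htop : ((P.mapSurjective hf : Sylow 2 S) : Subgroup S) = ⊤ :=
    ((P.mapSurjective hf).is_maximal' (Q := ⊤) (hS.of_equiv topEquiv.symm) le_top).symm
  refine ⟨(P : Subgroup K).map K.subtype, P.isPGroup'.map _, fun x hx => ?_⟩
  obtain ⟨y, hy, hyx⟩ : (⟨x, hx⟩ : S) ∈ ((P.mapSurjective hf : Sylow 2 S) : Subgroup S) :=
    htop ▸ mem_top _
  exact ⟨y, ⟨y, hy, rfl⟩, congrArg Subtype.val hyx⟩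

variable (h : Min p r α ψ e) (T : Sylow 2 H) (hT : Stb α (T : Subgroup H))

include h hT

theorem Min.not_moves_iff {s : H ⧸ Subgroup.center H} (hs : s ∈ gM α T) :
    ¬ MovesD α T s ↔ s ∈ trivOn α T (gZ α T) := by
  rw [mem_trivOn, MovesD]
  push Not
  exact ⟨fun hd => ⟨hs, fun z hz => h.gZ_conj T hT hs hz, hd⟩, fun hx => hx.2.2⟩

theorem Min.trivOn_conj {c s : H ⧸ Subgroup.center H} (hc : c ∈ gM α T)
    (hs : s ∈ trivOn α T (gZ α T)) : c * s * c⁻¹ ∈ trivOn α T (gZ α T) := by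
  rw [mem_trivOn] at hs ⊢
  have hm : c * s * c⁻¹ ∈ gM α T := mul_mem (mul_mem hc hs.1) (inv_mem hc)
  refine ⟨hm, fun z hz => h.gZ_conj T hT hm hz, fun d hd => ?_⟩
  rw [show c * s * c⁻¹ * d * (c * s * c⁻¹)⁻¹ * d⁻¹ =
    c * (s * (c⁻¹ * d * c) * s⁻¹ * (c⁻¹ * d * c)⁻¹) * c⁻¹ by group]
  exact h.gZ_conj T hT hc (hs.2.2 _ (by simpa using h.gD_conj T hT (inv_mem hc) hd))

/-- Being fixed modulo `gZ` passes to powers. -/
theorem Min.mem_fixL_zpowers {c d : H ⧸ Subgroup.center H} (hc : c ∈ gM α T) (hd : d ∈ gD α T)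
    (hcd : c * d * c⁻¹ * d⁻¹ ∈ gZ α T) : d ∈ fixL α T (zpowers c) := by
  refine (h.mem_fixL T hT (zpowers_le.2 hc)).2 ⟨hd, fun s hs => ?_⟩
  obtain ⟨k, rfl⟩ := mem_powers_iff_mem_zpowers.2 hs
  induction k with
  | zero => simp
  | succ k ih =>
    rw [show c ^ (k + 1) * d * (c ^ (k + 1))⁻¹ * d⁻¹ =
      c ^ k * (c * d * c⁻¹ * d⁻¹) * (c ^ k)⁻¹ * (c ^ k * d * (c ^ k)⁻¹ * d⁻¹) by
        rw [pow_succ]; group]
    exact mul_mem (h.gZ_conj T hT (pow_mem hc k) hcd) (ih (pow_mem (mem_zpowers c) k))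

/-- A `2`-element moving `gD` has a power moving `gD` with nonmoving square. -/
theorem Min.exists_moving_sq {c : H ⧸ Subgroup.center H} (hc : c ∈ gM α T) (hcf : qAut α c = c)
    (hc2 : TwoEl c) (hmv : MovesD α T c) :
    ∃ c' ∈ gM α T, qAut α c' = c' ∧ TwoEl c' ∧ MovesD α T c' ∧ ¬ MovesD α T (c' * c') := by
  obtain ⟨k, hk⟩ := hc2
  induction k generalizing c with
  | zero =>
    rw [pow_zero, pow_one] at hk
    obtain ⟨d, -, hd'⟩ := hmv
    exact absurd (by rw [hk]; simp) hd'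
  | succ k ih =>
    by_cases h2 : MovesD α T (c * c)
    · refine ih (mul_mem hc hc) (by rw [map_mul, hcf]) h2 ?_
      rw [← pow_two, ← pow_mul, ← pow_succ']; exact hk
    · exact ⟨c, hc, hcf, ⟨k + 1, hk⟩, hmv, h2⟩

/-- A `2`-group of `gM` centralises some element of `gZ`. -/
theorem Min.exists_two_fix (hZ : gZ α T ≠ ⊥) {S : Subgroup (H ⧸ Subgroup.center H)} (hS : S ≤ gM α T)
    (hS2 : IsPGroup 2 S) : ∃ z ∈ gZ α T, z ≠ 1 ∧ ∀ s ∈ S, s * z = z * s := by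
  haveI : Fact (Nat.Prime 2) := ⟨Nat.prime_two⟩
  letI : MulAction S (gZ α T) :=
    { smul := fun s z => ⟨(s : H ⧸ Subgroup.center H) * z * (s : H ⧸ Subgroup.center H)⁻¹,
        h.gZ_conj T hT (hS s.2) z.2⟩
      one_smul := fun z => Subtype.ext (by
        show ((1 : S) : H ⧸ Subgroup.center H) * z * ((1 : S) : H ⧸ Subgroup.center H)⁻¹ = z
        simp)
      mul_smul := fun s t z => Subtype.ext (by
        show ((s * t : S) : H ⧸ Subgroup.center H) * z * ((s * t : S) : H ⧸ Subgroup.center H)⁻¹ =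
          (s : H ⧸ Subgroup.center H) * ((t : H ⧸ Subgroup.center H) * z * (t : H ⧸ Subgroup.center H)⁻¹) *
            (s : H ⧸ Subgroup.center H)⁻¹
        rw [Subgroup.coe_mul]; group) }
  have hdvd : 2 ∣ Nat.card (gZ α T) := by
    obtain ⟨i, hi⟩ := IsPGroup.iff_card.1 ((h.gD_isPGroup T hT).to_le (h.gZ_le_gD T hT))
    rw [hi]
    exact dvd_pow_self 2 fun h0 => hZ (Subgroup.card_eq_one.1 (by rw [hi, h0, pow_zero]))
  obtain ⟨z, hz, hz1⟩ := hS2.exists_fixed_point_of_prime_dvd_card_of_fixed_point (α := gZ α T) hdvd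
    (a := 1) (fun s => Subtype.ext (by
      show (s : H ⧸ Subgroup.center H) * ((1 : gZ α T) : H ⧸ Subgroup.center H) * _ = _
      simp))
  refine ⟨z, z.2, fun e => hz1 (Subtype.ext e).symm, fun s hs => ?_⟩
  have h1 : s * z * s⁻¹ = (z : H ⧸ Subgroup.center H) := congrArg Subtype.val (hz ⟨s, hs⟩)
  exact mul_inv_eq_iff_eq_mul.1 h1

/-- The four elements of `gZ`. -/
theorem Min.gZ_four_cases (hq : Nat.card (gZ α T) = 4) {a b y : H ⧸ Subgroup.center H}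
    (ha : a ∈ gZ α T) (hb : b ∈ gZ α T) (ha1 : a ≠ 1) (hb1 : b ≠ 1) (hab : a ≠ b) (hy : y ∈ gZ α T) :
    y = 1 ∨ y = a ∨ y = b ∨ y = a * b := by
  classical
  haveI := Fintype.ofFinite (gZ α T)
  have hab1 : a * b ≠ 1 := fun e => hab (mul_left_cancel
    (show a * a = a * b by rw [h.gZ_sq T hT ha, e]))
  have hs : ({1, ⟨a, ha⟩, ⟨b, hb⟩, ⟨a * b, mul_mem ha hb⟩} : Finset (gZ α T)) = Finset.univ := by
    refine Finset.eq_univ_of_card _ ?_
    rw [← Nat.card_eq_fintype_card, hq]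
    repeat rw [Finset.card_insert_of_notMem]
    · rfl
    all_goals simp [Subtype.ext_iff, ha1, hb1, hab, Ne.symm ha1, Ne.symm hb1, Ne.symm hab1]
  have h1 := hs.symm ▸ Finset.mem_univ (⟨y, hy⟩ : gZ α T)
  simpa [Subtype.ext_iff] using h1

end Cfsg.Agent.Lib.HHS57
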