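import Cfsg.Agent.Lib.HHS57.MovingBasics
import Cfsg.Agent.Lib.HHS57.ThreeLines

/-!
# Moving lines are impossible (helper18)

With two layers and abelian lines the line of a moving fixed `2`-element is stable under `gM`
(at most two abelian lines), and every element of `gD` outside it has all of `gZ` as commutators
with the line, so some involution of `gD` does not commute with it: `singular_case` applies.
-/

set_option autoImplicit false
set_option linter.style.haveILetI false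
set_option linter.unusedSectionVars false

namespace Cfsg.Agent.Lib.HHS57

open Cfsg Cfsg.Agent.Lib
open Subgroup
open scoped commutatorElement

universe u

variable {H : Type u} [Group H] [Finite H] {p r : ℕ} {α : MulAut H} {V : Type u} [CommGroup V]
  [Finite V] {ψ : H →* MulAut V} {e : MulAut V}

/-- Powers of a stabilising element stabilise. -/
theorem zpowers_stab {X : Type*} [Group X] [Finite X] {F : Subgroup X} {c : X}
    (hc : ∀ l ∈ F, c * l * c⁻¹ ∈ F) : ∀ s ∈ zpowers c, ∀ l ∈ F, s * l * s⁻¹ ∈ F := by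
  intro s hs
  obtain ⟨k, rfl⟩ := mem_powers_iff_mem_zpowers.2 hs
  induction k with
  | zero => intro l hl; simpa using hl
  | succ k ih =>
    intro l hl
    rw [show c ^ (k + 1) * l * (c ^ (k + 1))⁻¹ = c ^ k * (c * l * c⁻¹) * (c ^ k)⁻¹ by
      rw [pow_succ]; group]
    exact ih (pow_mem (mem_zpowers c) k) _ (hc l hl)

variable (h : Min p r α ψ e) (T : Sylow 2 H) (hT : Stb α (T : Subgroup H))

include h hT

/-- A fixed element stabilising `L` stabilises `cm L`. -/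
theorem Min.conj_cm {L : Subgroup (H ⧸ Subgroup.center H)} {c : H ⧸ Subgroup.center H}
    (hcf : qAut α c = c) (hcL : ∀ l ∈ L, c * l * c⁻¹ ∈ L) :
    ∀ u ∈ cm (qAut α) L, c * u * c⁻¹ ∈ cm (qAut α) L := by
  have hle : cm (qAut α) L ≤ (cm (qAut α) L).comap (MulAut.conj c).toMonoidHom := cm_le_iff.2 fun x hx => by
    rw [mem_comap]
    show c * (x⁻¹ * qAut α x) * c⁻¹ ∈ _
    rw [show c * (x⁻¹ * qAut α x) * c⁻¹ = (c * x * c⁻¹)⁻¹ * qAut α (c * x * c⁻¹) by
      rw [map_mul, map_mul, map_inv, hcf]; group]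
    exact mem_cm (hcL x hx)
  exact fun u hu => hle hu

/-- A `2`-group stabilising a subgroup of index one layer is trivial above it. -/
theorem Min.trivial_top {m : ℕ} (hm : r = 2 ^ m + 1) {L : Subgroup (H ⧸ Subgroup.center H)}
    (hZL : gZ α T ≤ L) (hLD : L ≤ gD α T) (hL : Stb (qAut α) L)
    (hcard : Nat.card (gD α T) ≤ Nat.card L * 2 ^ (2 * m)) {S : Subgroup (H ⧸ Subgroup.center H)}
    (hS : S ≤ gM α T) (hS2 : IsPGroup 2 S) (hSL : ∀ s ∈ S, ∀ l ∈ L, s * l * s⁻¹ ∈ L) :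
    ∀ s ∈ S, ∀ d ∈ gD α T, s * d * s⁻¹ * d⁻¹ ∈ L := by
  rcases eq_or_ne L (gD α T) with rfl | hne
  · exact fun s hs d hd => h.gZ_cmul T hT (hS hs) hd
  have hcjD : ∀ s ∈ S, ∀ d ∈ gD α T, s * d * s⁻¹ ∈ gD α T := fun s hs d hd => h.gD_conj T hT (hS hs) hd
  let X : Subgroup (H ⧸ Subgroup.center H) :=
    { carrier := {d | d ∈ gD α T ∧ ∀ s ∈ S, s * d * s⁻¹ * d⁻¹ ∈ L}
      one_mem' := ⟨one_mem _, fun s _ => by simp⟩
      mul_mem' := fun {a b} ha hb => ⟨mul_mem ha.1 hb.1, fun s hs => by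
        rw [show s * (a * b) * s⁻¹ * (a * b)⁻¹ =
          (s * a * s⁻¹ * a⁻¹) * (a * (s * b * s⁻¹ * b⁻¹) * a⁻¹) by group]
        exact mul_mem (ha.2 s hs) (h.gD_conj_mem T hT hZL hLD ha.1 (hb.2 s hs))⟩
      inv_mem' := fun {a} ha => ⟨inv_mem ha.1, fun s hs => by
        rw [show s * a⁻¹ * s⁻¹ * a⁻¹⁻¹ = a⁻¹ * (s * a * s⁻¹ * a⁻¹)⁻¹ * a⁻¹⁻¹ by group]
        exact h.gD_conj_mem T hT hZL hLD (inv_mem ha.1) (inv_mem (ha.2 s hs))⟩ }
  obtain ⟨y, hy, hyL, hys⟩ := h.exists_fixed_class T hT hZL hLD le_rfl hne hS2 hSL hcjD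
  have hLX : L ≤ X := fun l hl => ⟨hLD hl, fun s hs => mul_mem (hSL s hs l hl) (inv_mem hl)⟩
  have hXα : Stb (qAut α) X := fun d hd => by
    have hd' := h.gD_stb T hT d hd.1
    refine ⟨hd', fun s hs => ?_⟩
    have h1 := hL _ (hd.2 s hs)
    rw [map_mul, map_mul, map_mul, map_inv, map_inv] at h1
    have h2 := h.act_moved T hT (hS hs) hd'
    set ζ := (s * qAut α d * s⁻¹)⁻¹ * (qAut α s * qAut α d * (qAut α s)⁻¹) with hζ
    rw [show qAut α s * qAut α d * (qAut α s)⁻¹ * (qAut α d)⁻¹ =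
      (s * qAut α d * s⁻¹) * ζ * (qAut α d)⁻¹ by rw [hζ]; group,
      ← h.gZ_comm T hT h2 (hcjD s hs _ hd'), mul_assoc] at h1
    simpa using mul_mem (inv_mem (hZL h2)) h1
  have hLXne : L ≠ X := fun e1 => hyL (e1 ▸ (⟨hy, hys⟩ : y ∈ X) : y ∈ L)
  have h1 := h.gLayer T hT hm hZL hLX (fun d hd => hd.1) hL hXα hLXne
  have hXD : X = gD α T := Subgroup.eq_of_le_of_card_ge (fun d hd => hd.1) (hcard.trans h1)
  intro s hs d hd
  exact ((hXD ▸ hd : d ∈ X)).2 s hs

section Lines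

variable {m : ℕ} (hm : r = 2 ^ m + 1) (hk : Nat.card (gD α T) ≤ Nat.card (gZ α T) * 2 ^ (4 * m))

include hm hk

/-- An abelian line of a moving `2`-element is stable under the fixed elements of `gM`. -/
theorem Min.moving_stable (hneg : CenNeg ψ) (hq : 4 ≤ Nat.card (gZ α T))
    {c : H ⧸ Subgroup.center H} (hc : c ∈ gM α T) (hcf : qAut α c = c) (hc2 : TwoEl c)
    (hmv : MovesD α T c)
    (hcomm : ∀ a ∈ fixL α T (zpowers c), ∀ b ∈ fixL α T (zpowers c), a * b = b * a) :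
    ∀ g ∈ gM α T, qAut α g = g → ∀ l ∈ fixL α T (zpowers c), g * l * g⁻¹ ∈ fixL α T (zpowers c) := by
  intro g hg hgf
  set S := zpowers c with hS
  have hSM : S ≤ gM α T := zpowers_le.2 hc
  have hS2 : IsPGroup 2 S := isPGroup_zpowers_of_twoEl hc2
  set L := fixL α T S with hLdef
  have hZL := h.gZ_le_fixL T hT hSM
  have hLD := h.fixL_le T hT hSM
  have hL := h.fixL_stb T hT hSM
  have h1 := h.fixL_ne_gZ T hT hSM hS2
  have h2 := h.fixL_ne_gD T hT hSM (mem_zpowers c) hmv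
  -- a conjugate of a line by a fixed element of `gM`
  have hmap : ∀ X : Subgroup (H ⧸ Subgroup.center H), gZ α T ≤ X → X ≤ gD α T → Stb (qAut α) X →
      X ≠ gZ α T → X ≠ gD α T → (∀ a ∈ X, ∀ b ∈ X, a * b = b * a) →
      ∀ g ∈ gM α T, qAut α g = g →
      gZ α T ≤ X.map (MulAut.conj g).toMonoidHom ∧ X.map (MulAut.conj g).toMonoidHom ≤ gD α T ∧
      Stb (qAut α) (X.map (MulAut.conj g).toMonoidHom) ∧
      X.map (MulAut.conj g).toMonoidHom ≠ gZ α T ∧ X.map (MulAut.conj g).toMonoidHom ≠ gD α T ∧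
      (∀ a ∈ X.map (MulAut.conj g).toMonoidHom, ∀ b ∈ X.map (MulAut.conj g).toMonoidHom,
        a * b = b * a) := by
    intro X hZX hXD hX hX1 hX2 hXc g hg hgf
    have hcard : Nat.card (X.map (MulAut.conj g).toMonoidHom) = Nat.card X :=
      Subgroup.card_map_of_injective (MulAut.conj g).injective
    have hZ' : gZ α T ≤ X.map (MulAut.conj g).toMonoidHom := fun z hz =>
      ⟨g⁻¹ * z * g, hZX (by simpa using h.gZ_conj T hT (inv_mem hg) hz),
        show g * (g⁻¹ * z * g) * g⁻¹ = z by group⟩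
    have hD' : X.map (MulAut.conj g).toMonoidHom ≤ gD α T := by
      rintro _ ⟨x, hx, rfl⟩
      exact h.gD_conj T hT hg (hXD hx)
    refine ⟨hZ', hD', ?_, fun e1 => hX1 ?_, fun e1 => hX2 ?_, ?_⟩
    · rintro _ ⟨x, hx, rfl⟩
      exact ⟨qAut α x, hX x hx, show g * qAut α x * g⁻¹ = qAut α (g * x * g⁻¹) by
        rw [map_mul, map_mul, map_inv, hgf]⟩
    · exact (Subgroup.eq_of_le_of_card_ge hZX (le_of_eq (by rw [← hcard, e1]))).symm
    · exact Subgroup.eq_of_le_of_card_ge hXD (le_of_eq (by rw [← hcard, e1]))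
    · rintro _ ⟨a, ha, rfl⟩ _ ⟨b, hb, rfl⟩
      rw [← map_mul, ← map_mul, hXc a ha b hb]
  set L' := L.map (MulAut.conj g).toMonoidHom with hL'def
  obtain ⟨hZ', hD', hS', h1', h2', hc'⟩ := hmap L hZL hLD hL h1 h2 hcomm g hg hgf
  rw [← hL'def] at hZ' hD' hS' h1' h2' hc'
  suffices hLL : L' = L from fun l hl => hLL.le ⟨l, hl, rfl⟩
  by_contra hne
  set L'' := L'.map (MulAut.conj c).toMonoidHom with hL''def
  obtain ⟨hZ'', hD'', hS'', h1'', h2'', hc''⟩ := hmap L' hZ' hD' hS' h1' h2' hc' c hc hcf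
  rw [← hL''def] at hZ'' hD'' hS'' h1'' h2'' hc''
  have h23 : L'' ≠ L' := fun e1 => by
    obtain ⟨y, hy, hyZ, hys⟩ := h.exists_fixed_class T hT le_rfl hZ' hD' h1'.symm hS2
      (fun s hs z hz => h.gZ_conj T hT (hSM hs) hz)
      (zpowers_stab fun l hl => e1.le ⟨l, hl, rfl⟩)
    exact hne (h.line_eq T hT hm hk hZ' hD' hS' h2' hZL hLD hL h2 hy
      ((h.mem_fixL T hT hSM).2 ⟨hD' hy, hys⟩) hyZ)
  have h13 : L'' ≠ L := fun e1 => by
    refine hne (Subgroup.eq_of_le_of_card_ge (fun x hx => ?_) (le_of_eq ?_))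
    · have h3 : c * x * c⁻¹ ∈ L := e1.le ⟨x, hx, rfl⟩
      have h4 := h.fixL_conj T hT hSM c⁻¹ (inv_mem (mem_zpowers c)) _ h3
      simpa [mul_assoc] using h4
    · rw [hL'def, Subgroup.card_map_of_injective (MulAut.conj g).injective]
  refine h.no_three_lines T hT hneg hm hk hq ![L, L', L''] ?_ ?_ ?_ ?_ ?_ ?_ ?_
  all_goals try (intro i; fin_cases i <;> assumption)
  intro i j hij
  fin_cases i <;> fin_cases j
  all_goals simp at hij
  all_goals
    first
      | rfl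
      | exact absurd hij hne
      | exact absurd hij.symm hne
      | exact absurd hij h23
      | exact absurd hij.symm h23
      | exact absurd hij h13
      | exact absurd hij.symm h13

/-- (I). -/
theorem Min.false_of_movingLines (hneg : CenNeg ψ) (hP : OnePoint (gM α T) (gZ α T))
    (hq : 4 ≤ Nat.card (gZ α T))
    (htrans : ∀ z ∈ gZ α T, z ≠ 1 → ∀ z' ∈ gZ α T, z' ≠ 1 →
      ∃ g ∈ gM α T, qAut α g = g ∧ g * z * g⁻¹ = z')
    (hab : LinesAb α T) {c : H ⧸ Subgroup.center H} (hc : c ∈ gM α T) (hcf : qAut α c = c)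
    (hc2 : TwoEl c) (hmv : MovesD α T c) : False := by
  set S := zpowers c with hS
  have hSM : S ≤ gM α T := zpowers_le.2 hc
  have hS2 : IsPGroup 2 S := isPGroup_zpowers_of_twoEl hc2
  set L := fixL α T S with hLdef
  have hZL := h.gZ_le_fixL T hT hSM
  have hLD := h.fixL_le T hT hSM
  have hL := h.fixL_stb T hT hSM
  have h1 := h.fixL_ne_gZ T hT hSM hS2
  have h2 := h.fixL_ne_gD T hT hSM (mem_zpowers c) hmv
  have hcomm := hab S hSM hS2 ⟨c, mem_zpowers c, hmv⟩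
  have hstab := h.moving_stable T hT hm hk hneg hq hc hcf hc2 hmv hcomm
  have hall : ∀ g ∈ gM α T, ∀ l ∈ L, g * l * g⁻¹ ∈ L := fun g hg l hl => by
    obtain ⟨a, ha, haf, d, hd, rfl⟩ := h.gM_eq T hT hg
    rw [show a * d * l * (a * d)⁻¹ = a * (d * l * d⁻¹) * a⁻¹ by group]
    exact hstab a ha haf _ (h.gD_conj_mem T hT hZL hLD hd hl)
  have hcard : Nat.card (gD α T) ≤ Nat.card L * 2 ^ (2 * m) := by
    rw [h.line_card T hT hm hk hZL hLD hL h1 h2, mul_assoc, ← pow_add,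
      show 2 * m + 2 * m = 4 * m by ring]
    exact hk
  have hinv : ∀ j ∈ gM α T, j * j = 1 → ∀ d ∈ gD α T, j * d * j⁻¹ * d⁻¹ ∈ L := fun j hj hjj =>
    h.trivial_top T hT hm hZL hLD hL hcard (zpowers_le.2 hj)
      (isPGroup_zpowers_of_twoEl ⟨1, by rw [pow_one, pow_two, hjj]⟩)
      (zpowers_stab (hall j hj)) j (mem_zpowers j)
  obtain ⟨d, hd, u₀, hu₀, hne⟩ := h.exists_not_comm_line T hT hneg hZL hLD hL h1 h2 hcomm
  set U := cm (qAut α) L with hU
  have hUL : U ≤ L := cm_le hL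
  have hUD : U ≤ gD α T := hUL.trans hLD
  obtain ⟨-, hexp⟩ := h.gAbelian_facts T hT hUD (stb_cm hL) (cm_cm h.hr h.qPow h.qCo hL)
    (fun a ha b hb => hcomm a (hUL ha) b (hUL hb))
  have hbr : ∀ x ∈ gD α T, ∀ u ∈ U, ⁅x, u⁆ ∈ gZ α T := fun x hx u hu =>
    h.gD_commutator T hT hx (hUD hu)
  -- the commutators of `d` with `U`
  let Sd : Subgroup (H ⧸ Subgroup.center H) :=
    { carrier := {z | ∃ u ∈ U, ⁅d, u⁆ = z}
      one_mem' := ⟨1, one_mem _, commutatorElement_one_right d⟩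
      mul_mem' := by
        rintro _ _ ⟨u, hu, rfl⟩ ⟨v, hv, rfl⟩
        refine ⟨u * v, mul_mem hu hv, ?_⟩
        calc ⁅d, u * v⁆ = ⁅d, u⁆ * (u * ⁅d, v⁆ * u⁻¹) := by
              simp only [commutatorElement_def]; group
          _ = ⁅d, u⁆ * ⁅d, v⁆ := by
              rw [← h.gZ_comm T hT (hbr d hd v hv) (hUD hu), mul_inv_cancel_right]
      inv_mem' := by
        rintro _ ⟨u, hu, rfl⟩
        exact ⟨u, hu, (inv_eq_of_mul_eq_one_right (h.gZ_sq T hT (hbr d hd u hu))).symm⟩ }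
  let X : Subgroup (H ⧸ Subgroup.center H) :=
    { carrier := {x | x ∈ gD α T ∧ ∀ u ∈ U, ⁅x, u⁆ ∈ Sd}
      one_mem' := ⟨one_mem _, fun u _ => by rw [commutatorElement_one_left]; exact one_mem _⟩
      mul_mem' := fun {a b} ha hb => ⟨mul_mem ha.1 hb.1, fun u hu => by
        rw [show ⁅a * b, u⁆ = a * ⁅b, u⁆ * a⁻¹ * ⁅a, u⁆ by simp only [commutatorElement_def]; group,
          ← h.gZ_comm T hT (hbr b hb.1 u hu) ha.1, mul_inv_cancel_right]
        exact mul_mem (hb.2 u hu) (ha.2 u hu)⟩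
      inv_mem' := fun {a} ha => ⟨inv_mem ha.1, fun u hu => by
        rw [show ⁅a⁻¹, u⁆ = a⁻¹ * ⁅a, u⁆⁻¹ * a by simp only [commutatorElement_def]; group,
          ← h.gZ_comm T hT (inv_mem (hbr a ha.1 u hu)) (inv_mem ha.1), inv_mul_cancel_right]
        exact inv_mem (ha.2 u hu)⟩ }
  have hLX : L ≤ X := fun l hl => ⟨hLD hl, fun u hu => by
    rw [commutatorElement_eq_one_iff_mul_comm.2 (hcomm l hl u (hUL hu))]; exact one_mem _⟩
  have hdX : d ∈ X := ⟨hd, fun u hu => ⟨u, hu, rfl⟩⟩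
  have hdL : d ∉ L := fun hdL => hne (hcomm d hdL u₀ (hUL hu₀))
  have hXα : Stb (qAut α) X := fun x hx => ⟨h.gD_stb T hT x hx.1, fun u hu => by
    obtain ⟨u', hu', e1⟩ : ∃ u' ∈ U, qAut α u' = u := by
      refine ⟨(qAut α ^ (r - 1)) u, ?_, ?_⟩
      · suffices hpow : ∀ k, (qAut α ^ k) u ∈ U from hpow _
        intro k
        induction k with
        | zero => exact hu
        | succ k ih => rw [pow_succ', MulAut.mul_apply]; exact stb_cm hL _ ih
      · rw [← MulAut.mul_apply, ← pow_succ', Nat.sub_add_cancel h.hr.one_le, h.qPow, MulAut.one_apply]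
    rw [← e1, ← map_commutatorElement, h.gZ_fixed T hT (hbr x hx.1 u' hu')]
    exact hx.2 u' hu'⟩
  have hXD : X = gD α T := Subgroup.eq_of_le_of_card_ge (fun x hx => hx.1) (hcard.trans
    (h.gLayer T hT hm hZL hLX (fun x hx => hx.1) hL hXα fun e1 => hdL (e1 ▸ hdX : d ∈ L)))
  have hfull : ∀ z ∈ gZ α T, ∃ u ∈ U, ⁅d, u⁆ = z := by
    intro z hz
    rcases eq_or_ne z 1 with rfl | hz1
    · exact Sd.one_mem
    have hw : ⁅d, u₀⁆ ≠ 1 := fun e1 => hne (commutatorElement_eq_one_iff_mul_comm.1 e1)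
    obtain ⟨g, hg, hgf, rfl⟩ := htrans _ (hbr d hd u₀ hu₀) hw z hz hz1
    rw [show g * ⁅d, u₀⁆ * g⁻¹ = ⁅g * d * g⁻¹, g * u₀ * g⁻¹⁆ by
      simp only [commutatorElement_def]; group]
    exact ((hXD ▸ h.gD_conj T hT hg hd : g * d * g⁻¹ ∈ X)).2 _
      (h.conj_cm T hT hgf (hall g hg) u₀ hu₀)
  obtain ⟨u, hu, huv⟩ := hfull _ (h.gD_sq T hT hd)
  refine h.singular_case T hT hneg hm hP hq hZL hLD hL hcomm (fun a ha _ => hall a ha) hinv hu₀
    (mul_mem hd (hUD hu)) ?_ ?_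
  · -- the product is an involution
    calc d * u * (d * u) = ⁅d, u⁆ * (u * (d * d)) * u := by
          rw [commutatorElement_def]; group
      _ = ⁅d, u⁆ * ((d * d) * (u * u)) := by
          rw [← h.gZ_comm T hT (h.gD_sq T hT hd) (hUD hu)]; group
      _ = 1 := by rw [huv, hexp u hu, mul_one, h.gZ_sq T hT (h.gD_sq T hT hd)]
  · intro e1
    refine hne ?_
    have hc1 : u₀ * u = u * u₀ := hcomm u₀ (hUL hu₀) u (hUL hu)
    calc d * u₀ = d * (u₀ * u) * u⁻¹ := by group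
      _ = d * (u * u₀) * u⁻¹ := by rw [hc1]
      _ = (d * u * u₀) * u⁻¹ := by group
      _ = (u₀ * (d * u)) * u⁻¹ := by rw [e1]
      _ = u₀ * d := by group

end Lines

end Cfsg.Agent.Lib.HHS57
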