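import Cfsg.Agent.Lib.HHS57.Weight
import Cfsg.Agent.Lib.OddLocal.FrobeniusRank
import Cfsg.Agent.S0119
import Cfsg.Agent.Lib.HHS57.ExtraCount

/-!
# Proper normal invariant subgroups are central (helper18, helper57)

`D` is not normal, `T` is not normal, and therefore every proper normal invariant subgroup is central.
-/

set_option autoImplicit false
set_option linter.style.haveILetI false
set_option linter.unusedSectionVars false

namespace Cfsg.Agent.Lib.HHS57

open Cfsg Cfsg.Agent.Lib
open Cfsg.Agent.Lib.FpfAut (exists_fixed_mul stabS resS mem_stabS resS_apply exists_invariant_sylow)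
open Subgroup
open scoped commutatorElement

universe u

/-- A central quotient of a group of class two is abelian. -/
@[reducible] def centerQuotComm {N : Type*} [Group N] (h : ∀ a b : N, ⁅a, b⁆ ∈ Subgroup.center N) :
    CommGroup (N ⧸ Subgroup.center N) :=
  { (inferInstance : Group (N ⧸ Subgroup.center N)) with
    mul_comm := fun a b => by
      refine QuotientGroup.induction_on a fun x => QuotientGroup.induction_on b fun y => ?_
      rw [← QuotientGroup.mk_mul, ← QuotientGroup.mk_mul, QuotientGroup.eq]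
      have := h y⁻¹ x⁻¹
      simpa [commutatorElement_def, mul_assoc] using this }

/-- The induced map on the central quotient. -/
def centerQuotHom (N : Type*) [Group N] : MulAut N →* MulAut (N ⧸ Subgroup.center N) where
  toFun φ := QuotientGroup.congr _ _ φ (Subgroup.characteristic_iff_map_eq.1 inferInstance φ)
  map_one' := MulEquiv.ext fun x => QuotientGroup.induction_on x fun _ => rfl
  map_mul' _ _ := MulEquiv.ext fun x => QuotientGroup.induction_on x fun _ => rfl

theorem centerQuotHom_mk {N : Type*} [Group N] (φ : MulAut N) (x : N) :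
    centerQuotHom N φ (QuotientGroup.mk x) = QuotientGroup.mk (φ x) := rfl

variable {H : Type u} [Group H] [Finite H] {p r : ℕ} {α : MulAut H} {V : Type u} [CommGroup V]
  [Finite V] {ψ : H →* MulAut V} {e : MulAut V}

variable (h : Min p r α ψ e) (T : Sylow 2 H) (hT : Stb α (T : Subgroup H))

include h

/-- A normal invariant subgroup centralised by the moved part of a `p`-group is central. -/
theorem Min.le_center_of_comm {S : Subgroup H} (hS : IsPGroup p S) (hSα : Stb α S)
    (hS1 : cm α S ≠ ⊥) {N : Subgroup H} [N.Normal] (hNα : Stb α N)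
    (hSN : ∀ s ∈ cm α S, ∀ n ∈ N, s * n = n * s) : N ≤ Subgroup.center H := by
  haveI := h.factP
  haveI : Fact (Nat.Prime 2) := ⟨Nat.prime_two⟩
  by_cases htop : Subgroup.centralizer (N : Set H) = ⊤
  · intro n hn
    rw [mem_center_iff]
    intro g
    exact (mem_centralizer_iff.1 (htop ▸ mem_top g : g ∈ Subgroup.centralizer (N : Set H)) n hn).symm
  · refine absurd (le_bot_iff.1 ?_) hS1
    rw [← (IsPGroup.disjoint_of_ne 2 p h.hp2.symm _ (cm α S) (h.cm_normal_isPGroup hNα.centralizer htop)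
      (hS.to_le (cm_le hSα))).eq_bot]
    refine le_inf ?_ le_rfl
    conv_lhs => rw [← cm_cm h.hr h.hα h.hco hSα]
    exact cm_mono fun s hs => mem_centralizer_iff.2 fun n hn => (hSN s hs n hn).symm

/-- A normal invariant `2`-subgroup `N` such that `S N` is proper is central. -/
theorem Min.central_of_sup_ne_top {S : Subgroup H} (hS : IsPGroup p S) (hSα : Stb α S)
    (hS1 : cm α S ≠ ⊥) {N : Subgroup H} [hN : N.Normal]
    (hNα : Stb α N) (hN2 : IsPGroup 2 N) (hsup : S ⊔ N ≠ ⊤) : N ≤ Subgroup.center H := by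
  haveI := h.factP
  haveI : Fact (Nat.Prime 2) := ⟨Nat.prime_two⟩
  obtain ⟨W, hWle, hWp, -, hWn, hWmax, -⟩ := h.cm_struct (hSα.sup hNα) hsup
  refine h.le_center_of_comm hS hSα hS1 hNα fun s hs n hn => ?_
  have hsW : s ∈ W := hWmax _ (cm_mono le_sup_left) (hS.to_le (cm_le hSα)) hs
  refine commutatorElement_eq_one_iff_mul_comm.1 (Subgroup.mem_bot.1
    ((IsPGroup.disjoint_of_ne 2 p h.hp2.symm N W hN2 hWp).le_bot ⟨?_, ?_⟩))
  · rw [commutatorElement_def]
    exact N.mul_mem (hN.conj_mem n hn s) (N.inv_mem hn)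
  · rw [commutatorElement_def, show s * n * s⁻¹ * n⁻¹ = s * (n * s⁻¹ * n⁻¹) by group]
    exact W.mul_mem hsW (hWn n (mem_sup_right hn) _ (W.inv_mem hsW))

/-- A proper invariant subgroup of an abelian `2`-group is fixed. -/
theorem Min.fixed_of_comm_two (T : Sylow 2 H) (hT : Stb α (T : Subgroup H)) {A : Subgroup H}
    (hA : IsPGroup 2 A) (hAα : Stb α A) (hc : ∀ a ∈ A, ∀ b ∈ A, a * b = b * a) {x : H} (hx : x ∈ A) :
    α x = x :=
  congrArg Subtype.val ((h.fpfRep (h.r_ne_two T hT) hA hAα).fixes_abelian ⊤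
    (fun a _ b _ => Subtype.ext (hc a a.2 b b.2)) stb_top ⟨x, hx⟩ (mem_top _))

/-- The centre is proper. -/
theorem Min.center_ne_top : Subgroup.center H ≠ ⊤ := by
  intro htop
  haveI := h.factP
  obtain ⟨S, hS, hSα, hS1, -⟩ := h.exists_pelem
  haveI : S.Normal := ⟨fun x hx g => by
    have hxc : x ∈ Subgroup.center H := htop ▸ mem_top x
    rwa [mem_center_iff.1 hxc g, mul_inv_cancel_right]⟩
  exact hS1 (le_bot_iff.1 ((cm_le hSα).trans (h.eq_bot_of_normal_pgroup hS).le))

/-- Central elements are fixed. -/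
theorem Min.center_fixed {z : H} (hz : z ∈ Subgroup.center H) : α z = z := by
  haveI : Fact (Nat.Prime 2) := ⟨Nat.prime_two⟩
  obtain ⟨T, hT⟩ := exists_invariant_sylow h.hr h.hα h.hco 2
  have hC := h.cm_normal_isPGroup (N := Subgroup.center H) stb_center h.center_ne_top
  have hfix : ∀ x ∈ cm α (Subgroup.center H), α x = x := fun x hx =>
    h.fixed_of_comm_two T hT hC (stb_cm stb_center)
      (fun a _ b hb => mem_center_iff.1 (cm_le stb_center hb) a) hx
  have hbot : cm α (Subgroup.center H) = ⊥ := le_bot_iff.1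
    ((cm_cm h.hr h.hα h.hco stb_center).ge.trans (cm_le_iff.2 fun x hx => Subgroup.mem_bot.2 (by
      rw [hfix x hx, inv_mul_cancel])))
  have h1 : z⁻¹ * α z ∈ cm α (Subgroup.center H) := mem_cm hz
  rw [hbot, Subgroup.mem_bot] at h1
  exact (inv_mul_eq_one.1 h1).symm

/-- The centre has order prime to `p`. -/
theorem Min.not_dvd_center : ¬ p ∣ Nat.card (Subgroup.center H) := by
  intro hd
  haveI := h.factP
  obtain ⟨c, hc⟩ := exists_prime_orderOf_dvd_card' (G := Subgroup.center H) p hd
  haveI : (Subgroup.zpowers (c : H)).Normal := ⟨fun x hx g => by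
    obtain ⟨i, rfl⟩ := Subgroup.mem_zpowers_iff.1 hx
    rwa [mem_center_iff.1 (zpow_mem c.2 i) g, mul_inv_cancel_right]⟩
  have h1 : Subgroup.zpowers (c : H) = ⊥ := h.eq_bot_of_normal_pgroup
    (IsPGroup.of_card (n := 1) (by rw [Nat.card_zpowers, Subgroup.orderOf_coe, hc, pow_one]))
  rw [Subgroup.zpowers_eq_bot, OneMemClass.coe_eq_one] at h1
  rw [h1, orderOf_one] at hc
  exact h.hp.one_lt.ne hc

include hT

/-- A nonabelian `2`-group on which a `p`-group and `α` act as in a minimal configuration with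
`H = S T` does not exist. -/
theorem Min.not_normal_T : ¬ (T : Subgroup H).Normal := by
  intro hn
  haveI := hn
  haveI := h.factP
  haveI : Fact (Nat.Prime 2) := ⟨Nat.prime_two⟩
  have hr2 := h.r_ne_two T hT
  obtain ⟨S, hS, hSα, hS1, hSmax⟩ := h.exists_pelem
  have hTne : (T : Subgroup H) ≠ ⊤ := fun e1 => by
    obtain ⟨n, hn'⟩ := IsPGroup.iff_card.1 T.isPGroup'
    rw [e1, Subgroup.card_top] at hn'
    exact h.hp2 ((Nat.prime_dvd_prime_iff_eq h.hp Nat.prime_two).1 (h.hp.dvd_of_dvd_pow (hn' ▸ h.dvd)))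
  -- small normal subgroups are central
  have hsmall : ∀ N : Subgroup H, ∀ [N.Normal], Stb α N → N ≤ (T : Subgroup H) → N ≠ (T : Subgroup H) →
      N ≤ Subgroup.center H := by
    intro N _ hNα hNT hne
    refine h.central_of_sup_ne_top hS hSα hS1 hNα (T.isPGroup'.to_le hNT) ?_
    intro e1
    refine hne (le_antisymm hNT fun t ht => ?_)
    obtain ⟨s, hs, n, hn2, rfl⟩ := Subgroup.mem_sup_of_normal_right.1 (e1.symm ▸ mem_top t : t ∈ S ⊔ N)
    have hsT : s ∈ (T : Subgroup H) := by simpa using mul_mem ht (inv_mem (hNT hn2))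
    have hs1 : s = 1 := eq_one_of_isPGroup_of_not_dvd h.hp hS hs fun hd => by
      obtain ⟨k, hk⟩ := IsPGroup.iff_card.1 T.isPGroup'
      exact h.hp2 ((Nat.prime_dvd_prime_iff_eq h.hp Nat.prime_two).1
        (h.hp.dvd_of_dvd_pow (hk ▸ hd.trans (Subgroup.orderOf_dvd_natCard _ hsT))))
    simpa [hs1] using hn2
  obtain ⟨a₀, ha₀, b₀, hb₀, hab₀⟩ := h.exists_not_commute T hT
  have hT_not_central : ¬ (T : Subgroup H) ≤ Subgroup.center H := fun hc =>
    hab₀ (commutatorElement_eq_one_iff_mul_comm.2 (mem_center_iff.1 (hc (dGrp_le T hT ha₀)) b₀).symm)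
  have hST : S ⊔ (T : Subgroup H) = ⊤ := by
    by_contra e1
    exact hT_not_central (h.central_of_sup_ne_top hS hSα hS1 hT T.isPGroup' e1)
  -- `S = [S, α]`
  have hST0 : ∀ x, x ∈ S → x ∈ (T : Subgroup H) → x = 1 := fun x h1 h2 => Subgroup.mem_bot.1
    ((IsPGroup.disjoint_of_ne p 2 h.hp2 S (T : Subgroup H) hS T.isPGroup').le_bot ⟨h1, h2⟩)
  have hScm : cm α S = S := by
    refine le_antisymm (cm_le hSα) fun s hs => ?_
    have hle : cm α (⊤ : Subgroup H) ≤ cm α S ⊔ (T : Subgroup H) := cm_le_iff.2 fun x _ => by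
      obtain ⟨s', hs', t, ht, rfl⟩ := Subgroup.mem_sup_of_normal_right.1
        (hST.symm ▸ mem_top x : x ∈ S ⊔ (T : Subgroup H))
      rw [map_mul, show (s' * t)⁻¹ * (α s' * α t) = t⁻¹ * (s'⁻¹ * α s') * α t by group]
      exact mul_mem (mul_mem (mem_sup_right (inv_mem ht)) (mem_sup_left (mem_cm hs'))) (mem_sup_right (hT t ht))
    obtain ⟨a, ha, t, ht, hat⟩ := Subgroup.mem_sup_of_normal_right.1 (hle (h.cm_top.symm ▸ mem_top s))
    have ht1 : t = 1 := hST0 t (by
      rw [show t = a⁻¹ * s by rw [← hat]; group]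
      exact S.mul_mem (S.inv_mem (cm_le hSα ha)) hs) ht
    rwa [← hat, ht1, mul_one]
  -- `T = [T, S]`
  set T₁ := ⁅(T : Subgroup H), S⁆ with hT₁
  haveI : T₁.Normal := by
    rw [← Subgroup.normalizer_eq_top_iff, eq_top_iff, ← hST]
    exact sup_le (Coprime.right_le_normalizer_commutator _ _) (Coprime.left_le_normalizer_commutator _ _)
  have hT₁α : Stb α T₁ := by
    intro x hx
    refine (show T₁ ≤ T₁.comap α.toMonoidHom from Subgroup.commutator_le.2 fun a ha b hb => ?_) hx
    show α ⁅a, b⁆ ∈ T₁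
    rw [map_commutatorElement]
    exact Subgroup.commutator_mem_commutator (hT a ha) (hSα b hb)
  have hT₁T : T₁ ≤ (T : Subgroup H) := Subgroup.commutator_le_left _ _
  have hT₁eq : T₁ = (T : Subgroup H) := by
    by_contra hne
    have hc := hsmall T₁ hT₁α hT₁T hne
    refine hT_not_central (h.le_center_of_comm hS hSα hS1 hT fun s hs' t ht => ?_)
    have hs : s ∈ S := cm_le hSα hs'
    -- `s` acts trivially modulo a central `2`-subgroup
    set z := ⁅t, s⁆ with hz
    have hzc := hc (Subgroup.commutator_mem_commutator ht hs)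
    have hst : ∀ n : ℕ, t * s ^ n * t⁻¹ = z ^ n * s ^ n := by
      intro n
      rw [← conj_pow, show t * s * t⁻¹ = z * s by rw [hz, commutatorElement_def]; group]
      exact (show Commute z s from (mem_center_iff.1 hzc s).symm).mul_pow n
    have hz1 : z ^ orderOf s = 1 := by
      have := hst (orderOf s)
      rw [pow_orderOf_eq_one, mul_one, mul_inv_cancel, mul_one] at this
      exact this.symm
    have hz2 : z = 1 := by
      refine eq_one_of_isPGroup_of_not_dvd Nat.prime_two T.isPGroup'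
        (hT₁T (Subgroup.commutator_mem_commutator ht hs)) fun hd => ?_
      obtain ⟨k, hk⟩ := IsPGroup.iff_card.1 hS
      exact h.hp2 ((Nat.prime_dvd_prime_iff_eq Nat.prime_two h.hp).1 (Nat.prime_two.dvd_of_dvd_pow
        (hk ▸ (hd.trans (orderOf_dvd_of_pow_eq_one hz1)).trans (Subgroup.orderOf_dvd_natCard _ hs)))).symm
    exact ((commutatorElement_eq_one_iff_mul_comm.1 hz2)).symm
  -- the special structure
  set A : Subgroup (MulAut (T : Subgroup H)) := S.map MulAut.conjNormal with hA
  have hAodd : Nat.Coprime (Nat.card A) 2 := by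
    obtain ⟨i, hi⟩ := IsPGroup.iff_card.1 (hS.map (MulAut.conjNormal : H →* MulAut (T : Subgroup H)))
    rw [hA, hi]
    exact ((Nat.coprime_primes h.hp Nat.prime_two).2 h.hp2).pow_left i
  have hTrep := h.fpfRep hr2 T.isPGroup' hT
  have hgenA : closure {x : (T : Subgroup H) | ∃ g : (T : Subgroup H), ∃ a ∈ A, x = g⁻¹ * a g} = ⊤ := by
    rw [eq_top_iff]
    intro x _
    have h1 : T₁ ≤ (closure {x : (T : Subgroup H) | ∃ g : (T : Subgroup H), ∃ a ∈ A, x = g⁻¹ * a g}).map
        (T : Subgroup H).subtype := by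
      refine Subgroup.commutator_le.2 fun a ha b hb => ?_
      refine ⟨(⟨a, ha⟩⁻¹ : (T : Subgroup H))⁻¹ * MulAut.conjNormal b (⟨a, ha⟩⁻¹ : (T : Subgroup H)),
        subset_closure ⟨_, _, ⟨b, hb, rfl⟩, rfl⟩, ?_⟩
      simp [commutatorElement_def, mul_assoc]
    obtain ⟨w, hw, hwx⟩ := h1 (hT₁eq.ge x.2)
    rwa [← show w = x from Subtype.ext hwx]
  have hchar : ∀ K : Subgroup (T : Subgroup H), K.Characteristic → IsMulCommutative K →
      ∀ a ∈ A, ∀ k ∈ K, a k = k := by
    rintro K hK hKc _ ⟨x, hx, rfl⟩ k hk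
    have hKα : Stb (resA α (T : Subgroup H) hT) K := stb_char
    have hfix : ∀ y ∈ K, α (y : H) = (y : H) := fun y hy => congrArg Subtype.val
      (hTrep.fixes_abelian K (fun a ha b hb => congrArg Subtype.val (hKc.is_comm.comm ⟨a, ha⟩ ⟨b, hb⟩))
        hKα y hy)
    have hcmS : cm α S ≤ Subgroup.centralizer {(k : H)} := cm_le_iff.2 fun s _ => by
      have h1 := hfix (MulAut.conjNormal s k) ((Subgroup.characteristic_iff_map_le.1 hK
        (MulAut.conjNormal s)) ⟨k, hk, rfl⟩)
      rw [MulAut.conjNormal_apply, map_mul, map_mul, map_inv, hfix k hk] at h1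
      rw [mem_centralizer_singleton_iff]
      calc s⁻¹ * α s * k = s⁻¹ * (α s * k * (α s)⁻¹) * α s := by group
        _ = k * (s⁻¹ * α s) := by rw [h1]; group
    have hc := mem_centralizer_singleton_iff.1 (hcmS (hScm.symm ▸ hx))
    refine Subtype.ext ?_
    simp [hc]
  obtain ⟨⟨-, hΦ, hcd⟩, hZA⟩ := S0119.result T.isPGroup' A hAodd hgenA hchar
  have hcentral : ∀ z : (T : Subgroup H), z ∈ Subgroup.center (T : Subgroup H) →
      (z : H) ∈ Subgroup.center H := by
    intro z hz
    rw [mem_center_iff]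
    intro g
    obtain ⟨s, hs, t, ht, rfl⟩ := Subgroup.mem_sup_of_normal_right.1 (hST.symm ▸ mem_top g :
      g ∈ S ⊔ (T : Subgroup H))
    have h1 : t * (z : H) = z * t := congrArg Subtype.val (mem_center_iff.1 hz ⟨t, ht⟩)
    have h2 := congrArg Subtype.val ((hZA z).1 hz _ ⟨s, hs, rfl⟩)
    rw [MulAut.conjNormal_apply] at h2
    have h2' : s * (z : H) = z * s := mul_inv_eq_iff_eq_mul.1 h2
    rw [mul_assoc, h1, ← mul_assoc, h2', mul_assoc]
  have hcenfix : ∀ z : (T : Subgroup H), z ∈ Subgroup.center (T : Subgroup H) → α (z : H) = (z : H) :=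
    fun z hz => congrArg Subtype.val (hTrep.fixes_abelian (Subgroup.center (T : Subgroup H))
      (fun a _ b hb => mem_center_iff.1 hb a) stb_center z hz)
  have hcommT : ∀ a b : (T : Subgroup H), ⁅a, b⁆ ∈ Subgroup.center (T : Subgroup H) := fun a b =>
    hcd ▸ Subgroup.commutator_mem_commutator (mem_top a) (mem_top b)
  -- fixed elements centralise `D`
  have hCD : ∀ c ∈ (T : Subgroup H), α c = c → ∀ d ∈ dGrp α T, c * d = d * c := by
    intro c hc hf d hd
    let φ : (T : Subgroup H) →* Subgroup.center (T : Subgroup H) :=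
      { toFun := fun u => ⟨⁅(⟨c, hc⟩ : (T : Subgroup H)), u⁆, hcommT _ _⟩
        map_one' := Subtype.ext (by simp)
        map_mul' := fun u v => Subtype.ext (by
          show ⁅(⟨c, hc⟩ : (T : Subgroup H)), u * v⁆ = ⁅(⟨c, hc⟩ : (T : Subgroup H)), u⁆ * ⁅(⟨c, hc⟩ : (T : Subgroup H)), v⁆
          have h' := mem_center_iff.1 (hcommT ⟨c, hc⟩ v) u
          calc ⁅(⟨c, hc⟩ : (T : Subgroup H)), u * v⁆
              = ⁅(⟨c, hc⟩ : (T : Subgroup H)), u⁆ * (u * ⁅(⟨c, hc⟩ : (T : Subgroup H)), v⁆ * u⁻¹) := by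
                simp only [commutatorElement_def]; group
            _ = _ := by rw [h', mul_inv_cancel_right]) }
    have hle : dGrp α T ≤ φ.ker.map (T : Subgroup H).subtype := cm_le_iff.2 fun y hy => by
      refine ⟨(⟨y, hy⟩ : (T : Subgroup H))⁻¹ * resA α (T : Subgroup H) hT ⟨y, hy⟩, ?_, rfl⟩
      rw [SetLike.mem_coe, MonoidHom.mem_ker, map_mul, map_inv, inv_mul_eq_one]
      refine Subtype.ext ?_
      show ⁅(⟨c, hc⟩ : (T : Subgroup H)), ⟨y, hy⟩⁆ =
        ⁅(⟨c, hc⟩ : (T : Subgroup H)), resA α (T : Subgroup H) hT ⟨y, hy⟩⁆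
      apply Subtype.ext
      have := hcenfix _ (hcommT ⟨c, hc⟩ ⟨y, hy⟩)
      show ((⁅(⟨c, hc⟩ : (T : Subgroup H)), ⟨y, hy⟩⁆ : (T : Subgroup H)) : H) = ⁅c, α y⁆
      rw [← this]
      show α ⁅c, y⁆ = ⁅c, α y⁆
      rw [map_commutatorElement, hf]
    obtain ⟨w, hw, hwd⟩ := hle hd
    have h1 : (⁅(⟨c, hc⟩ : (T : Subgroup H)), w⁆ : (T : Subgroup H)) = 1 := congrArg Subtype.val hw
    have h2 : ⁅c, (w : H)⁆ = 1 := congrArg Subtype.val h1
    rw [← hwd]
    exact commutatorElement_eq_one_iff_mul_comm.1 h2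
  -- a sign space
  have hsqc : ∀ z : (T : Subgroup H), z ∈ Subgroup.center (T : Subgroup H) → z * z = 1 := by
    intro z hz
    rw [← hcd, commutator_eq_closure] at hz
    have hgen2 : ∀ c ∈ commutatorSet (T : Subgroup H), c * c = 1 := by
      rintro _ ⟨a, b, rfl⟩
      have h1 := hcommT a b
      have h2 : ⁅a * a, b⁆ = ⁅a, b⁆ * ⁅a, b⁆ := by
        calc ⁅a * a, b⁆ = (a * ⁅a, b⁆ * a⁻¹) * ⁅a, b⁆ := by simp only [commutatorElement_def]; group
          _ = _ := by rw [mem_center_iff.1 h1 a, mul_inv_cancel_right]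
      rw [← h2, commutatorElement_eq_one_iff_mul_comm]
      have h3 : a ^ 2 ∈ frattini (T : Subgroup H) := PGroups.pow_mem_frattini T.isPGroup' a
      rw [hΦ, pow_two] at h3
      exact (mem_center_iff.1 h3 b).symm
    have hle : closure (commutatorSet (T : Subgroup H)) ≤ Subgroup.center (T : Subgroup H) :=
      (closure_le _).2 (by rintro _ ⟨a, b, rfl⟩; exact hcommT a b)
    induction hz using closure_induction with
    | mem c hc => exact hgen2 c hc
    | one => exact mul_one 1
    | mul a b ha hb iha ihb =>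
      have hab := mem_center_iff.1 (hle ha) b
      calc a * b * (a * b) = a * (b * a) * b := by group
        _ = (a * a) * (b * b) := by rw [hab]; group
        _ = 1 := by rw [iha, ihb, mul_one]
    | inv a _ iha => rw [← mul_inv_rev, iha, inv_one]
  set ν : (T : Subgroup H) := ⁅(⟨a₀, dGrp_le T hT ha₀⟩ : (T : Subgroup H)), ⟨b₀, dGrp_le T hT hb₀⟩⁆ with hν
  obtain ⟨w, hw, hwν⟩ : ∃ w : V, (∀ z : (T : Subgroup H), z ∈ Subgroup.center (T : Subgroup H) →
      FpfAut.Sgn (ψ (z : H)) w) ∧ ψ (ν : H) w ≠ w := by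
    by_contra hh
    push Not at hh
    refine hab₀ (h.inj ?_)
    rw [map_one]
    refine MulEquiv.ext fun t => ?_
    set L := ((Set.toFinite ((fun z : (T : Subgroup H) => ψ (z : H)) ''
      (Subgroup.center (T : Subgroup H) : Set (T : Subgroup H)))).toFinset.toList) with hL
    have hmem : ∀ x, x ∈ L ↔ ∃ z : (T : Subgroup H), z ∈ Subgroup.center (T : Subgroup H) ∧ ψ (z : H) = x :=
      fun x => by simp [hL]
    have ht := FpfAut.eigen_span (h.hp.odd_of_ne_two h.hp2) h.hexp L
      (fun x hx => by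
        obtain ⟨z, hz, rfl⟩ := (hmem x).1 hx
        rw [← map_mul, show ((z : H) * z) = 1 from congrArg Subtype.val (hsqc z hz), map_one])
      (fun x hx y hy => by
        obtain ⟨z, hz, rfl⟩ := (hmem x).1 hx
        obtain ⟨z', hz', rfl⟩ := (hmem y).1 hy
        rw [← map_mul, ← map_mul, mem_center_iff.1 (hcentral z' hz') z]) t
    induction ht using Subgroup.closure_induction with
    | mem w hw => exact hh w fun z hz => hw _ ((hmem _).2 ⟨z, hz, rfl⟩)
    | one => simp
    | mul a b _ _ ha hb => rw [map_mul, ha, hb]; simp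
    | inv a _ ha => rw [map_inv, ha]; simp
  let E : Subgroup V :=
    { carrier := {t | ∀ z : (T : Subgroup H), z ∈ Subgroup.center (T : Subgroup H) →
        (ψ (z : H) w = w → ψ (z : H) t = t) ∧ (ψ (z : H) w ≠ w → ψ (z : H) t = t⁻¹)}
      one_mem' := fun z _ => ⟨fun _ => map_one _, fun _ => by rw [map_one, inv_one]⟩
      mul_mem' := fun {a b} ha hb z hz => ⟨fun e1 => by rw [map_mul, (ha z hz).1 e1, (hb z hz).1 e1],
        fun e1 => by rw [map_mul, (ha z hz).2 e1, (hb z hz).2 e1, mul_inv]⟩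
      inv_mem' := fun {a} ha z hz => ⟨fun e1 => by rw [map_inv, (ha z hz).1 e1],
        fun e1 => by rw [map_inv, (ha z hz).2 e1]⟩ }
  have hwE : w ∈ E := fun z hz => ⟨id, fun e1 => (hw z hz).resolve_left e1⟩
  have hEinv : ∀ g : H, ∀ t ∈ E, ψ g t ∈ E := by
    intro g t ht z hz
    have hcm2 : ψ (z : H) (ψ g t) = ψ g (ψ (z : H) t) := by
      rw [← MulAut.mul_apply, ← map_mul, ← mem_center_iff.1 (hcentral z hz) g, map_mul, MulAut.mul_apply]
    exact ⟨fun e1 => by rw [hcm2, (ht z hz).1 e1], fun e1 => by rw [hcm2, (ht z hz).2 e1, map_inv]⟩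
  have heE : ∀ t ∈ E, e t ∈ E := by
    intro t ht z hz
    have hcm2 : ψ (z : H) (e t) = e (ψ (z : H) t) := by
      conv_lhs => rw [← hcenfix z hz, h.compat, MulAut.mul_apply, MulAut.mul_apply, MulAut.inv_apply_self]
    exact ⟨fun e1 => by rw [hcm2, (ht z hz).1 e1], fun e1 => by rw [hcm2, (ht z hz).2 e1, map_inv]⟩
  have hsignc : ∀ z : (T : Subgroup H), z ∈ Subgroup.center (T : Subgroup H) → SignOn ψ E (z : H) := by
    intro z hz
    by_cases e1 : ψ (z : H) w = w
    · exact Or.inl fun t ht => (ht z hz).1 e1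
    · exact Or.inr fun t ht => (ht z hz).2 e1
  -- the radical is `Z`
  obtain ⟨R, m, hR, hm0, hrm, hRidx, -⟩ := h.eigen_index T hT E (fun d _ => hEinv d) heE
    (fun z hz => by
      have hcl := h.zGrp_le_closure T hT hz
      have hzT : z ∈ (T : Subgroup H) := dGrp_le T hT hz.1
      refine hsignc ⟨z, hzT⟩ ?_
      rw [← hcd]
      have hmap : closure {c | ∃ a ∈ dGrp α T, ∃ b ∈ dGrp α T, c = ⁅a, b⁆} ≤
          (commutator (T : Subgroup H)).map (T : Subgroup H).subtype := by
        refine (closure_le _).2 ?_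
        rintro _ ⟨a, ha, b, hb, rfl⟩
        exact ⟨⁅(⟨a, dGrp_le T hT ha⟩ : (T : Subgroup H)), ⟨b, dGrp_le T hT hb⟩⁆,
          Subgroup.commutator_mem_commutator (mem_top _) (mem_top _), rfl⟩
      obtain ⟨x, hx, hxe⟩ := hmap hcl
      rwa [← show x = ⟨z, hzT⟩ from Subtype.ext hxe])
    ⟨a₀, ha₀, b₀, hb₀, w, hwE, hwν⟩
  have hRZ : ∀ d, ∀ hd : d ∈ R, (⟨d, dGrp_le T hT ((hR d).1 hd).1⟩ : (T : Subgroup H)) ∈
      Subgroup.center (T : Subgroup H) := by
    intro d hd
    let X : Subgroup H :=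
      { carrier := {x | x ∈ (T : Subgroup H) ∧ ∀ y ∈ (T : Subgroup H), ∀ t ∈ E, ψ ⁅x, y⁆ t = t}
        one_mem' := ⟨one_mem _, fun y _ t _ => by simp⟩
        mul_mem' := fun {a b} ha hb => ⟨mul_mem ha.1 hb.1, fun y hy t ht => by
          rw [show ⁅a * b, y⁆ = (a * ⁅b, y⁆ * a⁻¹) * ⁅a, y⁆ by simp only [commutatorElement_def]; group,
            map_mul, MulAut.mul_apply, ha.2 y hy t ht, map_mul, map_mul, MulAut.mul_apply, MulAut.mul_apply,
            map_inv, hb.2 y hy _ (by rw [← map_inv]; exact hEinv _ t ht), MulAut.apply_inv_self]⟩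
        inv_mem' := fun {a} ha => ⟨inv_mem ha.1, fun y hy t ht => by
          have hc2 := hcentral _ (hcommT ⟨a, ha.1⟩ ⟨y, hy⟩)
          rw [show ⁅a⁻¹, y⁆ = a⁻¹ * ⁅a, y⁆⁻¹ * a by simp only [commutatorElement_def]; group,
            show a⁻¹ * ⁅a, y⁆⁻¹ * a = ⁅a, y⁆⁻¹ by
              rw [mem_center_iff.1 (inv_mem hc2 : ⁅a, y⁆⁻¹ ∈ Subgroup.center H) a⁻¹]; group,
            map_inv]
          conv_lhs => rw [← ha.2 y hy t ht, MulAut.inv_apply_self]⟩ }
    haveI hXn : X.Normal := ⟨fun x hx g => ⟨hn.conj_mem x hx.1 g, fun y hy t ht => by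
      have hy' : g⁻¹ * y * g ∈ (T : Subgroup H) := by simpa using hn.conj_mem y hy g⁻¹
      rw [show ⁅g * x * g⁻¹, y⁆ = g * ⁅x, g⁻¹ * y * g⁆ * g⁻¹ by simp only [commutatorElement_def]; group,
        map_mul, map_mul, MulAut.mul_apply, MulAut.mul_apply, map_inv,
        hx.2 _ hy' _ (by rw [← map_inv]; exact hEinv _ t ht), MulAut.apply_inv_self]⟩⟩
    have hXα : Stb α X := fun x hx => ⟨hT x hx.1, fun y hy t ht => by
      obtain ⟨y', rfl⟩ := α.surjective y
      have hy' : y' ∈ (T : Subgroup H) := (Stb.mem_iff hT).1 hy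
      rw [← map_commutatorElement, show α ⁅x, y'⁆ = ⁅x, y'⁆ from hcenfix _ (hcommT ⟨x, hx.1⟩ ⟨y', hy'⟩)]
      exact hx.2 y' hy' t ht⟩
    have hXne : X ≠ (T : Subgroup H) := fun e1 => hwν
      (((e1.symm ▸ dGrp_le T hT ha₀ : a₀ ∈ X)).2 b₀ (dGrp_le T hT hb₀) w hwE)
    have hdX : d ∈ X := by
      refine ⟨dGrp_le T hT ((hR d).1 hd).1, fun y hy t ht => ?_⟩
      obtain ⟨c, hc, hcf, y', hy', rfl⟩ := h.T_eq T hT hy
      rw [show ⁅d, c * y'⁆ = ⁅d, c⁆ * (c * ⁅d, y'⁆ * c⁻¹) by simp only [commutatorElement_def]; group,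
        commutatorElement_eq_one_iff_mul_comm.2 (hCD c hc hcf d ((hR d).1 hd).1).symm, one_mul,
        map_mul, map_mul, MulAut.mul_apply, MulAut.mul_apply, map_inv,
        ((hR d).1 hd).2 y' hy' _ (by rw [← map_inv]; exact hEinv _ t ht), MulAut.apply_inv_self]
    have := hsmall X hXα (fun x hx => hx.1) hXne hdX
    exact mem_center_iff.2 fun y => Subtype.ext (mem_center_iff.1 this y)
  -- the Frobenius count on `T / Z(T)`
  letI := centerQuotComm hcommT
  let ρS : S →* MulAut ((T : Subgroup H) ⧸ Subgroup.center (T : Subgroup H)) := (centerQuotHom _).comp (MulAut.conjNormal.comp S.subtype)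
  have hzα : Subgroup.zpowers α ≤ stabS S := Subgroup.zpowers_le.2 (mem_stabS hSα)
  have hzT' : Subgroup.zpowers α ≤ stabS (T : Subgroup H) := Subgroup.zpowers_le.2 (mem_stabS hT)
  let φ : Subgroup.zpowers α →* MulAut S := (resS S).comp (Subgroup.inclusion hzα)
  let ρR : Subgroup.zpowers α →* MulAut ((T : Subgroup H) ⧸ Subgroup.center (T : Subgroup H)) :=
    (centerQuotHom _).comp ((resS (T : Subgroup H)).comp (Subgroup.inclusion hzT'))
  let θ : S ⋊[φ] Subgroup.zpowers α →* MulAut ((T : Subgroup H) ⧸ Subgroup.center (T : Subgroup H)) := SemidirectProduct.lift ρS ρR fun g => by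
    refine MonoidHom.ext fun s => ?_
    show centerQuotHom _ (MulAut.conjNormal ((φ g s : S) : H)) =
      centerQuotHom _ (resS _ (Subgroup.inclusion hzT' g)) * centerQuotHom _ (MulAut.conjNormal (s : H)) *
        (centerQuotHom _ (resS _ (Subgroup.inclusion hzT' g)))⁻¹
    rw [← map_inv, ← map_mul, ← map_mul]
    congr 1
    refine MulEquiv.ext fun y => ?_
    obtain ⟨y', rfl⟩ := (resS (T : Subgroup H) (Subgroup.inclusion hzT' g)).surjective y
    refine Subtype.ext ?_
    simp [φ, resS_apply]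
  set B := S ⋊[φ] Subgroup.zpowers α
  haveI : Finite (MulAut H) := Finite.of_injective (fun f : MulAut H => (f : H → H)) DFunLike.coe_injective
  haveI : Finite B := Finite.of_equiv _ SemidirectProduct.equivProd.symm
  have hα1 : α ≠ 1 := fun e1 => hS1 (le_bot_iff.1 (cm_le_iff.2 fun x _ => by
    rw [e1]; simp))
  haveI := Fact.mk h.hr
  have hord : orderOf α = r := orderOf_eq_prime h.hα hα1
  have hcardR : Nat.card (Subgroup.zpowers α) = r := by rw [Nat.card_zpowers, hord]
  set K : Subgroup B := (SemidirectProduct.inl : S →* B).range with hK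
  set R' : Subgroup B := (SemidirectProduct.inr : Subgroup.zpowers α →* B).range with hR'
  haveI : K.Normal := by rw [hK, SemidirectProduct.range_inl_eq_ker_rightHom]; infer_instance
  have hcopB : (Nat.card B).Coprime 2 := by
    rw [SemidirectProduct.card, hcardR]
    obtain ⟨i, hi⟩ := IsPGroup.iff_card.1 hS
    rw [hi]
    exact Nat.Coprime.mul_left (((Nat.coprime_primes h.hp Nat.prime_two).2 h.hp2).pow_left i)
      ((Nat.coprime_primes h.hr Nat.prime_two).2 hr2)
  have hcompl : IsComplement' K R' := by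
    refine Subgroup.isComplement'_of_disjoint_and_mul_eq_univ ?_ ?_
    · rw [disjoint_iff, eq_bot_iff]
      rintro _ ⟨⟨s, rfl⟩, ⟨g, hg⟩⟩
      have := congrArg SemidirectProduct.left hg
      simp only [SemidirectProduct.left_inr, SemidirectProduct.left_inl] at this
      simp [← this]
    · refine Set.eq_univ_of_forall fun b => ⟨_, ⟨b.left, rfl⟩, _, ⟨b.right, rfl⟩, ?_⟩
      exact SemidirectProduct.inl_left_mul_inr_right b
  have hexp2 : ∀ v : ((T : Subgroup H) ⧸ Subgroup.center (T : Subgroup H)), v ^ 2 = 1 := fun v => QuotientGroup.induction_on v fun y => by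
    rw [← QuotientGroup.mk_pow]
    exact (QuotientGroup.eq_one_iff _).2 (hΦ ▸ PGroups.pow_mem_frattini T.isPGroup' y)
  have hK0 : ∀ v : ((T : Subgroup H) ⧸ Subgroup.center (T : Subgroup H)), (∀ k ∈ K, θ k v = v) → v = 1 := by
    intro v
    refine QuotientGroup.induction_on v fun y hy => (QuotientGroup.eq_one_iff y).2 ((hZA y).2 ?_)
    rintro _ ⟨s, hs, rfl⟩
    have h1 := hy _ ⟨⟨s, hs⟩, rfl⟩
    rw [SemidirectProduct.lift_inl] at h1
    set a : MulAut (T : Subgroup H) := MulAut.conjNormal s with ha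
    have h2 : (a y)⁻¹ * y ∈ Subgroup.center (T : Subgroup H) := QuotientGroup.eq.1 h1
    set c := y⁻¹ * a y with hc
    have hcC : c ∈ Subgroup.center (T : Subgroup H) := by
      rw [hc, show y⁻¹ * a y = ((a y)⁻¹ * y)⁻¹ by group]
      exact inv_mem h2
    have hay : a y = y * c := by rw [hc, mul_inv_cancel_left]
    have hac : a c = c := (hZA c).1 hcC _ ⟨s, hs, rfl⟩
    have hpw := FpfAut.pow_apply_step hay hac (orderOf a)
    rw [pow_orderOf_eq_one, MulAut.one_apply, left_eq_mul] at hpw
    have hc1 : c = 1 := by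
      have hcT : IsPGroup 2 (⊤ : Subgroup (T : Subgroup H)) := T.isPGroup'.to_subgroup ⊤
      refine eq_one_of_isPGroup_of_not_dvd Nat.prime_two hcT (mem_top c) fun hd => ?_
      have : orderOf a ∣ Nat.card A := Subgroup.orderOf_dvd_natCard A ⟨s, hs, rfl⟩
      have h5 := Nat.dvd_gcd ((hd.trans (orderOf_dvd_of_pow_eq_one hpw)).trans this) (dvd_refl 2)
      rw [hAodd.gcd_eq_one] at h5
      omega
    rw [hay, hc1, mul_one]
  set αR : Subgroup.zpowers α := ⟨α, Subgroup.mem_zpowers α⟩
  have hθα : ∀ y : (T : Subgroup H), θ (SemidirectProduct.inr αR) (QuotientGroup.mk y) =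
      QuotientGroup.mk (resA α (T : Subgroup H) hT y) := fun y => by
    rw [SemidirectProduct.lift_inr]
    rfl
  set F := {v : ((T : Subgroup H) ⧸ Subgroup.center (T : Subgroup H)) // ∀ g ∈ R', θ g v = v}
  have hFmem : ∀ c : (T : Subgroup H), α (c : H) = (c : H) → ∀ g ∈ R', θ g (QuotientGroup.mk c) = QuotientGroup.mk c := by
    rintro c hc _ ⟨g, rfl⟩
    rw [SemidirectProduct.lift_inr]
    refine congrArg QuotientGroup.mk (Subtype.ext ?_)
    show (g : MulAut H) (c : H) = c
    obtain ⟨k, hk : α ^ k = (g : MulAut H)⟩ := mem_powers_iff_mem_zpowers.2 g.2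
    rw [← hk]
    clear hk
    induction k with
    | zero => rfl
    | succ k ih => rw [pow_succ, MulAut.mul_apply, hc, ih]
  -- surjection from `F × D / R`
  set RD := R.subgroupOf (dGrp α T)
  have hsurj : Nat.card ((T : Subgroup H) ⧸ Subgroup.center (T : Subgroup H)) ≤ Nat.card F * RD.index := by
    let g : F × (dGrp α T ⧸ RD) → ((T : Subgroup H) ⧸ Subgroup.center (T : Subgroup H)) := fun t =>
      t.1.1 * Quotient.liftOn' t.2 (fun d : dGrp α T => (QuotientGroup.mk ⟨d, dGrp_le T hT d.2⟩ : ((T : Subgroup H) ⧸ Subgroup.center (T : Subgroup H))))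
        (fun a b hab => by
          rw [QuotientGroup.leftRel_apply, Subgroup.mem_subgroupOf] at hab
          exact QuotientGroup.eq.2 (hRZ _ hab))
    rw [Subgroup.index_eq_card, ← Nat.card_prod]
    refine Nat.card_le_card_of_surjective g fun v => QuotientGroup.induction_on v fun y => ?_
    obtain ⟨c, hc, hcf, d, hd, hcd'⟩ := h.T_eq T hT y.2
    refine ⟨(⟨QuotientGroup.mk ⟨c, hc⟩, hFmem ⟨c, hc⟩ hcf⟩, QuotientGroup.mk ⟨d, hd⟩), ?_⟩
    show (QuotientGroup.mk ⟨c, hc⟩ : ((T : Subgroup H) ⧸ Subgroup.center (T : Subgroup H))) * QuotientGroup.mk ⟨d, dGrp_le T hT hd⟩ = _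
    rw [← QuotientGroup.mk_mul]
    exact congrArg QuotientGroup.mk (Subtype.ext hcd'.symm)
  have hidx : RD.index = 2 ^ (2 * m) := hRidx
  by_cases hfpfS : ∀ x ∈ S, α x = x → x = 1
  swap
  · exfalso
    -- proper invariant subgroups of `S` are fixed
    have hkerT : ∀ x ∈ S, (∀ t ∈ (T : Subgroup H), x * t = t * x) → x = 1 := by
      intro x hx hxt
      set K₀ := S ⊓ Subgroup.centralizer ((T : Subgroup H) : Set H) with hK₀
      haveI : K₀.Normal := by
        rw [← Subgroup.normalizer_eq_top_iff, eq_top_iff, ← hST]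
        refine sup_le (fun s hs => ?_) (fun t ht => ?_)
        · exact Lib.FS.mem_normalizer_of_conj_mem fun y hy =>
            ⟨S.mul_mem (S.mul_mem hs hy.1) (S.inv_mem hs),
              (inferInstance : (Subgroup.centralizer ((T : Subgroup H) : Set H)).Normal).conj_mem y hy.2 s⟩
        · exact Lib.FS.mem_normalizer_of_conj_mem fun y hy => by
            rwa [show t * y * t⁻¹ = y by
              rw [mem_centralizer_iff.1 hy.2 t ht, mul_inv_cancel_right]]
      have h0 := h.eq_bot_of_normal_pgroup (hS.to_le (inf_le_left (b := Subgroup.centralizer ((T : Subgroup H) : Set H))) : IsPGroup p K₀)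
      exact Subgroup.mem_bot.1 (h0 ▸ ⟨hx, mem_centralizer_iff.2 fun t ht => (hxt t ht).symm⟩)
    have hprop : ∀ S₁ : Subgroup H, S₁ ≤ S → S₁ ≠ S → Stb α S₁ → ∀ x ∈ S₁, α x = x := by
      intro S₁ hS₁ hne hS₁α x hx
      have hsup : S₁ ⊔ (T : Subgroup H) ≠ ⊤ := fun e1 => hne (le_antisymm hS₁ fun s hs => by
        obtain ⟨a, ha, t, ht, hat⟩ := Subgroup.mem_sup_of_normal_right.1 (e1.symm ▸ mem_top s : s ∈ _)
        have ht1 : t = 1 := hST0 t (by
          rw [show t = a⁻¹ * s by rw [← hat]; group]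
          exact S.mul_mem (S.inv_mem (hS₁ ha)) hs) ht
        rwa [← hat, ht1, mul_one])
      obtain ⟨W, -, hWp, -, hWn, hWmax, -⟩ := h.cm_struct (hS₁α.sup hT) hsup
      have h1 : x⁻¹ * α x = 1 := by
        refine hkerT _ (S.mul_mem (S.inv_mem (hS₁ hx)) (hSα x (hS₁ hx))) fun t ht => ?_
        have hyW : x⁻¹ * α x ∈ W :=
          hWmax _ (cm_mono le_sup_left) ((hS.to_le hS₁).to_le (cm_le hS₁α)) (mem_cm hx)
        refine commutatorElement_eq_one_iff_mul_comm.1 (Subgroup.mem_bot.1
          ((IsPGroup.disjoint_of_ne 2 p h.hp2.symm (T : Subgroup H) W T.isPGroup' hWp).le_bot ⟨?_, ?_⟩))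
        · rw [commutatorElement_def]
          exact (T : Subgroup H).mul_mem (hn.conj_mem t ht _) ((T : Subgroup H).inv_mem ht)
        · rw [commutatorElement_def, show x⁻¹ * α x * t * (x⁻¹ * α x)⁻¹ * t⁻¹ =
            x⁻¹ * α x * (t * (x⁻¹ * α x)⁻¹ * t⁻¹) by group]
          exact W.mul_mem hyW (hWn t (mem_sup_right ht) _ (W.inv_mem hyW))
      exact (inv_mul_eq_one.1 h1).symm
    haveI : IsPGroup p S := hS
    set β : MulAut S := resA α S hSα with hβ
    have hgenS : cm β (⊤ : Subgroup S) = ⊤ := by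
      rw [eq_top_iff]
      intro x _
      have hle : cm α S ≤ (cm β (⊤ : Subgroup S)).map S.subtype := cm_le_iff.2 fun y hy =>
        ⟨_, mem_cm (mem_top (⟨y, hy⟩ : S)), rfl⟩
      obtain ⟨w, hw, hwx⟩ := hle ((le_of_eq hScm.symm) x.2)
      rwa [← show w = x from Subtype.ext hwx]
    have hcenS : ∀ (N : Subgroup S), N.Normal → Stb β N → N ≠ ⊤ →
        ∀ x ∈ N, β x = x ∧ x ∈ center S := by
      intro N hNn hNβ hNne
      have hfixN : ∀ x ∈ N, β x = x := fun x hx => Subtype.ext (hprop (N.map S.subtype) (map_subtype_le _)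
        (fun e1 => hNne (Subgroup.map_injective S.subtype_injective (by
          rw [e1, ← MonoidHom.range_eq_map, Subgroup.range_subtype])))
        (stb_map_subtype (fun y => resA_apply hSα y) hNβ) x ⟨x, hx, rfl⟩)
      refine fun x hx => ⟨hfixN x hx, mem_center_iff.2 fun g => ?_⟩
      have hle : cm β (⊤ : Subgroup S) ≤ Subgroup.centralizer {x} := cm_le_iff.2 fun y _ => by
        rw [mem_centralizer_singleton_iff]
        have h1 := hfixN _ (hNn.conj_mem x hx y)
        rw [map_mul, map_mul, map_inv, hfixN x hx] at h1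
        calc y⁻¹ * β y * x = y⁻¹ * (β y * x * (β y)⁻¹) * β y := by group
          _ = x * (y⁻¹ * β y) := by rw [h1]; group
      exact mem_centralizer_singleton_iff.1 (hle (hgenS.symm ▸ mem_top g))
    have hSne : S ≠ ⊥ := fun e1 => hS1 (le_bot_iff.1 (e1 ▸ cm_le hSα))
    haveI : Nontrivial S := (Subgroup.nontrivial_iff_ne_bot S).2 hSne
    have hΦne : frattini S ≠ ⊤ := by
      obtain ⟨M, hM, -⟩ := (eq_top_or_exists_le_coatom (⊥ : Subgroup S)).resolve_left bot_ne_top
      exact fun e1 => hM.1 (top_le_iff.1 (e1 ▸ frattini_le_coatom hM))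
    have hΦc : ∀ x ∈ frattini S, β x = x ∧ x ∈ center S :=
      hcenS _ inferInstance stb_char hΦne
    have hfixΦ : ∀ x : S, β x = x → x ∈ frattini S := by
      intro x hx
      have hΦβ : Stb β (frattini S) := stb_char
      letI : CommGroup (S ⧸ frattini S) :=
        { (inferInstance : Group (S ⧸ frattini S)) with
          mul_comm := fun a b => by
            refine QuotientGroup.induction_on a fun u => QuotientGroup.induction_on b fun v => ?_
            rw [← QuotientGroup.mk_mul, ← QuotientGroup.mk_mul, QuotientGroup.eq]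
            have := PGroups.commutatorElement_mem_frattini hS v⁻¹ u⁻¹
            simpa [commutatorElement_def, mul_assoc] using this }
      let N : S →* S ⧸ frattini S :=
        { toFun := fun y => ∏ j ∈ Finset.range r, (QuotientGroup.mk ((β ^ j) y) : S ⧸ frattini S)
          map_one' := by simp
          map_mul' := fun u v => by simp [Finset.prod_mul_distrib] }
      have hshift : ∀ y, N (β y) = N y := by
        intro y
        show ∏ j ∈ Finset.range r, (QuotientGroup.mk ((β ^ j) (β y)) : S ⧸ frattini S) =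
          ∏ j ∈ Finset.range r, (QuotientGroup.mk ((β ^ j) y) : S ⧸ frattini S)
        have e1 := Finset.prod_range_succ' (fun j => (QuotientGroup.mk ((β ^ j) y) : S ⧸ frattini S)) r
        rw [Finset.prod_range_succ, hβ, resA_pow_r h.hα, pow_zero] at e1
        simp only [pow_succ, MulAut.mul_apply] at e1
        exact (mul_right_cancel e1).symm
      have hle : cm β (⊤ : Subgroup S) ≤ N.ker := cm_le_iff.2 fun y _ => by
        rw [MonoidHom.mem_ker, map_mul, map_inv, hshift, inv_mul_cancel]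
      have h1 : N x = 1 := hle (hgenS.symm ▸ mem_top x)
      have hxj : ∀ j : ℕ, (β ^ j) x = x := by
        intro j
        induction j with
        | zero => rfl
        | succ j ih => rw [pow_succ, MulAut.mul_apply, hx, ih]
      have h2 : (QuotientGroup.mk x : S ⧸ frattini S) ^ r = 1 := by simpa [N, hxj] using h1
      obtain ⟨k, hk⟩ := hS x
      have h3 : (QuotientGroup.mk x : S ⧸ frattini S) ^ r.gcd (p ^ k) = 1 :=
        pow_gcd_eq_one.mpr ⟨h2, by rw [← QuotientGroup.mk_pow, hk]; rfl⟩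
      rw [Nat.Coprime.pow_right k ((Nat.coprime_primes h.hr h.hp).2 h.r_ne_p), pow_one] at h3
      exact (QuotientGroup.eq_one_iff x).1 h3
    have hnabS : ∃ x y : S, x * y ≠ y * x := by
      by_contra hh
      push Not at hh
      refine hfpfS fun x hx hf => ?_
      by_contra hx1
      -- in an abelian `S` the fixed points are killed by the norm
      let N : S → S := fun y => y⁻¹ * β y
      letI : CommGroup S := { (inferInstance : Group S) with mul_comm := hh }
      let N' : S →* S :=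
        { toFun := N
          map_one' := by simp [N]
          map_mul' := fun u v => by simp [N, mul_mul_mul_comm, mul_comm] }
      have hsurj' : Function.Surjective N' := fun y => by
        have hle : cm β (⊤ : Subgroup S) ≤ N'.range := cm_le_iff.2 fun w _ => ⟨w, rfl⟩
        exact hle (hgenS.symm ▸ mem_top y)
      have hinj := (Finite.injective_iff_surjective (f := N')).2 hsurj'
      have : (⟨x, hx⟩ : S) = 1 := hinj (by
        show (⟨x, hx⟩ : S)⁻¹ * β ⟨x, hx⟩ = N' 1
        rw [map_one, show β ⟨x, hx⟩ = ⟨x, hx⟩ from Subtype.ext hf, inv_mul_cancel])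
      exact hx1 (congrArg Subtype.val this)
    have hcenne : center S ≠ ⊤ := fun e1 => by
      obtain ⟨x, y, hxy⟩ := hnabS
      exact hxy (mem_center_iff.1 (e1 ▸ mem_top y : y ∈ center S) x)
    -- central elements of order `p` have no fixed point on `T / Z(T)`
    let θS : S →* MulAut ((T : Subgroup H) ⧸ Subgroup.center (T : Subgroup H)) := ρS
    have hfree : ∀ z ∈ center S, z ≠ 1 → z ^ p = 1 → ∀ v, θS z v = v → v = 1 := by
      intro z hz hz1 hzp v hv
      have hzf : α (z : H) = z :=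
        congrArg Subtype.val (hcenS (center S) inferInstance stb_center hcenne z hz).1
      set Z₁ := Subgroup.zpowers (z : H) with hZ₁
      set T₂ := ⁅(T : Subgroup H), Z₁⁆ with hT₂
      have hT₂T : T₂ ≤ (T : Subgroup H) := Subgroup.commutator_le_left _ _
      have hsZ : ∀ s ∈ S, s * (z : H) = z * s := fun s hs =>
        congrArg Subtype.val (mem_center_iff.1 hz ⟨s, hs⟩)
      haveI : T₂.Normal := by
        rw [← Subgroup.normalizer_eq_top_iff, eq_top_iff, ← hST]
        refine sup_le (fun s hs => ?_) (Coprime.left_le_normalizer_commutator _ _)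
        refine Lib.FS.mem_normalizer_of_conj_mem fun y hy => ?_
        refine (show T₂ ≤ T₂.comap (MulAut.conj s).toMonoidHom from
          Subgroup.commutator_le.2 fun a ha b hb => ?_) hy
        rw [Subgroup.mem_comap, map_commutatorElement]
        obtain ⟨i, rfl⟩ := Subgroup.mem_zpowers_iff.1 hb
        rw [map_zpow, show (MulAut.conj s).toMonoidHom (z : H) = z by
          show s * z * s⁻¹ = z
          rw [hsZ s hs, mul_inv_cancel_right]]
        exact Subgroup.commutator_mem_commutator (hn.conj_mem a ha s) (Subgroup.zpow_mem_zpowers _ _)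
      have hT₂α : Stb α T₂ := fun x hx => by
        refine (show T₂ ≤ T₂.comap α.toMonoidHom from Subgroup.commutator_le.2 fun a ha b hb => ?_) hx
        show α ⁅a, b⁆ ∈ T₂
        rw [map_commutatorElement]
        obtain ⟨i, rfl⟩ := Subgroup.mem_zpowers_iff.1 hb
        rw [map_zpow, hzf]
        exact Subgroup.commutator_mem_commutator (hT a ha) (Subgroup.zpow_mem_zpowers _ _)
      have hpdvd : ∀ u : H, u ∈ (T : Subgroup H) → u ^ p = 1 → u = 1 := fun u hu hup => by
        obtain ⟨k, hk⟩ := T.isPGroup' ⟨u, hu⟩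
        have h1 : u ^ p.gcd (2 ^ k) = 1 :=
          pow_gcd_eq_one.mpr ⟨hup, congrArg Subtype.val hk⟩
        rwa [Nat.Coprime.pow_right k ((Nat.coprime_primes h.hp Nat.prime_two).2 h.hp2), pow_one] at h1
      have hzp' : (z : H) ^ p = 1 := by rw [← Subgroup.coe_pow, hzp]; rfl
      by_cases hT₂eq : T₂ = (T : Subgroup H)
      · -- `[W, z] = W` on the abelian quotient
        revert hv
        refine QuotientGroup.induction_on v fun y hy => ?_
        let f : ((T : Subgroup H) ⧸ Subgroup.center (T : Subgroup H)) →*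
            ((T : Subgroup H) ⧸ Subgroup.center (T : Subgroup H)) :=
          { toFun := fun w => θS z w * w⁻¹
            map_one' := by simp
            map_mul' := fun a b => by rw [map_mul, mul_inv_rev, mul_comm b⁻¹ a⁻¹, mul_mul_mul_comm] }
        have hfs : Function.Surjective f := fun w => QuotientGroup.induction_on w fun u => by
          have hle : T₂ ≤ (f.range.comap (QuotientGroup.mk' _)).map (T : Subgroup H).subtype := by
            refine Subgroup.commutator_le.2 fun a ha b hb => ?_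
            obtain ⟨i, rfl⟩ := Subgroup.mem_zpowers_iff.1 hb
            refine ⟨⟨a, ha⟩ * MulAut.conjNormal ((z : H) ^ i) (⟨a, ha⟩⁻¹ : (T : Subgroup H)), ?_, ?_⟩
            · show QuotientGroup.mk _ ∈ f.range
              set A := (QuotientGroup.mk (⟨a, ha⟩⁻¹ : (T : Subgroup H)) :
                (T : Subgroup H) ⧸ Subgroup.center (T : Subgroup H)) with hA
              have hmem : ∀ k : ℕ, θS (z ^ k) A * A⁻¹ ∈ f.range := by
                intro k
                induction k with
                | zero => simp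
                | succ k ih =>
                  rw [pow_succ', map_mul, MulAut.mul_apply,
                    show θS z (θS (z ^ k) A) * A⁻¹ = f (θS (z ^ k) A) * (θS (z ^ k) A * A⁻¹) by
                      show _ = θS z (θS (z ^ k) A) * (θS (z ^ k) A)⁻¹ * _
                      group]
                  exact mul_mem ⟨_, rfl⟩ ih
              obtain ⟨k, hk⟩ := mem_powers_iff_mem_zpowers.2 (Subgroup.zpow_mem_zpowers (z : S) i)
              have h1 := hmem k
              rw [show z ^ k = z ^ i from hk, mul_comm, ← QuotientGroup.mk_inv, inv_inv] at h1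
              exact h1
            · simp [-map_zpow, commutatorElement_def, MulAut.conjNormal_apply, mul_assoc]
          obtain ⟨u', hu', hue⟩ := hle (hT₂eq.ge u.2)
          rw [show u = u' from Subtype.ext hue.symm]
          exact hu'
        have hfi := (Finite.injective_iff_surjective (f := f)).2 hfs
        refine hfi ?_
        show θS z (QuotientGroup.mk y) * (QuotientGroup.mk y)⁻¹ = f 1
        rw [hy, mul_inv_cancel, map_one]
      · exfalso
        have hc2 := hsmall T₂ hT₂α hT₂T hT₂eq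
        refine hz1 (Subtype.ext (hkerT z z.2 fun t ht => ?_))
        have hmem : ⁅t, (z : H)⁆ ∈ T₂ :=
          Subgroup.commutator_mem_commutator ht (Subgroup.mem_zpowers _)
        have hcz := hc2 hmem
        set w := ⁅t, (z : H)⁆ with hw
        have h1 : t * (z : H) ^ p * t⁻¹ = w ^ p * (z : H) ^ p := by
          rw [← conj_pow, show t * (z : H) * t⁻¹ = w * z by rw [hw, commutatorElement_def]; group]
          exact (show Commute w (z : H) from (mem_center_iff.1 hcz _).symm).mul_pow p
        rw [hzp', mul_one, mul_one, mul_inv_cancel] at h1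
        exact (commutatorElement_eq_one_iff_mul_comm.1 (hpdvd w (hT₂T hmem) h1.symm)).symm
    let σW : MulAut ((T : Subgroup H) ⧸ Subgroup.center (T : Subgroup H)) :=
      θ (SemidirectProduct.inr αR)
    let FW : Subgroup ((T : Subgroup H) ⧸ Subgroup.center (T : Subgroup H)) :=
      σW.toMonoidHom.eqLocus (MonoidHom.id _)
    have hFW : Nat.card F ≤ Nat.card FW := Nat.card_le_card_of_injective
      (fun v : F => (⟨v.1, v.2 _ ⟨αR, rfl⟩⟩ : FW))
      (fun a b e1 => Subtype.ext (congrArg Subtype.val e1 :))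
    refine false_of_small_fixed_module (W := ((T : Subgroup H) ⧸ Subgroup.center (T : Subgroup H)))
      h.hp h.hp2 h.hr hrm (resA_pow_r h.hα hSα) (not_dvd_sub h.hco S) hS hgenS
      (fun x hx => (hcenS (center S) inferInstance stb_center hcenne x hx).1)
      (fun x hx => (hΦc x (hfixΦ x hx)).2)
      (fun x y => (hΦc _ (PGroups.commutatorElement_mem_frattini hS x y)).2)
      (fun x => (hΦc _ (PGroups.pow_mem_frattini hS x)).2) hnabS θS σW ?_ hexp2 ?_ hfree FW
      (fun v => Iff.rfl) (le_trans hsurj (Nat.mul_le_mul hFW hidx.le))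
    · intro s
      have e1 : θ (SemidirectProduct.inl (φ αR s)) =
          σW * θ (SemidirectProduct.inl s) * σW⁻¹ := by
        rw [SemidirectProduct.inl_aut, map_mul, map_mul, map_inv, map_inv]
      rw [SemidirectProduct.lift_inl, SemidirectProduct.lift_inl] at e1
      exact e1
    · refine ⟨QuotientGroup.mk ⟨a₀, dGrp_le T hT ha₀⟩, fun e1 => hab₀ ?_⟩
      have h3 := (QuotientGroup.eq_one_iff _).1 e1
      exact commutatorElement_eq_one_iff_mul_comm.2
        (congrArg Subtype.val (mem_center_iff.1 h3 ⟨b₀, dGrp_le T hT hb₀⟩)).symm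
  have hfpfB : ∀ x ∈ R', x ≠ 1 → ∀ k ∈ K, x * k = k * x → k = 1 := by
    rintro _ ⟨g, rfl⟩ hg1 _ ⟨s, rfl⟩ hcomm2
    have h1 : φ g s = s := by
      have h0 := SemidirectProduct.inl_aut (φ := φ) g s
      rw [hcomm2, mul_assoc, ← map_mul, mul_inv_cancel, map_one, mul_one] at h0
      exact SemidirectProduct.inl_injective h0
    have h2 : (g : MulAut H) (s : H) = s := congrArg Subtype.val h1
    obtain ⟨k, hk⟩ := mem_powers_iff_mem_zpowers.2
      (show α ∈ Subgroup.zpowers (g : MulAut H) by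
        have hne : (g : MulAut H) ≠ 1 := fun e1 => hg1 (by rw [show g = 1 from Subtype.ext e1, map_one])
        have hle : Subgroup.zpowers (g : MulAut H) ≤ Subgroup.zpowers α := Subgroup.zpowers_le.2 g.2
        rw [Subgroup.eq_of_le_of_card_ge hle (by
          rw [Nat.card_zpowers, Nat.card_zpowers, hord]
          exact (orderOf_eq_prime (by
            obtain ⟨j, hj⟩ := Subgroup.mem_zpowers_iff.1 g.2
            rw [← hj, ← zpow_natCast (α ^ j), ← zpow_mul, mul_comm, zpow_mul, zpow_natCast, h.hα,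
              one_zpow]) hne).ge)]
        exact Subgroup.mem_zpowers α)
    have h3 : ∀ j : ℕ, ((g : MulAut H) ^ j) (s : H) = s := by
      intro j
      induction j with
      | zero => rfl
      | succ j ih => rw [pow_succ, MulAut.mul_apply, h2, ih]
    have h4 : α (s : H) = s := by
      have := h3 k
      rwa [show (g : MulAut H) ^ k = α from hk] at this
    rw [show s = 1 from Subtype.ext (hfpfS s s.2 h4), map_one]
  have hFrob := OddLocal.FrobeniusRank.card_eq_pow (q := 2) hexp2 θ hcopB hcompl hfpfB hK0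
  have hcardR' : Nat.card R' = r := by
    rw [hR', ← Nat.card_congr (MonoidHom.ofInjective SemidirectProduct.inr_injective).toEquiv, hcardR]
  rw [hcardR'] at hFrob
  rw [hFrob, hidx] at hsurj
  -- at least three fixed cosets
  have hF3 : 3 ≤ Nat.card F := by
    by_contra hlt
    push Not at hlt
    have hfixall : ∀ x y : (T : Subgroup H), α (x : H) = (x : H) → α (y : H) = (y : H) → x * y = y * x := by
      intro x y hx hy
      by_cases e1 : x ∈ Subgroup.center (T : Subgroup H)
      · exact (mem_center_iff.1 e1 y).symm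
      by_cases e2 : y ∈ Subgroup.center (T : Subgroup H)
      · exact mem_center_iff.1 e2 x
      have hx' : (⟨QuotientGroup.mk x, hFmem x hx⟩ : F) ≠ ⟨1, fun g _ => map_one _⟩ := fun e3 =>
        e1 ((QuotientGroup.eq_one_iff x).1 (congrArg Subtype.val e3))
      have hy' : (⟨QuotientGroup.mk y, hFmem y hy⟩ : F) ≠ ⟨1, fun g _ => map_one _⟩ := fun e3 =>
        e2 ((QuotientGroup.eq_one_iff y).1 (congrArg Subtype.val e3))
      have hxy : (⟨QuotientGroup.mk x, hFmem x hx⟩ : F) = ⟨QuotientGroup.mk y, hFmem y hy⟩ := by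
        classical
        haveI := Fintype.ofFinite F
        by_contra hne
        have : ({⟨1, fun g _ => map_one _⟩, ⟨QuotientGroup.mk x, hFmem x hx⟩,
            ⟨QuotientGroup.mk y, hFmem y hy⟩} : Finset F).card ≤ Fintype.card F := Finset.card_le_univ _
        rw [Finset.card_eq_three.2 ⟨_, _, _, hx'.symm, hy'.symm, hne, rfl⟩, ← Nat.card_eq_fintype_card] at this
        omega
      have h1 : x⁻¹ * y ∈ Subgroup.center (T : Subgroup H) :=
        QuotientGroup.eq.1 (congrArg Subtype.val hxy)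
      have h2 := mem_center_iff.1 h1 x
      calc x * y = x * (x * (x⁻¹ * y)) := by group
        _ = x * (x⁻¹ * y * x) := by rw [h2]
        _ = y * x := by group
    have hFnt : ∃ c : (T : Subgroup H), α (c : H) = (c : H) ∧ c ∉ Subgroup.center (T : Subgroup H) := by
      by_contra hh
      push Not at hh
      have hone : ∀ v : F, v = ⟨1, fun g _ => map_one _⟩ := by
        rintro ⟨v, hv⟩
        refine Subtype.ext ?_
        induction v using QuotientGroup.induction_on with
        | H y =>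
          have h1 := hv _ ⟨αR, rfl⟩
          rw [hθα] at h1
          obtain ⟨n, hn', hf⟩ := exists_fixed_mul h.hr (resA_pow_r h.hα hT) stb_center
            (not_dvd_sub (not_dvd_sub h.hco _) _) (QuotientGroup.eq.1 h1.symm)
          refine (QuotientGroup.eq_one_iff y).2 ?_
          have := mul_mem (hh _ (congrArg Subtype.val hf)) (inv_mem hn')
          simpa using this
      haveI : Subsingleton F := ⟨fun a b => (hone a).trans (hone b).symm⟩
      have h1 : Nat.card F = 1 := Nat.card_eq_one_iff_unique.2 ⟨inferInstance, ⟨⟨1, fun g _ => map_one _⟩⟩⟩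
      have h2 : Nat.card ((T : Subgroup H) ⧸ Subgroup.center (T : Subgroup H)) = 1 := by rw [hFrob, h1, one_pow]
      haveI := (Nat.card_eq_one_iff_unique.1 h2).1
      have h3 : (⟨a₀, dGrp_le T hT ha₀⟩ : (T : Subgroup H)) ∈ Subgroup.center (T : Subgroup H) :=
        (QuotientGroup.eq_one_iff _).1 (Subsingleton.elim _ _)
      exact hab₀ (commutatorElement_eq_one_iff_mul_comm.2
        (congrArg Subtype.val (mem_center_iff.1 h3 ⟨b₀, dGrp_le T hT hb₀⟩)).symm)
    obtain ⟨c, hc, hcc⟩ := hFnt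
    refine hcc (mem_center_iff.2 fun y => ?_)
    obtain ⟨c', hc', hc'f, d, hd, hy⟩ := h.T_eq T hT y.2
    rw [show y = ⟨c', hc'⟩ * ⟨d, dGrp_le T hT hd⟩ from Subtype.ext hy]
    have h1 := hfixall c ⟨c', hc'⟩ hc hc'f
    have h2 : c * ⟨d, dGrp_le T hT hd⟩ = (⟨d, dGrp_le T hT hd⟩ : (T : Subgroup H)) * c :=
      Subtype.ext (hCD c c.2 hc d hd)
    rw [mul_assoc, ← h2, ← mul_assoc, ← h1, mul_assoc]
  have hlow : Nat.card F * 3 ^ (2 ^ m) ≤ Nat.card F * 2 ^ (2 * m) := by
    refine le_trans ?_ hsurj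
    rw [hrm, pow_succ, mul_comm (Nat.card F ^ _)]
    exact Nat.mul_le_mul_left _ (Nat.pow_le_pow_left hF3 _)
  have hlt : 2 ^ (2 * m) < 3 ^ (2 ^ m) := by
    have h2m : 2 * m ≤ 2 ^ m := by
      clear hlow hrm hidx hRidx hm0 hsurj
      induction m with
      | zero => simp
      | succ m ih =>
        rcases Nat.eq_zero_or_pos m with rfl | hm
        · norm_num
        · have : 2 ≤ 2 ^ m := Nat.le_self_pow hm.ne' 2
          rw [pow_succ]
          omega
    calc 2 ^ (2 * m) < 3 ^ (2 * m) := Nat.pow_lt_pow_left (by norm_num) (by omega)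
      _ ≤ 3 ^ (2 ^ m) := Nat.pow_le_pow_right (by norm_num) h2m
  exact absurd (Nat.le_of_mul_le_mul_left hlow (by omega)) (not_le.2 hlt)

/-- `D` is not normal. -/
theorem Min.not_normal_dGrp : ¬ (dGrp α T).Normal := by
  intro hn
  haveI := hn
  haveI : Fact (Nat.Prime 2) := ⟨Nat.prime_two⟩
  obtain ⟨S, hS, hSα, hS1, -⟩ := h.exists_pelem
  obtain ⟨a, ha, b, hb, hab⟩ := h.exists_not_commute T hT
  refine hab (commutatorElement_eq_one_iff_mul_comm.2 (mem_center_iff.1
    (h.central_of_sup_ne_top hS hSα hS1 (stb_dGrp T hT) (isPGroup_dGrp T hT) (fun hsup => ?_) ha) b).symm)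
  have hTD : (T : Subgroup H) = dGrp α T := by
    refine le_antisymm (fun t ht => ?_) (dGrp_le T hT)
    obtain ⟨s, hs, d, hd, rfl⟩ := Subgroup.mem_sup_of_normal_right.1 (hsup.symm ▸ mem_top t : t ∈ S ⊔ dGrp α T)
    have hsT : s ∈ (T : Subgroup H) := by simpa using mul_mem ht (inv_mem (dGrp_le T hT hd))
    haveI := h.factP
    have hs1 : s = 1 := Subgroup.mem_bot.1
      ((IsPGroup.disjoint_of_ne p 2 h.hp2 S (T : Subgroup H) hS T.isPGroup').le_bot ⟨hs, hsT⟩)
    simpa [hs1] using hd
  exact h.not_normal_T T hT (hTD ▸ hn)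

/-- The normalizer of `D` is proper. -/
theorem Min.mGrp_ne_top : mGrp α T ≠ ⊤ := fun e1 =>
  h.not_normal_dGrp T hT (Subgroup.normalizer_eq_top_iff.1 e1)

/-- Proper normal invariant subgroups are central. -/
theorem Min.le_center {N : Subgroup H} [hN : N.Normal] (hNα : Stb α N) (hne : N ≠ ⊤) :
    N ≤ Subgroup.center H := by
  haveI := h.factP
  haveI : Fact (Nat.Prime 2) := ⟨Nat.prime_two⟩
  obtain ⟨S, hS, hSα, hS1, -⟩ := h.exists_pelem
  set N₂ := (pCore 2 N).map N.subtype with hN₂
  haveI : (pCore 2 N).Characteristic :=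
    Subgroup.characteristic_iff_map_eq.2 fun φ => Cores.map_pCore_equiv φ
  haveI : N₂.Normal := inferInstanceAs ((pCore 2 N).map N.subtype).Normal
  have hN₂α : Stb α N₂ := stb_map_subtype (fun x => resA_apply hNα x) stb_char
  have hN₂2 : IsPGroup 2 N₂ := (Cores.pCore_isPGroup (G := N) 2).map _
  have hc2 := h.central_of_sup_ne_top hS hSα hS1 hN₂α hN₂2 fun hsup => by
    refine h.not_normal_T T hT ?_
    have hTN : (T : Subgroup H) = N₂ := by
      refine (T.is_maximal' hN₂2 fun t ht => ?_).symm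
      obtain ⟨s, hs, n, hn, hsn⟩ := Subgroup.mem_sup_of_normal_right.1 (hsup.symm ▸ mem_top t : t ∈ S ⊔ N₂)
      obtain ⟨k, hk⟩ := T.isPGroup' ⟨t, ht⟩
      have hk' : t ^ 2 ^ k = 1 := congrArg Subtype.val hk
      rw [← QuotientGroup.eq_one_iff]
      have h1 : (QuotientGroup.mk t : H ⧸ N₂) = QuotientGroup.mk s := by
        rw [← hsn]
        exact QuotientGroup.eq.2 (by simpa using inv_mem hn)
      obtain ⟨j, hj⟩ := hS ⟨s, hs⟩
      have h2 : (QuotientGroup.mk t : H ⧸ N₂) ^ (p ^ j).gcd (2 ^ k) = 1 := pow_gcd_eq_one.mpr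
        ⟨by rw [h1, ← QuotientGroup.mk_pow, show s ^ p ^ j = 1 from congrArg Subtype.val hj]; rfl,
          by rw [← QuotientGroup.mk_pow, hk']; rfl⟩
      rwa [Nat.Coprime.gcd_eq_one (((Nat.coprime_primes h.hp Nat.prime_two).2 h.hp2).pow j k), pow_one] at h2
    rw [hTN]
    infer_instance
  refine h.le_center_of_fixed fun n hn => ?_
  haveI : ((cm α N).subgroupOf N).Normal := ⟨fun x hx g => conj_mem_cm' g.2 hx⟩
  have hle : cm α N ≤ N₂ := fun x hx => ⟨⟨x, cm_le hNα hx⟩, Cores.le_pCore
    ((h.cm_normal_isPGroup hNα hne).of_equiv (Subgroup.subgroupOfEquivOfLe (cm_le hNα)).symm)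
    (show (⟨x, cm_le hNα hx⟩ : N) ∈ (cm α N).subgroupOf N from hx), rfl⟩
  have hbot : cm α N = ⊥ := le_bot_iff.1 ((cm_cm h.hr h.hα h.hco hNα).ge.trans
    (cm_le_iff.2 fun x hx => Subgroup.mem_bot.2 (by
      rw [h.center_fixed (hc2 (hle hx)), inv_mul_cancel])))
  exact (inv_mul_eq_one.1 (Subgroup.mem_bot.1 (hbot ▸ mem_cm hn))).symm

end Cfsg.Agent.Lib.HHS57
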