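import Cfsg.Agent.Lib.HHS57.Mod
import Cfsg.Agent.Lib.HHS57.Lines

/-!
# The occurring patterns under a transitive group of odd order (helper42, node H1-H6)
-/

set_option autoImplicit false
set_option linter.style.haveILetI false
set_option linter.unusedSectionVars false

namespace Cfsg.Agent.Lib.HHS57

open Cfsg Cfsg.Agent.Lib
open Subgroup
open scoped commutatorElement

universe u

/-- A transitive counting argument: a set of nonzero additive functions to `F_2` with constant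
incidence numbers contains every nonzero one. -/
theorem chars_all {A : Type*} [Group A] [Fintype A] (O : Finset (A → ZMod 2))
    (P : A → Prop) (hO : ∀ g ∈ O, (∀ a b, g (a * b) = g a + g b) ∧ (∃ a, g a = 1) ∧ ∀ a, g a = 1 → P a)
    (hne : O.Nonempty) (hconst : ∀ a b, P a → P b → (O.filter (fun g => g a = 1)).card = (O.filter (fun g => g b = 1)).card)
    {f : A → ZMod 2} (hf : ∀ a b, f (a * b) = f a + f b) (hf1 : ∃ a, f a = 1) (hfP : ∀ a, f a = 1 → P a) :
    f ∈ O := by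
  classical
  obtain ⟨a₀, ha₀⟩ := hf1
  set N := (O.filter (fun g => g a₀ = 1)).card with hN
  have h01 : ∀ z : ZMod 2, z = 0 ∨ z = 1 := by decide
  have hhalf : ∀ g : A → ZMod 2, (∀ a b, g (a * b) = g a + g b) → (∃ a, g a = 1) →
      2 * (Finset.univ.filter (fun a => g a = 1)).card = Fintype.card A := by
    intro g hg ⟨a₁, ha₁⟩
    have e : (Finset.univ.filter (fun a => g a = 1)).card = (Finset.univ.filter (fun a => ¬ g a = 1)).card := by
      refine Finset.card_bij (fun a _ => a * a₁) (fun a ha => ?_) (fun a _ b _ e => mul_right_cancel e)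
        fun b hb => ⟨b * a₁⁻¹, ?_, inv_mul_cancel_right b a₁⟩
      · simp only [Finset.mem_filter, Finset.mem_univ, true_and] at ha ⊢
        rw [hg, ha, ha₁]
        decide
      · simp only [Finset.mem_filter, Finset.mem_univ, true_and] at hb ⊢
        have h2 := hg (b * a₁⁻¹) a₁
        rw [inv_mul_cancel_right, ha₁] at h2
        rcases h01 (g (b * a₁⁻¹)) with h3 | h3
        · exact absurd (h2.trans (by rw [h3, zero_add])) hb
        · exact h3
    have hsum := Finset.card_filter_add_card_filter_not (s := (Finset.univ : Finset A)) (fun a => g a = 1)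
    rw [Finset.card_univ] at hsum
    omega
  have hpair : ∀ g k : A → ZMod 2, (∀ a b, g (a * b) = g a + g b) → (∀ a b, k (a * b) = k a + k b) →
      (∃ a, g a = 1) → (∃ a, k a = 1) → g ≠ k →
      4 * (Finset.univ.filter (fun a => g a = 1 ∧ k a = 1)).card = Fintype.card A := by
    intro g k hg hk hg1 hk1 hne'
    have h3 : ∃ a, g a + k a = 1 := by
      obtain ⟨a, ha⟩ := Function.ne_iff.1 hne'
      refine ⟨a, ?_⟩
      rcases h01 (g a) with e1 | e1 <;> rcases h01 (k a) with e2 | e2 <;> rw [e1, e2] at ha ⊢ <;>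
        first | (exact absurd rfl ha) | decide
    have hs := hhalf (fun a => g a + k a) (fun a b => by rw [hg, hk]; ring) h3
    have hg' := hhalf g hg hg1
    have hk' := hhalf k hk hk1
    have hid : (Finset.univ.filter (fun a => g a = 1)).card + (Finset.univ.filter (fun a => k a = 1)).card =
        (Finset.univ.filter (fun a => g a + k a = 1)).card +
          2 * (Finset.univ.filter (fun a => g a = 1 ∧ k a = 1)).card := by
      simp only [Finset.card_filter, Finset.mul_sum, ← Finset.sum_add_distrib]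
      refine Finset.sum_congr rfl fun a _ => ?_
      rcases h01 (g a) with e1 | e1 <;> rcases h01 (k a) with e2 | e2 <;> rw [e1, e2] <;> decide
    omega
  -- double counting
  have hcount : ∀ g : A → ZMod 2, (∀ a b, g (a * b) = g a + g b) → (∃ a, g a = 1) → (∀ a, g a = 1 → P a) →
      2 * N * Fintype.card A = (O.card + if g ∈ O then 1 else 0) * Fintype.card A := by
    intro g hg hg1 hgP
    set F := Finset.univ.filter (fun a => g a = 1) with hF
    have e1 : F.card * N = ∑ k ∈ O, (Finset.univ.filter (fun a => g a = 1 ∧ k a = 1)).card := by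
      calc F.card * N = ∑ a ∈ F, (O.filter (fun k => k a = 1)).card := by
            rw [Finset.sum_congr rfl fun a ha => hconst a a₀ (hgP a (by simpa [hF] using ha)) (hfP a₀ ha₀),
              Finset.sum_const, smul_eq_mul]
        _ = ∑ k ∈ O, (F.filter (fun a => k a = 1)).card := by
            simp only [Finset.card_filter]
            exact Finset.sum_comm
        _ = _ := Finset.sum_congr rfl fun k _ => by rw [hF, Finset.filter_filter]
    have e2 : ∀ k ∈ O, 4 * (Finset.univ.filter (fun a => g a = 1 ∧ k a = 1)).card =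
        Fintype.card A + if k = g then Fintype.card A else 0 := by
      intro k hk
      by_cases hkg : k = g
      · subst hkg
        have := hhalf k hg hg1
        simp only [and_self, if_true]
        omega
      · rw [if_neg hkg, add_zero]
        exact hpair g k hg (hO k hk).1 hg1 (hO k hk).2.1 (Ne.symm hkg)
    calc 2 * N * Fintype.card A = 4 * (F.card * N) := by
          rw [← hhalf g hg hg1, ← hF]; ring
      _ = ∑ k ∈ O, (Fintype.card A + if k = g then Fintype.card A else 0) := by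
          rw [e1, Finset.mul_sum]; exact Finset.sum_congr rfl e2
      _ = _ := by
          rw [Finset.sum_add_distrib, Finset.sum_const, Finset.sum_ite_eq', smul_eq_mul, add_mul, ite_mul,
            one_mul, zero_mul]
  obtain ⟨g, hg⟩ := hne
  by_contra hfO
  have c1 := hcount f hf ⟨a₀, ha₀⟩ hfP
  have c2 := hcount g (hO g hg).1 (hO g hg).2.1 (hO g hg).2.2
  rw [if_neg hfO] at c1
  rw [if_pos hg] at c2
  have hpos : 0 < Fintype.card A := Fintype.card_pos
  have d1 := Nat.eq_of_mul_eq_mul_right hpos c1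
  have d2 := Nat.eq_of_mul_eq_mul_right hpos c2
  omega

/-- A group of odd order of fixed elements of `gM`, transitive on `gZ#`. -/
structure TransOdd {H : Type u} [Group H] (α : MulAut H) (T : Sylow 2 H)
    (Λ : Subgroup (H ⧸ Subgroup.center H)) : Prop where
  fixed : ∀ c ∈ Λ, qAut α c = c
  le : Λ ≤ gM α T
  odd : Odd (Nat.card Λ)
  trans : ∀ z ∈ gZ α T, z ≠ 1 → ∀ z' ∈ gZ α T, z' ≠ 1 → ∃ c ∈ Λ, c * z * c⁻¹ = z'

/-- `K` is stable under (the lifts of) `c`. -/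
def FixesK {H : Type u} [Group H] (α : MulAut H) (T : Sylow 2 H) (K : Subgroup H)
    (c : H ⧸ Subgroup.center H) : Prop :=
  ∀ c' : H, qHom H c' = c → ∀ z ∈ zGrp α T, (c' * z * c'⁻¹ ∈ K ↔ z ∈ K)

/-- Conjugation only depends on the image modulo the centre. -/
theorem conj_eq_of_qHom {H : Type u} [Group H] {x y : H} (hxy : qHom H x = qHom H y) (z : H) :
    x * z * x⁻¹ = y * z * y⁻¹ := by
  have hc : x⁻¹ * y ∈ Subgroup.center H := QuotientGroup.eq.1 hxy
  calc x * z * x⁻¹ = x * (z * (x⁻¹ * y)) * y⁻¹ := by group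
    _ = x * ((x⁻¹ * y) * z) * y⁻¹ := by rw [mem_center_iff.1 hc z]
    _ = y * z * y⁻¹ := by group

variable {H : Type u} [Group H] [Finite H] {p r : ℕ} {α : MulAut H} {V : Type u} [CommGroup V]
  [Finite V] {ψ : H →* MulAut V} {e : MulAut V}
  (h : Min p r α ψ e) (T : Sylow 2 H) (hT : Stb α (T : Subgroup H))

include h hT

/-- The conjugate of an occurring pattern occurs. -/
theorem Min.occ_conj {c : H} (hc : c ∈ mGrp α T) {K : Subgroup H} (hK : Occ α ψ T K) :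
    ∃ K', Occ α ψ T K' ∧ ∀ z ∈ zGrp α T, chiK K' z = chiK K (c * z * c⁻¹) := by
  obtain ⟨K', hKZ, hK2, hK'⟩ := exists_pat_of_char (Z := zGrp α T) (fun z => chiK K (c * z * c⁻¹))
    (fun a ha b hb => by
      rw [← chiK_mul hK.two (h.conj_mem_zGrp T hT hc ha) (h.conj_mem_zGrp T hT hc hb)]
      congr 1
      group) (by
      obtain ⟨⟨z, hz⟩, hzK⟩ : ∃ z : zGrp α T, z ∉ K.subgroupOf (zGrp α T) := by
        by_contra! hh
        have h2 := hK.two
        rw [Subgroup.relIndex_eq_one.2 fun x hx => hh ⟨x, hx⟩] at h2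
        omega
      refine ⟨c⁻¹ * z * c, by simpa using h.conj_mem_zGrp T hT (inv_mem hc) hz, ?_⟩
      rw [show c * (c⁻¹ * z * c) * c⁻¹ = z by group, chiK_eq_one]
      exact hzK)
  obtain ⟨v, hv, hv1⟩ := hK.ne
  refine ⟨K', ⟨hKZ, hK2, (ψ c)⁻¹ v, fun z hz => ?_, fun e1 => hv1 ?_⟩, hK'⟩
  · have hz' := h.conj_mem_zGrp T hT hc hz
    have hzc : ψ z ((ψ c)⁻¹ v) = (ψ c)⁻¹ (ψ (c * z * c⁻¹) v) := by
      rw [← map_inv, ← MulAut.mul_apply, ← map_mul, ← MulAut.mul_apply, ← map_mul]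
      congr 2
      group
    have e1 := hK' z hz
    refine ⟨fun hy => ?_, fun hy => ?_⟩
    · rw [chiK_eq_zero.2 hy] at e1
      rw [hzc, (hv _ hz').1 (chiK_eq_zero.1 e1.symm)]
    · rw [chiK_eq_one.2 hy] at e1
      rw [hzc, (hv _ hz').2 (chiK_eq_one.1 e1.symm), map_inv]
  · simpa using congrArg (ψ c) e1

/-- The parity of a pattern over a group of odd order is invariant. -/
theorem Min.exists_fixed_char {Λ : Subgroup (H ⧸ Subgroup.center H)} (hle : Λ ≤ gM α T)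
    (hodd : Odd (Nat.card Λ)) {K : Subgroup H} (hK : K.relIndex (zGrp α T) = 2) :
    ∃ χ : H → ZMod 2, (∀ a ∈ zGrp α T, ∀ b ∈ zGrp α T, χ (a * b) = χ a + χ b) ∧
      (∀ t ∈ Subgroup.center H, χ t = chiK K t) ∧
      ∀ c ∈ Λ, ∀ c' : H, qHom H c' = c → ∀ z ∈ zGrp α T, χ (c' * z * c'⁻¹) = χ z := by
  classical
  letI := Fintype.ofFinite Λ
  choose ℓ hℓ using fun c : Λ => QuotientGroup.mk'_surjective (Subgroup.center H) (c : H ⧸ Subgroup.center H)
  have hℓM : ∀ c, ℓ c ∈ mGrp α T := fun c => (h.mem_gM_iff T hT).1 (by rw [hℓ]; exact hle c.2)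
  refine ⟨fun z => ∑ c : Λ, chiK K (ℓ c * z * (ℓ c)⁻¹), fun a ha b hb => ?_, fun t ht => ?_,
    fun c hc c' hc' z hz => ?_⟩
  · rw [← Finset.sum_add_distrib]
    refine Finset.sum_congr rfl fun c _ => ?_
    rw [← chiK_mul hK (h.conj_mem_zGrp T hT (hℓM c) ha) (h.conj_mem_zGrp T hT (hℓM c) hb)]
    congr 1
    group
  · have hone : (Nat.card Λ : ZMod 2) = 1 := by
      obtain ⟨i, hi⟩ := hodd
      rw [hi, Nat.cast_add, Nat.cast_mul, show ((2 : ℕ) : ZMod 2) = 0 from by decide, zero_mul, zero_add,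
        Nat.cast_one]
    show ∑ c : Λ, chiK K (ℓ c * t * (ℓ c)⁻¹) = _
    rw [Finset.sum_congr rfl fun c _ => (show chiK K (ℓ c * t * (ℓ c)⁻¹) = chiK K t by
      rw [mem_center_iff.1 ht (ℓ c), mul_inv_cancel_right])]
    rw [Finset.sum_const, nsmul_eq_mul, Finset.card_univ, ← Nat.card_eq_fintype_card, hone, one_mul]
  · refine Fintype.sum_equiv (Equiv.mulRight (⟨c, hc⟩ : Λ)) _ _ fun d => ?_
    have e1 : qHom H (ℓ d * c') = qHom H (ℓ (d * ⟨c, hc⟩)) := by
      rw [map_mul, hℓ, hc', hℓ, Subgroup.coe_mul]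
    rw [Equiv.coe_mulRight, show ℓ d * (c' * z * c'⁻¹) * (ℓ d)⁻¹ = (ℓ d * c') * z * (ℓ d * c')⁻¹ by group,
      conj_eq_of_qHom e1]

/-- The patterns agreeing with an invariant function on the centre, except that function, occur. -/
theorem Min.occ_of_inv {Λ : Subgroup (H ⧸ Subgroup.center H)} (hΛ : TransOdd α T Λ)
    (hq : 4 ≤ Nat.card (gZ α T)) {χ : H → ZMod 2}
    (hadd : ∀ a ∈ zGrp α T, ∀ b ∈ zGrp α T, χ (a * b) = χ a + χ b)
    (hinv : ∀ c ∈ Λ, ∀ c' : H, qHom H c' = c → ∀ z ∈ zGrp α T, χ (c' * z * c'⁻¹) = χ z)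
    (hcen : ∀ K, Occ α ψ T K → ∀ t ∈ zGrp α T, t ∈ Subgroup.center H → chiK K t = χ t)
    {K : Subgroup H} (hKZ : K ≤ zGrp α T) (hK2 : K.relIndex (zGrp α T) = 2)
    (hKc : ∀ t ∈ zGrp α T, t ∈ Subgroup.center H → chiK K t = χ t)
    (hne : ∃ z ∈ zGrp α T, chiK K z ≠ χ z) : Occ α ψ T K := by
  classical
  set Z := zGrp α T with hZ
  letI := Fintype.ofFinite Z
  have h01 : ∀ x y : ZMod 2, x ≠ y → x + y = 1 := by decide
  have hcancel : ∀ x y : ZMod 2, x + y + y = x := by decide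
  let O : Finset (Z → ZMod 2) := Finset.univ.filter (fun g =>
    (∃ a, g a = 1) ∧ ∃ K', Occ α ψ T K' ∧ ∀ a : Z, g a = chiK K' a + χ a)
  have hchar : ∀ {K' : Subgroup H}, K'.relIndex Z = 2 → ∀ a b : Z,
      chiK K' (a * b : Z) + χ (a * b : Z) = (chiK K' a + χ a) + (chiK K' b + χ b) := fun {K'} hK' a b => by
    rw [Subgroup.coe_mul, chiK_mul hK' a.2 b.2, hadd _ a.2 _ b.2]; ring
  have hmemO : ∀ g, g ∈ O ↔ (∃ a, g a = 1) ∧ ∃ K', Occ α ψ T K' ∧ ∀ a : Z, g a = chiK K' a + χ a :=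
    fun g => by simp [O]
  have hOfun : (fun a : Z => chiK K a + χ a) ∈ O := by
    refine chars_all O (fun a : Z => (a : H) ∉ Subgroup.center H) (fun g hg => ?_) ?_ ?_ (hchar hK2) ?_ ?_
    · obtain ⟨h1, K', hK', hgv⟩ := (hmemO g).1 hg
      refine ⟨fun a b => by rw [hgv, hgv, hgv]; exact hchar hK'.two a b, h1, fun a ha hc => ?_⟩
      rw [hgv, hcen K' hK' a a.2 hc] at ha
      exact absurd ha ((by decide : ∀ x : ZMod 2, x + x ≠ 1) _)
    · -- some occurring pattern differs from `χ`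
      by_contra hempty
      have hall : ∀ K', Occ α ψ T K' → ∀ z ∈ Z, chiK K' z = χ z := fun K' hK' z hz => by
        by_contra hne'
        exact hempty ⟨fun a => chiK K' a + χ a, (hmemO _).2 ⟨⟨⟨z, hz⟩, h01 _ _ hne'⟩, K', hK', fun a => rfl⟩⟩
      have hone : ∀ z ∈ Z, z ≠ 1 → χ z = 1 := fun z hz hz1 => by
        obtain ⟨K', hK', hzK⟩ := h.exists_occ T hT hz hz1
        rw [← hall K' hK' z hz, chiK_eq_one]
        exact hzK
      have hle2 : Nat.card Z ≤ 2 := by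
        rw [← Nat.card_zmod 2]
        refine Nat.card_le_card_of_injective (fun a : Z => χ a) fun a b hab => ?_
        by_contra hne'
        have h1 := hone _ (Z.mul_mem a.2 (Z.inv_mem b.2)) (fun e1 => hne' (Subtype.ext (mul_inv_eq_one.1 e1)))
        have h2 := hadd _ (Z.mul_mem a.2 (Z.inv_mem b.2)) _ b.2
        rw [inv_mul_cancel_right, h1, show χ a = χ b from hab] at h2
        exact absurd h2 ((by decide : ∀ x : ZMod 2, x ≠ 1 + x) _)
      have := Nat.le_of_dvd Nat.card_pos (Subgroup.card_map_dvd Z (qHom H))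
      rw [show Z.map (qHom H) = gZ α T from rfl] at this
      omega
    · intro a b ha hb
      obtain ⟨c, hc, hcab⟩ := hΛ.trans _ (mem_map_of_mem (qHom H) a.2)
        (fun e1 => ha ((QuotientGroup.eq_one_iff _).1 e1)) _ (mem_map_of_mem (qHom H) b.2)
        (fun e1 => hb ((QuotientGroup.eq_one_iff _).1 e1))
      obtain ⟨c', rfl⟩ := QuotientGroup.mk'_surjective (Subgroup.center H) c
      have hc'M : c' ∈ mGrp α T := (h.mem_gM_iff T hT).1 (hΛ.le hc)
      let σ : Z → Z := fun x => ⟨c' * x * c'⁻¹, h.conj_mem_zGrp T hT hc'M x.2⟩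
      have hσ : Function.Surjective σ := Finite.injective_iff_surjective.1 fun x y e1 =>
        Subtype.ext (mul_left_cancel (mul_right_cancel (congrArg Subtype.val e1)))
      have hσO : ∀ g ∈ O, g ∘ σ ∈ O := fun g hg => by
        obtain ⟨⟨x, hx⟩, K', hK', hgv⟩ := (hmemO g).1 hg
        obtain ⟨y, rfl⟩ := hσ x
        obtain ⟨K'', hK'', hv⟩ := h.occ_conj T hT hc'M hK'
        refine (hmemO _).2 ⟨⟨y, hx⟩, K'', hK'', fun a => ?_⟩
        show g (σ a) = _
        rw [hgv, hv a a.2]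
        congr 1
        exact hinv _ hc c' rfl a a.2
      have hinj : Function.Injective (fun g : Z → ZMod 2 => g ∘ σ) := hσ.injective_comp_right
      have himg : O.image (fun g => g ∘ σ) = O := Finset.eq_of_subset_of_card_le
        (fun g hg => by obtain ⟨g', hg', rfl⟩ := Finset.mem_image.1 hg; exact hσO g' hg')
        (by rw [Finset.card_image_of_injective _ hinj])
      have hval : ∀ g ∈ O, g (σ a) = g b := fun g hg => by
        obtain ⟨-, K', hK', hgv⟩ := (hmemO g).1 hg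
        have htc : (b : H)⁻¹ * (σ a : H) ∈ Subgroup.center H := by
          rw [← QuotientGroup.eq_one_iff]
          show qHom H ((b : H)⁻¹ * (c' * a * c'⁻¹)) = 1
          rw [map_mul, map_mul, map_mul, map_inv, map_inv, hcab, inv_mul_cancel]
        have htZ := Z.mul_mem (Z.inv_mem b.2) (σ a).2
        have hb' : σ a = b * ⟨_, htZ⟩ := Subtype.ext (by simp)
        rw [hgv, hgv, hb', hchar hK'.two, hcen K' hK' _ htZ htc]
        exact (by decide : ∀ x y : ZMod 2, x + (y + y) = x) _ _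
      conv_lhs => rw [← himg]
      rw [Finset.filter_image, Finset.card_image_of_injective _ hinj]
      exact congrArg Finset.card (Finset.filter_congr fun g hg => by
        show g (σ a) = 1 ↔ g b = 1
        rw [hval g hg])
    · obtain ⟨z, hz, hne'⟩ := hne
      exact ⟨⟨z, hz⟩, h01 _ _ hne'⟩
    · intro a ha hc
      rw [hKc a a.2 hc] at ha
      exact absurd ha ((by decide : ∀ x : ZMod 2, x + x ≠ 1) _)
  obtain ⟨-, K', hK', hv⟩ := (hmemO _).1 hOfun
  rwa [eq_of_chiK hKZ hK'.le fun x hx => by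
    have := hv ⟨x, hx⟩
    exact add_right_cancel this]

/-- H1. -/
theorem Min.occ_all_of_no_center {Λ : Subgroup (H ⧸ Subgroup.center H)} (hΛ : TransOdd α T Λ)
    (hq : 4 ≤ Nat.card (gZ α T))
    (h0 : ∀ z ∈ zGrp α T, z ∈ Subgroup.center H → z = 1) {K : Subgroup H} (hK : K ≤ zGrp α T)
    (hK2 : K.relIndex (zGrp α T) = 2) : Occ α ψ T K := by
  have hc : ∀ K' : Subgroup H, ∀ t ∈ zGrp α T, t ∈ Subgroup.center H → chiK K' t = 0 :=
    fun K' t ht htc => chiK_eq_zero.2 (by rw [h0 t ht htc]; exact one_mem _)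
  refine h.occ_of_inv T hT hΛ hq (χ := fun _ => 0) (fun a _ b _ => (add_zero 0).symm)
    (fun _ _ _ _ _ _ => rfl) (fun K' _ => hc K') hK hK2 (hc K) ?_
  by_contra! hh
  rw [Subgroup.relIndex_eq_one.2 fun x hx => chiK_eq_zero.1 (hh x hx)] at hK2
  omega

/-- H2. -/
theorem Min.occ_all_but_one (hneg : CenNeg ψ) {Λ : Subgroup (H ⧸ Subgroup.center H)}
    (hΛ : TransOdd α T Λ) (hq : 4 ≤ Nat.card (gZ α T)) {z₀ : H} (hz₀ : z₀ ∈ zGrp α T)
    (hz₀c : z₀ ∈ Subgroup.center H) (hz₀1 : z₀ ≠ 1) :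
    ∃ K₀ : Subgroup H, K₀ ≤ zGrp α T ∧ K₀.relIndex (zGrp α T) = 2 ∧ z₀ ∉ K₀ ∧
      (∀ c ∈ Λ, FixesK α T K₀ c) ∧
      ∀ K : Subgroup H, K ≤ zGrp α T → K.relIndex (zGrp α T) = 2 → z₀ ∉ K → K ≠ K₀ →
        Occ α ψ T K := by
  obtain ⟨K₁, hK₁, hK₁z⟩ := h.exists_occ T hT hz₀ hz₀1
  obtain ⟨χ, hadd, hcen, hinv⟩ := h.exists_fixed_char T hT hΛ.le hΛ.odd hK₁.two
  have hχ0 : χ z₀ = 1 := by rw [hcen z₀ hz₀c, chiK_eq_one]; exact hK₁z
  obtain ⟨K₀, hK₀, hK₀2, hv⟩ := exists_pat_of_char (Z := zGrp α T) χ hadd ⟨z₀, hz₀, hχ0⟩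
  have hzK₀ : z₀ ∉ K₀ := by rw [← chiK_eq_one, hv z₀ hz₀, hχ0]
  refine ⟨K₀, hK₀, hK₀2, hzK₀, fun c hc c' hc' z hz => ?_, fun K hK hK2 hzK hne => ?_⟩
  · have hM : c' ∈ mGrp α T := (h.mem_gM_iff T hT).1 (hc' ▸ hΛ.le hc)
    rw [← chiK_eq_zero, ← chiK_eq_zero (x := z), hv _ (h.conj_mem_zGrp T hT hM hz), hv z hz,
      hinv c hc c' hc' z hz]
  · have hcz : ∀ K', z₀ ∉ K' → ∀ t ∈ zGrp α T, t ∈ Subgroup.center H → chiK K' t = χ t := by
      intro K' hK' t ht htc
      by_cases ht1 : t = 1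
      · rw [ht1, chiK_eq_zero.2 (one_mem _), hcen 1 (one_mem _), chiK_eq_zero.2 (one_mem _)]
      · rw [h.eq_of_cenNeg hneg htc hz₀c (h.zGrp_sq T hT ht) (h.zGrp_sq T hT hz₀) ht1 hz₀1,
          chiK_eq_one.2 hK', hχ0]
    refine h.occ_of_inv T hT hΛ hq hadd hinv (fun K' hK' => hcz K' fun hz => hz₀1
      (h.not_mem_occ T hT hneg hK' hz₀ hz₀c hz)) hK hK2 (hcz K hzK) ?_
    by_contra! hh
    exact hne (eq_of_chiK hK hK₀ fun x hx => by rw [hh x hx, hv x hx])

/-- One radical: two layers at most. -/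
theorem Min.card_le_of_rad_eq {m : ℕ} (hm : r = 2 ^ m + 1)
    (hall : ∀ K K', Occ α ψ T K → Occ α ψ T K' → rad α T K = rad α T K') :
    Nat.card (gD α T) ≤ Nat.card (gZ α T) * 2 ^ (2 * m) := by
  obtain ⟨a, ha, b, hb, hab⟩ := h.exists_not_commute T hT
  obtain ⟨K, hK, -⟩ := h.exists_occ T hT (h.commutator_mem_zGrp T hT ha hb) hab
  obtain ⟨R, hmR, hR, hR', hsR, hiR⟩ := h.radFacts T hT hm hK
  refine h.gD_card_le T hT ?_
  have hle : R ≤ zGrp α T := fun d hd => h.mem_zGrp_of_rad T hT (hR' hd) fun K' hK' =>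
    hall K K' hK hK' ▸ (hmR d).1 hd
  rw [← le_antisymm hle hR, hiR]

/-- The sum of two different patterns. -/
theorem Min.exists_sum {K₁ K₂ : Subgroup H} (hK₁ : Occ α ψ T K₁) (hK₂ : Occ α ψ T K₂) (hne : K₁ ≠ K₂) :
    ∃ J : Subgroup H, J ≤ zGrp α T ∧ J.relIndex (zGrp α T) = 2 ∧
      ∀ x ∈ zGrp α T, chiK J x = chiK K₁ x + chiK K₂ x := by
  refine exists_pat_of_char (Z := zGrp α T) (fun x => chiK K₁ x + chiK K₂ x)
    (fun a ha b hb => by rw [chiK_mul hK₁.two ha hb, chiK_mul hK₂.two ha hb]; ring) ?_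
  by_contra! hh
  exact hne (eq_of_chiK hK₁.le hK₂.le fun x hx =>
    (by decide : ∀ a b : ZMod 2, a + b ≠ 1 → a = b) _ _ (hh x hx))

/-- A subgroup extended by one element. -/
theorem Min.exists_ext {S : Subgroup H} (hS : S ≤ zGrp α T) {x : H} (hx : x ∈ zGrp α T) :
    ∃ S' : Subgroup H, S' ≤ zGrp α T ∧ S ≤ S' ∧ x ∈ S' ∧ Nat.card S' ≤ 2 * Nat.card S := by
  classical
  have hxx := h.zGrp_sq T hT hx
  have hcm : ∀ b ∈ zGrp α T, b * x = x * b := fun b hb => h.zGrp_le_centralizer T hT hb hx.1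
  let S' : Subgroup H :=
    { carrier := {y | y ∈ zGrp α T ∧ (y ∈ S ∨ y * x ∈ S)}
      one_mem' := ⟨one_mem _, Or.inl (one_mem _)⟩
      mul_mem' := fun {a b} ha hb => ⟨mul_mem ha.1 hb.1, by
        rcases ha.2 with ha' | ha' <;> rcases hb.2 with hb' | hb'
        · exact Or.inl (mul_mem ha' hb')
        · exact Or.inr (by rw [mul_assoc]; exact mul_mem ha' hb')
        · exact Or.inr (by rw [mul_assoc, hcm b hb.1, ← mul_assoc]; exact mul_mem ha' hb')
        · refine Or.inl ?_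
          have h1 := mul_mem ha' hb'
          rwa [hcm b hb.1, mul_assoc a x, ← mul_assoc x x, hxx, one_mul] at h1⟩
      inv_mem' := fun {a} ha => by
        rw [inv_eq_of_mul_eq_one_right (h.zGrp_sq T hT ha.1)]
        exact ha }
  refine ⟨S', fun y hy => hy.1, fun y hy => ⟨hS hy, Or.inl hy⟩, ⟨hx, Or.inr (by rw [hxx]; exact one_mem _)⟩, ?_⟩
  rw [← Fintype.card_bool, ← Nat.card_eq_fintype_card (α := Bool), ← Nat.card_prod]
  refine Nat.card_le_card_of_injective (fun y : S' => if hy : (y : H) ∈ S then (false, (⟨y, hy⟩ : S))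
    else (true, ⟨(y : H) * x, y.2.2.resolve_left hy⟩)) fun y y' e1 => Subtype.ext ?_
  by_cases h1 : (y : H) ∈ S <;> by_cases h2 : (y' : H) ∈ S <;>
    simp only [h1, h2, dif_pos, dif_neg, not_false_iff, Prod.mk.injEq, Subtype.mk.injEq] at e1
  · exact e1.2
  · exact absurd e1.1 (by decide)
  · exact absurd e1.1 (by decide)
  · exact mul_right_cancel e1.2

/-- Some additive function vanishes on a subgroup and not at a given element outside. -/
theorem Min.exists_char_sep {N : Subgroup H} (hN : N ≤ zGrp α T) {x : H} (hx : x ∈ zGrp α T)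
    (hxN : x ∉ N) : ∃ K : Subgroup H, K ≤ zGrp α T ∧ K.relIndex (zGrp α T) = 2 ∧ N ≤ K ∧ x ∉ K := by
  obtain ⟨K, ⟨hKZ, hNK, hxK⟩, hmax⟩ := wellFounded_gt.has_min
    {K : Subgroup H | K ≤ zGrp α T ∧ N ≤ K ∧ x ∉ K} ⟨N, hN, le_rfl, hxN⟩
  refine ⟨K, hKZ, ?_, hNK, hxK⟩
  rw [Subgroup.relIndex, Subgroup.index_eq_two_iff]
  refine ⟨⟨x, hx⟩, fun b => ?_⟩
  rw [Subgroup.mem_subgroupOf, Subgroup.mem_subgroupOf, Subgroup.coe_mul]
  by_cases hbK : (b : H) ∈ K
  · exact Or.inr ⟨hbK, fun h1 => hxK (by simpa using mul_mem (inv_mem hbK) h1)⟩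
  · refine Or.inl ⟨?_, hbK⟩
    have hbb := h.zGrp_sq T hT b.2
    have hcm : ∀ y ∈ zGrp α T, y * (b : H) = b * y := fun y hy => h.zGrp_le_centralizer T hT hy b.2.1
    let K' : Subgroup H :=
      { carrier := {y | y ∈ zGrp α T ∧ (y ∈ K ∨ y * b ∈ K)}
        one_mem' := ⟨one_mem _, Or.inl (one_mem _)⟩
        mul_mem' := fun {a a'} ha hb => ⟨mul_mem ha.1 hb.1, by
          rcases ha.2 with ha' | ha' <;> rcases hb.2 with hb' | hb'
          · exact Or.inl (mul_mem ha' hb')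
          · exact Or.inr (by rw [mul_assoc]; exact mul_mem ha' hb')
          · exact Or.inr (by rw [mul_assoc, hcm a' hb.1, ← mul_assoc]; exact mul_mem ha' hb')
          · refine Or.inl ?_
            have h1 := mul_mem ha' hb'
            rwa [hcm a' hb.1, mul_assoc a (b : H), ← mul_assoc (b : H) b, hbb, one_mul] at h1⟩
        inv_mem' := fun {a} ha => by
          rw [inv_eq_of_mul_eq_one_right (h.zGrp_sq T hT ha.1)]
          exact ha }
    have hKK' : K ≤ K' := fun y hy => ⟨hKZ hy, Or.inl hy⟩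
    have hbK' : (b : H) ∈ K' := ⟨b.2, Or.inr (by rw [hbb]; exact one_mem _)⟩
    have hxK' : x ∈ K' := by
      by_contra h1
      exact hmax K' ⟨fun y hy => hy.1, hNK.trans hKK', h1⟩
        (lt_of_le_of_ne hKK' fun e1 => hbK (e1 ▸ hbK'))
    rcases hxK'.2 with h1 | h1
    · exact absurd h1 hxK
    · rwa [hcm x hx] at h1

/-- H3. -/
theorem Min.card_le_of_orbit (hneg : CenNeg ψ) {m : ℕ} (hm : r = 2 ^ m + 1)
    {Λ : Subgroup (H ⧸ Subgroup.center H)} (hΛ : TransOdd α T Λ) (hq : 4 ≤ Nat.card (gZ α T)) :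
    ((∀ z ∈ zGrp α T, z ∈ Subgroup.center H → z = 1) →
        Nat.card (gD α T) ≤ Nat.card (gZ α T) * 2 ^ (2 * m)) ∧
      (Nat.card (gZ α T) ≠ 4 → Nat.card (gD α T) ≤ Nat.card (gZ α T) * 2 ^ (4 * m)) := by
  have hnoc : (∀ z ∈ zGrp α T, z ∈ Subgroup.center H → z = 1) →
      Nat.card (gD α T) ≤ Nat.card (gZ α T) * 2 ^ (2 * m) := by
    intro h0
    refine h.card_le_of_rad_eq T hT hm fun K₁ K₂ hK₁ hK₂ => ?_
    by_contra hne
    obtain ⟨J, hJZ, hJ2, hJv⟩ := h.exists_sum T hT hK₁ hK₂ fun e1 => hne (by rw [e1])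
    have hJo := h.occ_all_of_no_center T hT hΛ hq h0 hJZ hJ2
    have hP : Paired J K₁ K₂ := paired_of_chiK hK₁.le hK₂.le hJv
    obtain ⟨R₁, hm₁, h₁, h₁', hs₁, hi₁⟩ := h.radFacts T hT hm hK₁
    obtain ⟨R₂, hm₂, h₂, h₂', hs₂, hi₂⟩ := h.radFacts T hT hm hK₂
    obtain ⟨R₃, hm₃, h₃, h₃', hs₃, hi₃⟩ := h.radFacts T hT hm hJo
    have hR : R₁ ≠ R₂ := fun e1 => hne (Set.ext fun d => by rw [← hm₁, ← hm₂, e1])
    have hdec := h.rad_sup T hT hm h₁ h₁' hs₁ hi₁ h₂ h₂' hs₂ hi₂ hR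
    have hsub : R₃ ≤ R₁ ⊓ R₂ := fun d hd => h.rad_pair T hT hP hm₁ hm₂ hdec ((hm₃ d).1 hd)
    have key : ∀ {A : Subgroup H}, A ≤ dGrp α T → A.relIndex (dGrp α T) = 2 ^ (2 * m) → R₃ ≤ A → A = R₃ := by
      intro A hA hiA hSA
      have := Subgroup.relIndex_mul_relIndex R₃ A (dGrp α T) hSA hA
      rw [hiA, hi₃] at this
      have h5 : R₃.relIndex A = 1 :=
        Nat.eq_of_mul_eq_mul_right (pow_pos (by norm_num : 0 < 2) _) (this.trans (one_mul _).symm)
      exact le_antisymm (Subgroup.relIndex_eq_one.1 h5) hSA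
    exact hR ((key h₁' hi₁ (hsub.trans inf_le_left)).trans (key h₂' hi₂ (hsub.trans inf_le_right)).symm)
  refine ⟨hnoc, fun hq4 => ?_⟩
  by_cases h0 : ∀ z ∈ zGrp α T, z ∈ Subgroup.center H → z = 1
  · exact (hnoc h0).trans (Nat.mul_le_mul_left _ (Nat.pow_le_pow_right (by norm_num) (by omega)))
  push Not at h0
  obtain ⟨z₀, hz₀, hz₀c, hz₀1⟩ := h0
  set Z := zGrp α T with hZdef
  -- the size of `Z`
  have hbig : 8 < Nat.card Z := by
    haveI : Fact (Nat.Prime 2) := ⟨Nat.prime_two⟩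
    obtain ⟨k, hk⟩ := IsPGroup.iff_card.1 ((h.gD_isPGroup T hT).to_le (h.gZ_le_gD T hT))
    have hk3 : 8 ≤ Nat.card (gZ α T) := by
      rw [hk] at hq hq4 ⊢
      have : 3 ≤ k := by
        by_contra hlt
        interval_cases k <;> omega
      calc 8 = 2 ^ 3 := rfl
        _ ≤ 2 ^ k := Nat.pow_le_pow_right (by norm_num) this
    have hd := Subgroup.card_map_dvd Z (qHom H)
    rw [show Z.map (qHom H) = gZ α T from rfl] at hd
    rcases hd with ⟨i, hi⟩
    have hi2 : 2 ≤ i := by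
      by_contra hlt
      have hi1 : i = 0 ∨ i = 1 := by omega
      rcases hi1 with rfl | rfl
      · rw [mul_zero] at hi; exact Nat.card_pos.ne' hi
      · rw [mul_one] at hi
        let f : Z →* gZ α T := (qHom H).subgroupMap Z
        have hf : Function.Injective f :=
          ((MonoidHom.subgroupMap_surjective (qHom H) Z).bijective_of_nat_card_le (le_of_eq hi)).1
        exact hz₀1 (congrArg Subtype.val (@hf ⟨z₀, hz₀⟩ 1 (Subtype.ext
          (by rw [map_one]; exact (QuotientGroup.eq_one_iff _).2 hz₀c))))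
    rw [hi]; nlinarith
  obtain ⟨K₀, hK₀, hK₀2, hzK₀, -, hocc⟩ := h.occ_all_but_one T hT hneg hΛ hq hz₀ hz₀c hz₀1
  have hv₀ : ∀ {K}, Occ α ψ T K → chiK K z₀ = 1 := fun hK => chiK_eq_one.2 fun hz =>
    hz₀1 (h.not_mem_occ T hT hneg hK hz₀ hz₀c hz)
  by_cases hall : ∀ K K', Occ α ψ T K → Occ α ψ T K' → rad α T K = rad α T K'
  · exact (h.card_le_of_rad_eq T hT hm hall).trans
      (Nat.mul_le_mul_left _ (Nat.pow_le_pow_right (by norm_num) (by omega)))
  push Not at hall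
  obtain ⟨K₁, K₂, hK₁, hK₂, hne⟩ := hall
  obtain ⟨J, hJZ, hJ2, hJv⟩ := h.exists_sum T hT hK₁ hK₂ fun e1 => hne (by rw [e1])
  have hP : Paired J K₁ K₂ := paired_of_chiK hK₁.le hK₂.le hJv
  have hJ0 : chiK J z₀ = 0 := by rw [hJv z₀ hz₀, hv₀ hK₁, hv₀ hK₂]; decide
  -- the partner of a pattern
  have hpart : ∀ K, Occ α ψ T K → ∃ K', K' ≤ Z ∧ K'.relIndex Z = 2 ∧ chiK K' z₀ = 1 ∧
      ∀ x ∈ Z, chiK K' x = chiK K x + chiK J x := fun K hK => by
    obtain ⟨K', hK'Z, hK'2, hK'v⟩ := exists_pat_of_char (Z := Z) (fun x => chiK K x + chiK J x)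
      (fun a ha b hb => by rw [chiK_mul hK.two ha hb, chiK_mul hJ2 ha hb]; ring)
      ⟨z₀, hz₀, by rw [hv₀ hK, hJ0, add_zero]⟩
    exact ⟨K', hK'Z, hK'2, by rw [hK'v z₀ hz₀, hv₀ hK, hJ0, add_zero], hK'v⟩
  obtain ⟨R₁, hm₁, h₁, h₁', hs₁, hi₁⟩ := h.radFacts T hT hm hK₁
  obtain ⟨R₂, hm₂, h₂, h₂', hs₂, hi₂⟩ := h.radFacts T hT hm hK₂
  refine h.gD_card_le T hT ?_
  have hgood : ∀ d ∈ R₁ ⊓ R₂, ∀ K, Occ α ψ T K → (∀ K', K' ≤ Z → K'.relIndex Z = 2 →
      (∀ x ∈ Z, chiK K' x = chiK K x + chiK J x) → K' ≠ K₀) → d ∈ rad α T K := by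
    intro d hd K hK hKne
    obtain ⟨K', hK'Z, hK'2, hK'0, hK'v⟩ := hpart K hK
    refine h.mem_rad_of_paired T hT hm hK₁ hK₂ hP hne hK
      (hocc K' hK'Z hK'2 (chiK_eq_one.1 hK'0) (hKne K' hK'Z hK'2 hK'v))
      (paired_of_chiK hK.le hK'Z fun x hx => ?_) ((hm₁ d).1 hd.1) ((hm₂ d).1 hd.2)
    rw [hK'v x hx]
    exact (by decide : ∀ a b : ZMod 2, b = a + (a + b)) _ _
  have hle : R₁ ⊓ R₂ ≤ Z := fun d hd => (h.mem_zGrp_iff T hT).2 ⟨h₁' hd.1, fun y hy => by
    rw [← commutatorElement_eq_one_iff_mul_comm]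
    by_contra hu
    set u := ⁅d, y⁆ with hudef
    have huZ : u ∈ Z := h.commutator_mem_zGrp T hT (h₁' hd.1) hy
    have huK₁ : u ∈ K₁ := ((hm₁ d).1 hd.1).2 y hy
    have huz : u ≠ z₀ := fun e1 => hz₀1 (h.not_mem_occ T hT hneg hK₁ hz₀ hz₀c (e1 ▸ huK₁))
    -- three candidates missing `u`
    have hzu : z₀ * u ∈ Z := mul_mem hz₀ huZ
    obtain ⟨N, hN, -, hzuN, hNc⟩ := h.exists_ext T hT (bot_le : (⊥ : Subgroup H) ≤ zGrp α T) hzu
    rw [Subgroup.card_bot, mul_one] at hNc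
    have hz₀N : z₀ ∉ N := fun hzN => by
      haveI := Fintype.ofFinite N
      rw [Nat.card_eq_fintype_card] at hNc
      have h3 : Fintype.card (Fin 3) ≤ Fintype.card N := by
        refine Fintype.card_le_of_injective ![1, ⟨z₀, hzN⟩, ⟨z₀ * u, hzuN⟩] ?_
        have e1 : (1 : H) ≠ z₀ := fun e => hz₀1 e.symm
        have e2 : (1 : H) ≠ z₀ * u := fun e => huz
          ((eq_inv_of_mul_eq_one_right e.symm).trans (inv_eq_of_mul_eq_one_right (h.zGrp_sq T hT hz₀)))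
        have e3 : z₀ ≠ z₀ * u := fun e => hu (left_eq_mul.1 e)
        intro i j hij
        have hij' := congrArg Subtype.val hij
        clear_value u
        fin_cases i <;> fin_cases j <;> first
          | rfl
          | exact absurd hij' e1
          | exact absurd hij' e2
          | exact absurd hij' e3
          | exact absurd hij'.symm e1
          | exact absurd hij'.symm e2
          | exact absurd hij'.symm e3
      simp only [Fintype.card_fin] at h3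
      omega
    obtain ⟨F, hF, hF2, hNF, hzF⟩ := h.exists_char_sep T hT hN hz₀ hz₀N
    have hFu : chiK F u = 1 := by
      have := chiK_mul hF2 hz₀ huZ
      rw [chiK_eq_zero.2 (hNF hzuN), chiK_eq_one.2 hzF] at this
      exact (by decide : ∀ x : ZMod 2, 0 = 1 + x → x = 1) _ this
    obtain ⟨S₁, hS₁, -, hzS₁, hS₁c⟩ := h.exists_ext T hT (bot_le : (⊥ : Subgroup H) ≤ zGrp α T) hz₀
    obtain ⟨S₂, hS₂, hS₁₂, huS₂, hS₂c⟩ := h.exists_ext T hT hS₁ huZ
    rw [Subgroup.card_bot, mul_one] at hS₁c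
    obtain ⟨w, hw, hwS⟩ : ∃ w ∈ Z, w ∉ S₂ := by
      by_contra! hc
      have := Subgroup.card_le_of_le hc
      omega
    obtain ⟨S₃, hS₃, hS₂₃, hwS₃, hS₃c⟩ := h.exists_ext T hT hS₂ hw
    obtain ⟨w', hw', hwS'⟩ : ∃ w' ∈ Z, w' ∉ S₃ := by
      by_contra! hc
      have := Subgroup.card_le_of_le hc
      omega
    obtain ⟨G, hG, hG2, hNG, hwG⟩ := h.exists_char_sep T hT hS₂ hw hwS
    obtain ⟨G', hG', hG'2, hNG', hwG'⟩ := h.exists_char_sep T hT hS₃ hw' hwS'
    have hmk : ∀ g : H → ZMod 2, (∀ a ∈ Z, ∀ b ∈ Z, g (a * b) = g a + g b) → g z₀ = 0 → g u = 0 →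
        ∃ K, K ≤ Z ∧ K.relIndex Z = 2 ∧ z₀ ∉ K ∧ u ∉ K ∧ ∀ x ∈ Z, chiK K x = chiK F x + g x := by
      intro g hg hg0 hgu
      obtain ⟨K, hKZ, hK2, hKv⟩ := exists_pat_of_char (Z := Z) (fun x => chiK F x + g x)
        (fun a ha b hb => by rw [chiK_mul hF2 ha hb, hg a ha b hb]; ring)
        ⟨z₀, hz₀, by rw [hg0, add_zero, chiK_eq_one]; exact hzF⟩
      refine ⟨K, hKZ, hK2, ?_, ?_, hKv⟩
      · rw [← chiK_eq_one, hKv z₀ hz₀, hg0, add_zero, chiK_eq_one]; exact hzF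
      · rw [← chiK_eq_one, hKv u huZ, hgu, add_zero, hFu]
    obtain ⟨A, hA, hA2, hzA, huA, hAv⟩ := hmk (fun _ => 0) (fun _ _ _ _ => (add_zero 0).symm) rfl rfl
    obtain ⟨B, hB, hB2, hzB, huB, hBv⟩ := hmk (chiK G) (fun a ha b hb => chiK_mul hG2 ha hb)
      (chiK_eq_zero.2 (hNG (hS₁₂ hzS₁))) (chiK_eq_zero.2 (hNG huS₂))
    obtain ⟨C, hC, hC2, hzC, huC, hCv⟩ := hmk (chiK G') (fun a ha b hb => chiK_mul hG'2 ha hb)
      (chiK_eq_zero.2 (hNG' (hS₂₃ (hS₁₂ hzS₁)))) (chiK_eq_zero.2 (hNG' (hS₂₃ huS₂)))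
    have hAB : A ≠ B := fun e1 => by
      have := hAv w hw
      rw [e1, hBv w hw, chiK_eq_one.2 hwG] at this
      exact (by decide : ∀ x : ZMod 2, x + 1 ≠ x + 0) _ this
    have hAC : A ≠ C := fun e1 => by
      have := hAv w' hw'
      rw [e1, hCv w' hw', chiK_eq_one.2 hwG'] at this
      exact (by decide : ∀ x : ZMod 2, x + 1 ≠ x + 0) _ this
    have hBC : B ≠ C := fun e1 => by
      have := hBv w hw
      rw [e1, hCv w hw, chiK_eq_one.2 hwG, chiK_eq_zero.2 (hNG' hwS₃)] at this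
      exact (by decide : ∀ x : ZMod 2, x + 0 ≠ x + 1) _ this
    -- one of them is good
    have hbad : ∀ K, K ≤ Z → K.relIndex Z = 2 → z₀ ∉ K → u ∉ K →
        K = K₀ ∨ ∀ x ∈ Z, chiK K x = chiK K₀ x + chiK J x := by
      intro K hKZ hK2 hzK huK
      by_contra! hc
      obtain ⟨x, hx, hxv⟩ := hc.2
      refine huK ((hgood d hd K (hocc K hKZ hK2 hzK hc.1) fun K' hK'Z hK'2 hK'v e1 => hxv ?_).2 y hy)
      rw [← e1, hK'v x hx]
      exact (by decide : ∀ a b : ZMod 2, a = a + b + b) _ _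
    have huniq : ∀ {K K'}, K ≤ Z → K' ≤ Z → (∀ x ∈ Z, chiK K x = chiK K₀ x + chiK J x) →
        (∀ x ∈ Z, chiK K' x = chiK K₀ x + chiK J x) → K = K' := fun hKZ hKZ' e1 e2 =>
      eq_of_chiK hKZ hKZ' fun x hx => by rw [e1 x hx, e2 x hx]
    rcases hbad A hA hA2 hzA huA with a | a <;> rcases hbad B hB hB2 hzB huB with b | b <;>
      rcases hbad C hC hC2 hzC huC with c | c
    · exact hAB (a.trans b.symm)
    · exact hAB (a.trans b.symm)
    · exact hAC (a.trans c.symm)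
    · exact hBC (huniq hB hC b c)
    · exact hBC (b.trans c.symm)
    · exact hAC (huniq hA hC a c)
    · exact hAB (huniq hA hB a b)
    · exact hAB (huniq hA hB a b)⟩
  calc Z.relIndex (dGrp α T) ≤ (R₁ ⊓ R₂).relIndex (dGrp α T) :=
        Nat.le_of_dvd (Nat.pos_of_ne_zero Subgroup.index_ne_zero_of_finite)
          (Subgroup.relIndex_dvd_of_le_left _ hle)
    _ ≤ R₁.relIndex (dGrp α T) * R₂.relIndex (dGrp α T) := Subgroup.relIndex_inf_le
    _ = 2 ^ (4 * m) := by rw [hi₁, hi₂, ← pow_add]; congr 1; omega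

/-- A bounded number of radicals. -/
theorem Min.exists_rad_inf {m : ℕ} (hm : r = 2 ^ m + 1) (S : Finset (Subgroup H))
    (hS : ∀ K ∈ S, Occ α ψ T K) :
    ∃ R : Subgroup H, R ≤ dGrp α T ∧ (∀ K ∈ S, ∀ d ∈ R, d ∈ rad α T K) ∧
      R.relIndex (dGrp α T) ≤ 2 ^ (2 * m * S.card) := by
  classical
  induction S using Finset.induction with
  | empty => exact ⟨dGrp α T, le_rfl, fun K hK => absurd hK (Finset.notMem_empty K), by simp⟩
  | @insert K S hKS ih =>
    obtain ⟨R, hR, hRr, hi⟩ := ih fun K' hK' => hS K' (Finset.mem_insert_of_mem hK')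
    obtain ⟨R', hmR', -, -, -, hi'⟩ := h.radFacts T hT hm (hS K (Finset.mem_insert_self K S))
    refine ⟨R ⊓ R', inf_le_left.trans hR, fun K' hK' d hd => ?_, ?_⟩
    · rcases Finset.mem_insert.1 hK' with rfl | h1
      · exact (hmR' d).1 hd.2
      · exact hRr K' h1 d hd.1
    · refine Subgroup.relIndex_inf_le.trans ?_
      rw [Finset.card_insert_of_notMem hKS, mul_add, mul_one, pow_add, hi']
      exact Nat.mul_le_mul_right _ hi

/-- Four classes: two layers, or at most three patterns. -/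
theorem Min.four_dichotomy (hneg : CenNeg ψ) {m : ℕ} (hm : r = 2 ^ m + 1)
    (hq : Nat.card (gZ α T) = 4) :
    Nat.card (gD α T) ≤ Nat.card (gZ α T) * 2 ^ (4 * m) ∨
      ∃ S : Finset (Subgroup H), S.card ≤ 3 ∧ ∀ K, K ∈ S ↔ Occ α ψ T K := by
  classical
  letI := Fintype.ofFinite H
  set Z := zGrp α T with hZdef
  haveI : Finite (Subgroup H) := inferInstance
  letI := Fintype.ofFinite (Subgroup H)
  set S : Finset (Subgroup H) := Finset.univ.filter (fun K => Occ α ψ T K) with hS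
  have hmemS : ∀ K, K ∈ S ↔ Occ α ψ T K := fun K => by simp [hS]
  -- coordinates
  obtain ⟨a, ha, hac⟩ : ∃ a ∈ Z, qHom H a ≠ 1 := by
    by_contra! hc
    have h1 : gZ α T = ⊥ := (Subgroup.eq_bot_iff_forall _).2 (by rintro _ ⟨x, hx, rfl⟩; exact hc x hx)
    rw [h1, Subgroup.card_bot] at hq
    omega
  obtain ⟨b, hb, hbc, hbca⟩ : ∃ b ∈ Z, qHom H b ≠ 1 ∧ qHom H b ≠ qHom H a := by
    by_contra! hc
    have h1 : gZ α T ≤ Subgroup.zpowers (qHom H a) := by
      rintro _ ⟨x, hx, rfl⟩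
      by_cases hx1 : qHom H x = 1
      · rw [hx1]; exact one_mem _
      · rw [hc x hx hx1]; exact Subgroup.mem_zpowers _
    have h2 := Subgroup.card_le_of_le h1
    rw [Nat.card_zpowers, hq, orderOf_eq_prime (by rw [pow_two, ← map_mul, h.zGrp_sq T hT ha, map_one]) hac]
      at h2
    omega
  have hfour : ∀ z ∈ gZ α T, z = 1 ∨ z = qHom H a ∨ z = qHom H b ∨ z = qHom H a * qHom H b := by
    intro z hz
    let g : Fin 4 → gZ α T := ![1, ⟨_, mem_map_of_mem _ ha⟩, ⟨_, mem_map_of_mem _ hb⟩,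
      ⟨_, mul_mem (mem_map_of_mem _ ha) (mem_map_of_mem _ hb)⟩]
    have hga : qHom H a * qHom H a = 1 := by rw [← map_mul, h.zGrp_sq T hT ha, map_one]
    have hgi : Function.Injective g := by
      have e3 : qHom H a * qHom H b ≠ 1 := fun e => hbca
        ((eq_inv_of_mul_eq_one_right e).trans (inv_eq_of_mul_eq_one_right hga))
      have e01 : (1 : H ⧸ Subgroup.center H) ≠ qHom H a := hac.symm
      have e02 : (1 : H ⧸ Subgroup.center H) ≠ qHom H b := hbc.symm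
      have e12 : qHom H a ≠ qHom H b := hbca.symm
      have e13 : qHom H a ≠ qHom H a * qHom H b := fun e => hbc (left_eq_mul.1 e)
      have e23 : qHom H b ≠ qHom H a * qHom H b := fun e => hac (right_eq_mul.1 e)
      intro i j hij
      have hij' := congrArg Subtype.val hij
      fin_cases i <;> fin_cases j <;> first
        | rfl
        | exact absurd hij' e01
        | exact absurd hij' e02
        | exact absurd hij' e3.symm
        | exact absurd hij' e12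
        | exact absurd hij' e13
        | exact absurd hij' e23
        | exact absurd hij'.symm e01
        | exact absurd hij'.symm e02
        | exact absurd hij'.symm e3.symm
        | exact absurd hij'.symm e12
        | exact absurd hij'.symm e13
        | exact absurd hij'.symm e23
    obtain ⟨i, hi⟩ := (hgi.bijective_of_nat_card_le (by rw [hq, Nat.card_eq_fintype_card, Fintype.card_fin])).2 ⟨z, hz⟩
    have hi' := congrArg Subtype.val hi
    simp only at hi'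
    rw [← hi']
    fin_cases i <;> simp [g]
  have hinjS : Set.InjOn (fun K : Subgroup H => (chiK K a, chiK K b)) S := fun K hK K' hK' e1 => by
    simp only [Prod.mk.injEq] at e1
    have hK1 := (hmemS K).1 hK
    have hK1' := (hmemS K').1 hK'
    refine eq_of_chiK hK1.le hK1'.le fun x hx => ?_
    have key : ∀ y ∈ Z, chiK K y = chiK K' y → qHom H x = qHom H y → chiK K x = chiK K' x := by
      intro y hy hv hxy
      have hc : y⁻¹ * x ∈ Subgroup.center H := QuotientGroup.eq.1 hxy.symm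
      have hz : y⁻¹ * x ∈ Z := mul_mem (inv_mem hy) hx
      have e2 : ∀ {L}, Occ α ψ T L → chiK L (y⁻¹ * x) = if y⁻¹ * x = 1 then 0 else 1 := fun {L} hL => by
        by_cases h1 : y⁻¹ * x = 1
        · rw [if_pos h1, h1, chiK_eq_zero]; exact one_mem _
        · rw [if_neg h1, chiK_eq_one]
          exact fun hm' => h1 (h.not_mem_occ T hT hneg hL hz hc hm')
      rw [show x = y * (y⁻¹ * x) by group, chiK_mul hK1.two hy hz, chiK_mul hK1'.two hy hz, hv, e2 hK1, e2 hK1']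
    rcases hfour _ (mem_map_of_mem _ hx) with hx' | hx' | hx' | hx'
    · exact key 1 (one_mem _) (by rw [chiK_eq_zero.2 (one_mem _), chiK_eq_zero.2 (one_mem _)])
        (by rw [hx', map_one])
    · exact key a ha e1.1 hx'
    · exact key b hb e1.2 hx'
    · exact key (a * b) (mul_mem ha hb) (by rw [chiK_mul hK1.two ha hb, chiK_mul hK1'.two ha hb, e1.1, e1.2])
        (by rw [hx', map_mul])
  have hcardS : S.card = (S.image (fun K => (chiK K a, chiK K b))).card :=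
    (Finset.card_image_of_injOn hinjS).symm
  by_cases h3 : S.card ≤ 3
  · exact Or.inr ⟨S, h3, hmemS⟩
  left
  -- all four occur
  have himg : S.image (fun K => (chiK K a, chiK K b)) = Finset.univ := by
    refine Finset.eq_univ_of_card _ (le_antisymm (Finset.card_le_univ _) ?_)
    rw [Fintype.card_prod, ZMod.card, ← hcardS]
    omega
  obtain ⟨z₀, hz₀, hz₀c, hz₀1⟩ : ∃ z₀ ∈ Z, z₀ ∈ Subgroup.center H ∧ z₀ ≠ 1 := by
    by_contra! h0
    obtain ⟨K, hK, hKv⟩ := Finset.mem_image.1 (himg.ge (Finset.mem_univ ((0 : ZMod 2), (0 : ZMod 2))))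
    simp only [Prod.mk.injEq] at hKv
    have hK1 := (hmemS K).1 hK
    have h2 := hK1.two
    rw [Subgroup.relIndex_eq_one.2 fun x hx => ?_] at h2
    · omega
    have key : ∀ y ∈ K, y ∈ Z → qHom H x = qHom H y → x ∈ K := fun y hy hyZ hxy => by
      rwa [show x = y by
        rw [← inv_mul_eq_one, ← h0 _ (mul_mem (inv_mem hx) hyZ) (QuotientGroup.eq.1 hxy)]]
    rcases hfour _ (mem_map_of_mem _ hx) with hx' | hx' | hx' | hx'
    · exact key 1 (one_mem _) (one_mem _) (by rw [hx', map_one])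
    · exact key a (chiK_eq_zero.1 hKv.1) ha hx'
    · exact key b (chiK_eq_zero.1 hKv.2) hb hx'
    · exact key (a * b) (mul_mem (chiK_eq_zero.1 hKv.1) (chiK_eq_zero.1 hKv.2)) (mul_mem ha hb)
        (by rw [hx', map_mul])
  have hv₀ : ∀ {K}, Occ α ψ T K → chiK K z₀ = 1 := fun hK => chiK_eq_one.2 fun hz =>
    hz₀1 (h.not_mem_occ T hT hneg hK hz₀ hz₀c hz)
  by_cases hall : ∀ K K', Occ α ψ T K → Occ α ψ T K' → rad α T K = rad α T K'
  · exact (h.card_le_of_rad_eq T hT hm hall).trans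
      (Nat.mul_le_mul_left _ (Nat.pow_le_pow_right (by norm_num) (by omega)))
  push Not at hall
  obtain ⟨K₁, K₂, hK₁, hK₂, hne⟩ := hall
  obtain ⟨J, hJZ, hJ2, hJv⟩ := h.exists_sum T hT hK₁ hK₂ fun e1 => hne (by rw [e1])
  have hJ0 : chiK J z₀ = 0 := by rw [hJv z₀ hz₀, hv₀ hK₁, hv₀ hK₂]; decide
  refine h.card_le_of_pairs T hT hm (J := J) (fun K hK => ?_) hK₁ hK₂
    (paired_of_chiK hK₁.le hK₂.le hJv) hne
  obtain ⟨K', hK', hK'v⟩ := Finset.mem_image.1
    (himg.ge (Finset.mem_univ (chiK K a + chiK J a, chiK K b + chiK J b)))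
  simp only [Prod.mk.injEq] at hK'v
  have hK'1 := (hmemS K').1 hK'
  refine ⟨K', hK'1, paired_of_chiK hK.le hK'1.le fun x hx => ?_⟩
  have key : ∀ y ∈ Z, chiK J y = chiK K y + chiK K' y → qHom H x = qHom H y →
      chiK J x = chiK K x + chiK K' x := by
    intro y hy hv hxy
    have hz : y⁻¹ * x ∈ Z := mul_mem (inv_mem hy) hx
    have hc : y⁻¹ * x ∈ Subgroup.center H := QuotientGroup.eq.1 hxy.symm
    have e2 : chiK J (y⁻¹ * x) = chiK K (y⁻¹ * x) + chiK K' (y⁻¹ * x) := by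
      by_cases h1 : y⁻¹ * x = 1
      · rw [h1, chiK_eq_zero.2 (one_mem _), chiK_eq_zero.2 (one_mem _), chiK_eq_zero.2 (one_mem _), add_zero]
      · rw [h.eq_of_cenNeg hneg hc hz₀c (h.zGrp_sq T hT hz) (h.zGrp_sq T hT hz₀) h1 hz₀1, hJ0,
          hv₀ hK, hv₀ hK'1]
        decide
    rw [show x = y * (y⁻¹ * x) by group, chiK_mul hJ2 hy hz, chiK_mul hK.two hy hz,
      chiK_mul hK'1.two hy hz, hv, e2]
    ring
  rcases hfour _ (mem_map_of_mem _ hx) with hx' | hx' | hx' | hx'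
  · exact key 1 (one_mem _) (by simp [chiK_eq_zero.2 (one_mem _)]) (by rw [hx', map_one])
  · exact key a ha (by rw [hK'v.1]; exact (by decide : ∀ u v : ZMod 2, v = u + (u + v)) _ _) hx'
  · exact key b hb (by rw [hK'v.2]; exact (by decide : ∀ u v : ZMod 2, v = u + (u + v)) _ _) hx'
  · refine key (a * b) (mul_mem ha hb) ?_ (by rw [hx', map_mul])
    rw [chiK_mul hJ2 ha hb, chiK_mul hK.two ha hb, chiK_mul hK'1.two ha hb, hK'v.1, hK'v.2]
    exact (by decide : ∀ u v s t : ZMod 2, s + t = u + v + (u + s + (v + t))) _ _ _ _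

/-- H4. -/
theorem Min.card_le_of_four (hneg : CenNeg ψ) {m : ℕ} (hm : r = 2 ^ m + 1)
    (hq : Nat.card (gZ α T) = 4) :
    Nat.card (gD α T) ≤ Nat.card (gZ α T) * 2 ^ (6 * m) := by
  rcases h.four_dichotomy T hT hneg hm hq with h4 | ⟨S, h3, hS⟩
  · exact h4.trans (Nat.mul_le_mul_left _ (Nat.pow_le_pow_right (by norm_num) (by omega)))
  obtain ⟨R, hR, hRr, hi⟩ := h.exists_rad_inf T hT hm S fun K hK => (hS K).1 hK
  refine h.gD_card_le T hT ?_
  have hle : R ≤ zGrp α T := fun d hd => h.mem_zGrp_of_rad T hT (hR hd) fun K hK => hRr K ((hS K).2 hK) d hd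
  calc (zGrp α T).relIndex (dGrp α T) ≤ R.relIndex (dGrp α T) :=
        Nat.le_of_dvd (Nat.pos_of_ne_zero Subgroup.index_ne_zero_of_finite)
          (Subgroup.relIndex_dvd_of_le_left _ hle)
    _ ≤ 2 ^ (2 * m * S.card) := hi
    _ ≤ 2 ^ (6 * m) := Nat.pow_le_pow_right (by norm_num) (by nlinarith)

/-- An odd fixed element is trivial modulo the radical of a pattern it fixes. -/
theorem Min.trivial_mod_rad {m : ℕ} (hm : r = 2 ^ m + 1) {c : H} (hc : c ∈ mGrp α T)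
    (hcf : α c = c) (hodd : Odd (orderOf (qHom H c))) {K : Subgroup H} (hK : Occ α ψ T K)
    (hfix : ∀ z ∈ zGrp α T, chiK K (c * z * c⁻¹) = chiK K z) :
    ∀ d ∈ dGrp α T, c * d * c⁻¹ * d⁻¹ ∈ rad α T K := by
  obtain ⟨R, hmR, hR, hR', hsR, hiR⟩ := h.radFacts T hT hm hK
  obtain ⟨W, _, _, a, π, hs, hadd, hker, ha, hmod, hcard⟩ := h.exists_mod T hT hm hR hR' hsR
  obtain ⟨f, hf, hfv⟩ := h.exists_patForm T hT hs hadd hker ha hK.le hK.two (fun d hd => (hmR d).1 hd)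
  rw [hiR] at hcard
  have hcD : ∀ d ∈ dGrp α T, c * d * c⁻¹ ∈ dGrp α T := fun d hd =>
    (Subgroup.mem_normalizer_iff.1 hc d).1 hd
  have hcRv : ∀ x y, x ∈ dGrp α T → y ∈ dGrp α T → chiK K ⁅c * x * c⁻¹, c * y * c⁻¹⁆ = chiK K ⁅x, y⁆ :=
    fun x y hx hy => by
      rw [show ⁅c * x * c⁻¹, c * y * c⁻¹⁆ = c * ⁅x, y⁆ * c⁻¹ by simp only [commutatorElement_def]; group,
        hfix _ (h.commutator_mem_zGrp T hT hx hy)]
  have hcR : ∀ d ∈ R, c * d * c⁻¹ ∈ R := fun d hd => by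
    obtain ⟨hdD, hdK⟩ := (hmR d).1 hd
    refine (hmR _).2 ⟨hcD d hdD, fun y hy => ?_⟩
    have hy' : c⁻¹ * y * c ∈ dGrp α T := by
      simpa using (Subgroup.mem_normalizer_iff.1 (inv_mem hc) y).1 hy
    rw [← chiK_eq_zero, show y = c * (c⁻¹ * y * c) * c⁻¹ by group, hcRv d _ hdD hy', chiK_eq_zero]
    exact hdK _ hy'
  obtain ⟨b, hba, hbit⟩ := h.exists_conjEnd T hT hs hadd hker ha hc hcf hcR
  have hb1 : ∀ (x y : dGrp α T), (y : H) = c * x * c⁻¹ → b (π x) = π y := fun x y hy =>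
    hbit 1 x y (by rw [pow_one]; exact hy)
  have hbn : ∀ w, b^[orderOf (qHom H c)] w = w := fun w => by
    obtain ⟨x, rfl⟩ := hs w
    refine hbit _ x x ?_
    rw [conj_eq_of_qHom (x := c ^ orderOf (qHom H c)) (y := 1)
      (by rw [map_pow, pow_orderOf_eq_one, map_one]), one_mul, inv_one, mul_one]
  have hf0 : f ≠ 0 := fun e1 => by
    have hle : dGrp α T ≤ R := fun d hd => (hmR d).2 ⟨hd, fun y hy => chiK_eq_zero.1 (by
      rw [← hfv ⟨d, hd⟩ ⟨y, hy⟩, e1]; rfl)⟩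
    rw [Subgroup.relIndex_eq_one.2 hle] at hiR
    have := h.m_pos T hT hm
    exact absurd hiR.symm (Nat.one_lt_pow (by omega) (by norm_num)).ne'
  have hid := hmod.eq_id_of_isometry hcard hf hf0 b hba _
    ((h.hr.coprime_iff_not_dvd.2 fun hd => h.qCo (hd.trans (orderOf_dvd_natCard _))).symm) hbn
    (fun w w' => by
      obtain ⟨x, rfl⟩ := hs w
      obtain ⟨y, rfl⟩ := hs w'
      rw [hb1 x ⟨_, hcD x x.2⟩ rfl, hb1 y ⟨_, hcD y y.2⟩ rfl, hfv, hfv]
      exact hcRv x y x.2 y.2)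
  intro d hd
  set y : dGrp α T := ⟨c * d * c⁻¹, hcD d hd⟩ with hy
  have h1 : π y = π ⟨d, hd⟩ := (hb1 ⟨d, hd⟩ y rfl).symm.trans (hid _)
  refine (hmR _).1 ((hker (y * ⟨d, hd⟩⁻¹)).1 ?_)
  have h2 := hadd (y * ⟨d, hd⟩⁻¹) ⟨d, hd⟩
  rw [inv_mul_cancel_right, h1] at h2
  exact right_eq_add.1 h2

/-- H5. An odd element centralising `gZ` centralises `gD`. -/
theorem Min.not_moves_of_central (hneg : CenNeg ψ) {c : H ⧸ Subgroup.center H} (hc : c ∈ gM α T)
    (hcf : qAut α c = c) (hodd : Odd (orderOf c)) (hcZ : ∀ z ∈ gZ α T, c * z = z * c) :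
    ¬ MovesD α T c := by
  obtain ⟨m, -, hm⟩ := h.exists_m T hT
  obtain ⟨x, hxf, rfl⟩ := h.exists_qFix hcf
  have hxM : x ∈ mGrp α T := (h.mem_gM_iff T hT).1 hc
  have hfixZ : ∀ z ∈ zGrp α T, x * z * x⁻¹ = z := by
    intro z hz
    set t := z⁻¹ * (x * z * x⁻¹) with ht
    have htc : t ∈ Subgroup.center H := by
      rw [← QuotientGroup.eq_one_iff]
      show qHom H (z⁻¹ * (x * z * x⁻¹)) = 1
      rw [map_mul, map_inv, map_mul, map_mul, map_inv, hcZ _ (mem_map_of_mem _ hz), mul_inv_cancel_right,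
        inv_mul_cancel]
    have htt := h.zGrp_sq T hT (mul_mem (inv_mem hz) (h.conj_mem_zGrp T hT hxM hz) : t ∈ zGrp α T)
    have hit : ∀ i : ℕ, x ^ i * z * (x ^ i)⁻¹ = z * t ^ i := by
      intro i
      induction i with
      | zero => simp
      | succ i ih =>
        have hcomm := mem_center_iff.1 (pow_mem htc i) x
        calc x ^ (i + 1) * z * (x ^ (i + 1))⁻¹ = x * (x ^ i * z * (x ^ i)⁻¹) * x⁻¹ := by
              rw [pow_succ']; group
          _ = x * z * x⁻¹ * (x * t ^ i * x⁻¹) := by rw [ih]; group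
          _ = x * z * x⁻¹ * t ^ i := by rw [hcomm, mul_inv_cancel_right]
          _ = z * t * t ^ i := by rw [ht, mul_inv_cancel_left]
          _ = z * t ^ (i + 1) := by rw [mul_assoc, pow_succ']
    have h1 := hit (orderOf (qHom H x))
    rw [conj_eq_of_qHom (x := x ^ orderOf (qHom H x)) (y := 1)
      (by rw [map_pow, pow_orderOf_eq_one, map_one]), one_mul, inv_one, mul_one, left_eq_mul] at h1
    obtain ⟨k, hk⟩ := hodd
    rw [hk, pow_succ, pow_mul, pow_two, htt, one_pow, one_mul] at h1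
    exact (inv_mul_eq_one.1 (ht ▸ h1)).symm
  rintro ⟨_, ⟨d, hd, rfl⟩, hne⟩
  refine hne ?_
  rw [← map_inv, ← map_inv, ← map_mul, ← map_mul, ← map_mul]
  exact mem_map_of_mem _ (h.mem_zGrp_of_rad T hT
    (mul_mem ((Subgroup.mem_normalizer_iff.1 hxM d).1 hd) (inv_mem hd))
    fun K hK => h.trivial_mod_rad T hT hm hxM hxf hodd hK (fun z hz => by rw [hfixZ z hz]) d hd)

/-- H6. An odd element centralising some `z` fixes a class. -/
theorem Min.fixL_ne_gZ_of_odd (hneg : CenNeg ψ) {Λ : Subgroup (H ⧸ Subgroup.center H)}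
    (hΛ : TransOdd α T Λ) (hq : 4 ≤ Nat.card (gZ α T)) {c z : H ⧸ Subgroup.center H}
    (hc : c ∈ gM α T) (hcf : qAut α c = c) (hodd : Odd (orderOf c)) (hz : z ∈ gZ α T) (hz1 : z ≠ 1)
    (hcz : c * z = z * c) : fixL α T (Subgroup.zpowers c) ≠ gZ α T := by
  obtain ⟨m, -, hm⟩ := h.exists_m T hT
  obtain ⟨x, hxf, rfl⟩ := h.exists_qFix hcf
  have hxM : x ∈ mGrp α T := (h.mem_gM_iff T hT).1 hc
  set Z := zGrp α T with hZdef
  have hconj := fun y (hy : y ∈ Z) => h.conj_mem_zGrp T hT hxM hy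
  have hgcomm : ∀ s ∈ gZ α T, ∀ t ∈ gZ α T, s * t = t * s := fun s hs t ht =>
    h.gZ_comm T hT hs (h.gZ_le_gD T hT ht)
  -- `[gZ, c]` is proper
  let φ : gZ α T →* gZ α T :=
    { toFun := fun y => ⟨qHom H x * y * (qHom H x)⁻¹ * (y : H ⧸ Subgroup.center H)⁻¹,
        mul_mem (h.gZ_conj T hT hc y.2) (inv_mem y.2)⟩
      map_one' := Subtype.ext (by simp)
      map_mul' := fun y y' => Subtype.ext (by
        simp only [Subgroup.coe_mul]
        have h1 := hgcomm _ (mul_mem (h.gZ_conj T hT hc y'.2) (inv_mem y'.2)) _ (inv_mem y.2)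
        calc qHom H x * ((y : H ⧸ Subgroup.center H) * y') * (qHom H x)⁻¹ * ((y : H ⧸ Subgroup.center H) * y')⁻¹
            = qHom H x * y * (qHom H x)⁻¹ * ((qHom H x * y' * (qHom H x)⁻¹ * (y' : H ⧸ Subgroup.center H)⁻¹) *
                (y : H ⧸ Subgroup.center H)⁻¹) := by group
          _ = _ := by rw [h1]; group) }
  obtain ⟨⟨yq, hyq⟩, hyφ⟩ : ∃ y, y ∉ φ.range := by
    by_contra! hh
    have hinj := Finite.injective_iff_surjective.2 (fun y => MonoidHom.mem_range.1 (hh y))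
    exact hz1 (congrArg Subtype.val (hinj (a₁ := ⟨z, hz⟩) (a₂ := 1) (Subtype.ext (by
      rw [map_one]
      show qHom H x * z * (qHom H x)⁻¹ * z⁻¹ = 1
      rw [hcz]; group))))
  obtain ⟨y, hy, rfl⟩ := id hyq
  set N := Z ⊓ (φ.range.map (gZ α T).subtype).comap (qHom H) with hN
  have hyN : y ∉ N := fun h1 => by
    obtain ⟨w, hw, hwy⟩ := h1.2
    have hw' : w = ⟨qHom H y, hyq⟩ := Subtype.ext hwy
    exact hyφ (hw' ▸ hw)
  obtain ⟨G, hG, hG2, hNG, hyG⟩ := h.exists_char_sep T hT (N := N) inf_le_left hy hyN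
  have hGinv : ∀ w ∈ Z, chiK G (x * w * x⁻¹) = chiK G w := fun w hw => by
    have h2 := mul_mem (hconj w hw) (inv_mem hw)
    have h1 : chiK G (x * w * x⁻¹ * w⁻¹) = 0 := chiK_eq_zero.2 (hNG ⟨h2,
      ⟨φ ⟨_, mem_map_of_mem _ hw⟩, ⟨_, rfl⟩, by
        show qHom H x * qHom H w * (qHom H x)⁻¹ * (qHom H w)⁻¹ = qHom H (x * w * x⁻¹ * w⁻¹)
        simp only [map_mul, map_inv]⟩⟩)
    have h3 := chiK_mul hG2 h2 hw
    rwa [inv_mul_cancel_right, h1, zero_add] at h3
  have hGc : ∀ t ∈ Z, t ∈ Subgroup.center H → chiK G t = 0 := fun t ht htc =>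
    chiK_eq_zero.2 (hNG ⟨ht, 1, one_mem _, by
      show (1 : H ⧸ Subgroup.center H) = qHom H t
      exact ((QuotientGroup.eq_one_iff t).2 htc).symm⟩)
  obtain ⟨K, hK, hKfix⟩ : ∃ K, Occ α ψ T K ∧ ∀ w ∈ Z, chiK K (x * w * x⁻¹) = chiK K w := by
    by_cases h0 : ∀ t ∈ Z, t ∈ Subgroup.center H → t = 1
    · exact ⟨G, h.occ_all_of_no_center T hT hΛ hq h0 hG hG2, hGinv⟩
    push Not at h0
    obtain ⟨z₀, hz₀, hz₀c, hz₀1⟩ := h0
    obtain ⟨K₀, hK₀, hK₀2, hzK₀, -, hocc⟩ := h.occ_all_but_one T hT hneg hΛ hq hz₀ hz₀c hz₀1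
    have hzp : Odd (Nat.card (Subgroup.zpowers (qHom H x))) := by rw [Nat.card_zpowers]; exact hodd
    obtain ⟨χ, hadd, hcen, hinv⟩ := h.exists_fixed_char T hT (Subgroup.zpowers_le.2 hc) hzp hK₀2
    have hχinv : ∀ w ∈ Z, χ (x * w * x⁻¹) = χ w := hinv _ (Subgroup.mem_zpowers _) x rfl
    have hχ0 : χ z₀ = 1 := by rw [hcen z₀ hz₀c, chiK_eq_one]; exact hzK₀
    obtain ⟨A, hA, hA2, hAv⟩ := exists_pat_of_char (Z := Z) χ hadd ⟨z₀, hz₀, hχ0⟩
    obtain ⟨B, hB, hB2, hBv⟩ := exists_pat_of_char (Z := Z) (fun w => χ w + chiK G w)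
      (fun a ha b hb => by rw [hadd a ha b hb, chiK_mul hG2 ha hb]; ring)
      ⟨z₀, hz₀, by rw [hχ0, hGc z₀ hz₀ hz₀c, add_zero]⟩
    by_cases hAK : A = K₀
    · refine ⟨B, hocc B hB hB2 ?_ ?_, fun w hw => ?_⟩
      · rw [← chiK_eq_one, hBv z₀ hz₀, hχ0, hGc z₀ hz₀ hz₀c, add_zero]
      · intro e1
        have := hBv y hy
        rw [e1, ← hAK, hAv y hy, chiK_eq_one.2 hyG] at this
        exact (by decide : ∀ u : ZMod 2, u ≠ u + 1) _ this
      · rw [hBv _ (hconj w hw), hBv w hw, hχinv w hw, hGinv w hw]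
    · refine ⟨A, hocc A hA hA2 ?_ hAK, fun w hw => ?_⟩
      · rw [← chiK_eq_one, hAv z₀ hz₀, hχ0]
      · rw [hAv _ (hconj w hw), hAv w hw, hχinv w hw]
  -- averaging in `D / Z`
  have htriv := h.trivial_mod_rad T hT hm hxM hxf hodd hK hKfix
  obtain ⟨R, hmR, hR, hR', hsR, hiR⟩ := h.radFacts T hT hm hK
  obtain ⟨d, hd, hdR⟩ : ∃ d ∈ dGrp α T, d ∉ R := by
    by_contra! hh
    rw [Subgroup.relIndex_eq_one.2 hh] at hiR
    have := h.m_pos T hT hm
    exact absurd hiR.symm (Nat.one_lt_pow (by omega) (by norm_num)).ne'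
  obtain ⟨W, _, _, a, π, hs, hadd, hker, ha, hmod, -⟩ := h.exists_mod T hT hm (R := zGrp α T) le_rfl
    inf_le_left fun w hw => ⟨stb_dGrp T hT w hw.1, stb_fixG w hw.2⟩
  obtain ⟨W', _, _, a', π', hs', hadd', hker', -, hmod', -⟩ := h.exists_mod T hT hm hR hR' hsR
  obtain ⟨g, hg⟩ := exists_addHom π hs hadd π' hadd' fun w hw => (hker' w).2 (hR ((hker w).1 hw))
  obtain ⟨b, hba, hbit⟩ := h.exists_conjEnd T hT hs hadd hker ha hxM hxf hconj
  have hcD : ∀ w ∈ dGrp α T, x * w * x⁻¹ ∈ dGrp α T := fun w hw =>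
    (Subgroup.mem_normalizer_iff.1 hxM w).1 hw
  have hgb : ∀ w, g (b w) = g w := fun w => by
    obtain ⟨e', rfl⟩ := hs w
    set ye : dGrp α T := ⟨x * e' * x⁻¹, hcD e' e'.2⟩
    rw [show b (π e') = π ye from hbit 1 e' ye (by rw [pow_one]), hg, hg]
    have h2 := hadd' (ye * e'⁻¹) e'
    rw [inv_mul_cancel_right, (hker' (ye * e'⁻¹)).2 ((hmR _).2 (htriv e' e'.2)), zero_add] at h2
    exact h2
  have hgit : ∀ (i : ℕ) w, g (b^[i] w) = g w := by
    intro i
    induction i with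
    | zero => intro w; rfl
    | succ i ih => intro w; rw [Function.iterate_succ_apply', hgb, ih]
  set n := orderOf (qHom H x) with hn
  have hbn : b^[n] (π ⟨d, hd⟩) = π ⟨d, hd⟩ := by
    refine hbit _ _ _ ?_
    rw [conj_eq_of_qHom (x := x ^ n) (y := 1) (by rw [map_pow, pow_orderOf_eq_one, map_one]), one_mul,
      inv_one, mul_one]
  set S := ∑ i ∈ Finset.range n, b^[i] (π ⟨d, hd⟩) with hS
  have hbS : b S = S := by
    rw [hS, map_sum]
    have e1 := Finset.sum_range_succ' (fun i => b^[i] (π ⟨d, hd⟩)) n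
    rw [Finset.sum_range_succ, hbn, Function.iterate_zero, id] at e1
    refine (Finset.sum_congr rfl fun i _ => ?_).trans (add_right_cancel e1).symm
    exact (Function.iterate_succ_apply' (b : W → W) i (π ⟨d, hd⟩)).symm
  obtain ⟨e', he⟩ := hs S
  have he' : (e' : H) ∉ Z := fun h1 => by
    have e0 : g S = 0 := by rw [← he, (hker e').2 h1, map_zero]
    rw [hS, map_sum, Finset.sum_congr rfl (fun i _ => hgit i _), Finset.sum_const, Finset.card_range, hg] at e0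
    obtain ⟨k, hk⟩ := hodd
    rw [hk, succ_nsmul, mul_nsmul, two_nsmul (π' ⟨d, hd⟩)] at e0
    · simp only [hmod'.two, nsmul_zero, zero_add] at e0
      exact hdR ((hker' _).1 e0)
  intro hfix
  refine he' (h.mem_of_map T hT le_rfl inf_le_left e'.2 (?_ : qHom H e' ∈ gZ α T))
  rw [← hfix]
  refine (h.mem_fixL T hT (Subgroup.zpowers_le.2 hc)).2 ⟨mem_map_of_mem _ e'.2, fun s hs' => ?_⟩
  have hone : qHom H x * qHom H e' * (qHom H x)⁻¹ * (qHom H e')⁻¹ ∈ gZ α T := by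
    set ye : dGrp α T := ⟨x * e' * x⁻¹, hcD e' e'.2⟩
    have h2 : π ye = π e' := by
      rw [← show b (π e') = π ye from hbit 1 e' ye (by rw [pow_one]), he, hbS]
    have h3 := hadd (ye * e'⁻¹) e'
    rw [inv_mul_cancel_right, h2] at h3
    have h4 : (ye : H) * (e' : H)⁻¹ ∈ Z := (hker (ye * e'⁻¹)).1 (right_eq_add.1 h3)
    rw [← map_inv, ← map_inv, ← map_mul, ← map_mul, ← map_mul]
    exact mem_map_of_mem _ h4
  obtain ⟨i, rfl⟩ := mem_powers_iff_mem_zpowers.2 hs'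
  clear hs'
  induction i with
  | zero => simp
  | succ i ih =>
    show qHom H x ^ (i + 1) * _ * (qHom H x ^ (i + 1))⁻¹ * _ ∈ _
    rw [pow_succ', show qHom H x * qHom H x ^ i * qHom H e' * (qHom H x * qHom H x ^ i)⁻¹ * (qHom H e')⁻¹ =
      qHom H x * (qHom H x ^ i * qHom H e' * (qHom H x ^ i)⁻¹ * (qHom H e')⁻¹) * (qHom H x)⁻¹ *
        (qHom H x * qHom H e' * (qHom H x)⁻¹ * (qHom H e')⁻¹) by group]
    exact mul_mem (h.gZ_conj T hT hc ih) hone

end Cfsg.Agent.Lib.HHS57
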