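import Cfsg.Agent.Lib.HHS57.Bridge

/-!
# A subgroup of prime order normalising a subgroup of coprime order (helper57)
-/

set_option autoImplicit false
set_option linter.style.haveILetI false
set_option linter.unusedSectionVars false

namespace Cfsg.Agent.Lib.HHS57

open Cfsg Cfsg.Agent.Lib
open Subgroup
open scoped commutatorElement

universe u

variable {X : Type u} [Group X] [Finite X]

/-- A generator `g` of `R` induces an automorphism of order `r` of `G` fixing `C_G(R)`. -/
theorem exists_generator {G R : Subgroup X} {r : ℕ} (hr : r.Prime) (hR : Nat.card ↥R = r)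
    (hnorm : R ≤ Subgroup.normalizer (G : Set X)) :
    ∃ (g : X) (hg : Stb (MulAut.conj g) G), g ∈ R ∧ R = zpowers g ∧
      (resA (MulAut.conj g) G hg) ^ r = 1 ∧
      ∀ x : G, x ∈ fixG (resA (MulAut.conj g) G hg) ↔ (x : X) ∈ Subgroup.centralizer (R : Set X) := by
  haveI := Fact.mk hr
  obtain ⟨g, hgR, hg1⟩ : ∃ g ∈ R, g ≠ 1 := by
    refine (R.bot_or_exists_ne_one).resolve_left fun e => hr.ne_one ?_
    rw [← hR, e, card_bot]
  have ho : orderOf g = r := by
    refine orderOf_eq_prime ?_ hg1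
    have e1 := pow_card_eq_one' (x := (⟨g, hgR⟩ : R))
    rw [hR] at e1
    exact congrArg Subtype.val e1
  have hRg : R = zpowers g := by
    refine (eq_of_le_of_card_ge (zpowers_le.2 hgR) ?_).symm
    rw [Nat.card_zpowers, ho, hR]
  refine ⟨g, stb_conj (hnorm hgR), hgR, hRg, resA_pow_r ?_ _, fun x => ?_⟩
  · rw [← map_pow, ← ho, pow_orderOf_eq_one, map_one]
  rw [hRg, mem_fixG]
  constructor
  · intro h
    have h' : g * (x : X) * g⁻¹ = x := congrArg Subtype.val h
    have hg' : g ∈ Subgroup.centralizer {(x : X)} :=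
      mem_centralizer_singleton_iff.2 (mul_inv_eq_iff_eq_mul.1 h')
    exact mem_centralizer_iff.2 fun y hy =>
      mem_centralizer_singleton_iff.1 (zpowers_le.2 hg' hy)
  · intro h
    exact Subtype.ext (mul_inv_eq_iff_eq_mul.2 (mem_centralizer_iff.1 h g (mem_zpowers g)))

theorem resA_conj_pow {G : Subgroup X} {g : X} (hg : Stb (MulAut.conj g) G) (n : ℕ) (x : G) :
    (((resA (MulAut.conj g) G hg) ^ n) x : X) = g ^ n * x * (g ^ n)⁻¹ := by
  induction n with
  | zero => simp
  | succ n ih =>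
    rw [pow_succ' (resA (MulAut.conj g) G hg), MulAut.mul_apply, resA_apply, MulAut.conj_apply, ih,
      pow_succ', mul_inv_rev]
    group

theorem inv_mul_pow_mem_cm {β : MulAut X} {H : Subgroup X} (hH : Stb β H) {y : X} (hy : y ∈ H) :
    ∀ n : ℕ, y⁻¹ * (β ^ n) y ∈ cm β H
  | 0 => by simp
  | n + 1 => by
    have h2 := mul_mem (inv_mul_pow_mem_cm hH hy n) (mem_cm (β := β) ((hH.pow n) y hy))
    rwa [mul_assoc, mul_inv_cancel_left, ← MulAut.mul_apply, ← pow_succ'] at h2

end Cfsg.Agent.Lib.HHS57
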