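import Cfsg.Agent.Lib.HHS57.StableLin
import Cfsg.Agent.Lib.ZJ.Abelian
import Cfsg.Agent.Lib.ZJ.Constrained
import Cfsg.Agent.Lib.FusionSystem.Basic

/-!
# `Z(J(P))` is normal in `(W D) P` (helper57)

`W` is a normal `p`-subgroup, `D` an invariant `2`-group acting faithfully on it, and the Sylow
`p`-subgroup `P` is the product of `W` and fixed elements normalising `D`.
-/

set_option autoImplicit false
set_option linter.style.haveILetI false

namespace Cfsg.Agent.Lib.HHS57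

open Cfsg Cfsg.Agent.Lib
open Subgroup
open scoped commutatorElement

universe u

variable {G : Type u} [Group G] [Finite G] {p r : ℕ}

/-- The data. -/
structure ZJData (p r : ℕ) (β : MulAut G) (D Z W : Subgroup G) (P : Sylow p G) : Prop where
  hp : p.Prime
  hp2 : p ≠ 2
  hr : r.Prime
  hr2 : r ≠ 2
  hrp : r ≠ p
  hβ : β ^ r = 1
  hD : IsPGroup 2 D
  hDβ : Stb β D
  hZD : Z ≤ D
  hcen : ∀ z ∈ Z, ∀ d ∈ D, z * d = d * z
  hcomm : ∀ a ∈ D, ∀ b ∈ D, ⁅a, b⁆ ∈ Z
  hsq : ∀ a ∈ D, a * a ∈ Z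
  hZ2 : ∀ z ∈ Z, z * z = 1
  hfix : ∀ z ∈ Z, β z = z
  hfpf : ∀ x ∈ D, x⁻¹ * β x ∈ Z → x ∈ Z
  hWn : W.Normal
  hWp : IsPGroup p W
  hWP : W ≤ (P : Subgroup G)
  hP : ∀ x ∈ (P : Subgroup G), ∃ w ∈ W, ∃ b ∈ (P : Subgroup G), x = w * b ∧ β b = b ∧
    ∀ d ∈ D, b * d * b⁻¹ ∈ D
  hDP : ∀ g : G, ∃ d ∈ D, ∃ x ∈ (P : Subgroup G), g = d * x
  hfaith : ∀ d ∈ D, (∀ w ∈ W, d * w = w * d) → d = 1

variable {β : MulAut G} {D Z W : Subgroup G} {P : Sylow p G}

/-- A fixed element of `P` normalising `D`, acting quadratically, centralises the image of `D`. -/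
theorem ZJData.layers (h : ZJData p r β D Z W P) :
    ∀ (m : ℕ) (Γ : Type u) [Group Γ] [Finite Γ], Nat.card Γ = m → ∀ (f : G →* Γ),
      Function.Surjective f → ∀ (V : Subgroup Γ) [V.Normal], IsPGroup p V →
      ∀ w ∈ W, ∀ b ∈ (P : Subgroup G), β b = b → (∀ d ∈ D, b * d * b⁻¹ ∈ D) →
      (∀ v ∈ V, f (w * b) * ⁅f (w * b), v⁆ * (f (w * b))⁻¹ = ⁅f (w * b), v⁆) →
      ∀ d ∈ D, ∀ v ∈ V, f ⁅b, d⁆ * v = v * f ⁅b, d⁆ := by
  haveI := Fact.mk h.hp
  intro m
  induction m using Nat.strong_induction_on with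
  | _ m ih =>
  intro Γ _ _ hm f hf V _ hV w hw b hb hbfix hbD hq d hd v hv
  rcases eq_or_ne V ⊥ with hV0 | hV0
  · rw [hV0, Subgroup.mem_bot] at hv
    rw [hv, one_mul, mul_one]
  haveI hWn : (W.map f).Normal := h.hWn.map f hf
  have hS : IsPGroup p (V ⊔ W.map f : Subgroup Γ) := hV.to_sup_of_normal_right (h.hWp.map f)
  set S := V ⊔ W.map f with hSdef
  set V₀ := V ⊓ Subgroup.centralizer (S : Set Γ) with hV₀
  have hV₀c : IsMulCommutative V₀ := Subgroup.le_centralizer_iff_isMulCommutative.mp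
    (inf_le_right.trans (centralizer_le (SetLike.coe_subset_coe.2 (inf_le_left.trans (le_sup_left : V ≤ S)))))
  set K := Cfsg.omegaOne p V₀ with hK
  haveI : V₀.Normal := Subgroup.normal_inf_normal V _
  haveI hKn : K.Normal := PGroups.omegaOne_normal
  have hKel : Cfsg.IsElementaryAbelian p K := PGroups.elemAb_omegaOne hV₀c
  have hKV : K ≤ V := (PGroups.omegaOne_le p V₀).trans inf_le_left
  have hK0 : K ≠ ⊥ := by
    refine PGroups.omegaOne_ne_bot (hV.to_le inf_le_left) fun h0 => ?_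
    haveI : (V.subgroupOf S).Normal := inferInstance
    obtain ⟨x, hx, hx1⟩ := (Subgroup.ne_bot_iff_exists_ne_one).1
      (PGroups.normal_inf_center_ne_bot hS (V.subgroupOf S) fun e => hV0 (by
        rwa [subgroupOf_eq_bot, disjoint_iff, inf_eq_left.2 le_sup_left] at e))
      |> fun ⟨⟨x, hx⟩, hx1⟩ => (⟨x, hx, fun e => hx1 (Subtype.ext e)⟩ :
        ∃ x, x ∈ V.subgroupOf S ⊓ center S ∧ x ≠ 1)
    refine hx1 (Subtype.ext ?_)
    have : (x : Γ) ∈ V₀ := ⟨hx.1, mem_centralizer_iff.2 fun y hy =>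
      congrArg Subtype.val (mem_center_iff.1 hx.2 ⟨y, hy⟩)⟩
    rw [h0, Subgroup.mem_bot] at this
    exact this
  -- the action of `D` and `b` on `K`
  letI : CommGroup K :=
    { (inferInstance : Group K) with
      mul_comm := fun a c => Subtype.ext (ZJ.comm_of_mulComm hKel.1 a.2 c.2) }
  let φ : G →* MulAut K := MulAut.conjNormal.comp f
  have hφ : ∀ (g : G) (x : K), ((φ g x : K) : Γ) = f g * x * (f g)⁻¹ := fun g x =>
    MulAut.conjNormal_apply (f g) x
  have hDb : Stb (MulAut.conj b) D := fun x hx => hbD x hx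
  have hwK : φ w = 1 := MulEquiv.ext fun x => Subtype.ext (by
    rw [hφ, MulAut.one_apply, mem_centralizer_iff.1 ((PGroups.omegaOne_le p V₀) x.2).2 (f w)
      (mem_sup_right ⟨w, hw, rfl⟩), mul_inv_cancel_right])
  have hwb : φ b = φ (w * b) := by rw [map_mul, hwK, one_mul]
  have hZD' : Z.subgroupOf D ≤ center D := fun z hz =>
    mem_center_iff.2 fun x => Subtype.ext (h.hcen z hz x x.2).symm
  have hcK := commute_of_quadratic (Z := Z.subgroupOf D) h.hD hZD'
    (fun a c => h.hcomm a a.2 c c.2) (fun a => h.hsq a a.2)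
    (fun z hz => Subtype.ext (h.hZ2 z hz)) (resA β D h.hDβ) (resA_pow_r h.hβ h.hDβ)
    (fun z hz => Subtype.ext (h.hfix z hz)) (fun x hx => h.hfpf x x.2 hx)
    (resA (MulAut.conj b) D hDb)
    (fun x => Subtype.ext (by
      show b * β x * b⁻¹ = β (b * x * b⁻¹)
      rw [map_mul, map_mul, map_inv, hbfix]))
    (fun z hz => by
      show b * (z : G) * b⁻¹ ∈ Z
      refine h.hfpf _ (hbD _ z.2) ?_
      rw [map_mul, map_mul, map_inv, hbfix, h.hfix z hz, inv_mul_cancel]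
      exact one_mem _)
    h.hp h.hp2 h.hr h.hr2 h.hrp (fun t => Subtype.ext (hKel.2 t t.2)) (φ.comp D.subtype) (φ b)
    (fun x => by
      show φ b * φ x * (φ b)⁻¹ = φ (b * x * b⁻¹)
      rw [map_mul, map_mul, map_inv])
    (by
      obtain ⟨k, hk⟩ := P.isPGroup' ⟨b, hb⟩
      exact ⟨k, by rw [← map_pow, show b ^ p ^ k = 1 from congrArg Subtype.val hk, map_one]⟩)
    (fun x => by
      rw [hwb]
      refine Subtype.ext ?_
      have := hq x (hKV x.2)
      rw [hφ, div_eq_mul_inv, Subgroup.coe_mul, Subgroup.coe_inv, hφ, ← commutatorElement_def]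
      exact this)
    ⟨d, hd⟩
  have heK : φ ⁅b, d⁆ = 1 := by
    rw [map_commutatorElement, commutatorElement_eq_one_iff_mul_comm]
    exact hcK
  -- the quotient by `K`
  have hlt : Nat.card (Γ ⧸ K) < m := by
    rw [← hm, Subgroup.card_eq_card_quotient_mul_card_subgroup K]
    exact lt_mul_of_one_lt_right Nat.card_pos ((Subgroup.one_lt_card_iff_ne_bot K).2 hK0)
  set π := QuotientGroup.mk' K with hπ
  haveI : (V.map π).Normal := Subgroup.Normal.map inferInstance π (QuotientGroup.mk'_surjective K)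
  have h2 := ih _ hlt (Γ ⧸ K) rfl (π.comp f) ((QuotientGroup.mk'_surjective K).comp hf) (V.map π)
    (hV.map π) w hw b hb hbfix hbD (by
      rintro _ ⟨y, hy, rfl⟩
      have := congrArg π (hq y hy)
      simpa [map_commutatorElement] using this) d hd (π v) ⟨v, hv, rfl⟩
  set e := f ⁅b, d⁆ with he
  set k := v⁻¹ * (e * v * e⁻¹) with hk
  have hkK : k ∈ K := by
    rw [← QuotientGroup.eq_one_iff]
    show π k = 1
    rw [hk, map_mul, map_mul, map_mul, map_inv, map_inv]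
    have h3 : π e * π v = π v * π e := h2
    rw [h3, mul_inv_cancel_right, inv_mul_cancel]
  have hek : e * k * e⁻¹ = k := by
    have h3 := congrArg Subtype.val (DFunLike.congr_fun heK ⟨k, hkK⟩)
    rwa [hφ] at h3
  have hbd : ⁅b, d⁆ ∈ D := by
    rw [commutatorElement_def]
    exact D.mul_mem (hbD d hd) (D.inv_mem hd)
  obtain ⟨i, hi⟩ := h.hD ⟨_, hbd⟩
  have h3 := ZJ.conj_pow_eq hk (by
    nth_rw 1 [← hek]
    group) (2 ^ i)
  rw [show e ^ 2 ^ i = 1 by
    rw [he, ← map_pow, show ⁅b, d⁆ ^ 2 ^ i = 1 from congrArg Subtype.val hi, map_one],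
    inv_one, one_mul, mul_one, eq_comm, mul_eq_left] at h3
  have hk1 : k ^ p.gcd (2 ^ i) = 1 := pow_gcd_eq_one.mpr ⟨hKel.2 k hkK, h3⟩
  rw [Nat.Coprime.gcd_eq_one (((Nat.coprime_primes h.hp Nat.prime_two).2 h.hp2).pow_right i),
    pow_one, hk, inv_mul_eq_one] at hk1
  calc e * v = e * v * e⁻¹ * e := by group
    _ = v * e := by rw [← hk1]

/-- `p`-stability. -/
theorem ZJData.stable (h : ZJData p r β D Z W P) (V : Subgroup G) [hVn : V.Normal]
    (hV : IsPGroup p V) : Cfsg.IsPStableOn p V := by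
  haveI := Fact.mk h.hp
  intro a ha
  set C := Subgroup.centralizer (V : Set G) with hC
  set q := QuotientGroup.mk' C with hq
  have hqs := QuotientGroup.mk'_surjective C
  -- a conjugate of `a` lies in `P C`
  obtain ⟨k, hk⟩ := ZJ.exists_pow_mem_centralizer hV ha
  have hqa : IsPGroup p (zpowers (q a)) := by
    rintro ⟨x, hx⟩
    obtain ⟨i, rfl⟩ := Subgroup.mem_zpowers_iff.1 hx
    refine ⟨k, Subtype.ext ?_⟩
    show (q a ^ i) ^ p ^ k = 1
    rw [← zpow_natCast, ← zpow_mul, mul_comm, zpow_mul, zpow_natCast, ← map_pow,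
      show q (a ^ p ^ k) = 1 from (QuotientGroup.eq_one_iff _).2 hk, one_zpow]
  obtain ⟨Q, hQ⟩ := hqa.exists_le_sylow
  obtain ⟨g, hg⟩ := MulAction.exists_smul_eq (G ⧸ C) Q (P.mapSurjective hqs)
  obtain ⟨g, rfl⟩ := hqs g
  have hmem : q (g * a * g⁻¹) ∈ (P : Subgroup G).map q := by
    rw [← Sylow.coe_mapSurjective hqs, ← hg, Sylow.coe_subgroup_smul,
      Subgroup.mem_pointwise_smul_iff_inv_smul_mem]
    simp only [MulAut.smul_def, ← map_inv, MulAut.conj_apply]
    rw [show (q g)⁻¹ * q (g * a * g⁻¹) * (q g)⁻¹⁻¹ = q a by rw [map_mul, map_mul, map_inv]; group]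
    exact hQ (mem_zpowers (q a))
  obtain ⟨x, hx, hxq⟩ := hmem
  obtain ⟨w, hw, b, hb, rfl, hbfix, hbD⟩ := h.hP x hx
  have hquad : ∀ v ∈ V, (w * b) * ⁅w * b, v⁆ * (w * b)⁻¹ = ⁅w * b, v⁆ := by
    -- `w b` acts on `V` as `g a g⁻¹`
    have hact : ∀ v ∈ V, (w * b) * v * (w * b)⁻¹ = (g * a * g⁻¹) * v * (g * a * g⁻¹)⁻¹ := by
      intro v hv
      have hc : (w * b)⁻¹ * (g * a * g⁻¹) ∈ C := QuotientGroup.eq.1 hxq
      have := mem_centralizer_iff.1 hc v hv
      calc (w * b) * v * (w * b)⁻¹ = (w * b) * (v * ((w * b)⁻¹ * (g * a * g⁻¹))) * (g * a * g⁻¹)⁻¹ := by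
            group
        _ = _ := by rw [this]; group
    intro v hv
    have hv' : ∀ y ∈ V, a * ⁅a, y⁆ * a⁻¹ = ⁅a, y⁆ := fun y hy => by
      have h1 := Subgroup.commutator_mem_commutator
        (Subgroup.commutator_mem_commutator hy (mem_zpowers a)) (mem_zpowers a)
      rw [ha, Subgroup.mem_bot, commutatorElement_eq_one_iff_mul_comm] at h1
      have h2 : ⁅a, y⁆ * a = a * ⁅a, y⁆ := by
        rw [← commutatorElement_inv]
        exact (Commute.inv_left h1)
      rw [← h2, mul_inv_cancel_right]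
    have hcomm : ⁅w * b, v⁆ = ⁅g * a * g⁻¹, v⁆ := by
      rw [commutatorElement_def, commutatorElement_def, hact v hv]
    have hmemV : ⁅g * a * g⁻¹, v⁆ ∈ V := by
      rw [commutatorElement_def]
      exact V.mul_mem (hVn.conj_mem v hv _) (V.inv_mem hv)
    rw [hcomm, hact _ hmemV]
    have h3 := hv' _ (hVn.conj_mem v hv g⁻¹)
    calc (g * a * g⁻¹) * ⁅g * a * g⁻¹, v⁆ * (g * a * g⁻¹)⁻¹
        = g * (a * ⁅a, g⁻¹ * v * g⁻¹⁻¹⁆ * a⁻¹) * g⁻¹ := by simp only [commutatorElement_def]; group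
      _ = ⁅g * a * g⁻¹, v⁆ := by rw [h3]; simp only [commutatorElement_def]; group
  have hbc : ∀ d ∈ D, q b * q d = q d * q b := by
    intro d hd
    have hc : ⁅b, d⁆ ∈ C := mem_centralizer_iff.2 fun v hv =>
      (h.layers _ G rfl (MonoidHom.id G) Function.surjective_id V hV w hw b hb hbfix hbD hquad d hd v hv).symm
    rw [← commutatorElement_eq_one_iff_mul_comm, ← map_commutatorElement]
    exact (QuotientGroup.eq_one_iff _).2 hc
  -- the normal `p`-subgroup
  set R₁ := (P : Subgroup G).map q ⊓ Subgroup.centralizer ((D.map q : Subgroup (G ⧸ C)) : Set (G ⧸ C))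
  haveI hWn : (W.map q).Normal := h.hWn.map q hqs
  set R := W.map q ⊔ R₁ with hR
  have hRP : R ≤ (P : Subgroup G).map q := sup_le (Subgroup.map_mono h.hWP) inf_le_left
  have hRn : R.Normal := by
    rw [← Subgroup.normalizer_eq_top_iff, eq_top_iff]
    intro y _
    obtain ⟨y, rfl⟩ := hqs y
    obtain ⟨d, hd, x, hx, rfl⟩ := h.hDP y
    obtain ⟨w', hw', b', hb', rfl, -, hbD'⟩ := h.hP x hx
    have hnorm : ∀ z : G ⧸ C, (∀ t ∈ R₁, z * t * z⁻¹ ∈ R) → z ∈ Subgroup.normalizer (R : Set (G ⧸ C)) := by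
      intro z hz
      refine Lib.FS.mem_normalizer_of_conj_mem fun t ht => ?_
      refine (show R ≤ R.comap (MulAut.conj z).toMonoidHom from sup_le ?_ fun t ht => hz t ht) ht
      exact fun t ht => mem_sup_left (hWn.conj_mem t ht z)
    rw [map_mul, map_mul]
    refine mul_mem ?_ (mul_mem (le_normalizer (mem_sup_left ⟨w', hw', rfl⟩)) ?_)
    · refine hnorm _ fun t ht => mem_sup_right ?_
      rwa [show q d * t * (q d)⁻¹ = t by
        rw [mem_centralizer_iff.1 ht.2 _ ⟨d, hd, rfl⟩, mul_inv_cancel_right]]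
    · refine hnorm _ fun t ht => mem_sup_right ⟨((P : Subgroup G).map q).mul_mem
        (((P : Subgroup G).map q).mul_mem ⟨b', hb', rfl⟩ ht.1)
        (((P : Subgroup G).map q).inv_mem ⟨b', hb', rfl⟩), mem_centralizer_iff.2 ?_⟩
      rintro _ ⟨e, he, rfl⟩
      have hDb : Stb (MulAut.conj b') D := fun x hx => hbD' x hx
      obtain ⟨e', he', hee⟩ := hDb.map_eq.ge he
      have hqe : q e = q b' * q e' * (q b')⁻¹ := by
        rw [← map_inv, ← map_mul, ← map_mul]
        exact congrArg q hee.symm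
      rw [hqe]
      have h4 := mem_centralizer_iff.1 ht.2 _ ⟨e', he', rfl⟩
      show q b' * q e' * (q b')⁻¹ * (q b' * t * (q b')⁻¹) =
        q b' * t * (q b')⁻¹ * (q b' * q e' * (q b')⁻¹)
      calc q b' * q e' * (q b')⁻¹ * (q b' * t * (q b')⁻¹) = q b' * (q e' * t) * (q b')⁻¹ := by group
        _ = _ := by rw [h4]; group
  haveI := hRn
  have hRp : R ≤ Cfsg.pCore p (G ⧸ C) := Cores.le_pCore ((P.isPGroup'.map q).to_le hRP)
  have hgen : q (g * a * g⁻¹) ∈ R := by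
    rw [← hxq, map_mul]
    refine mul_mem (mem_sup_left ⟨w, hw, rfl⟩) (mem_sup_right ⟨⟨b, hb, rfl⟩, ?_⟩)
    refine mem_centralizer_iff.2 ?_
    rintro _ ⟨d, hd, rfl⟩
    exact (hbc d hd).symm
  have h5 := (inferInstance : (Cfsg.pCore p (G ⧸ C)).Normal).conj_mem _ (hRp hgen) (q g)⁻¹
  rw [map_mul, map_mul, map_inv] at h5
  show q a ∈ _
  simpa [mul_assoc] using h5

/-- `C(O_p(G)) ≤ O_p(G)`. -/
theorem ZJData.constrained (h : ZJData p r β D Z W P) :
    Subgroup.centralizer (Cfsg.pCore p G : Set G) ≤ Cfsg.pCore p G := by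
  haveI := Fact.mk h.hp
  haveI := h.hWn
  set C := Subgroup.centralizer (Cfsg.pCore p G : Set G) with hC
  have hWQ : W ≤ Cfsg.pCore p G := Cores.le_pCore h.hWp
  haveI hWDn : (W ⊔ D).Normal := by
    rw [← Subgroup.normalizer_eq_top_iff, eq_top_iff]
    intro y _
    obtain ⟨d, hd, x, hx, rfl⟩ := h.hDP y
    obtain ⟨w, hw, b, hb, rfl, -, hbD⟩ := h.hP x hx
    refine mul_mem (le_normalizer (mem_sup_right hd)) (mul_mem (le_normalizer (mem_sup_left hw)) ?_)
    refine Lib.FS.mem_normalizer_of_conj_mem fun t ht => ?_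
    refine (show W ⊔ D ≤ (W ⊔ D).comap (MulAut.conj b).toMonoidHom from sup_le ?_ ?_) ht
    · exact fun t ht => mem_sup_left (h.hWn.conj_mem t ht b)
    · exact fun t ht => mem_sup_right (hbD t ht)
  have hsmall : ∀ g ∈ C, g ∈ W ⊔ D → g ∈ W := by
    intro g hg hgWD
    obtain ⟨w, hw, d, hd, rfl⟩ := Subgroup.mem_sup_of_normal_left.1 hgWD
    have hgW : ∀ t ∈ W, (w * d) * t = t * (w * d) := fun t ht =>
      (mem_centralizer_iff.1 hg t (hWQ ht)).symm
    suffices hd1 : d = 1 by rw [hd1, mul_one]; exact hw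
    have hwd : w * d = d * w := by
      have := hgW w hw
      calc w * d = w⁻¹ * (w * (w * d)) := by group
        _ = w⁻¹ * ((w * d) * w) := by rw [this]
        _ = d * w := by group
    obtain ⟨n, hn⟩ := h.hD ⟨d, hd⟩
    have hn' : d ^ 2 ^ n = 1 := congrArg Subtype.val hn
    refine h.hfaith d hd fun t ht => ?_
    obtain ⟨j, hj⟩ := h.hWp ⟨w, hw⟩
    have hj' : w ^ p ^ j = 1 := congrArg Subtype.val hj
    have hdt : Commute (d ^ p ^ j) t := by
      have h1 : Commute ((w * d) ^ p ^ j) t := Commute.pow_left (hgW t ht) _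
      rwa [Commute.mul_pow hwd, hj', one_mul] at h1
    obtain ⟨i, hi⟩ := exists_pow_eq_self_of_coprime (x := d) (n := p ^ j)
      ((((Nat.coprime_primes h.hp Nat.prime_two).2 h.hp2).pow j n).coprime_dvd_right
        (orderOf_dvd_of_pow_eq_one hn'))
    exact hi ▸ hdt.pow_left i
  refine Cores.le_pCore (fun ⟨g, hg⟩ => ?_)
  -- `G / W D` is a `p`-group
  obtain ⟨d, hd, x, hx, rfl⟩ := h.hDP g
  obtain ⟨k, hk⟩ := P.isPGroup' ⟨x, hx⟩
  have hk' : x ^ p ^ k = 1 := congrArg Subtype.val hk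
  have h1 : (QuotientGroup.mk ((d * x) ^ p ^ k) : G ⧸ (W ⊔ D)) = 1 := by
    rw [QuotientGroup.mk_pow, QuotientGroup.mk_mul,
      (QuotientGroup.eq_one_iff d).2 (mem_sup_right hd), one_mul, ← QuotientGroup.mk_pow, hk']
    rfl
  obtain ⟨j, hj⟩ := h.hWp ⟨_, hsmall _ (pow_mem hg _) ((QuotientGroup.eq_one_iff _).1 h1)⟩
  refine ⟨k + j, Subtype.ext ?_⟩
  show (d * x) ^ p ^ (k + j) = 1
  rw [pow_add, pow_mul]
  exact congrArg Subtype.val hj

/-- The conclusion. -/
theorem ZJData.zj_normal (h : ZJData p r β D Z W P) :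
    (Cfsg.centerThompsonAOf (P : Subgroup G)).Normal ∧
      Cfsg.centerThompsonAOf (P : Subgroup G) ≤ Cfsg.pCore p G := by
  haveI := Fact.mk h.hp
  have hn := ZJ.centerThompsonAOf_normal h.hp2 h.constrained (fun V _ hV => h.stable V hV) P
  haveI := hn
  exact ⟨hn, Cores.le_pCore (P.isPGroup'.to_le (ZJ.centerThompsonAOf_le _))⟩

end Cfsg.Agent.Lib.HHS57
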