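import Cfsg.Agent.Lib.HHS57.ProperCore
import Cfsg.Agent.Lib.HHS57.ZJStep

/-!
# `D` normalises `Z(J(P*))` (helper57)
-/

set_option autoImplicit false
set_option linter.style.haveILetI false
set_option linter.unusedSectionVars false

namespace Cfsg.Agent.Lib.HHS57

open Cfsg Cfsg.Agent.Lib
open Cfsg.Agent.Lib.FpfAut (exists_fixed_mul)
open Subgroup
open scoped commutatorElement

universe u

variable {H : Type u} [Group H] [Finite H] {p r : ℕ} {α : MulAut H} {V : Type u} [CommGroup V]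
  [Finite V] {ψ : H →* MulAut V} {e : MulAut V}

/-- `Z(J(P))` of a nontrivial `p`-group is nontrivial. -/
theorem centerThompsonA_ne_bot' {p : ℕ} [Fact p.Prime] {P : Subgroup H} (hP : IsPGroup p P)
    (hne : P ≠ ⊥) : Cfsg.centerThompsonAOf P ≠ ⊥ := by
  haveI := (nontrivial_iff_ne_bot P).2 hne
  haveI := hP.center_nontrivial
  obtain ⟨z, hz1⟩ := exists_ne (1 : Subgroup.center P)
  intro hb
  have hzc : ∀ y ∈ P, y * ((z : P) : H) = ((z : P) : H) * y := fun y hy =>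
    congrArg Subtype.val (mem_center_iff.1 z.2 ⟨y, hy⟩)
  obtain ⟨A, hA⟩ := ZJ.maxAbIn_nonempty P
  have h1 : ((z : P) : H) ∈ Cfsg.centerThompsonAOf P :=
    mem_inf.2 ⟨ZJ.le_thompsonSubgroupAOf hA
      (ZJ.mem_of_maxAbIn hA (z : P).2 fun a ha => hzc a (hA.1 ha)),
      mem_centralizer_iff.2 fun y hy => hzc y (ZJ.thompsonSubgroupAOf_le P hy)⟩
  rw [hb, mem_bot] at h1
  exact hz1 (Subtype.ext (Subtype.ext h1))

/-- `Z(J(P))` is preserved by a homomorphism which is injective on `P`. -/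
theorem map_centerThompsonA_of_inj {Γ : Type u} [Group Γ] {X : Type u} [Group X] (f : X →* Γ)
    (P : Subgroup X) (hinj : ∀ x ∈ P, f x = 1 → x = 1) :
    (Cfsg.centerThompsonAOf P).map f = Cfsg.centerThompsonAOf (P.map f) := by
  have hg : Function.Injective (f.comp P.subtype) :=
    (injective_iff_map_eq_one _).2 fun x hx => Subtype.ext (hinj x x.2 hx)
  have h1 := ZJ.map_centerThompsonAOf P.subtype P.subtype_injective ⊤
  have h2 := ZJ.map_centerThompsonAOf (f.comp P.subtype) hg ⊤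
  rw [← MonoidHom.range_eq_map, range_subtype] at h1
  rw [← map_map, ← map_map, ← MonoidHom.range_eq_map, range_subtype] at h2
  rwa [h1] at h2

variable (h : Min p r α ψ e) (T : Sylow 2 H) (hT : Stb α (T : Subgroup H))

include h hT

/-- The hypotheses: `W ≤ P`, `D` normalises `W`, and `P` is `W` times fixed elements normalising
`D` and centralising `U = [C_D(W), α]`; then `D` normalises `Z(J(P))`. -/
theorem Min.conj_mem_zj {W P : Subgroup H} (hWα : Stb α W) (hWP : W ≤ P) (hP : IsPGroup p P)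
    (hPα : Stb α P) (hDW : ∀ d ∈ dGrp α T, ∀ w ∈ W, d * w * d⁻¹ ∈ W)
    (hPW : ∀ g ∈ P, ∀ w ∈ W, g * w * g⁻¹ ∈ W)
    (hPeq : ∀ g ∈ P, ∃ w ∈ W, ∃ b ∈ P, g = w * b ∧ α b = b ∧
      (∀ d ∈ dGrp α T, b * d * b⁻¹ ∈ dGrp α T) ∧
      ∀ u ∈ cm α (dGrp α T ⊓ Subgroup.centralizer (W : Set H)), b * u = u * b)
    {d : H} (hd : d ∈ dGrp α T) {z : H} (hz : z ∈ Cfsg.centerThompsonAOf P) :
    d * z * d⁻¹ ∈ Cfsg.centerThompsonAOf P := by
  haveI := h.factP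
  haveI : Fact (Nat.Prime 2) := ⟨Nat.prime_two⟩
  set D := dGrp α T with hD
  set D₀ := D ⊓ Subgroup.centralizer (W : Set H) with hD₀
  have hD2 := isPGroup_dGrp T hT
  have hD₀α : Stb α D₀ := (stb_dGrp T hT).inf hWα.centralizer
  have hWD₀ : ∀ w ∈ W, ∀ x ∈ D₀, w * x = x * w := fun w hw x hx =>
    mem_centralizer_iff.1 hx.2 w hw
  have hnD : ∀ g : H, (∀ w ∈ W, g⁻¹ * w * g ∈ W) →
      ∀ x ∈ D₀, g * x * g⁻¹ ∈ Subgroup.centralizer (W : Set H) := by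
    intro g hg x hx
    rw [mem_centralizer_iff]
    intro w hw
    have h1 := hWD₀ _ (hg w hw) x hx
    calc w * (g * x * g⁻¹) = g * (g⁻¹ * w * g * x) * g⁻¹ := by group
      _ = _ := by rw [h1]; group
  -- the group `D P`
  have hswap : ∀ g ∈ P, ∀ x ∈ D, ∃ x' ∈ D, ∃ g' ∈ P, g * x = x' * g' := by
    intro g hg x hx
    obtain ⟨w, hw, b, hb, rfl, -, hbD, -⟩ := hPeq g hg
    refine ⟨b * x * b⁻¹, hbD x hx, (b * x * b⁻¹)⁻¹ * w * (b * x * b⁻¹) * b,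
      mul_mem (hWP ?_) hb, by group⟩
    simpa using hDW _ (inv_mem (hbD x hx)) w hw
  let X₁ : Subgroup H :=
    { carrier := {y | ∃ x ∈ D, ∃ g ∈ P, y = x * g}
      one_mem' := ⟨1, one_mem _, 1, one_mem _, (one_mul 1).symm⟩
      mul_mem' := by
        rintro _ _ ⟨x, hx, g, hg, rfl⟩ ⟨x', hx', g', hg', rfl⟩
        obtain ⟨x'', hx'', g'', hg'', he⟩ := hswap g hg x' hx'
        refine ⟨x * x'', mul_mem hx hx'', g'' * g', mul_mem hg'' hg', ?_⟩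
        rw [mul_assoc, ← mul_assoc g, he]; group
      inv_mem' := by
        rintro _ ⟨x, hx, g, hg, rfl⟩
        obtain ⟨x'', hx'', g'', hg'', he⟩ := hswap g⁻¹ (inv_mem hg) x⁻¹ (inv_mem hx)
        exact ⟨x'', hx'', g'', hg'', by rw [mul_inv_rev, he]⟩ }
  have hDX : D ≤ X₁ := fun x hx => ⟨x, hx, 1, one_mem _, (mul_one x).symm⟩
  have hPX : P ≤ X₁ := fun g hg => ⟨1, one_mem _, g, hg, (one_mul g).symm⟩
  have hWX : W ≤ X₁ := hWP.trans hPX
  have hX₁α : Stb α X₁ := by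
    rintro _ ⟨x, hx, g, hg, rfl⟩
    exact ⟨α x, stb_dGrp T hT x hx, α g, hPα g hg, map_mul _ _ _⟩
  have hX₁D₀ : ∀ y ∈ X₁, ∀ x ∈ D₀, y * x * y⁻¹ ∈ D₀ := by
    rintro _ ⟨a, ha, g, hg, rfl⟩ x hx
    obtain ⟨w, hw, b, hb, rfl, -, hbD, -⟩ := hPeq g hg
    have h1 : b * x * b⁻¹ ∈ D₀ := ⟨hbD x hx.1, hnD b (fun v hv => by
      simpa using hPW _ (inv_mem hb) v hv) x hx⟩
    have h2 : a * (b * x * b⁻¹) * a⁻¹ ∈ D₀ := ⟨D.mul_mem (D.mul_mem ha h1.1) (D.inv_mem ha),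
      hnD a (fun v hv => by simpa using hDW _ (inv_mem ha) v hv) _ h1⟩
    rwa [show a * (w * b) * x * (a * (w * b))⁻¹ = a * (w * (b * x * b⁻¹) * w⁻¹) * a⁻¹ by group,
      hWD₀ w hw _ h1, mul_inv_cancel_right]
  haveI : (D₀.subgroupOf X₁).Normal := ⟨fun x hx g => hX₁D₀ g g.2 x hx⟩
  set N := D₀.subgroupOf X₁ with hN
  have hNα : Stb (resA α X₁ hX₁α) N := fun x hx => hD₀α x hx
  set β : MulAut (X₁ ⧸ N) := QuotientGroup.congr N N (resA α X₁ hX₁α) hNα.map_eq with hβ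
  set π := QuotientGroup.mk' N with hπ
  have hβπ : ∀ y : X₁, β (π y) = π (resA α X₁ hX₁α y) := fun y => rfl
  have hker : ∀ {y : X₁}, π y = 1 ↔ (y : H) ∈ D₀ := fun {y} => QuotientGroup.eq_one_iff y
  set Z := zGrp α T with hZ
  have hdiv : ∀ {x y : X₁}, π x = π y → ∃ n ∈ D₀, (x : H) = y * n := by
    intro x y e1
    have e2 : π (y⁻¹ * x) = 1 := by rw [map_mul, map_inv, e1, inv_mul_cancel]
    exact ⟨_, hker.1 e2, by simp⟩
  have hinjP : ∀ g ∈ P.subgroupOf X₁, π g = 1 → g = 1 := fun g hg e1 => Subtype.ext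
    (Subgroup.mem_bot.1 ((IsPGroup.disjoint_of_ne p 2 h.hp2 P D hP hD2).le_bot
      ⟨hg, (hker.1 e1).1⟩))
  have hPX₁ : IsPGroup p (P.subgroupOf X₁) := hP.comap_of_injective X₁.subtype X₁.subtype_injective
  have hDX₁ : IsPGroup 2 (D.subgroupOf X₁) := hD2.comap_of_injective X₁.subtype X₁.subtype_injective
  set Pb := (P.subgroupOf X₁).map π with hPb
  set Db := (D.subgroupOf X₁).map π with hDb
  have hPb : IsPGroup p Pb := hPX₁.map π
  have hDb : IsPGroup 2 Db := hDX₁.map π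
  have hsurj : ∀ q : X₁ ⧸ N, ∃ a ∈ Db, ∃ b ∈ Pb, q = a * b := by
    intro q
    obtain ⟨⟨_, a, ha, g, hg, rfl⟩, rfl⟩ := QuotientGroup.mk'_surjective N q
    refine ⟨π ⟨a, hDX ha⟩, ⟨⟨a, hDX ha⟩, ha, rfl⟩, π ⟨g, hPX hg⟩, ⟨⟨g, hPX hg⟩, hg, rfl⟩, ?_⟩
    rw [← map_mul]; rfl
  have hindex : ¬ p ∣ Pb.index := by
    have hbij : Function.Bijective (fun a : Db => (QuotientGroup.mk (a : X₁ ⧸ N) : (X₁ ⧸ N) ⧸ Pb)) := by
      refine ⟨fun a b e1 => Subtype.ext ?_, fun q => ?_⟩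
      · have e2 : (a : X₁ ⧸ N)⁻¹ * b ∈ Pb := QuotientGroup.eq.1 e1
        exact inv_mul_eq_one.1 (Subgroup.mem_bot.1 ((IsPGroup.disjoint_of_ne p 2 h.hp2 Pb Db hPb hDb).le_bot
          ⟨e2, Db.mul_mem (Db.inv_mem a.2) b.2⟩))
      · induction q using QuotientGroup.induction_on with | H q => ?_
        obtain ⟨a, ha, b, hb, rfl⟩ := hsurj q
        exact ⟨⟨a, ha⟩, QuotientGroup.eq.2 (by simpa using hb)⟩
    rw [Subgroup.index, ← Nat.card_eq_of_bijective _ hbij]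
    obtain ⟨n, hn⟩ := IsPGroup.iff_card.1 hDb
    rw [hn]
    exact fun hd => h.hp2 ((Nat.prime_dvd_prime_iff_eq h.hp Nat.prime_two).1 (h.hp.dvd_of_dvd_pow hd))
  set Pt : Sylow p (X₁ ⧸ N) := hPb.toSylow hindex with hPt
  have hWnX : (W.subgroupOf X₁).Normal := ⟨by
    rintro w hw ⟨_, a, ha, g, hg, rfl⟩
    show a * g * (w : H) * (a * g)⁻¹ ∈ W
    rw [show a * g * (w : H) * (a * g)⁻¹ = a * (g * w * g⁻¹) * a⁻¹ by group]
    exact hDW a ha _ (hPW g hg w hw)⟩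
  have hdata : ZJData p r β Db ((Z.subgroupOf X₁).map π) ((W.subgroupOf X₁).map π) Pt :=
    { hp := h.hp, hp2 := h.hp2, hr := h.hr, hr2 := h.r_ne_two T hT, hrp := h.r_ne_p
      hβ := MulEquiv.ext fun x => QuotientGroup.induction_on x fun g => by
        rw [hβ, congr_pow, resA_pow_r h.hα]; rfl
      hD := hDb
      hDβ := by
        rintro _ ⟨y, hy, rfl⟩
        exact ⟨resA α X₁ hX₁α y, stb_dGrp T hT _ hy, rfl⟩
      hZD := Subgroup.map_mono fun y hy => hy.1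
      hcen := by
        rintro _ ⟨a, ha, rfl⟩ _ ⟨b, hb, rfl⟩
        rw [← map_mul, ← map_mul, show a * b = b * a from Subtype.ext (h.zGrp_le_centralizer T hT ha hb)]
      hcomm := by
        rintro _ ⟨a, ha, rfl⟩ _ ⟨b, hb, rfl⟩
        exact ⟨⁅a, b⁆, h.commutator_mem_zGrp T hT ha hb, map_commutatorElement π a b⟩
      hsq := by
        rintro _ ⟨a, ha, rfl⟩
        exact ⟨a * a, h.sq_mem_zGrp T hT ha, map_mul π a a⟩
      hZ2 := by
        rintro _ ⟨a, ha, rfl⟩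
        rw [← map_mul, show a * a = 1 from Subtype.ext (h.zGrp_sq T hT ha), map_one]
      hfix := by
        rintro _ ⟨a, ha, rfl⟩
        rw [hβπ, show resA α X₁ hX₁α a = a from Subtype.ext ha.2]
      hfpf := by
        rintro _ ⟨x, hx, rfl⟩ ⟨y, hy, hyx⟩
        rw [hβπ, ← map_inv, ← map_mul] at hyx
        obtain ⟨n, hn, hxn⟩ := hdiv hyx.symm
        let R : Subgroup H := (Z ⊔ D₀) ⊓ D
        have hRα : Stb α R :=
          (Stb.sup (show Stb α Z from fun t ht => ⟨stb_dGrp T hT t ht.1, stb_fixG t ht.2⟩) hD₀α).inf (stb_dGrp T hT)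
        have hmem : (x : H)⁻¹ * α x ∈ R := by
          refine ⟨?_, D.mul_mem (D.inv_mem hx) (stb_dGrp T hT _ hx)⟩
          rw [show (x : H)⁻¹ * α x = y * n from hxn]
          exact mul_mem (mem_sup_left hy) (mem_sup_right hn)
        obtain ⟨m, hm, hfix⟩ := exists_fixed_mul h.hr h.hα hRα (not_dvd_sub h.hco R) hmem
        have hxm : (x : H) * m ∈ Z := ⟨mul_mem hx hm.2, hfix⟩
        obtain ⟨a, ha, b, hb, hab⟩ : ∃ a ∈ Z, ∃ b ∈ D₀, a * b = m := by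
          have hle : Z ⊔ D₀ ≤ X₁ := sup_le (fun t ht => hDX ht.1) (fun t ht => hDX ht.1)
          have e1 : (⟨m, hle hm.1⟩ : X₁) ∈ Z.subgroupOf X₁ ⊔ N := by
            rw [hN, ← subgroupOf_sup (le_sup_left.trans hle) (le_sup_right.trans hle)]
            exact hm.1
          obtain ⟨a, ha, b, hb, hab⟩ := Subgroup.mem_sup_of_normal_right.1 e1
          exact ⟨a, ha, b, hb, congrArg Subtype.val hab⟩
        refine ⟨⟨x * m, hDX hxm.1⟩ * ⟨a, hDX ha.1⟩⁻¹, mul_mem hxm (inv_mem ha), ?_⟩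
        have e2 : (⟨(x : H) * m, hDX hxm.1⟩ : X₁) * ⟨a, hDX ha.1⟩⁻¹ = x * ⟨a * b * a⁻¹, hDX
            (mul_mem (mul_mem ha.1 hb.1) (inv_mem ha.1))⟩ := Subtype.ext (by
          show (x : H) * m * a⁻¹ = x * (a * b * a⁻¹)
          rw [← hab]; group)
        rw [e2, map_mul, (hker (y := ⟨a * b * a⁻¹, hDX (mul_mem (mul_mem ha.1 hb.1) (inv_mem ha.1))⟩)).2
          (hX₁D₀ a (hDX ha.1) b hb), mul_one]
      hWn := hWnX.map π (QuotientGroup.mk'_surjective N)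
      hWp := ((hP.to_le hWP).comap_of_injective X₁.subtype X₁.subtype_injective).map π
      hWP := Subgroup.map_mono fun w hw => hWP hw
      hP := by
        rintro _ ⟨g, hg, rfl⟩
        obtain ⟨w, hw, b, hb, he, hbf, hbD, -⟩ := hPeq g hg
        refine ⟨π ⟨w, hWX hw⟩, ⟨_, hw, rfl⟩, π ⟨b, hPX hb⟩, ⟨⟨b, hPX hb⟩, hb, rfl⟩, ?_, ?_, ?_⟩
        · rw [← map_mul]; exact congrArg π (Subtype.ext he)
        · rw [hβπ]; exact congrArg π (Subtype.ext hbf)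
        · rintro _ ⟨y, hy, rfl⟩
          exact ⟨⟨b, hPX hb⟩ * y * ⟨b, hPX hb⟩⁻¹, hbD y hy, by rw [map_mul, map_mul, map_inv]⟩
      hDP := hsurj
      hfaith := by
        rintro _ ⟨y, hy, rfl⟩ hyW
        refine hker.2 ⟨hy, mem_centralizer_iff.2 fun w hw => ?_⟩
        obtain ⟨n, hn, he⟩ := hdiv (x := y * ⟨w, hWX hw⟩) (y := ⟨w, hWX hw⟩ * y)
          (by rw [map_mul, map_mul]; exact hyW _ ⟨_, hw, rfl⟩)
        have he' : (y : H) * w = w * y * n := he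
        have h1 : (y : H)⁻¹ * w⁻¹ * y * w = n := by
          rw [mul_assoc _ (y : H) w, he']; simp [mul_assoc]
        have hn1 : n = 1 := Subgroup.mem_bot.1 ((IsPGroup.disjoint_of_ne p 2 h.hp2 W D (hP.to_le hWP) hD2).le_bot
          ⟨h1 ▸ mul_mem (by simpa using hDW _ (inv_mem hy) _ (inv_mem hw)) hw, hn.1⟩)
        rw [he', hn1, mul_one] }
  obtain ⟨hzn, hzcore⟩ := hdata.zj_normal
  have hmapH : (Cfsg.centerThompsonAOf (P.subgroupOf X₁)).map X₁.subtype = Cfsg.centerThompsonAOf P := by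
    rw [ZJ.map_centerThompsonAOf _ X₁.subtype_injective, Subgroup.subgroupOf_map_subtype,
      inf_eq_left.2 hPX]
  have hmapQ : (Cfsg.centerThompsonAOf (P.subgroupOf X₁)).map π = Cfsg.centerThompsonAOf Pb :=
    map_centerThompsonA_of_inj π _ hinjP
  have hzall : ∀ z' ∈ Cfsg.centerThompsonAOf P, ∀ x ∈ D₀, z' * x = x * z' := by
    intro z' hz' x hx
    obtain ⟨w, hw, b, hb, rfl, hbf, hbD, hbU⟩ := hPeq z' (ZJ.centerThompsonAOf_le P hz')
    have hwb : π ⟨w * b, mul_mem (hWX hw) (hPX hb)⟩ ∈ Cfsg.pCore p (X₁ ⧸ N) := by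
      refine hzcore ?_
      show π _ ∈ Cfsg.centerThompsonAOf Pb
      rw [← hmapQ]
      obtain ⟨y, hy, hye⟩ := hmapH.ge hz'
      exact ⟨y, hy, congrArg π (Subtype.ext hye)⟩
    have hwcore : π ⟨w, hWX hw⟩ ∈ Cfsg.pCore p (X₁ ⧸ N) := by
      haveI := hdata.hWn
      exact Cores.le_pCore hdata.hWp ⟨_, hw, rfl⟩
    have hbcore : π ⟨b, hPX hb⟩ ∈ Cfsg.pCore p (X₁ ⧸ N) := by
      have := mul_mem (inv_mem hwcore) hwb
      rwa [← map_inv, ← map_mul, show (⟨w, hWX hw⟩ : X₁)⁻¹ * ⟨w * b, mul_mem (hWX hw) (hPX hb)⟩ =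
        ⟨b, hPX hb⟩ from Subtype.ext (inv_mul_cancel_left w b)] at this
    have hmod : ∀ y ∈ D, y⁻¹ * (b * y * b⁻¹) ∈ D₀ := by
      intro y hy
      have hyD : y⁻¹ * (b * y * b⁻¹) ∈ D := mul_mem (inv_mem hy) (hbD y hy)
      set t : X₁ := ⟨y, hDX hy⟩⁻¹ * (⟨b, hPX hb⟩ * ⟨y, hDX hy⟩ * ⟨b, hPX hb⟩⁻¹) with ht
      have h1 : π t ∈ Db := ⟨t, hyD, rfl⟩
      have h2 : π t ∈ Cfsg.pCore p (X₁ ⧸ N) := by
        have hc := mul_mem ((inferInstance : (Cfsg.pCore p (X₁ ⧸ N)).Normal).conj_mem _ hbcore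
          (π ⟨y, hDX hy⟩)⁻¹) (inv_mem hbcore)
        rw [ht, map_mul, map_mul, map_mul, map_inv, map_inv]
        simpa [mul_assoc] using hc
      exact hker.1 (Subgroup.mem_bot.1 ((IsPGroup.disjoint_of_ne p 2 h.hp2 _ Db
        (Cores.pCore_isPGroup (G := X₁ ⧸ N) p) hDb).le_bot ⟨h2, h1⟩))
    obtain ⟨k, hk⟩ := hP ⟨b, hb⟩
    have hbD' := h.centralizes_dGrp T hT inf_le_left hD₀α hbf ⟨k, congrArg Subtype.val hk⟩ hbD hmod hbU
    rw [mul_assoc, hbD' x hx.1, ← mul_assoc, hWD₀ w hw x hx, mul_assoc]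
  obtain ⟨y, hy, hye⟩ := hmapH.ge hz
  set dX : X₁ := ⟨d, hDX hd⟩ with hdX
  have hconj : π (dX * y * dX⁻¹) ∈ Cfsg.centerThompsonAOf Pb := by
    rw [map_mul, map_mul, map_inv]
    exact hzn.conj_mem _ (hmapQ ▸ Subgroup.mem_map_of_mem π hy) _
  rw [← hmapQ] at hconj
  obtain ⟨y', hy', hye'⟩ := hconj
  have hz' : (y' : H) ∈ Cfsg.centerThompsonAOf P := hmapH ▸ Subgroup.mem_map_of_mem X₁.subtype hy'
  obtain ⟨n, hn, hne'⟩ := hdiv hye'.symm
  have hdz : d * z * d⁻¹ = y' * n := by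
    rw [← hne', ← hye]; rfl
  obtain ⟨k, hk⟩ := hP ⟨z, ZJ.centerThompsonAOf_le P hz⟩
  obtain ⟨k', hk'⟩ := hP ⟨y', ZJ.centerThompsonAOf_le P hz'⟩
  have hzk : z ^ p ^ (k + k') = 1 := by
    rw [pow_add, pow_mul, show z ^ p ^ k = 1 from congrArg Subtype.val hk, one_pow]
  have hyk : (y' : H) ^ p ^ (k + k') = 1 := by
    rw [add_comm k, pow_add, pow_mul, show (y' : H) ^ p ^ k' = 1 from congrArg Subtype.val hk', one_pow]
  have hnk : n ^ p ^ (k + k') = 1 := by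
    have h1 : (d * z * d⁻¹) ^ p ^ (k + k') = 1 := by rw [conj_pow, hzk]; group
    rwa [hdz, (show Commute (y' : H) n from hzall _ hz' n hn).mul_pow, hyk, one_mul] at h1
  have hn1 : n = 1 := eq_one_of_isPGroup_of_not_dvd Nat.prime_two hD2 hn.1 fun hd2 =>
    h.hp2 ((Nat.prime_dvd_prime_iff_eq Nat.prime_two h.hp).1
      (Nat.prime_two.dvd_of_dvd_pow (hd2.trans (orderOf_dvd_of_pow_eq_one hnk)))).symm
  rw [hdz, hn1, mul_one]
  exact hz'

end Cfsg.Agent.Lib.HHS57
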