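import Cfsg.Agent.Lib.HHS57.Fourier
import Cfsg.Agent.Lib.HHS57.ProperZJ

/-!
# Proper invariant subgroups containing `D` (helper57)

For a proper invariant subgroup `X ≥ D = [T, α]`, `[X, α] = D`.
-/

set_option autoImplicit false
set_option linter.style.haveILetI false
set_option linter.unusedSectionVars false

namespace Cfsg.Agent.Lib.HHS57

open Cfsg Cfsg.Agent.Lib
open Cfsg.Agent.Lib.FpfAut (exists_invariant_sylow exists_fixed_mul)
open Subgroup
open scoped commutatorElement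

universe u

variable {H : Type u} [Group H] [Finite H] {p r : ℕ} {α : MulAut H} {V : Type u} [CommGroup V]
  [Finite V] {ψ : H →* MulAut V} {e : MulAut V}

/-- In a finite group one inclusion suffices. -/
theorem mem_normalizer_of_conj_le' {S : Subgroup H} {g : H} (hg : ∀ y ∈ S, g * y * g⁻¹ ∈ S) :
    g ∈ Subgroup.normalizer (S : Set H) := by
  have hbij : Function.Surjective (fun y : S => (⟨g * y * g⁻¹, hg y y.2⟩ : S)) :=
    Finite.injective_iff_surjective.1 fun a b e1 => Subtype.ext (mul_left_cancel (mul_right_cancel (congrArg Subtype.val e1)))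
  rw [Subgroup.mem_normalizer_iff]
  refine fun y => ⟨hg y, fun hy => ?_⟩
  obtain ⟨⟨z, hz⟩, hze⟩ := hbij ⟨_, hy⟩
  have h1 : g * z * g⁻¹ = g * y * g⁻¹ := congrArg Subtype.val hze
  rwa [← mul_left_cancel (mul_right_cancel h1)]

variable (h : Min p r α ψ e) (T : Sylow 2 H) (hT : Stb α (T : Subgroup H))

include h hT

/-- An invariant complement `D` of a `p`-group: its conjugates are conjugate by elements of `W`. -/
theorem Min.exists_conj_part {K W : Subgroup H} (hWp : IsPGroup p W) (hWK : W ≤ K)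
    (hDK : dGrp α T ≤ K) (hK : ∀ y ∈ K, ∃ w ∈ W, ∃ d ∈ dGrp α T, y = w * d)
    {x : H} (hx : ∀ d ∈ dGrp α T, x * d * x⁻¹ ∈ K) :
    ∃ w ∈ W, ∀ d ∈ dGrp α T, (w⁻¹ * x) * d * (w⁻¹ * x)⁻¹ ∈ dGrp α T := by
  haveI := h.factP
  haveI : Fact (Nat.Prime 2) := ⟨Nat.prime_two⟩
  set D := dGrp α T with hD
  have hD2 : IsPGroup 2 D := isPGroup_dGrp T hT
  have hindex : ¬ 2 ∣ (D.subgroupOf K).index := by
    have hbij : Function.Bijective
        (fun w : W => (QuotientGroup.mk (⟨w, hWK w.2⟩ : K) : K ⧸ D.subgroupOf K)) := by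
      refine ⟨fun a b e1 => Subtype.ext ?_, fun q => ?_⟩
      · have e2 : (a : H)⁻¹ * b ∈ D := Subgroup.mem_subgroupOf.1 (QuotientGroup.eq.1 e1)
        exact inv_mul_eq_one.1 (Subgroup.mem_bot.1 ((IsPGroup.disjoint_of_ne p 2 h.hp2 W D hWp hD2).le_bot
          ⟨W.mul_mem (W.inv_mem a.2) b.2, e2⟩))
      · induction q using QuotientGroup.induction_on with | H q => ?_
        obtain ⟨w, hw, d, hd, he⟩ := hK q q.2
        refine ⟨⟨w, hw⟩, QuotientGroup.eq.2 ?_⟩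
        show w⁻¹ * (q : H) ∈ D
        rw [he, inv_mul_cancel_left]
        exact hd
    rw [Subgroup.index, ← Nat.card_eq_of_bijective _ hbij]
    obtain ⟨n, hn⟩ := IsPGroup.iff_card.1 hWp
    rw [hn]
    exact fun hd => h.hp2 ((Nat.prime_dvd_prime_iff_eq Nat.prime_two h.hp).1 (Nat.prime_two.dvd_of_dvd_pow hd)).symm
  set S₀ : Sylow 2 K := (hD2.comap_of_injective K.subtype K.subtype_injective).toSylow hindex with hS₀
  have hQ : IsPGroup 2 ((D.map (MulAut.conj x).toMonoidHom).subgroupOf K) :=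
    (hD2.map _).comap_of_injective K.subtype K.subtype_injective
  obtain ⟨S, hS⟩ := hQ.exists_le_sylow
  obtain ⟨k, hk⟩ := MulAction.exists_smul_eq K S₀ S
  obtain ⟨w, hw, a, ha, he⟩ := hK k k.2
  refine ⟨w, hw, fun d hd => ?_⟩
  have h1 : (⟨x * d * x⁻¹, hx d hd⟩ : K) ∈ (k • S₀ : Sylow 2 K) :=
    hk.symm ▸ hS ⟨d, hd, rfl⟩
  rw [Sylow.smul_def] at h1
  obtain ⟨d', hd', hde⟩ := h1
  have h2 : (k : H) * d' * (k : H)⁻¹ = x * d * x⁻¹ := congrArg Subtype.val hde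
  rw [show w⁻¹ * x * d * (w⁻¹ * x)⁻¹ = w⁻¹ * (x * d * x⁻¹) * w by group, ← h2, he,
    show w⁻¹ * (w * a * d' * (w * a)⁻¹) * w = a * d' * a⁻¹ by group]
  exact mul_mem (mul_mem ha hd') (inv_mem ha)

/-- `[X, α]` is a `2`-group for a proper invariant `X ≥ D`. -/
theorem Min.cm_isPGroup_of_proper {Y₀ : Subgroup H} (hY₀ : Stb α Y₀) (hY₀ne : Y₀ ≠ ⊤)
    (hDY₀ : dGrp α T ≤ Y₀) : IsPGroup 2 (cm α Y₀) := by
  by_contra hbad
  haveI := h.factP
  haveI : Fact (Nat.Prime 2) := ⟨Nat.prime_two⟩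
  have hr2 := h.r_ne_two T hT
  set D := dGrp α T with hD
  have hD2 : IsPGroup 2 D := isPGroup_dGrp T hT
  have hcmD : cm α D = D := h.cm_dGrp T hT
  let f : Subgroup H → ℕ := fun X => (Nat.card X).factorization p * (Nat.card H + 1) + Nat.card X
  obtain ⟨X, ⟨hXα, hXne, hDX, hXbad⟩, hmax⟩ := Set.exists_max_image
    {X : Subgroup H | Stb α X ∧ X ≠ ⊤ ∧ D ≤ X ∧ ¬ IsPGroup 2 (cm α X)} f (Set.toFinite _)
    ⟨Y₀, hY₀, hY₀ne, hDY₀, hbad⟩
  obtain ⟨W, hWK, hWp, hWα, hWn, hWmax, hpow⟩ := h.cm_struct hXα hXne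
  have hKX : cm α X ≤ X := cm_le hXα
  have hWX : W ≤ X := hWK.trans hKX
  have hDK : D ≤ cm α X := hcmD.ge.trans (cm_mono hDX)
  obtain ⟨D₁, hD₁D, hD₁2, hD₁α, hD₁1, -, hKeq⟩ := h.exists_two_part (stb_cm hXα)
    (cm_cm h.hr h.hα h.hco hXα) hWK hWα (fun y hy w hw => hWn y (hKX hy) w hw) hpow hD2
    (stb_dGrp T hT) hDK
  have hD₁eq : D₁ = D := by
    rw [← hD₁1]
    exact h.cm_eq_dGrp T hT hD₁2 hD₁α (hcmD.ge.trans hD₁D)
  rw [hD₁eq] at hKeq
  clear hD₁D hD₁2 hD₁α hD₁1 hD₁eq D₁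
  have hdisj : ∀ {A B : Subgroup H}, IsPGroup p A → IsPGroup 2 B → ∀ {y : H}, y ∈ A → y ∈ B → y = 1 :=
    fun {A B} hA hB {y} h1 h2 => Subgroup.mem_bot.1
      ((IsPGroup.disjoint_of_ne p 2 h.hp2 A B hA hB).le_bot ⟨h1, h2⟩)
  -- `A = [W, α]`
  set A := cm α W with hA
  have hAW : A ≤ W := cm_le hWα
  have hA0 : A ≠ ⊥ := by
    intro hA0
    have hfix : ∀ w ∈ W, α w = w := fun w hw =>
      (inv_mul_eq_one.1 (Subgroup.mem_bot.1 (hA0 ▸ mem_cm hw : w⁻¹ * α w ∈ (⊥ : Subgroup H)))).symm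
    refine hXbad (hD2.to_le ?_)
    rw [← cm_cm h.hr h.hα h.hco hXα]
    refine cm_le_iff.2 fun y hy => ?_
    obtain ⟨w, hw, d, hd, rfl⟩ := hKeq y hy
    rw [map_mul, hfix w hw, show (w * d)⁻¹ * (w * α d) = d⁻¹ * α d by group]
    exact mul_mem (inv_mem hd) (stb_dGrp T hT d hd)
  -- `X = W N_X(D)`
  have hXeq : ∀ x ∈ X, ∃ w ∈ W, ∃ n ∈ X, x = w * n ∧ ∀ d ∈ D, n * d * n⁻¹ ∈ D := by
    intro x hx
    obtain ⟨w, hw, hwd⟩ := h.exists_conj_part T hT hWp hWK hDK hKeq (x := x)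
      fun d hd => conj_mem_cm' hx (hDK hd)
    exact ⟨w, hw, w⁻¹ * x, mul_mem (inv_mem (hWX hw)) hx, by group, hwd⟩
  -- the invariant Sylow `p`-subgroup `P` of `X`
  obtain ⟨P₀, hWP₀, hP₀⟩ := exists_invariant_sylow_ge (q := p) (A := W.subgroupOf X) h.hr
    (resA_pow_r h.hα hXα) (not_dvd_sub h.hco X) (hWp.comap_of_injective X.subtype X.subtype_injective)
    (fun x hx => hWα x hx)
  set P := (P₀ : Subgroup X).map X.subtype with hPdef
  have hPp : IsPGroup p P := P₀.isPGroup'.map _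
  have hPα : Stb α P := stb_map_subtype (fun x => resA_apply hXα x) hP₀
  have hPX : P ≤ X := map_subtype_le _
  have hWP : W ≤ P := fun w hw => ⟨⟨w, hWX hw⟩, hWP₀ hw, rfl⟩
  have hPW : ∀ g ∈ P, ∀ w ∈ W, g * w * g⁻¹ ∈ W := fun g hg => hWn g (hPX hg)
  have hPeq : ∀ g ∈ P, ∃ w ∈ W, ∃ b ∈ P, g = w * b ∧ α b = b ∧ ∀ d ∈ D, b * d * b⁻¹ ∈ D := by
    intro g hg
    obtain ⟨w, hw, n, -, rfl, hnD⟩ := hXeq g (hPX hg)
    have hnP : n ∈ P := by
      have := mul_mem (inv_mem (hWP hw)) hg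
      rwa [inv_mul_cancel_left] at this
    have hnN : n ∈ P ⊓ mGrp α T := ⟨hnP, mem_normalizer_of_conj_le' hnD⟩
    obtain ⟨c, hc, hcf, y, hy, rfl⟩ := exists_fixed_mul_cm h.hr h.hα h.hco
      (hPα.inf (stb_mGrp T hT)) hnN
    have hyW : y ∈ W := hWmax _ (cm_mono (inf_le_left.trans hPX))
      (hPp.to_le ((cm_le (hPα.inf (stb_mGrp T hT))).trans inf_le_left)) hy
    exact ⟨w * (c * y * c⁻¹), mul_mem hw (hPW c hc.1 y hyW), c, hc.1, by group, hcf,
      fun d hd => (Subgroup.mem_normalizer_iff.1 hc.2 d).1 hd⟩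
  -- `U = [C_D(W), α]`
  set D₀ := D ⊓ Subgroup.centralizer (W : Set H) with hD₀
  have hD₀α : Stb α D₀ := (stb_dGrp T hT).inf hWα.centralizer
  set U := cm α D₀ with hU
  have hUD₀ : U ≤ D₀ := cm_le hD₀α
  have hUD : U ≤ D := hUD₀.trans inf_le_left
  have hU2 : IsPGroup 2 U := hD2.to_le hUD
  have hUα : Stb α U := stb_cm hD₀α
  have hU1 : cm α U = U := cm_cm h.hr h.hα h.hco hD₀α
  have hWU : ∀ w ∈ W, ∀ u ∈ U, w * u = u * w := fun w hw u hu =>
    mem_centralizer_iff.1 (hUD₀ hu).2 w hw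
  have hnD₀ : ∀ n : H, (∀ d ∈ D, n * d * n⁻¹ ∈ D) → (∀ w ∈ W, n⁻¹ * w * n ∈ W) →
      ∀ x ∈ D₀, n * x * n⁻¹ ∈ D₀ := by
    intro n hn hnW x hx
    refine ⟨hn x hx.1, mem_centralizer_iff.2 fun w hw => ?_⟩
    have h1 := mem_centralizer_iff.1 hx.2 _ (hnW w hw)
    calc w * (n * x * n⁻¹) = n * (n⁻¹ * w * n * x) * n⁻¹ := by group
      _ = _ := by rw [h1]; group
  have hPU : ∀ g ∈ P, ∀ u ∈ U, g * u * g⁻¹ ∈ U := by
    intro g hg u hu
    obtain ⟨w, hw, b, hb, rfl, hbf, hbD⟩ := hPeq g hg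
    have h1 : b * u * b⁻¹ ∈ U := conj_mem_cm_of_fixed hbf (fun x hx =>
      hnD₀ b hbD (fun v hv => by simpa using hPW _ (inv_mem hb) v hv) x hx) hu
    rwa [show w * b * u * (w * b)⁻¹ = w * (b * u * b⁻¹) * w⁻¹ by group, hWU w hw _ h1, mul_inv_cancel_right]
  obtain ⟨hCU, hCfacts⟩ := h.commutator_facts hr2 hU2 hUα hU1
  set C := ⁅U, U⁆ with hC
  have hWC : ∀ w ∈ W, ∀ c ∈ C, w * c = c * w := fun w hw c hc => hWU w hw c (hCU hc)
  have hXC : X ≤ Subgroup.normalizer (C : Set H) := by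
    intro x hx
    obtain ⟨w, hw, n, hn, rfl, hnD⟩ := hXeq x hx
    have hD₀eq : ∀ y ∈ D₀, ∃ z ∈ zGrp α T, ∃ v ∈ U, y = z * v := by
      intro y hy
      obtain ⟨z, hz, hzf, v, hv, rfl⟩ := exists_fixed_mul_cm h.hr h.hα h.hco hD₀α hy
      exact ⟨z, ⟨hz.1, hzf⟩, v, hv, rfl⟩
    have hnC : C ≤ C.comap (MulAut.conj n).toMonoidHom := Subgroup.commutator_le.2 fun a ha b hb => by
      show n * ⁅a, b⁆ * n⁻¹ ∈ C
      have hnW : ∀ v ∈ W, n⁻¹ * v * n ∈ W := fun v hv => by simpa using hWn _ (inv_mem hn) v hv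
      obtain ⟨z, hz, a', ha', hae⟩ := hD₀eq _ (hnD₀ n hnD hnW a (hUD₀ ha))
      obtain ⟨z', hz', b', hb', hbe⟩ := hD₀eq _ (hnD₀ n hnD hnW b (hUD₀ hb))
      rw [show n * ⁅a, b⁆ * n⁻¹ = ⁅n * a * n⁻¹, n * b * n⁻¹⁆ by
        simp only [commutatorElement_def]; group, hae, hbe]
      have hzb : z * b' = b' * z := h.zGrp_le_centralizer T hT hz (hUD hb')
      have hz'a : z' * a' = a' * z' := h.zGrp_le_centralizer T hT hz' (hUD ha')
      have hzz : z * z' = z' * z := h.zGrp_le_centralizer T hT hz hz'.1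
      have hza : z * a' = a' * z := h.zGrp_le_centralizer T hT hz (hUD ha')
      have hz'b : z' * b' = b' * z' := h.zGrp_le_centralizer T hT hz' (hUD hb')
      have e1 : ⁅z * a', z' * b'⁆ = ⁅a', b'⁆ := by
        have c1 : Commute z (a' * (z' * b') * a'⁻¹) :=
          ((show Commute z a' from hza).mul_right ((show Commute z z' from hzz).mul_right hzb)).mul_right
            (show Commute z a' from hza).inv_right
        have c2 : Commute z' (a' * b' * a'⁻¹) :=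
          ((show Commute z' a' from hz'a).mul_right hz'b).mul_right (show Commute z' a' from hz'a).inv_right
        calc ⁅z * a', z' * b'⁆ = z * (a' * (z' * b') * a'⁻¹) * z⁻¹ * (z' * b')⁻¹ := by
              simp only [commutatorElement_def]; group
          _ = a' * (z' * b') * a'⁻¹ * (z' * b')⁻¹ := by rw [c1.eq, mul_inv_cancel_right]
          _ = a' * z' * b' * a'⁻¹ * b'⁻¹ * z'⁻¹ := by group
          _ = z' * (a' * b' * a'⁻¹) * b'⁻¹ * z'⁻¹ := by rw [← hz'a]; group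
          _ = z' * ⁅a', b'⁆ * z'⁻¹ := by simp only [commutatorElement_def]; group
          _ = ⁅a', b'⁆ := by
              have c3 : Commute z' ⁅a', b'⁆ := c2.mul_right (show Commute z' b' from hz'b).inv_right
              rw [c3.eq, mul_inv_cancel_right]
      rw [e1]
      exact Subgroup.commutator_mem_commutator ha' hb'
    refine mem_normalizer_of_conj_le' fun c hc => ?_
    have h1 : n * c * n⁻¹ ∈ C := hnC hc
    rwa [show w * n * c * (w * n)⁻¹ = w * (n * c * n⁻¹) * w⁻¹ by group, hWC w hw _ h1, mul_inv_cancel_right]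
  have hsplit : ∀ g ∈ P, (∀ c ∈ C, g * c = c * g) → ∃ w ∈ W, ∃ b ∈ P, g = w * b ∧ α b = b ∧
      (∀ d ∈ D, b * d * b⁻¹ ∈ D) ∧ ∀ u ∈ U, b * u = u * b := by
    intro g hg hgC
    obtain ⟨w, hw, b, hb, rfl, hbf, hbD⟩ := hPeq g hg
    obtain ⟨k, hk⟩ := hPp ⟨b, hb⟩
    refine ⟨w, hw, b, hb, rfl, hbf, hbD, h.centralizes_of_centralizes_commutator hr2 hU2 hUα hU1 hbf
      ⟨k, congrArg Subtype.val hk⟩ (hPU b hb) fun c hc => ?_⟩
    calc b * c = w⁻¹ * (w * b * c) := by group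
      _ = w⁻¹ * (c * w) * b := by rw [hgC c hc]; group
      _ = c * b := by rw [← hWC w hw c hc, inv_mul_cancel_left]
  -- a larger invariant `p`-group
  obtain ⟨S, hPS, hS⟩ := exists_invariant_sylow_ge h.hr h.hα h.hco hPp hPα
  set P' := (S : Subgroup H) ⊓ Subgroup.normalizer (P : Set H) with hP'
  have hP'p : IsPGroup p P' := S.isPGroup'.to_le inf_le_left
  have hP'α : Stb α P' := Stb.inf hS hPα.normalizer
  have hPP' : P ≤ P' := le_inf hPS Subgroup.le_normalizer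
  have hPlt : P < P' := by
    refine lt_of_le_of_ne hPP' fun he => ?_
    have hlt : P.subgroupOf (S : Subgroup H) < ⊤ := by
      refine lt_top_iff_ne_top.2 fun e1 => hXne (h.eq_top_of_sylow T hT hXα hDX S ?_)
      exact (Subgroup.subgroupOf_eq_top.1 e1).trans hPX
    haveI := S.isPGroup'.isNilpotent
    obtain ⟨⟨x, hxS⟩, hx, hxP⟩ := SetLike.exists_of_lt
      (Group.normalizerCondition_of_isNilpotent (G := (S : Subgroup H)) _ hlt)
    refine hxP (show x ∈ P from he.ge ⟨hxS, mem_normalizer_of_conj_le' fun y hy => ?_⟩)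
    exact (mem_normalizer_iff.1 hx ⟨y, hPS hy⟩).1 hy
  have hnP : ∀ n ∈ P', ∀ g ∈ P, n⁻¹ * g * n ∈ P := fun n hn g hg =>
    (mem_normalizer_iff''.1 hn.2 g).1 hg
  have hconjU : ∀ n ∈ P', ∀ a ∈ A, ∀ u ∈ U, n⁻¹ * a * n * u = u * (n⁻¹ * a * n) := by
    intro n hn a ha u hu
    have haP : n⁻¹ * a * n ∈ P := hnP n hn a (hWP (hAW ha))
    obtain ⟨w, hw, b, -, he, -, -, hbU⟩ := hsplit _ haP fun c hc =>
      h.conj_centralizes_commutator hr2 hU2 hUα hU1 hWp hWα hWU hPp hPU hPW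
        (fun g hg => by
          obtain ⟨w, hw, b, hb, he, hbf, -⟩ := hPeq g hg
          exact ⟨w, hw, b, hb, he, hbf⟩)
        hPα (stb_cm hWα) (cm_cm h.hr h.hα h.hco hWα) hAW hP'p hP'α hn
        (fun a ha => hnP n hn a (hWP (hAW ha))) a ha c hc
    rw [he, mul_assoc, hbU u hu, ← mul_assoc, hWU w hw u hu, mul_assoc]
  -- `P*`
  obtain ⟨Ps, hWPs, hPsP, hPsα, hPsn, hPseq⟩ : ∃ Ps : Subgroup H, W ≤ Ps ∧ Ps ≤ P ∧ Stb α Ps ∧
      (∀ n ∈ P', ∀ g ∈ Ps, n * g * n⁻¹ ∈ Ps) ∧ ∀ g ∈ Ps, ∃ w ∈ W, ∃ b ∈ Ps, g = w * b ∧ α b = b ∧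
        (∀ d ∈ D, b * d * b⁻¹ ∈ D) ∧ ∀ u ∈ U, b * u = u * b := by
    by_cases hall : ∀ g ∈ P, ∀ c ∈ C, g * c = c * g
    · exact ⟨P, hWP, le_rfl, hPα, fun n hn g hg => (mem_normalizer_iff.1 hn.2 g).1 hg,
        fun g hg => hsplit g hg (hall g hg)⟩
    have hCα : Stb α C := fun c hc => by rwa [(hCfacts c hc).2.1]
    have hNne : Subgroup.normalizer (C : Set H) ≠ ⊤ := by
      intro e1
      haveI := Subgroup.normalizer_eq_top_iff.1 e1
      have hCne : C ≠ ⊤ := fun e2 => h.not_normal_dGrp T hT (by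
        rw [show dGrp α T = ⊤ from top_le_iff.1 (e2.ge.trans (hCU.trans hUD))]
        infer_instance)
      exact hall fun g _ c hc => mem_center_iff.1 (h.le_center T hT hCα hCne hc) g
    have hNX : Subgroup.normalizer (C : Set H) = X := by
      refine (eq_of_le_of_card_ge hXC ?_).symm
      have h1 := hmax _ ⟨hCα.normalizer, hNne, hDX.trans hXC, fun h2 => hXbad (h2.to_le (cm_mono hXC))⟩
      have h2 : (Nat.card X).factorization p ≤ (Nat.card (Subgroup.normalizer (C : Set H))).factorization p :=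
        (Nat.factorization_le_iff_dvd Nat.card_pos.ne' Nat.card_pos.ne').2 (Subgroup.card_dvd_of_le hXC) p
      have h3 := Nat.mul_le_mul_right (Nat.card H + 1) h2
      simp only [f] at h1
      omega
    set J := closure {y | ∃ n ∈ P', ∃ a ∈ A, y = n⁻¹ * a * n} with hJ
    have hJP : J ≤ P := (closure_le _).2 (by
      rintro _ ⟨n, hn, a, ha, rfl⟩
      exact hnP n hn a (hWP (hAW ha)))
    have hJα : Stb α J := stb_closure (by
      rintro _ ⟨n, hn, a, ha, rfl⟩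
      exact subset_closure ⟨α n, hP'α n hn, α a, stb_cm hWα a ha, by rw [map_mul, map_mul, map_inv]⟩)
    have hAJ : A ≤ J := fun a ha => subset_closure ⟨1, one_mem _, a, ha, by simp⟩
    have hJne : J ≠ ⊥ := fun e1 => hA0 (le_bot_iff.1 (hAJ.trans e1.le))
    have hP'J : P' ≤ Subgroup.normalizer (J : Set H) := by
      intro m hm
      refine mem_normalizer_of_conj_le' fun y hy => ?_
      refine (show J ≤ J.comap (MulAut.conj m).toMonoidHom from (closure_le _).2 ?_) hy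
      rintro _ ⟨n, hn, a, ha, rfl⟩
      exact subset_closure ⟨n * m⁻¹, mul_mem hn (inv_mem hm), a, ha, by simp [mul_assoc]⟩
    have hUJ : U ≤ Subgroup.normalizer (J : Set H) := by
      intro u hu
      have h1 : J ≤ Subgroup.centralizer {u} := (closure_le _).2 (by
        rintro _ ⟨n, hn, a, ha, rfl⟩
        exact mem_centralizer_singleton_iff.2 (hconjU n hn a ha u hu))
      refine mem_normalizer_of_conj_le' fun y hy => ?_
      rw [← mem_centralizer_singleton_iff.1 (h1 hy), mul_inv_cancel_right]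
      exact hy
    set Y := Subgroup.normalizer (J : Set H) with hY
    have hYα : Stb α Y := hJα.normalizer
    have hYne : Y ≠ ⊤ := fun e1 => by
      haveI := Subgroup.normalizer_eq_top_iff.1 e1
      exact hJne (h.eq_bot_of_normal_pgroup (hPp.to_le hJP))
    obtain ⟨WJ, hWJY, hWJp, hWJα, hWJn, hWJmax, hWJpow⟩ := h.cm_struct hYα hYne
    obtain ⟨D₁, hUD₁, hD₁2, hD₁α, hD₁1, -, hYeq⟩ := h.exists_two_part (stb_cm hYα)
      (cm_cm h.hr h.hα h.hco hYα) hWJY hWJα (fun y hy w hw => hWJn y (cm_le hYα hy) w hw) hWJpow hU2 hUα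
      (hU1.ge.trans (cm_mono hUJ))
    rw [hU1] at hUD₁
    have hD₁X : D₁ ≤ X := by
      rw [← hNX]
      intro d hd
      refine mem_normalizer_of_conj_le' fun c hc => ?_
      have hcD₁ : c ∈ ⁅D₁, D₁⁆ := Subgroup.commutator_mono hUD₁ hUD₁ hc
      rw [← ((h.commutator_facts hr2 hD₁2 hD₁α hD₁1).2 c hcD₁).2.2 d hd, mul_inv_cancel_right]
      exact hc
    have hD₁K : D₁ ≤ cm α X := hD₁1.ge.trans (cm_mono hD₁X)
    let Cm : Subgroup H :=
      { carrier := {g | g ∈ Y ∧ ∀ y ∈ cm α Y, g * y * g⁻¹ * y⁻¹ ∈ WJ}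
        one_mem' := ⟨one_mem _, fun y _ => by simp⟩
        mul_mem' := fun {g g'} hg hg' => ⟨mul_mem hg.1 hg'.1, fun y hy => by
          have := mul_mem (hg.2 _ (conj_mem_cm' hg'.1 hy)) (hg'.2 y hy)
          rwa [show g * g' * y * (g * g')⁻¹ * y⁻¹ = g * (g' * y * g'⁻¹) * g⁻¹ * (g' * y * g'⁻¹)⁻¹ *
            (g' * y * g'⁻¹ * y⁻¹) by group]⟩
        inv_mem' := fun {g} hg => ⟨inv_mem hg.1, fun y hy => by
          have := inv_mem (hg.2 _ (conj_mem_cm hg.1 hy))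
          rwa [show g⁻¹ * y * g⁻¹⁻¹ * y⁻¹ = (g * (g⁻¹ * y * g) * g⁻¹ * (g⁻¹ * y * g)⁻¹)⁻¹ by group]⟩ }
    have hWCm : W ≤ Cm := by
      intro w hw
      have hwY : w ∈ Y := hP'J (hPP' (hWP hw))
      refine ⟨hwY, fun y hy => ?_⟩
      obtain ⟨v, hv, d, hd, rfl⟩ := hYeq y hy
      have hdY : d ∈ cm α Y := by simpa using mul_mem (inv_mem (hWJY hv)) hy
      have h1 : w * d * w⁻¹ * d⁻¹ ∈ WJ := hWJmax (W ⊓ cm α Y) inf_le_right (hWp.to_le inf_le_left)
        ⟨by rw [show w * d * w⁻¹ * d⁻¹ = w * (d * w⁻¹ * d⁻¹) by group]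
            exact mul_mem hw (hWn d (hD₁X hd) _ (inv_mem hw)),
          (cm α Y).mul_mem (conj_mem_cm' hwY hdY) ((cm α Y).inv_mem hdY)⟩
      rw [show w * (v * d) * w⁻¹ * (v * d)⁻¹ = (w * v * w⁻¹) * (w * d * w⁻¹ * d⁻¹) * v⁻¹ by group]
      exact mul_mem (mul_mem (hWJn w hwY v hv) h1) (inv_mem hv)
    refine ⟨P ⊓ Cm, le_inf hWP hWCm, inf_le_left, hPα.inf ?_, ?_, ?_⟩
    · rintro g ⟨hg1, hg2⟩
      refine ⟨hYα g hg1, fun y hy => ?_⟩
      have := hWJα _ (hg2 _ ((stb_cm hYα).symm_mem hy))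
      rwa [map_mul, map_mul, map_mul, map_inv, map_inv, α.apply_symm_apply] at this
    · rintro n hn g ⟨hgP, hg1, hg2⟩
      have hnY := hP'J hn
      refine ⟨(mem_normalizer_iff.1 hn.2 g).1 hgP, mul_mem (mul_mem hnY hg1) (inv_mem hnY), fun y hy => ?_⟩
      have := hWJn n hnY _ (hg2 _ (conj_mem_cm hnY hy))
      rwa [show n * g * n⁻¹ * y * (n * g * n⁻¹)⁻¹ * y⁻¹ =
        n * (g * (n⁻¹ * y * n) * g⁻¹ * (n⁻¹ * y * n)⁻¹) * n⁻¹ by group]
    · rintro g ⟨hgP, hgC⟩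
      obtain ⟨w, hw, b, hb, rfl, hbf, hbD⟩ := hPeq g hgP
      have hbC : b ∈ Cm := by
        have := mul_mem (inv_mem (hWCm hw)) hgC
        rwa [inv_mul_cancel_left] at this
      refine ⟨w, hw, b, ⟨hb, hbC⟩, rfl, hbf, hbD, fun u hu => ?_⟩
      exact commutatorElement_eq_one_iff_mul_comm.1 (hdisj hWJp hU2
        (hbC.2 u (hU1.ge.trans (cm_mono hUJ) hu)) (mul_mem (hPU b hb u hu) (inv_mem hu)))
  -- `N(Z(J(P*)))`
  set Z₁ := Cfsg.centerThompsonAOf Ps with hZ₁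
  have hPsp : IsPGroup p Ps := hPp.to_le hPsP
  have hZne : Z₁ ≠ ⊥ := centerThompsonA_ne_bot' hPsp fun e1 =>
    hA0 (le_bot_iff.1 ((hAW.trans hWPs).trans e1.le))
  have hZα : Stb α Z₁ := fun z hz => by
    have h1 := ZJ.map_centerThompsonAOf α.toMonoidHom α.injective Ps
    rw [hPsα.map_eq] at h1
    rw [hZ₁, ← h1]
    exact ⟨z, hz, rfl⟩
  set N := Subgroup.normalizer (Z₁ : Set H) with hN
  have hP'N : P' ≤ N := fun n hn =>
    ZJ.normalizer_le_normalizer_centerThompsonA Ps (mem_normalizer_of_conj_le' (hPsn n hn))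
  have hDN : D ≤ N := fun d hd => mem_normalizer_of_conj_le' fun z hz =>
    h.conj_mem_zj T hT hWα hWPs hPsp hPsα (fun d hd => hWn d (hDX hd))
      (fun g hg => hPW g (hPsP hg)) hPseq hd hz
  have hNne : N ≠ ⊤ := fun e1 => by
    haveI := Subgroup.normalizer_eq_top_iff.1 e1
    exact hZne (h.eq_bot_of_normal_pgroup (hPsp.to_le (ZJ.centerThompsonAOf_le Ps)))
  have hNbad : ¬ IsPGroup 2 (cm α N) := fun h2 => hA0 ((Subgroup.eq_bot_iff_forall _).2 fun a ha =>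
    hdisj (hWp.to_le hAW) h2 ha (cm_mono ((hWP.trans hPP').trans hP'N) ha))
  have h1 := hmax N ⟨hZα.normalizer, hNne, hDN, hNbad⟩
  obtain ⟨k, hk⟩ := IsPGroup.iff_card.1 hP'p
  have hcard : Nat.card P = p ^ (Nat.card X).factorization p := by
    rw [hPdef, Subgroup.card_map_of_injective X.subtype_injective, P₀.card_eq_multiplicity]
  have hlt : Nat.card P < Nat.card P' := by
    refine lt_of_le_of_ne (Nat.le_of_dvd Nat.card_pos (Subgroup.card_dvd_of_le hPP')) fun e1 => ?_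
    exact hPlt.ne (eq_of_le_of_card_ge hPP' e1.ge)
  rw [hcard, hk, Nat.pow_lt_pow_iff_right h.hp.one_lt] at hlt
  have h2 : k ≤ (Nat.card N).factorization p :=
    (h.hp.pow_dvd_iff_le_factorization Nat.card_pos.ne').1 (hk ▸ Subgroup.card_dvd_of_le hP'N)
  have h3 : Nat.card X ≤ Nat.card H := X.card_le_card_group
  have h4 := Nat.mul_le_mul_right (Nat.card H + 1)
    (show (Nat.card X).factorization p + 1 ≤ (Nat.card N).factorization p by omega)
  rw [add_mul, one_mul] at h4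
  simp only [f] at h1
  omega

/-- `[X, α] = D` for a proper invariant `X ≥ D`. -/
theorem Min.cm_eq_of_dGrp_le {X : Subgroup H} (hX : Stb α X) (hne : X ≠ ⊤) (hDX : dGrp α T ≤ X) :
    cm α X = dGrp α T := by
  rw [← cm_cm h.hr h.hα h.hco hX]
  exact h.cm_eq_dGrp T hT (h.cm_isPGroup_of_proper T hT hX hne hDX) (stb_cm hX)
    ((h.cm_dGrp T hT).ge.trans (cm_mono hDX))

/-- A proper invariant subgroup containing `D` lies in `M`. -/
theorem Min.le_mGrp {X : Subgroup H} (hX : Stb α X) (hne : X ≠ ⊤) (hDX : dGrp α T ≤ X) :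
    X ≤ mGrp α T := fun x hx => mem_normalizer_of_conj_le' fun d hd => by
  rw [← h.cm_eq_of_dGrp_le T hT hX hne hDX] at hd ⊢
  exact conj_mem_cm' hx hd

theorem Min.cm_mGrp : cm α (mGrp α T) = dGrp α T :=
  h.cm_eq_of_dGrp_le T hT (stb_mGrp T hT) (h.mGrp_ne_top T hT) (dGrp_le_mGrp T hT)

end Cfsg.Agent.Lib.HHS57
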