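import Cfsg.Agent.Lib.HHS57.Center
import Cfsg.Agent.Lib.HHS57.LemmaL

/-!
# Tools for proper invariant subgroups over `D` (helper57)
-/

set_option autoImplicit false
set_option linter.style.haveILetI false
set_option linter.unusedSectionVars false

namespace Cfsg.Agent.Lib.HHS57

open Cfsg Cfsg.Agent.Lib
open Cfsg.Agent.Lib.FpfAut (exists_invariant_sylow)
open Subgroup
open scoped commutatorElement

universe u

variable {H : Type u} [Group H] [Finite H] {p r : ℕ} {α : MulAut H} {V : Type u} [CommGroup V]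
  [Finite V] {ψ : H →* MulAut V} {e : MulAut V}

variable (h : Min p r α ψ e) (T : Sylow 2 H) (hT : Stb α (T : Subgroup H))

include h

/-- A subgroup `K = [K, α]` with `K / W` a `2`-group is `W` times a `2`-group `D₁ = [D₁, α]`. -/
theorem Min.exists_two_part {K W R₀ : Subgroup H} (hKα : Stb α K) (hK1 : cm α K = K) (hWK : W ≤ K)
    (hWα : Stb α W) (hWn : ∀ y ∈ K, ∀ w ∈ W, y * w * y⁻¹ ∈ W)
    (hpow : ∀ x ∈ K, ∃ k, x ^ 2 ^ k ∈ W) (hR : IsPGroup 2 R₀) (hRα : Stb α R₀) (hRK : R₀ ≤ K) :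
    ∃ D₁ : Subgroup H, cm α R₀ ≤ D₁ ∧ IsPGroup 2 D₁ ∧ Stb α D₁ ∧ cm α D₁ = D₁ ∧ D₁ ≤ K ∧
      (∀ y ∈ K, ∃ w ∈ W, ∃ d ∈ D₁, y = w * d) := by
  haveI : Fact (Nat.Prime 2) := ⟨Nat.prime_two⟩
  obtain ⟨Q, hRQ, hQ⟩ := exists_invariant_sylow_ge (q := 2) (A := R₀.subgroupOf K) h.hr
    (resA_pow_r h.hα hKα) (not_dvd_sub h.hco K)
    (hR.comap_of_injective K.subtype K.subtype_injective) (fun x hx => hRα x hx)
  set Q' := (Q : Subgroup K).map K.subtype with hQ'
  have hQ'α : Stb α Q' := stb_map_subtype (fun x => resA_apply hKα x) hQ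
  have hQ'2 : IsPGroup 2 Q' := Q.isPGroup'.map _
  have hRQ' : R₀ ≤ Q' := fun x hx => ⟨⟨x, hRK hx⟩, hRQ hx, rfl⟩
  haveI : (W.subgroupOf K).Normal := ⟨fun w hw g => hWn g g.2 w hw⟩
  set π := QuotientGroup.mk' (W.subgroupOf K) with hπ
  have h2 : IsPGroup 2 (K ⧸ W.subgroupOf K) := fun q => by
    induction q using QuotientGroup.induction_on with | H y => ?_
    obtain ⟨k, hk⟩ := hpow y y.2
    exact ⟨k, by rw [← QuotientGroup.mk_pow]; exact (QuotientGroup.eq_one_iff _).2 hk⟩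
  have htop : (Q : Subgroup K).map π = ⊤ := by
    rw [← Sylow.coe_mapSurjective (QuotientGroup.mk'_surjective _) Q]
    exact ((Q.mapSurjective (QuotientGroup.mk'_surjective _)).is_maximal'
      (h2.of_equiv Subgroup.topEquiv.symm) le_top).symm
  have hdec : ∀ y ∈ K, ∃ w ∈ W, ∃ q ∈ Q', y = w * q := by
    intro y hy
    obtain ⟨q, hq, hqy⟩ := (htop.symm ▸ mem_top (π ⟨y, hy⟩) : π ⟨y, hy⟩ ∈ (Q : Subgroup K).map π)
    have h1 : (q : H)⁻¹ * y ∈ W :=
      Subgroup.mem_subgroupOf.1 (QuotientGroup.eq.1 (show (QuotientGroup.mk q : K ⧸ W.subgroupOf K) =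
        QuotientGroup.mk ⟨y, hy⟩ from hqy))
    refine ⟨(q : H) * ((q : H)⁻¹ * y) * (q : H)⁻¹, hWn _ q.2 _ h1, q, ⟨q, hq, rfl⟩, by group⟩
  set D₁ := cm α Q' with hD₁
  have hQK : Q' ≤ K := map_subtype_le _
  have hD₁K : D₁ ≤ K := (cm_le hQ'α).trans hQK
  let K' : Subgroup H :=
    { carrier := {x | ∃ w ∈ W, ∃ d ∈ D₁, x = w * d}
      one_mem' := ⟨1, W.one_mem, 1, D₁.one_mem, (one_mul 1).symm⟩
      mul_mem' := by
        rintro _ _ ⟨w, hw, d, hd, rfl⟩ ⟨w', hw', d', hd', rfl⟩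
        exact ⟨w * (d * w' * d⁻¹), mul_mem hw (hWn d (hD₁K hd) w' hw'), d * d', mul_mem hd hd', by group⟩
      inv_mem' := by
        rintro _ ⟨w, hw, d, hd, rfl⟩
        exact ⟨d⁻¹ * w⁻¹ * d⁻¹⁻¹, hWn _ (inv_mem (hD₁K hd)) _ (inv_mem hw), d⁻¹, inv_mem hd, by group⟩ }
  have hK' : K ≤ K' := by
    conv_lhs => rw [← hK1]
    refine cm_le_iff.2 fun y hy => ?_
    obtain ⟨w, hw, q, hq, rfl⟩ := hdec y hy
    refine ⟨q⁻¹ * (w⁻¹ * α w) * q⁻¹⁻¹, hWn _ (inv_mem (hQK hq)) _ (mul_mem (inv_mem hw) (hWα w hw)),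
      q⁻¹ * α q, mem_cm hq, ?_⟩
    rw [map_mul]; group
  exact ⟨D₁, cm_mono hRQ', hQ'2.to_le (cm_le hQ'α), stb_cm hQ'α, cm_cm h.hr h.hα h.hco hQ'α, hD₁K,
    fun y hy => hK' hy⟩

include hT

/-- A proper invariant subgroup containing `D` and a Sylow `p`-subgroup does not exist. -/
theorem Min.eq_top_of_sylow {X : Subgroup H} (hXα : Stb α X) (hDX : dGrp α T ≤ X) (P : Sylow p H)
    (hPX : (P : Subgroup H) ≤ X) : X = ⊤ := by
  haveI := h.factP
  haveI : Fact (Nat.Prime 2) := ⟨Nat.prime_two⟩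
  set C := fixG α with hC
  have hcard : Nat.card H * Nat.card (X ⊓ C : Subgroup H) ∣ Nat.card C * Nat.card X := by
    refine (Nat.factorization_le_iff_dvd (mul_ne_zero Nat.card_pos.ne' Nat.card_pos.ne')
      (mul_ne_zero Nat.card_pos.ne' Nat.card_pos.ne')).1 fun q => ?_
    by_cases hq : q.Prime
    swap
    · simp [Nat.factorization_eq_zero_of_not_prime _ hq]
    rw [Nat.factorization_mul Nat.card_pos.ne' Nat.card_pos.ne',
      Nat.factorization_mul Nat.card_pos.ne' Nat.card_pos.ne', Finsupp.add_apply, Finsupp.add_apply]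
    haveI := Fact.mk hq
    have hle₁ : (Nat.card (X ⊓ C : Subgroup H)).factorization q ≤ (Nat.card C).factorization q :=
      (Nat.factorization_le_iff_dvd Nat.card_pos.ne' Nat.card_pos.ne').2
        (Subgroup.card_dvd_of_le inf_le_right) q
    have hle₂ : (Nat.card (X ⊓ C : Subgroup H)).factorization q ≤ (Nat.card X).factorization q :=
      (Nat.factorization_le_iff_dvd Nat.card_pos.ne' Nat.card_pos.ne').2
        (Subgroup.card_dvd_of_le inf_le_left) q
    by_cases hqp : q = p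
    · subst hqp
      have h2 : (Nat.card H).factorization q ≤ (Nat.card X).factorization q := by
        refine (hq.pow_dvd_iff_le_factorization Nat.card_pos.ne').1 ?_
        rw [← P.card_eq_multiplicity]
        exact Subgroup.card_dvd_of_le hPX
      omega
    by_cases hq2 : q = 2
    swap
    · obtain ⟨Q, hQ⟩ := exists_invariant_sylow h.hr h.hα h.hco q
      have h2 : (Nat.card H).factorization q ≤ (Nat.card C).factorization q := by
        refine (hq.pow_dvd_iff_le_factorization Nat.card_pos.ne').1 ?_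
        rw [← Q.card_eq_multiplicity]
        exact Subgroup.card_dvd_of_le fun x hx => h.fixes_sylow hq2 hqp Q hQ hx
      omega
    subst hq2
    obtain ⟨Q, hDQ, hQ⟩ := exists_invariant_sylow_ge (q := 2) (A := (dGrp α T).subgroupOf X) h.hr
      (resA_pow_r h.hα hXα) (not_dvd_sub h.hco X)
      ((isPGroup_dGrp T hT).comap_of_injective X.subtype X.subtype_injective)
      (fun x hx => stb_dGrp T hT x hx)
    set Q' := (Q : Subgroup X).map X.subtype with hQ'
    have hQ'α : Stb α Q' := stb_map_subtype (fun x => resA_apply hXα x) hQ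
    obtain ⟨P₂, hQP, hP₂⟩ := exists_invariant_sylow_ge h.hr h.hα h.hco (Q.isPGroup'.map X.subtype) hQ'α
    have hDQ' : dGrp α T ≤ Q' := fun y hy => ⟨⟨y, hDX hy⟩, hDQ hy, rfl⟩
    have hfixQ : Nat.card (Q' ⊓ C : Subgroup H) = 2 ^ (Nat.card (X ⊓ C : Subgroup H)).factorization 2 := by
      have e1 := card_fixG_factorization h.hr (resA_pow_r h.hα hXα) (not_dvd_sub h.hco X) Q hQ
      have e2 : (fixG (resA α X hXα)).map X.subtype = X ⊓ C := by
        ext x
        constructor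
        · rintro ⟨y, hy, rfl⟩; exact ⟨y.2, congrArg Subtype.val hy⟩
        · rintro ⟨h1, h2⟩; exact ⟨⟨x, h1⟩, Subtype.ext h2, rfl⟩
      have e3 : ((Q : Subgroup X) ⊓ fixG (resA α X hXα)).map X.subtype = Q' ⊓ C := by
        rw [Subgroup.map_inf _ _ _ X.subtype_injective, e2, ← inf_assoc,
          inf_eq_left.2 (map_subtype_le (Q : Subgroup X))]
      rw [← e3, ← e2, Subgroup.card_map_of_injective X.subtype_injective,
        Subgroup.card_map_of_injective X.subtype_injective, e1]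
    have hfixP := card_fixG_factorization h.hr h.hα h.hco P₂ hP₂
    have hprod : Nat.card P₂ * Nat.card (Q' ⊓ C : Subgroup H) ≤
        Nat.card ((P₂ : Subgroup H) ⊓ C : Subgroup H) * Nat.card Q' := by
      have hcov : ∀ x ∈ (P₂ : Subgroup H), ∃ c ∈ ((P₂ : Subgroup H) ⊓ C : Subgroup H), ∃ d ∈ Q',
          x = c * d := by
        intro x hx
        obtain ⟨c, hc1, hc2, d, hd, rfl⟩ := exists_fixed_mul_cm h.hr h.hα h.hco hP₂ hx
        rw [h.cm_eq_dGrp T hT P₂.isPGroup' hP₂ (hDQ'.trans hQP)] at hd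
        exact ⟨c, ⟨hc1, hc2⟩, d, hDQ' hd, rfl⟩
      choose c hc d hd he using hcov
      rw [← Nat.card_prod, ← Nat.card_prod]
      refine Nat.card_le_card_of_injective
        (fun t : ↥(P₂ : Subgroup H) × ↥(Q' ⊓ C : Subgroup H) =>
          ((⟨c t.1 t.1.2 * t.2, mul_mem (hc t.1 t.1.2) (show (t.2 : H) ∈ ((P₂ : Subgroup H) ⊓ C : Subgroup H) from
              ⟨hQP t.2.2.1, t.2.2.2⟩)⟩ : ((P₂ : Subgroup H) ⊓ C : Subgroup H)),
            (⟨(t.2 : H)⁻¹ * d t.1 t.1.2, mul_mem (inv_mem t.2.2.1) (hd t.1 t.1.2)⟩ : Q'))) ?_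
      rintro ⟨x, i⟩ ⟨y, j⟩ e1
      simp only [Prod.mk.injEq, Subtype.mk.injEq] at e1
      have hx : (x : H) = y := by
        have e2 : c x x.2 * i * ((i : H)⁻¹ * d x x.2) = c y y.2 * j * ((j : H)⁻¹ * d y y.2) := by
          rw [e1.1, e1.2]
        simpa [mul_assoc, ← he] using e2
      have hx' : x = y := Subtype.ext hx
      subst hx'
      exact Prod.ext rfl (Subtype.ext (mul_left_cancel e1.1))
    rw [P₂.card_eq_multiplicity, hfixP, hfixQ, hQ',
      Subgroup.card_map_of_injective X.subtype_injective, Q.card_eq_multiplicity, ← pow_add, ← pow_add,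
      Nat.pow_le_pow_iff_right (le_refl 2)] at hprod
    exact hprod
  refine top_le_iff.1 (h.cm_top ▸ cm_le_iff.2 fun x _ => ?_)
  obtain ⟨c, hc, y, hy, rfl⟩ := exists_fixed_mul_of_card (β := α) (Y := (⊤ : Subgroup H)) (K := X) le_top
    (by
      rw [top_inf_eq, Subgroup.card_top]
      exact Nat.le_of_dvd (Nat.mul_pos Nat.card_pos Nat.card_pos) hcard) (mem_top x)
  rw [map_mul, hc, show (c * y)⁻¹ * (c * α y) = y⁻¹ * α y by group]
  exact X.mul_mem (X.inv_mem hy) (hXα y hy)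

/-- A fixed `p`-element centralising `D / D₀` and `U = [D₀, α]` centralises `D`. -/
theorem Min.centralizes_dGrp {D₀ : Subgroup H} (hD₀ : D₀ ≤ dGrp α T) (hD₀α : Stb α D₀) {b : H}
    (hbfix : α b = b) (hbp : ∃ k, b ^ p ^ k = 1) (hbD : ∀ d ∈ dGrp α T, b * d * b⁻¹ ∈ dGrp α T)
    (hbmod : ∀ d ∈ dGrp α T, d⁻¹ * (b * d * b⁻¹) ∈ D₀) (hbU : ∀ u ∈ cm α D₀, b * u = u * b) :
    ∀ d ∈ dGrp α T, b * d = d * b := by
  -- `d⁻¹ b d b⁻¹` is fixed
  have hz : ∀ d ∈ dGrp α T, d⁻¹ * (b * d * b⁻¹) ∈ zGrp α T := by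
    intro x hx
    obtain ⟨f, hf0, hf, u, hu, he⟩ := exists_fixed_mul_cm h.hr h.hα h.hco hD₀α (hbmod x hx)
    have hfZ : f ∈ zGrp α T := ⟨hD₀ hf0, hf⟩
    have huD : u ∈ dGrp α T := hD₀ (cm_le hD₀α hu)
    have hstep : ∀ i : ℕ, ∃ F ∈ zGrp α T, b ^ i * x * (b ^ i)⁻¹ = x * F * u ^ i := by
      intro i
      induction i with
      | zero => exact ⟨1, one_mem _, by simp⟩
      | succ i ih =>
        obtain ⟨F, hF, hFe⟩ := ih
        have hbF : b * F * b⁻¹ ∈ zGrp α T := ⟨hbD F hF.1, by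
          show α (b * F * b⁻¹) = b * F * b⁻¹
          rw [map_mul, map_mul, map_inv, hbfix, mem_fixG.1 hF.2]⟩
        refine ⟨f * (b * F * b⁻¹), mul_mem hfZ hbF, ?_⟩
        have hbu : b * u ^ i * b⁻¹ = u ^ i := by
          rw [(Commute.pow_right (hbU u hu) i).eq, mul_inv_cancel_right]
        calc b ^ (i + 1) * x * (b ^ (i + 1))⁻¹ = b * (b ^ i * x * (b ^ i)⁻¹) * b⁻¹ := by
              rw [pow_succ']; group
          _ = x * (x⁻¹ * (b * x * b⁻¹)) * (b * F * b⁻¹) * (b * u ^ i * b⁻¹) := by rw [hFe]; group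
          _ = x * f * (u * (b * F * b⁻¹)) * u ^ i := by rw [he, hbu]; group
          _ = x * f * ((b * F * b⁻¹) * u) * u ^ i := by rw [h.zGrp_le_centralizer T hT hbF huD]
          _ = x * (f * (b * F * b⁻¹)) * u ^ (i + 1) := by rw [pow_succ']; group
    obtain ⟨k, hk⟩ := hbp
    obtain ⟨F, hF, hFe⟩ := hstep (p ^ k)
    rw [hk, one_mul, inv_one, mul_one, mul_assoc, left_eq_mul] at hFe
    have hun : u ^ p ^ k ∈ zGrp α T := by
      rw [(eq_inv_of_mul_eq_one_right hFe)]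
      exact inv_mem hF
    obtain ⟨l, hl⟩ := (h.hp.odd_of_ne_two h.hp2).pow (n := k)
    rw [hl, pow_succ, pow_mul, pow_two] at hun
    have huZ : u ∈ zGrp α T := by
      simpa using mul_mem (inv_mem (pow_mem (h.sq_mem_zGrp T hT huD) l)) hun
    rw [he]
    exact mul_mem hfZ huZ
  intro d hd
  rw [← h.cm_dGrp T hT] at hd
  induction hd using closure_induction with
  | mem y hy =>
    obtain ⟨x, hx, rfl⟩ := hy
    set z := x⁻¹ * (b * x * b⁻¹) with hzdef
    have hzz := hz x hx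
    have hmem : x⁻¹ * α x ∈ dGrp α T := mul_mem (inv_mem hx) (stb_dGrp T hT x hx)
    have h1 : b * (x⁻¹ * α x) * b⁻¹ = x⁻¹ * α x := by
      have hbx : b * x * b⁻¹ = x * z := by rw [hzdef]; group
      calc b * (x⁻¹ * α x) * b⁻¹ = (b * x * b⁻¹)⁻¹ * α (b * x * b⁻¹) := by
            rw [map_mul, map_mul, map_inv, hbfix]; group
        _ = z⁻¹ * ((x⁻¹ * α x) * z) := by
            rw [hbx, map_mul, show α z = z from mem_fixG.1 hzz.2]; group
        _ = z⁻¹ * (z * (x⁻¹ * α x)) := by rw [← h.zGrp_le_centralizer T hT hzz hmem]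
        _ = x⁻¹ * α x := inv_mul_cancel_left _ _
    calc b * (x⁻¹ * α x) = b * (x⁻¹ * α x) * b⁻¹ * b := by group
      _ = _ := by rw [h1]
  | one => rw [mul_one, one_mul]
  | mul a c _ _ ha hc => rw [← mul_assoc, ha, mul_assoc, hc, mul_assoc]
  | inv a _ ha => exact (Commute.inv_right (ha : Commute b a)).eq

end Cfsg.Agent.Lib.HHS57
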