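import Cfsg.Agent.Lib.HHS57.Weak
import Cfsg.Agent.Lib.ZStar.StronglyClosed
import Cfsg.Agent.Lib.Cores.Pi

/-!
# The group `G = H / Z(H)` of a minimal configuration (helper18)

`gD`, `gZ`, `gM` are the images of `D`, `Z`, `M`; `qAut α` is the induced automorphism.
-/

set_option autoImplicit false
set_option linter.style.haveILetI false
set_option linter.unusedSectionVars false

namespace Cfsg.Agent.Lib.HHS57

open Cfsg Cfsg.Agent.Lib
open Cfsg.Agent.Lib.FpfAut (exists_invariant_sylow exists_fixed_mul)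
open Subgroup
open scoped commutatorElement

universe u

variable {H : Type u} [Group H]

/-- The projection on `H / Z(H)`. -/
abbrev qHom (H : Type u) [Group H] : H →* H ⧸ Subgroup.center H := QuotientGroup.mk' _

/-- The induced automorphism of `H / Z(H)`. -/
def qAut (α : MulAut H) : MulAut (H ⧸ Subgroup.center H) :=
  QuotientGroup.congr _ _ α (Subgroup.characteristic_iff_map_eq.1 inferInstance α)

theorem qAut_mk (α : MulAut H) (x : H) : qAut α (qHom H x) = qHom H (α x) := rfl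

theorem qAut_pow {α : MulAut H} {r : ℕ} (hα : α ^ r = 1) : qAut α ^ r = 1 := by
  have hpow : ∀ (k : ℕ) (x : H), (qAut α ^ k) (qHom H x) = qHom H ((α ^ k) x) := by
    intro k
    induction k with
    | zero => intro x; rfl
    | succ k ih => intro x; rw [pow_succ, pow_succ, MulAut.mul_apply, MulAut.mul_apply, qAut_mk, ih]
  exact MulEquiv.ext fun y => QuotientGroup.induction_on y fun x => by
    rw [show (QuotientGroup.mk x : H ⧸ Subgroup.center H) = qHom H x from rfl, hpow, hα]; rfl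

/-- A conjugator between fixed elements can be chosen fixed. -/
theorem exists_fixed_conjugator {X : Type u} [Group X] [Finite X] {r : ℕ} {β : MulAut X} (hr : r.Prime)
    (hβ : β ^ r = 1) (hco : ¬ r ∣ Nat.card X) {x z g : X} (hx : β x = x) (hz : β z = z)
    (hg : g * z * g⁻¹ = x) : ∃ c : X, β c = c ∧ c * z * c⁻¹ = x := by
  obtain ⟨m, hm, hf⟩ := exists_fixed_mul hr hβ (N := Subgroup.centralizer {z})
    (stb_centralizer_singleton hz) (fun hd => hco (hd.trans (Subgroup.card_subgroup_dvd_card _)))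
    (x := g) (by
      rw [mem_centralizer_singleton_iff]
      have h1 : β g * z * (β g)⁻¹ = x := by
        have := congrArg β hg
        rwa [map_mul, map_mul, map_inv, hz, hx] at this
      calc g⁻¹ * β g * z = g⁻¹ * (β g * z * (β g)⁻¹) * β g := by group
        _ = z * (g⁻¹ * β g) := by rw [h1, ← hg]; group)
  rw [mem_centralizer_singleton_iff] at hm
  refine ⟨g * m, hf, ?_⟩
  calc g * m * z * (g * m)⁻¹ = g * (m * z) * m⁻¹ * g⁻¹ := by group
    _ = x := by rw [hm, ← hg]; group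

variable [Finite H] {p r : ℕ} {α : MulAut H} {V : Type u} [CommGroup V] [Finite V] {ψ : H →* MulAut V}
  {e : MulAut V}

/-- The image of `D`. -/
noncomputable def gD (α : MulAut H) (T : Sylow 2 H) : Subgroup (H ⧸ Subgroup.center H) :=
  (dGrp α T).map (qHom H)

/-- The image of `Z`. -/
noncomputable def gZ (α : MulAut H) (T : Sylow 2 H) : Subgroup (H ⧸ Subgroup.center H) :=
  (zGrp α T).map (qHom H)

/-- The image of `M`. -/
noncomputable def gM (α : MulAut H) (T : Sylow 2 H) : Subgroup (H ⧸ Subgroup.center H) :=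
  (mGrp α T).map (qHom H)

variable (h : Min p r α ψ e)

include h

theorem Min.qPow : qAut α ^ r = 1 := qAut_pow h.hα

theorem Min.qCo : ¬ r ∣ Nat.card (H ⧸ Subgroup.center H) := fun hd =>
  h.hco (hd.trans (Subgroup.center H).card_quotient_dvd_card)

/-- A class is fixed iff every element of it is fixed. -/
theorem Min.qFix_iff {x : H} : qAut α (qHom H x) = qHom H x ↔ α x = x := by
  refine ⟨fun hx => ?_, fun hx => by rw [qAut_mk, hx]⟩
  obtain ⟨m, hm, hf⟩ := exists_fixed_mul h.hr h.hα (stb_center (β := α)) (not_dvd_sub h.hco _) (x := x)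
    (QuotientGroup.eq.1 ((qAut_mk α x).symm.trans hx).symm)
  rw [map_mul, h.center_fixed hm] at hf
  exact mul_right_cancel hf

/-- A fixed class. -/
theorem Min.exists_qFix {y : H ⧸ Subgroup.center H} (hy : qAut α y = y) :
    ∃ x, α x = x ∧ qHom H x = y := by
  obtain ⟨x, rfl⟩ := QuotientGroup.mk'_surjective (Subgroup.center H) y
  exact ⟨x, h.qFix_iff.1 hy, rfl⟩

/-- Every invariant subgroup of the preimage of a `2`-group has an invariant Sylow `2` onto it. -/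
theorem Min.exists_lift_two {A : Subgroup (H ⧸ Subgroup.center H)} (hA : IsPGroup 2 A)
    (hAα : Stb (qAut α) A) :
    ∃ R : Subgroup H, IsPGroup 2 R ∧ Stb α R ∧ R.map (qHom H) = A := by
  haveI : Fact (Nat.Prime 2) := ⟨Nat.prime_two⟩
  set Y := A.comap (qHom H) with hY
  have hYα : Stb α Y := fun x hx => by
    rw [hY, Subgroup.mem_comap] at hx ⊢
    rw [← qAut_mk]
    exact hAα _ hx
  obtain ⟨R, hR⟩ := exists_invariant_sylow h.hr (resA_pow_r h.hα hYα) (not_dvd_sub h.hco Y) 2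
  refine ⟨(R : Subgroup Y).map Y.subtype, R.isPGroup'.map _,
    stb_map_subtype (fun x => resA_apply hYα x) hR, ?_⟩
  set π : Y →* A := ((qHom H).comp Y.subtype).codRestrict A fun x => x.2 with hπ
  have hs : Function.Surjective π := fun a => by
    obtain ⟨x, hx⟩ := QuotientGroup.mk'_surjective (Subgroup.center H) (a : H ⧸ Subgroup.center H)
    exact ⟨⟨x, by rw [hY, Subgroup.mem_comap, hx]; exact a.2⟩, Subtype.ext hx⟩
  have htop : ((R.mapSurjective hs : Sylow 2 A) : Subgroup A) = ⊤ :=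
    ((R.mapSurjective hs).is_maximal' (Q := ⊤) (hA.of_equiv topEquiv.symm) le_top).symm
  apply le_antisymm
  · rintro _ ⟨_, ⟨x, -, rfl⟩, rfl⟩
    exact x.2
  · intro a ha
    have h1 : (⟨a, ha⟩ : A) ∈ ((R.mapSurjective hs : Sylow 2 A) : Subgroup A) := htop ▸ mem_top _
    obtain ⟨x, hx, hxa⟩ := h1
    exact ⟨x, ⟨x, hx, rfl⟩, congrArg Subtype.val hxa⟩

variable (T : Sylow 2 H) (hT : Stb α (T : Subgroup H))

include hT

theorem Min.center_le_mGrp : Subgroup.center H ≤ mGrp α T := fun x hx => by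
  rw [mGrp, Subgroup.mem_normalizer_iff]
  intro y
  rw [← mem_center_iff.1 hx y, mul_inv_cancel_right]

theorem Min.mem_gM_iff {x : H} : qHom H x ∈ gM α T ↔ x ∈ mGrp α T := by
  refine ⟨?_, fun hx => mem_map_of_mem _ hx⟩
  rintro ⟨y, hy, hxy⟩
  have h1 : y⁻¹ * x ∈ mGrp α T := h.center_le_mGrp T hT (QuotientGroup.eq.1 hxy)
  simpa using mul_mem hy h1

theorem Min.gZ_le_gD : gZ α T ≤ gD α T := map_mono inf_le_left

theorem Min.gD_le_gM : gD α T ≤ gM α T := map_mono (dGrp_le_mGrp T hT)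

theorem Min.gD_isPGroup : IsPGroup 2 (gD α T) := (isPGroup_dGrp T hT).map _

theorem Min.gZ_fixed {z : H ⧸ Subgroup.center H} (hz : z ∈ gZ α T) : qAut α z = z := by
  obtain ⟨x, hx, rfl⟩ := hz
  rw [qAut_mk, mem_fixG.1 hx.2]

theorem Min.gD_fixed {d : H ⧸ Subgroup.center H} (hd : d ∈ gD α T) (hf : qAut α d = d) :
    d ∈ gZ α T := by
  obtain ⟨x, hx, rfl⟩ := hd
  exact mem_map_of_mem _ ⟨hx, h.qFix_iff.1 hf⟩

theorem Min.gD_stb : Stb (qAut α) (gD α T) := by
  rintro _ ⟨x, hx, rfl⟩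
  rw [qAut_mk]
  exact mem_map_of_mem _ (stb_dGrp T hT x hx)

theorem Min.gM_stb : Stb (qAut α) (gM α T) := by
  rintro _ ⟨x, hx, rfl⟩
  rw [qAut_mk]
  exact mem_map_of_mem _ (stb_mGrp T hT x hx)

theorem Min.gZ_stb : Stb (qAut α) (gZ α T) := fun z hz => by rwa [h.gZ_fixed T hT hz]

theorem Min.gD_conj {m d : H ⧸ Subgroup.center H} (hm : m ∈ gM α T) (hd : d ∈ gD α T) :
    m * d * m⁻¹ ∈ gD α T := by
  obtain ⟨x, hx, rfl⟩ := hm
  obtain ⟨y, hy, rfl⟩ := hd
  rw [← map_inv, ← map_mul, ← map_mul]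
  exact mem_map_of_mem _ ((Subgroup.mem_normalizer_iff.1 hx y).1 hy)

theorem Min.gZ_conj {m z : H ⧸ Subgroup.center H} (hm : m ∈ gM α T) (hz : z ∈ gZ α T) :
    m * z * m⁻¹ ∈ gZ α T := by
  obtain ⟨x, hx, rfl⟩ := hm
  obtain ⟨y, hy, rfl⟩ := hz
  rw [← map_inv, ← map_mul, ← map_mul]
  exact mem_map_of_mem _ (h.conj_mem_zGrp T hT hx hy)

theorem Min.gZ_comm {z d : H ⧸ Subgroup.center H} (hz : z ∈ gZ α T) (hd : d ∈ gD α T) :
    z * d = d * z := by
  obtain ⟨x, hx, rfl⟩ := hz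
  obtain ⟨y, hy, rfl⟩ := hd
  rw [← map_mul, ← map_mul, h.zGrp_le_centralizer T hT hx hy]

theorem Min.gZ_sq {z : H ⧸ Subgroup.center H} (hz : z ∈ gZ α T) : z * z = 1 := by
  obtain ⟨x, hx, rfl⟩ := hz
  rw [← map_mul, h.zGrp_sq T hT hx, map_one]

theorem Min.gD_commutator {a b : H ⧸ Subgroup.center H} (ha : a ∈ gD α T) (hb : b ∈ gD α T) :
    ⁅a, b⁆ ∈ gZ α T := by
  obtain ⟨x, hx, rfl⟩ := ha
  obtain ⟨y, hy, rfl⟩ := hb
  rw [← map_commutatorElement]
  exact mem_map_of_mem _ (h.commutator_mem_zGrp T hT hx hy)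

theorem Min.gD_sq {a : H ⧸ Subgroup.center H} (ha : a ∈ gD α T) : a * a ∈ gZ α T := by
  obtain ⟨x, hx, rfl⟩ := ha
  rw [← map_mul]
  exact mem_map_of_mem _ (h.sq_mem_zGrp T hT hx)

theorem Min.gM_eq {m : H ⧸ Subgroup.center H} (hm : m ∈ gM α T) :
    ∃ c ∈ gM α T, qAut α c = c ∧ ∃ d ∈ gD α T, m = c * d := by
  obtain ⟨x, hx, rfl⟩ := hm
  obtain ⟨c, hc, hcf, d, hd, rfl⟩ := h.mGrp_eq T hT hx
  exact ⟨_, mem_map_of_mem _ hc, h.qFix_iff.2 hcf, _, mem_map_of_mem _ hd, map_mul _ _ _⟩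

theorem Min.gM_moved {m : H ⧸ Subgroup.center H} (hm : m ∈ gM α T) : m⁻¹ * qAut α m ∈ gD α T := by
  obtain ⟨x, hx, rfl⟩ := hm
  rw [qAut_mk, ← map_inv, ← map_mul]
  exact mem_map_of_mem _ (h.cm_mGrp T hT ▸ mem_cm hx)

theorem Min.cm_gD : cm (qAut α) (gD α T) = gD α T := by
  refine le_antisymm (cm_le (h.gD_stb T hT)) ?_
  rintro _ ⟨x, hx, rfl⟩
  rw [← h.cm_dGrp T hT] at hx
  have hle : cm α (dGrp α T) ≤ (cm (qAut α) (gD α T)).comap (qHom H) := cm_le_iff.2 fun y hy => by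
    rw [Subgroup.mem_comap, map_mul, map_inv, ← qAut_mk]
    exact mem_cm (mem_map_of_mem _ hy)
  exact hle hx

theorem Min.gMid_stb {X : Subgroup (H ⧸ Subgroup.center H)} (hDX : gD α T ≤ X) (hXM : X ≤ gM α T) :
    Stb (qAut α) X := fun x hx => by
  simpa using X.mul_mem hx (hDX (h.gM_moved T hT (hXM hx)))

theorem Min.gM_ne_top : gM α T ≠ ⊤ := fun e1 => h.mGrp_ne_top T hT
  (top_le_iff.1 fun x _ => (h.mem_gM_iff T hT).1 (e1 ▸ mem_top _))

theorem Min.mem_gM_of_conj {g : H ⧸ Subgroup.center H}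
    (hg : ∀ d ∈ gD α T, g * d * g⁻¹ ∈ gM α T) : g ∈ gM α T := by
  obtain ⟨x, rfl⟩ := QuotientGroup.mk'_surjective (Subgroup.center H) g
  refine mem_map_of_mem _ (h.mem_mGrp_of_conj_le T hT fun d hd => (h.mem_gM_iff T hT).1 ?_)
  rw [map_mul, map_mul, map_inv]
  exact hg _ (mem_map_of_mem _ hd)

theorem Min.le_gM {Y : Subgroup (H ⧸ Subgroup.center H)} (hY : Stb (qAut α) Y) (hne : Y ≠ ⊤)
    (hDY : gD α T ≤ Y) : Y ≤ gM α T := by
  have h1 : Y.comap (qHom H) ≤ mGrp α T := h.le_mGrp T hT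
    (fun x hx => by rw [Subgroup.mem_comap] at hx ⊢; rw [← qAut_mk]; exact hY _ hx)
    (fun e1 => hne (top_le_iff.1 fun y _ => by
      obtain ⟨x, rfl⟩ := QuotientGroup.mk'_surjective (Subgroup.center H) y
      exact Subgroup.mem_comap.1 (e1 ▸ mem_top x)))
    (fun d hd => hDY (mem_map_of_mem _ hd))
  intro y hy
  obtain ⟨x, rfl⟩ := QuotientGroup.mk'_surjective (Subgroup.center H) y
  exact mem_map_of_mem _ (h1 hy)

theorem Min.two_le_gM {Q : Subgroup (H ⧸ Subgroup.center H)} (hQ : IsPGroup 2 Q)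
    (hDQ : gD α T ≤ Q) : Q ≤ gM α T := by
  haveI : Fact (Nat.Prime 2) := ⟨Nat.prime_two⟩
  set Y := Q.comap (qHom H) with hY
  have hDY : dGrp α T ≤ Y := fun d hd => hDQ (mem_map_of_mem _ hd)
  obtain ⟨R, hR⟩ := ((isPGroup_dGrp T hT).of_equiv
    (Subgroup.subgroupOfEquivOfLe hDY).symm).exists_le_sylow
  have hRM : (R : Subgroup Y).map Y.subtype ≤ mGrp α T :=
    h.two_le_mGrp T hT (R.isPGroup'.map _) fun d hd => ⟨⟨d, hDY hd⟩, hR hd, rfl⟩
  set π : Y →* Q := ((qHom H).comp Y.subtype).codRestrict Q fun x => x.2 with hπ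
  have hs : Function.Surjective π := fun a => by
    obtain ⟨x, hx⟩ := QuotientGroup.mk'_surjective (Subgroup.center H) (a : H ⧸ Subgroup.center H)
    exact ⟨⟨x, by rw [hY, Subgroup.mem_comap, hx]; exact a.2⟩, Subtype.ext hx⟩
  intro a ha
  have htop : ((R.mapSurjective hs : Sylow 2 Q) : Subgroup Q) = ⊤ :=
    ((R.mapSurjective hs).is_maximal' (Q := ⊤) (hQ.of_equiv topEquiv.symm) le_top).symm
  obtain ⟨x, hx, hxa⟩ : (⟨a, ha⟩ : Q) ∈ ((R.mapSurjective hs : Sylow 2 Q) : Subgroup Q) :=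
    htop ▸ mem_top _
  rw [← show qHom H x = a from congrArg Subtype.val hxa]
  exact mem_map_of_mem _ (hRM ⟨x, hx, rfl⟩)

theorem Min.gCent_le {z g : H ⧸ Subgroup.center H} (hz : z ∈ gZ α T) (hz1 : z ≠ 1)
    (hg : g * z = z * g) : g ∈ gM α T := by
  obtain ⟨x, hx, rfl⟩ := hz
  obtain ⟨y, rfl⟩ := QuotientGroup.mk'_surjective (Subgroup.center H) g
  refine mem_map_of_mem _ (h.cStar_le_mGrp T hT hx (fun e1 => hz1 ?_) (mem_cStar.2 ?_))
  · exact (QuotientGroup.eq_one_iff x).2 e1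
  · rw [← QuotientGroup.eq_one_iff]
    show qHom H ⁅y, x⁆ = 1
    rw [map_commutatorElement, commutatorElement_eq_one_iff_mul_comm]
    exact hg

theorem Min.gTI {z z' g : H ⧸ Subgroup.center H} (hz : z ∈ gZ α T) (hz1 : z ≠ 1) (hz' : z' ∈ gZ α T)
    (hg : g * z' * g⁻¹ = z) : g ∈ gM α T := by
  refine h.mem_gM_of_conj T hT fun d hd => h.gCent_le T hT hz hz1 ?_
  rw [← hg]
  calc g * d * g⁻¹ * (g * z' * g⁻¹) = g * (d * z') * g⁻¹ := by group
    _ = g * (z' * d) * g⁻¹ := by rw [h.gZ_comm T hT hz' hd]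
    _ = _ := by group

/-- Proper normal invariant subgroups of `G` are trivial. -/
theorem Min.gNormal {N : Subgroup (H ⧸ Subgroup.center H)} [N.Normal] (hN : Stb (qAut α) N) :
    N = ⊥ ∨ N = ⊤ := by
  by_cases htop : N = ⊤
  · exact Or.inr htop
  refine Or.inl ((Subgroup.eq_bot_iff_forall N).2 fun y hy => ?_)
  obtain ⟨x, rfl⟩ := QuotientGroup.mk'_surjective (Subgroup.center H) y
  refine (QuotientGroup.eq_one_iff x).2 (h.le_center T hT (N := N.comap (qHom H))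
    (fun w hw => by rw [Subgroup.mem_comap] at hw ⊢; rw [← qAut_mk]; exact hN _ hw) ?_ hy)
  intro e1
  refine htop (top_le_iff.1 fun w _ => ?_)
  obtain ⟨v, rfl⟩ := QuotientGroup.mk'_surjective (Subgroup.center H) w
  exact Subgroup.mem_comap.1 (e1 ▸ mem_top v)

theorem Min.gCenter : Subgroup.center (H ⧸ Subgroup.center H) = ⊥ := by
  rw [Subgroup.eq_bot_iff_forall]
  intro y hy
  obtain ⟨x, rfl⟩ := QuotientGroup.mk'_surjective (Subgroup.center H) y
  refine (QuotientGroup.eq_one_iff x).2 (h.mem_center_of_cStar_eq_top T hT (eq_top_iff.2 fun g _ => ?_))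
  rw [mem_cStar, ← QuotientGroup.eq_one_iff]
  show qHom H ⁅g, x⁆ = 1
  rw [map_commutatorElement, commutatorElement_eq_one_iff_mul_comm]
  exact mem_center_iff.1 hy _

theorem Min.gPerfect : commutator (H ⧸ Subgroup.center H) = ⊤ := by
  rw [commutator_def, ← Subgroup.map_top_of_surjective (qHom H) (QuotientGroup.mk'_surjective _),
    ← Subgroup.map_commutator, ← commutator_def, h.perfect]

theorem Min.gD_ne_bot : gD α T ≠ ⊥ := fun e1 => h.not_le_center T hT le_rfl fun d hd =>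
  (QuotientGroup.eq_one_iff d).1 (Subgroup.mem_bot.1 (e1 ▸ mem_map_of_mem (qHom H) hd))

theorem Min.gOddCore : Cfsg.oddCore (H ⧸ Subgroup.center H) = ⊥ := by
  haveI : Fact (Nat.Prime 2) := ⟨Nat.prime_two⟩
  haveI : (Cfsg.oddCore (H ⧸ Subgroup.center H)).Normal := by unfold Cfsg.oddCore; infer_instance
  haveI : (Cfsg.oddCore (H ⧸ Subgroup.center H)).Characteristic := Cores.pPrimeCore_characteristic 2
  rcases h.gNormal T hT (N := Cfsg.oddCore (H ⧸ Subgroup.center H))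
    (fun x hx => stb_char x hx) with h1 | h1
  · exact h1
  · exfalso
    have hodd : Odd (Nat.card (H ⧸ Subgroup.center H)) := by
      rw [← Subgroup.card_top, ← h1]
      exact ZStar.Elements.oddCore_odd
    refine h.gD_ne_bot T hT ((Subgroup.eq_bot_iff_forall _).2 fun x hx => ?_)
    obtain ⟨k, hk⟩ := h.gD_isPGroup T hT ⟨x, hx⟩
    rw [← orderOf_eq_one_iff]
    exact Nat.eq_one_of_dvd_coprimes ((Nat.coprime_two_left.2 hodd).pow_left k)
      (orderOf_dvd_of_pow_eq_one (congrArg Subtype.val hk)) (orderOf_dvd_natCard x)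

/-- There is no isolated involution. -/
theorem Min.no_isolated {t : H ⧸ Subgroup.center H} (ht : t * t = 1) (ht1 : t ≠ 1)
    (P : Sylow 2 (H ⧸ Subgroup.center H)) (htP : t ∈ P)
    (hiso : ∀ g, g * t * g⁻¹ ∈ P → g * t * g⁻¹ = t) : False := by
  haveI : Fact (Nat.Prime 2) := ⟨Nat.prime_two⟩
  obtain ⟨N, hN, hNodd, hcomm⟩ := ZStar.StronglyClosed.involutionThm _ P t
    (orderOf_eq_prime (by rw [pow_two, ht]) ht1) htP hiso
  have hN1 : ∀ n ∈ N, n = 1 := fun n hn => by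
    have h1 : n ∈ Cfsg.oddCore (H ⧸ Subgroup.center H) :=
      Cores.le_oddCore hNodd hn
    rwa [h.gOddCore T hT, Subgroup.mem_bot] at h1
  have hc : t ∈ Subgroup.center (H ⧸ Subgroup.center H) := mem_center_iff.2 fun g => by
    have h1 := hN1 _ (hcomm g)
    rw [mul_inv_eq_one, mul_inv_eq_iff_eq_mul] at h1
    exact h1.symm
  rw [h.gCenter T hT, Subgroup.mem_bot] at hc
  exact ht1 hc

/-- The moved part of an invariant `2`-subgroup of `G` lies in a fixed conjugate of `gD`. -/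
theorem Min.gExists_cm_le {A : Subgroup (H ⧸ Subgroup.center H)} (hA : IsPGroup 2 A)
    (hAα : Stb (qAut α) A) :
    ∃ c, qAut α c = c ∧ ∀ x ∈ cm (qAut α) A, c⁻¹ * x * c ∈ gD α T := by
  obtain ⟨R, hR, hRα, rfl⟩ := h.exists_lift_two hA hAα
  obtain ⟨c, hc, hle⟩ := h.exists_cm_le T hT hR hRα
  refine ⟨qHom H c, h.qFix_iff.2 hc, fun x hx => ?_⟩
  have h1 : cm (qAut α) (R.map (qHom H)) ≤ (cm α R).map (qHom H) := cm_le_iff.2 (by
    rintro _ ⟨y, hy, rfl⟩
    rw [qAut_mk, ← map_inv, ← map_mul]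
    exact mem_map_of_mem _ (mem_cm hy))
  obtain ⟨y, hy, rfl⟩ := h1 hx
  rw [← map_inv, ← map_mul, ← map_mul]
  exact mem_map_of_mem _ (hle y hy)

/-- An element of odd prime order different from `p` is conjugate to a fixed one. -/
theorem Min.gExists_fixed_conj {s : ℕ} (hs : s.Prime) (hs2 : s ≠ 2) (hsp : s ≠ p)
    {x : H ⧸ Subgroup.center H} (hx : orderOf x = s) :
    ∃ g, qAut α (g * x * g⁻¹) = g * x * g⁻¹ := by
  haveI := Fact.mk hs
  obtain ⟨P, hP⟩ := exists_invariant_sylow h.hr h.hα h.hco s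
  have hPp : ¬ p ∣ Nat.card P := by
    obtain ⟨k, hk⟩ := IsPGroup.iff_card.1 P.isPGroup'
    rw [hk]
    exact fun hd => hsp ((Nat.prime_dvd_prime_iff_eq h.hp hs).1 (h.hp.dvd_of_dvd_pow hd)).symm
  have hfix : ∀ y ∈ (P : Subgroup H), α y = y := by
    intro y hy
    obtain ⟨k, hk⟩ := (h.cm_isPGroup hP hPp) ⟨_, mem_cm hy⟩
    have h1 : y⁻¹ * α y = 1 := eq_one_of_isPGroup_of_not_dvd hs P.isPGroup'
      (cm_le hP (mem_cm hy)) fun hd1 => hs2 ((Nat.prime_dvd_prime_iff_eq hs Nat.prime_two).1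
        (hs.dvd_of_dvd_pow (hd1.trans (orderOf_dvd_of_pow_eq_one (congrArg Subtype.val hk)))))
    exact (inv_mul_eq_one.1 h1).symm
  have hxp : IsPGroup s (Subgroup.zpowers x) :=
    IsPGroup.of_card (n := 1) (by rw [Nat.card_zpowers, hx, pow_one])
  obtain ⟨Q, hQ⟩ := hxp.exists_le_sylow
  obtain ⟨g, hg⟩ := MulAction.exists_smul_eq (H ⧸ Subgroup.center H) Q
    (P.mapSurjective (QuotientGroup.mk'_surjective (Subgroup.center H)))
  have hmem : g * x * g⁻¹ ∈ ((P : Subgroup H).map (qHom H)) := by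
    have h1 := Subgroup.smul_mem_pointwise_smul (a := MulAut.conj g) x
      (Q : Subgroup (H ⧸ Subgroup.center H)) (hQ (Subgroup.mem_zpowers x))
    rw [← Sylow.coe_subgroup_smul, hg] at h1
    simpa using h1
  obtain ⟨y, hy, hyx⟩ := hmem
  refine ⟨g, ?_⟩
  rw [← hyx, qAut_mk, hfix y hy]

/-- An element of order `p` of `gM` is conjugate in `gM` to a fixed one. -/
theorem Min.gM_fixed_conj {c : H ⧸ Subgroup.center H} (hc : c ∈ gM α T) (hco : orderOf c = p) :
    ∃ g ∈ gM α T, qAut α (g * c * g⁻¹) = g * c * g⁻¹ := by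
  haveI := h.factP
  set M := gM α T with hM
  have hMα := h.gM_stb T hT
  obtain ⟨P, hP⟩ := exists_invariant_sylow h.hr (resA_pow_r h.qPow hMα) (not_dvd_sub h.qCo M) p
  have hfix : ∀ y ∈ (P : Subgroup M), qAut α (y : H ⧸ Subgroup.center H) = y := by
    intro y hy
    have h1 : (y : H ⧸ Subgroup.center H)⁻¹ * qAut α y ∈ gD α T := h.gM_moved T hT y.2
    have h2 : y⁻¹ * resA (qAut α) M hMα y ∈ (P : Subgroup M) := mul_mem (inv_mem hy) (hP y hy)
    exact (inv_mul_eq_one.1 (Subgroup.mem_bot.1 ((IsPGroup.disjoint_of_ne p 2 h.hp2 _ (gD α T)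
      (P.isPGroup'.map M.subtype) (h.gD_isPGroup T hT)).le_bot ⟨⟨_, h2, rfl⟩, h1⟩))).symm
  have hxp : IsPGroup p (Subgroup.zpowers (⟨c, hc⟩ : M)) :=
    IsPGroup.of_card (n := 1) (by rw [Nat.card_zpowers, ← Subgroup.orderOf_coe, hco, pow_one])
  obtain ⟨Q, hQ⟩ := hxp.exists_le_sylow
  obtain ⟨g, hg⟩ := MulAction.exists_smul_eq M Q P
  refine ⟨g, g.2, ?_⟩
  have h1 := Subgroup.smul_mem_pointwise_smul (a := MulAut.conj g) _ (Q : Subgroup M)
    (hQ (Subgroup.mem_zpowers _))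
  rw [← Sylow.coe_subgroup_smul, hg] at h1
  exact hfix _ h1

end Cfsg.Agent.Lib.HHS57
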