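import Cfsg.Agent.Lib.HHS57.Quot
import Cfsg.Agent.Lib.HHS57.Forms

/-!
# Two invariant points (helper18)

Invariant abelian moved subgroups of `gD` are elementary of order `2 ^ (2 m)`; an element of `Z̄` at an
invariant point fixes no other invariant point (`false_of_conj_mem`).
-/

set_option autoImplicit false
set_option linter.style.haveILetI false
set_option linter.unusedSectionVars false

namespace Cfsg.Agent.Lib.HHS57

open Cfsg Cfsg.Agent.Lib
open Subgroup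
open scoped commutatorElement

universe u

/-- A central involution acts by inversion. -/
def CenNeg {H : Type u} [Group H] {V : Type u} [CommGroup V] (ψ : H →* MulAut V) : Prop :=
  ∀ z ∈ Subgroup.center H, z * z = 1 → z ≠ 1 → ∀ v, ψ z v = v⁻¹

variable {H : Type u} [Group H] [Finite H] {p r : ℕ} {α : MulAut H} {V : Type u} [CommGroup V]
  [Finite V] {ψ : H →* MulAut V} {e : MulAut V}

variable (h : Min p r α ψ e)

include h

/-- At most one central involution. -/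
theorem Min.eq_of_cenNeg (hneg : CenNeg ψ) {a b : H} (ha : a ∈ Subgroup.center H) (hb : b ∈ Subgroup.center H)
    (haa : a * a = 1) (hbb : b * b = 1) (ha1 : a ≠ 1) (hb1 : b ≠ 1) : a = b :=
  h.inj (MulEquiv.ext fun v => by rw [hneg a ha haa ha1, hneg b hb hbb hb1])

/-- The moved part of an invariant subgroup generates it as a group with automorphism. -/
theorem Min.cm_resA_of_cm_eq {U : Subgroup H} (hU : Stb α U) (hcm : cm α U = U) :
    cm (resA α U hU) (⊤ : Subgroup U) = ⊤ := by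
  rw [eq_top_iff]
  intro x _
  have h1 : U ≤ (cm (resA α U hU) ⊤).map U.subtype := by
    conv_lhs => rw [← hcm]
    exact cm_le_iff.2 fun y hy => ⟨_, mem_cm (mem_top (⟨y, hy⟩ : U)), rfl⟩
  obtain ⟨w, hw, hwx⟩ := h1 x.2
  rwa [← show w = x from Subtype.ext hwx]

variable (T : Sylow 2 H) (hT : Stb α (T : Subgroup H))

include hT

theorem Min.gCommutator_closure :
    gZ α T ≤ closure {c | ∃ a ∈ gD α T, ∃ b ∈ gD α T, c = ⁅a, b⁆} := by
  rintro _ ⟨z, hz, rfl⟩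
  refine (?_ : zGrp α T ≤ (closure {c | ∃ a ∈ gD α T, ∃ b ∈ gD α T, c = ⁅a, b⁆}).comap (qHom H)) hz
  refine (h.zGrp_le_closure T hT).trans ((closure_le _).2 ?_)
  rintro _ ⟨a, ha, b, hb, rfl⟩
  exact subset_closure ⟨_, mem_map_of_mem _ ha, _, mem_map_of_mem _ hb, map_commutatorElement _ _ _⟩

/-- `α` is fixed-point-free on `gD / gZ`. -/
theorem Min.gMem_gZ {d : H ⧸ Subgroup.center H} (hd : d ∈ gD α T) (hm : d⁻¹ * qAut α d ∈ gZ α T) :
    d ∈ gZ α T := by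
  obtain ⟨x, hx, rfl⟩ := hd
  have hxD : x⁻¹ * α x ∈ dGrp α T := mul_mem (inv_mem hx) (stb_dGrp T hT x hx)
  rw [qAut_mk, ← map_inv, ← map_mul] at hm
  have hz : x⁻¹ * α x ∈ zGrp α T := ⟨hxD, h.qFix_iff.1 (h.gZ_fixed T hT hm)⟩
  set β := resA α (dGrp α T) (stb_dGrp T hT)
  obtain ⟨-, -, -, hcen⟩ := (h.dRep T hT).classTwo (h.cm_resA_dGrp T hT)
  have h1 := (h.dRep T hT).mem_center_of_inv_mul (h.cm_resA_dGrp T hT) (x := ⟨x, hx⟩)
    ((hcen _).2 (Subtype.ext (mem_fixG.1 hz.2)))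
  exact mem_map_of_mem _ ⟨hx, congrArg Subtype.val ((hcen _).1 h1)⟩

/-- An abelian moved invariant subgroup of `gD` has no fixed point and is elementary. -/
theorem Min.gAbelian_facts {A : Subgroup (H ⧸ Subgroup.center H)} (hAD : A ≤ gD α T)
    (hAα : Stb (qAut α) A) (hcm : cm (qAut α) A = A) (hcomm : ∀ a ∈ A, ∀ b ∈ A, a * b = b * a) :
    (∀ a ∈ A, qAut α a = a → a = 1) ∧ ∀ a ∈ A, a * a = 1 := by
  let f : A →* A :=
    { toFun := fun a => ⟨(a : H ⧸ Subgroup.center H)⁻¹ * qAut α a, mul_mem (inv_mem a.2) (hAα a a.2)⟩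
      map_one' := Subtype.ext (by simp)
      map_mul' := fun a b => Subtype.ext (by
        show (_ * _ : H ⧸ Subgroup.center H)⁻¹ * qAut α (_ * _) = _ * _
        rw [map_mul, mul_inv_rev]
        calc (b : H ⧸ Subgroup.center H)⁻¹ * (a : H ⧸ Subgroup.center H)⁻¹ * (qAut α a * qAut α b)
            = (b : H ⧸ Subgroup.center H)⁻¹ * ((a : H ⧸ Subgroup.center H)⁻¹ * qAut α a) * qAut α b := by
              group
          _ = _ := by
            rw [hcomm _ (inv_mem b.2) _ (mul_mem (inv_mem a.2) (hAα a a.2))]; group) }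
  have hsurj : Function.Surjective f := fun a => by
    have h1 : cm (qAut α) A ≤ f.range.map A.subtype := cm_le_iff.2 fun y hy => ⟨_, ⟨⟨y, hy⟩, rfl⟩, rfl⟩
    obtain ⟨_, ⟨x, rfl⟩, hxa⟩ := h1 (show (a : H ⧸ Subgroup.center H) ∈ cm (qAut α) A by rw [hcm]; exact a.2)
    exact ⟨x, Subtype.ext hxa⟩
  have hinj : Function.Injective f := Finite.injective_iff_surjective.2 hsurj
  have hfix : ∀ a ∈ A, qAut α a = a → a = 1 := fun a ha hf => congrArg Subtype.val
    (hinj (a₁ := ⟨a, ha⟩) (a₂ := 1) (Subtype.ext (show a⁻¹ * qAut α a = _ by rw [hf]; simp [f])))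
  exact ⟨hfix, fun a ha => hfix _ (mul_mem ha ha) (h.gZ_fixed T hT (h.gD_sq T hT (hAD ha)))⟩

/-- Its order. -/
theorem Min.gAbelian_card (hneg : CenNeg ψ) {m : ℕ} (hm : r = 2 ^ m + 1)
    {A : Subgroup (H ⧸ Subgroup.center H)} (hAD : A ≤ gD α T) (hAα : Stb (qAut α) A)
    (hcm : cm (qAut α) A = A) (hcomm : ∀ a ∈ A, ∀ b ∈ A, a * b = b * a) (hA1 : A ≠ ⊥) :
    Nat.card A = 2 ^ (2 * m) := by
  obtain ⟨hfix, -⟩ := h.gAbelian_facts T hT hAD hAα hcm hcomm
  obtain ⟨R, hR, hRα, hRA⟩ := h.exists_lift_two ((h.gD_isPGroup T hT).to_le hAD) hAα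
  set U := cm α R with hUdef
  have hUα : Stb α U := stb_cm hRα
  have hUU : cm α U = U := cm_cm h.hr h.hα h.hco hRα
  have hU2 : IsPGroup 2 U := hR.to_le (cm_le hRα)
  have hUA : ∀ x ∈ U, qHom H x ∈ A := fun x hx => hRA ▸ mem_map_of_mem _ (cm_le hRα hx)
  have hAU : A ≤ U.map (qHom H) := by
    rw [← hcm]
    refine cm_le_iff.2 fun a ha => ?_
    obtain ⟨x, hx, rfl⟩ := hRA.symm ▸ ha
    rw [qAut_mk, ← map_inv, ← map_mul]
    exact mem_map_of_mem _ (mem_cm hx)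
  have hrep := h.fpfRep (h.r_ne_two T hT) hU2 hUα
  have hgen := h.cm_resA_of_cm_eq hUα hUU
  obtain ⟨-, hsq, -, hcen⟩ := hrep.classTwo hgen
  have hcH : ∀ a b : U, (⁅a, b⁆ : U).1 ∈ Subgroup.center H := fun a b => by
    rw [← QuotientGroup.eq_one_iff]
    show qHom H ⁅(a : H), (b : H)⁆ = 1
    rw [map_commutatorElement, commutatorElement_eq_one_iff_mul_comm]
    exact hcomm _ (hUA a a.2) _ (hUA b b.2)
  have hνex : ∃ ν : U, ∀ a b : U, ⁅a, b⁆ = 1 ∨ ⁅a, b⁆ = ν := by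
    by_cases hh : ∀ a b : U, ⁅a, b⁆ = 1
    · exact ⟨1, fun a b => Or.inl (hh a b)⟩
    · push Not at hh
      obtain ⟨a₀, b₀, h0⟩ := hh
      refine ⟨⁅a₀, b₀⁆, fun a b => or_iff_not_imp_left.2 fun hab => Subtype.ext ?_⟩
      exact h.eq_of_cenNeg hneg (hcH a b) (hcH a₀ b₀) (by
          have := congrArg Subtype.val (hsq a b); rwa [pow_two] at this)
        (by have := congrArg Subtype.val (hsq a₀ b₀); rwa [pow_two] at this)
        (fun e1 => hab (Subtype.ext e1)) (fun e1 => h0 (Subtype.ext e1))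
  obtain ⟨ν, hν⟩ := hνex
  obtain ⟨a, ha, ha1⟩ : ∃ a ∈ A, a ≠ 1 := by
    by_contra hh
    push Not at hh
    exact hA1 ((Subgroup.eq_bot_iff_forall A).2 hh)
  obtain ⟨x, hx, hxa⟩ := hAU ha
  obtain ⟨m', -, hrm', hidx, -⟩ := hrep.index_center hgen
    ⟨⟨x, hx⟩, fun e1 => ha1 (by rw [← hxa, show x = 1 from congrArg Subtype.val e1, map_one])⟩ ν hν
  rw [← eq_of_pow_add_one hrm' hm, ← hidx]
  let π : U →* A := ((qHom H).comp U.subtype).codRestrict A fun y => hUA y y.2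
  have hπs : Function.Surjective π := fun b => by
    obtain ⟨y, hy, hyb⟩ := hAU b.2
    exact ⟨⟨y, hy⟩, Subtype.ext hyb⟩
  have hker : π.ker = Subgroup.center U := by
    ext y
    rw [MonoidHom.mem_ker, hcen]
    refine ⟨fun hy => Subtype.ext ?_, fun hy => Subtype.ext ?_⟩
    · refine h.center_fixed ?_
      rw [← QuotientGroup.eq_one_iff]
      exact congrArg Subtype.val hy
    · refine hfix _ (hUA y y.2) ?_
      exact (qAut_mk α (y : H)).trans (congrArg (qHom H) (congrArg Subtype.val hy))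
  rw [← hker, Subgroup.index_ker, MonoidHom.range_eq_top.2 hπs, Subgroup.card_top]

/-- The second point. -/
noncomputable def gConjD (α : MulAut H) (T : Sylow 2 H) (g : H ⧸ Subgroup.center H) :
    Subgroup (H ⧸ Subgroup.center H) := (gD α T).map (MulAut.conj g).toMonoidHom

omit h hT in
theorem mem_gConjD {g x : H ⧸ Subgroup.center H} : x ∈ gConjD α T g ↔ g⁻¹ * x * g ∈ gD α T := by
  rw [gConjD, Subgroup.mem_map_equiv, MulAut.conj_symm_apply]

/-- The common part of two points is abelian. -/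
theorem Min.overlap_comm {g : H ⧸ Subgroup.center H} (hg : qAut α g = g) (hgM : g ∉ gM α T)
    {a b : H ⧸ Subgroup.center H} (ha : a ∈ gD α T ⊓ gConjD α T g) (hb : b ∈ gD α T ⊓ gConjD α T g) :
    a * b = b * a := by
  by_contra hne
  have hc1 : ⁅a, b⁆ ≠ 1 := fun e1 => hne (commutatorElement_eq_one_iff_mul_comm.1 e1)
  refine hgM (h.gTI T hT (h.gD_commutator T hT ha.1 hb.1) hc1 (z' := g⁻¹ * ⁅a, b⁆ * g) ?_ (by group))
  rw [show g⁻¹ * ⁅a, b⁆ * g = ⁅g⁻¹ * a * g, g⁻¹ * b * g⁆ by simp only [commutatorElement_def]; group]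
  exact h.gD_commutator T hT ((mem_gConjD T).1 ha.2) ((mem_gConjD T).1 hb.2)

/-- An element of `Z̄` at another invariant point that normalises `gD`: it fixes exactly the overlap
modulo `gZ`, and conjugation by `gD` stabilises the group generated by the overlap, `y` and the elements
of `gZ` centralising `y`. -/
theorem Min.sOne_core {g : H ⧸ Subgroup.center H}
    (hg : qAut α g = g) (hgM : g ∉ gM α T) {z : H ⧸ Subgroup.center H} (hz : z ∈ gZ α T) (hz1 : z ≠ 1)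
    {y : H ⧸ Subgroup.center H} (hydef : y = g * z * g⁻¹) (hy : y ∈ gM α T) :
    cm (qAut α) (gD α T ⊓ gConjD α T g) ≠ ⊥ ∧
    ∀ d ∈ gD α T, (∀ u ∈ cm (qAut α) (gD α T ⊓ gConjD α T g), ∃ k ∈ gZ α T,
        y * k = k * y ∧ d * u * d⁻¹ = u * k) ∧
      ∃ u ∈ cm (qAut α) (gD α T ⊓ gConjD α T g), ∃ k ∈ gZ α T,
        y * k = k * y ∧ d * y * d⁻¹ = u * k * y := by
  set D' := gConjD α T g with hD'
  set W := gD α T ⊓ D' with hW
  set E := cm (qAut α) W with hE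
  have hyy : y * y = 1 := by
    rw [hydef, show g * z * g⁻¹ * (g * z * g⁻¹) = g * (z * z) * g⁻¹ by group, h.gZ_sq T hT hz]; group
  have hyi : y⁻¹ = y := inv_eq_of_mul_eq_one_right hyy
  have hyfix : qAut α y = y := by rw [hydef, map_mul, map_mul, map_inv, hg, h.gZ_fixed T hT hz]
  have hD'α : Stb (qAut α) D' := fun x hx => by
    rw [hD', mem_gConjD] at hx ⊢
    have := h.gD_stb T hT _ hx
    rwa [map_mul, map_mul, map_inv, hg] at this
  have hWα : Stb (qAut α) W := (h.gD_stb T hT).inf hD'α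
  have hcomm : ∀ a ∈ W, ∀ b ∈ W, a * b = b * a := fun a ha b hb => h.overlap_comm T hT hg hgM ha hb
  have hEW : E ≤ W := cm_le hWα
  have hEα : Stb (qAut α) E := stb_cm hWα
  have hEcm : cm (qAut α) E = E := cm_cm h.hr h.qPow h.qCo hWα
  obtain ⟨-, hE2⟩ := h.gAbelian_facts T hT (hEW.trans inf_le_left) hEα hEcm
    (fun a ha b hb => hcomm a (hEW ha) b (hEW hb))
  have hconj : ∀ d ∈ gD α T, y * d * y⁻¹ ∈ gD α T := fun d hd => h.gD_conj T hT hy hd
  have hkd : ∀ d ∈ gD α T, ∀ k ∈ gZ α T, k * d = d * k := fun d hd k hk => h.gZ_comm T hT hk hd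
  -- elements of the overlap commute with `y`
  have hyW : ∀ u ∈ W, y * u = u * y := fun u hu => by
    rw [hydef]
    calc g * z * g⁻¹ * u = g * (z * (g⁻¹ * u * g)) * g⁻¹ := by group
      _ = u * (g * z * g⁻¹) := by rw [hkd _ ((mem_gConjD T).1 hu.2) _ hz]; group
  -- the subgroup fixed modulo `gZ`
  let P : Subgroup (H ⧸ Subgroup.center H) :=
    { carrier := {d | d ∈ gD α T ∧ d⁻¹ * (y * d * y⁻¹) ∈ gZ α T}
      one_mem' := ⟨one_mem _, by simp⟩
      mul_mem' := fun {a b} ha hb => ⟨mul_mem ha.1 hb.1, by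
        rw [show (a * b)⁻¹ * (y * (a * b) * y⁻¹) = b⁻¹ * (a⁻¹ * (y * a * y⁻¹)) * (y * b * y⁻¹) by group]
        rw [← hkd _ (inv_mem hb.1) _ ha.2, mul_assoc]
        exact mul_mem ha.2 hb.2⟩
      inv_mem' := fun {a} ha => ⟨inv_mem ha.1, by
        rw [show a⁻¹⁻¹ * (y * a⁻¹ * y⁻¹) = a * (a⁻¹ * (y * a * y⁻¹))⁻¹ * a⁻¹ by group,
          ← hkd _ ha.1 _ (inv_mem ha.2), mul_inv_cancel_right]
        exact inv_mem ha.2⟩ }
  have hPD : P ≤ gD α T := fun d hd => hd.1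
  have hPα : Stb (qAut α) P := fun d hd => ⟨h.gD_stb T hT d hd.1, by
    have h1 := h.gZ_stb T hT _ hd.2
    rwa [map_mul, map_mul, map_mul, map_inv, map_inv, hyfix] at h1⟩
  -- its moved part lies in the second point
  have hPC : ∀ x ∈ cm (qAut α) P, g⁻¹ * x * g ∈ gM α T := by
    have hle : cm (qAut α) P ≤ Subgroup.centralizer {y} := cm_le_iff.2 fun d hd => by
      set ζ := d⁻¹ * (y * d * y⁻¹) with hζ
      have hdD : d⁻¹ * qAut α d ∈ gD α T := mul_mem (inv_mem hd.1) (h.gD_stb T hT d hd.1)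
      have h1 : y * d * y⁻¹ = d * ζ := by rw [hζ]; group
      have h2 : y * qAut α d * y⁻¹ = qAut α d * ζ := by
        have := congrArg (qAut α) h1
        rwa [map_mul, map_mul, map_mul, map_inv, hyfix, h.gZ_fixed T hT hd.2] at this
      rw [mem_centralizer_singleton_iff]
      refine ((mul_inv_eq_iff_eq_mul (a := y * (d⁻¹ * qAut α d)) (b := y)).1 ?_).symm
      calc y * (d⁻¹ * qAut α d) * y⁻¹ = (y * d * y⁻¹)⁻¹ * (y * qAut α d * y⁻¹) := by group
        _ = ζ⁻¹ * ((d⁻¹ * qAut α d) * ζ) := by rw [h1, h2]; group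
        _ = d⁻¹ * qAut α d := by rw [← hkd _ hdD _ hd.2, inv_mul_cancel_left]
    intro x hx
    refine h.gCent_le T hT hz hz1 ?_
    calc g⁻¹ * x * g * z = g⁻¹ * (x * y) * g := by rw [hydef]; group
      _ = z * (g⁻¹ * x * g) := by
        rw [mem_centralizer_singleton_iff.1 (hle hx), hydef]; group
  have hPE : cm (qAut α) P ≤ E := by
    rw [← cm_cm h.hr h.qPow h.qCo hPα, hE]
    have hcW : cm (qAut α) P ≤ W := by
      rw [← cm_cm h.hr h.qPow h.qCo hPα]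
      refine cm_le_iff.2 fun x hx => ?_
      have hxD : x ∈ gD α T := hPD (cm_le hPα hx)
      refine ⟨(gD α T).mul_mem ((gD α T).inv_mem hxD) (h.gD_stb T hT x hxD), (mem_gConjD T).2 ?_⟩
      have := h.gM_moved T hT (hPC x hx)
      rwa [map_mul, map_mul, map_inv, hg,
        show (g⁻¹ * x * g)⁻¹ * (g⁻¹ * qAut α x * g) = g⁻¹ * (x⁻¹ * qAut α x) * g by group] at this
    exact cm_mono hcW
  -- `P = E × gZ`
  have hPdec : ∀ w ∈ P, ∃ u ∈ E, ∃ k ∈ gZ α T, w = u * k := by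
    intro w hw
    obtain ⟨c, hc, hcf, u, hu, rfl⟩ := exists_fixed_mul_cm h.hr h.qPow h.qCo hPα hw
    have hcZ : c ∈ gZ α T := h.gD_fixed T hT hc.1 hcf
    exact ⟨u, hPE hu, c, hcZ, hkd _ (hEW (hPE hu)).1 _ hcZ⟩
  refine ⟨fun hbot => ?_, fun d hd => ⟨fun u hu => ?_, ?_⟩⟩
  · -- a nontrivial class fixed by `y`
    obtain ⟨d, hd, hdZ⟩ : ∃ d ∈ P, d ∉ gZ α T := by
      by_contra hh
      push Not at hh
      have hall : gD α T ≤ gZ α T := fun d hd => by
        have hw : y * d * y⁻¹ * d⁻¹ ∈ gD α T := mul_mem (hconj d hd) (inv_mem hd)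
        by_contra hdZ
        have h1 : y * d * y⁻¹ * d⁻¹ ∈ P := ⟨hw, by
          rw [show y * (y * d * y⁻¹ * d⁻¹) * y⁻¹ = (y * y) * d * (y * y)⁻¹ * (y * d * y⁻¹)⁻¹ by group,
            hyy, show (y * d * y⁻¹ * d⁻¹)⁻¹ * (1 * d * 1⁻¹ * (y * d * y⁻¹)⁻¹) =
              ((y * d * y⁻¹ * d⁻¹) * (y * d * y⁻¹ * d⁻¹))⁻¹ by group]
          exact inv_mem (h.gD_sq T hT hw)⟩
        refine hdZ (hh d ⟨hd, ?_⟩)
        have h2 := hh _ h1
        rw [show d⁻¹ * (y * d * y⁻¹) = d⁻¹ * (y * d * y⁻¹ * d⁻¹) * d by group,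
          ← hkd _ (inv_mem hd) _ h2, inv_mul_cancel_right]
        exact h2
      refine h.gD_ne_bot T hT (le_bot_iff.1 ?_)
      rw [← h.cm_gD T hT]
      exact cm_le_iff.2 fun d hd => by
        rw [Subgroup.mem_bot, h.gZ_fixed T hT (hall hd), inv_mul_cancel]
    have h1 := hPE (mem_cm hd)
    rw [hbot, Subgroup.mem_bot] at h1
    exact hdZ (h.gMem_gZ T hT hd.1 (by rw [h1]; exact one_mem _))
  · obtain ⟨w, hw, hwy⟩ : ∃ w ∈ P, y * d * y⁻¹ = d * w := by
      refine ⟨d⁻¹ * (y * d * y⁻¹), ⟨mul_mem (inv_mem hd) (hconj d hd), ?_⟩, by group⟩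
      rw [show (d⁻¹ * (y * d * y⁻¹))⁻¹ * (y * (d⁻¹ * (y * d * y⁻¹)) * y⁻¹) =
        (d⁻¹ * (y * d * y⁻¹))⁻¹ * ((y * d * y⁻¹)⁻¹ * ((y * y) * d * (y * y)⁻¹)) by group, hyy,
        show (d⁻¹ * (y * d * y⁻¹))⁻¹ * ((y * d * y⁻¹)⁻¹ * (1 * d * 1⁻¹)) =
          ((d⁻¹ * (y * d * y⁻¹)) * (d⁻¹ * (y * d * y⁻¹)))⁻¹ by group]
      exact inv_mem (h.gD_sq T hT (mul_mem (inv_mem hd) (hconj d hd)))
    have hk : u⁻¹ * d * u * d⁻¹ ∈ gZ α T := by
      have := h.gD_commutator T hT (inv_mem (hEW hu).1) hd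
      simpa [commutatorElement_def] using this
    refine ⟨_, hk, ?_, by group⟩
    obtain ⟨u', hu', k', hk', rfl⟩ := hPdec w hw
    have hwu : u' * k' * u = u * (u' * k') := by
      rw [mul_assoc, hkd _ (hEW hu).1 _ hk', ← mul_assoc, hcomm _ (hEW hu') _ (hEW hu), mul_assoc]
    refine (mul_inv_eq_iff_eq_mul).1 ?_
    calc y * (u⁻¹ * d * u * d⁻¹) * y⁻¹
        = (y * u * y⁻¹)⁻¹ * (y * d * y⁻¹) * (y * u * y⁻¹) * (y * d * y⁻¹)⁻¹ := by group
      _ = u⁻¹ * (d * (u' * k') * u * (u' * k')⁻¹) * d⁻¹ := by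
        rw [hyW u (hEW hu), hwy]; group
      _ = u⁻¹ * d * u * d⁻¹ := by
        rw [show d * (u' * k') * u = d * u * (u' * k') by rw [mul_assoc, hwu, ← mul_assoc]]; group
  · set w := d * y * d⁻¹ * y⁻¹ with hwdef
    have hwD : w ∈ gD α T := by
      rw [hwdef, show d * y * d⁻¹ * y⁻¹ = d * (y * d⁻¹ * y⁻¹) by group]
      exact mul_mem hd (hconj _ (inv_mem hd))
    have hyw : y * w * y⁻¹ = w⁻¹ := by
      rw [hwdef, show y * (d * y * d⁻¹ * y⁻¹) * y⁻¹ = y * d * y * d⁻¹ * (y * y)⁻¹ by group, hyy,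
        show (d * y * d⁻¹ * y⁻¹)⁻¹ = y * d * y⁻¹ * d⁻¹ by group, hyi]
      group
    have hwP : w ∈ P := ⟨hwD, by
      rw [hyw, ← mul_inv_rev]
      exact inv_mem (h.gD_sq T hT hwD)⟩
    obtain ⟨u, hu, k, hk, huk⟩ := hPdec w hwP
    refine ⟨u, hu, k, hk, ?_, by rw [← huk, hwdef]; group⟩
    have hu2 : u⁻¹ = u := inv_eq_of_mul_eq_one_right (hE2 u hu)
    have hk2 : k⁻¹ = k := inv_eq_of_mul_eq_one_right (h.gZ_sq T hT hk)
    rw [huk, show y * (u * k) * y⁻¹ = (y * u) * k * y⁻¹ by group, hyW u (hEW hu), mul_inv_rev, hu2, hk2,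
      hkd _ (hEW hu).1 _ hk, show u * y * k * y⁻¹ = u * (y * k * y⁻¹) by group] at hyw
    exact (mul_inv_eq_iff_eq_mul).1 (mul_left_cancel hyw)

omit h hT in
/-- The group of the two-point argument. -/
noncomputable def fTwo (α : MulAut H) (T : Sylow 2 H) (g : H ⧸ Subgroup.center H) :
    Subgroup (H ⧸ Subgroup.center H) :=
  closure ((cm (qAut α) (gD α T ⊓ gConjD α T g) : Set (H ⧸ Subgroup.center H)) ∪
    {k | k ∈ gZ α T ∧ g⁻¹ * k * g ∈ gM α T} ∪ {y | g⁻¹ * y * g ∈ gZ α T ∧ y ∈ gM α T})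

/-- `gD` normalises it if some `z` at the second point fixes the base. -/
theorem Min.fTwo_conj {g : H ⧸ Subgroup.center H} (hg : qAut α g = g) (hgM : g ∉ gM α T)
    {z : H ⧸ Subgroup.center H} (hz : z ∈ gZ α T) (hz1 : z ≠ 1) (hy : g * z * g⁻¹ ∈ gM α T)
    {d : H ⧸ Subgroup.center H} (hd : d ∈ gD α T) : ∀ w ∈ fTwo α T g, d * w * d⁻¹ ∈ fTwo α T g := by
  intro w hw
  refine (?_ : fTwo α T g ≤ (fTwo α T g).comap (MulAut.conj d).toMonoidHom) hw
  refine (closure_le _).2 ?_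
  have hK : ∀ z' ∈ gZ α T, z' ≠ 1 → ∀ k ∈ gZ α T, g * z' * g⁻¹ * k = k * (g * z' * g⁻¹) →
      k ∈ fTwo α T g := fun z' hz' hz'1 k hk hcm =>
    subset_closure (Or.inl (Or.inr ⟨hk, h.gCent_le T hT hz' hz'1 (by
      calc g⁻¹ * k * g * z' = g⁻¹ * (k * (g * z' * g⁻¹)) * g := by group
        _ = z' * (g⁻¹ * k * g) := by rw [← hcm]; group)⟩))
  rintro x ((hx | ⟨hx, hxM⟩) | ⟨hx, hxM⟩) <;> rw [SetLike.mem_coe, Subgroup.mem_comap] <;>
    simp only [MulEquiv.coe_toMonoidHom, MulAut.conj_apply]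
  · obtain ⟨k, hk, hcm, hux⟩ := ((h.sOne_core T hT hg hgM hz hz1 rfl hy).2 d hd).1 x hx
    rw [hux]
    exact mul_mem (subset_closure (Or.inl (Or.inl hx))) (hK z hz hz1 k hk hcm)
  · rw [← h.gZ_comm T hT hx hd, mul_inv_cancel_right]
    exact subset_closure (Or.inl (Or.inr ⟨hx, hxM⟩))
  · by_cases hx1 : g⁻¹ * x * g = 1
    · rw [show x = g * (g⁻¹ * x * g) * g⁻¹ by group, hx1, mul_one, mul_inv_cancel, mul_one, mul_inv_cancel]
      exact one_mem _
    have he : g * (g⁻¹ * x * g) * g⁻¹ = x := by group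
    obtain ⟨u, hu, k, hk, hcm, hxy⟩ := ((h.sOne_core T hT hg hgM hx hx1 he.symm hxM).2 d hd).2
    rw [hxy]
    exact mul_mem (mul_mem (subset_closure (Or.inl (Or.inl hu))) (hK _ hx hx1 k hk (by rw [he]; exact hcm)))
      (subset_closure (Or.inr ⟨hx, hxM⟩))

omit h hT in
/-- The construction is symmetric in the two points. -/
theorem fTwo_flip {g : H ⧸ Subgroup.center H} (hg : qAut α g = g) :
    fTwo α T g ≤ (fTwo α T g⁻¹).comap (MulAut.conj g⁻¹).toMonoidHom := by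
  refine (closure_le _).2 ?_
  rintro v ((hv | ⟨hv, hvM⟩) | ⟨hv, hvM⟩) <;> rw [SetLike.mem_coe, Subgroup.mem_comap] <;>
    simp only [MulEquiv.coe_toMonoidHom, MulAut.conj_apply, inv_inv]
  · refine subset_closure (Or.inl (Or.inl ?_))
    have hle : cm (qAut α) (gD α T ⊓ gConjD α T g) ≤
        (cm (qAut α) (gD α T ⊓ gConjD α T g⁻¹)).comap (MulAut.conj g⁻¹).toMonoidHom :=
      cm_le_iff.2 fun x hx => by
        rw [Subgroup.mem_comap]
        simp only [MulEquiv.coe_toMonoidHom, MulAut.conj_apply, inv_inv]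
        rw [show g⁻¹ * (x⁻¹ * qAut α x) * g = (g⁻¹ * x * g)⁻¹ * qAut α (g⁻¹ * x * g) by
          rw [map_mul, map_mul, map_inv, hg]; group]
        refine mem_cm ⟨(mem_gConjD T).1 hx.2, (mem_gConjD T).2 ?_⟩
        rw [inv_inv]
        simpa [mul_assoc] using hx.1
    simpa using hle hv
  · exact subset_closure (Or.inr ⟨by rw [inv_inv]; simpa [mul_assoc] using hv, hvM⟩)
  · exact subset_closure (Or.inl (Or.inr ⟨hv, by rw [inv_inv]; simpa [mul_assoc] using hvM⟩))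

/-- Two different invariant points: no element of `Z̄` at one fixes the other. -/
theorem Min.false_of_conj_mem {g : H ⧸ Subgroup.center H} (hg : qAut α g = g) (hgM : g ∉ gM α T)
    {z : H ⧸ Subgroup.center H} (hz : z ∈ gZ α T) (hz1 : z ≠ 1) (hy : g * z * g⁻¹ ∈ gM α T) : False := by
  set y := g * z * g⁻¹ with hydef
  have hyy : y * y = 1 := by
    rw [hydef, show g * z * g⁻¹ * (g * z * g⁻¹) = g * (z * z) * g⁻¹ by group, h.gZ_sq T hT hz]; group
  have hgiM : g⁻¹ ∉ gM α T := fun e1 => hgM (inv_mem_iff.1 e1)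
  have hgif : qAut α g⁻¹ = g⁻¹ := by rw [map_inv, hg]
  -- an element of `gZ` fixing the second point
  obtain ⟨z₂, hz₂, hz₂1, hz₂y⟩ : ∃ k ∈ gZ α T, k ≠ 1 ∧ y * k = k * y := by
    by_cases hc : y * z = z * y
    · exact ⟨z, hz, hz1, hc⟩
    refine ⟨z * (y * z * y⁻¹), mul_mem hz (h.gZ_conj T hT hy hz), fun e1 => hc ?_, ?_⟩
    · have h1 : y * z * y⁻¹ = z := by
        rw [← inv_eq_of_mul_eq_one_right e1, inv_eq_of_mul_eq_one_right (h.gZ_sq T hT hz)]
      exact mul_inv_eq_iff_eq_mul.1 h1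
    · have hyi : y⁻¹ = y := inv_eq_of_mul_eq_one_right hyy
      calc y * (z * (y * z * y⁻¹)) = (y * z * y⁻¹) * (y * y * z * y⁻¹) := by group
        _ = (y * z * y⁻¹) * (z * y⁻¹) := by rw [hyy, one_mul]
        _ = z * (y * z * y⁻¹) * y⁻¹ := by
          rw [← mul_assoc, ← h.gZ_comm T hT hz (h.gD_conj T hT hy (h.gZ_le_gD T hT hz))]
        _ = z * (y * z * y⁻¹) * y := by rw [hyi]
  have hk' : g⁻¹ * z₂ * g⁻¹⁻¹ ∈ gM α T := by
    rw [inv_inv]
    refine h.gCent_le T hT hz hz1 ?_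
    calc g⁻¹ * z₂ * g * z = g⁻¹ * (z₂ * y) * g := by rw [hydef]; group
      _ = z * (g⁻¹ * z₂ * g) := by rw [← hz₂y, hydef]; group
  -- both normalise
  set F := fTwo α T g with hF
  have hD1 : ∀ d ∈ gD α T, ∀ w ∈ F, d * w * d⁻¹ ∈ F := fun d hd => h.fTwo_conj T hT hg hgM hz hz1 hy hd
  have hD2 : ∀ d ∈ gD α T, ∀ w ∈ F, (g * d * g⁻¹) * w * (g * d * g⁻¹)⁻¹ ∈ F := by
    intro d hd w hw
    have hback : g⁻¹ * w * g ∈ fTwo α T g⁻¹ := by simpa using fTwo_flip T hg hw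
    have h1 := fTwo_flip T hgif (h.fTwo_conj T hT hgif hgiM hz₂ hz₂1 hk' hd _ hback)
    simpa [mul_assoc] using h1
  -- `F` is proper, invariant and nontrivial
  have hWα : Stb (qAut α) (gD α T ⊓ gConjD α T g) := by
    refine (h.gD_stb T hT).inf fun x hx => ?_
    rw [mem_gConjD] at hx ⊢
    have := h.gD_stb T hT _ hx
    rwa [map_mul, map_mul, map_inv, hg] at this
  have hFM : F ≤ gM α T := by
    refine (closure_le _).2 ?_
    rintro v ((hv | ⟨hv, -⟩) | ⟨-, hvM⟩)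
    · exact h.gD_le_gM T hT (cm_le hWα hv).1
    · exact h.gD_le_gM T hT (h.gZ_le_gD T hT hv)
    · exact hvM
  have hFα : Stb (qAut α) F := by
    refine stb_closure ?_
    rintro v ((hv | ⟨hv, hvM⟩) | ⟨hv, hvM⟩)
    · exact subset_closure (Or.inl (Or.inl (stb_cm hWα v hv)))
    · rw [h.gZ_fixed T hT hv]; exact subset_closure (Or.inl (Or.inr ⟨hv, hvM⟩))
    · have h1 := h.gZ_fixed T hT hv
      rw [map_mul, map_mul, map_inv, hg] at h1
      rw [mul_left_cancel (mul_right_cancel h1)]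
      exact subset_closure (Or.inr ⟨hv, hvM⟩)
  have hNne : Subgroup.normalizer (F : Set (H ⧸ Subgroup.center H)) ≠ ⊤ := by
    intro e1
    haveI := Subgroup.normalizer_eq_top_iff.1 e1
    rcases h.gNormal T hT hFα with h2 | h2
    · refine (h.sOne_core T hT hg hgM hz hz1 hydef hy).1 (le_bot_iff.1 (h2 ▸ fun v hv => ?_))
      exact subset_closure (Or.inl (Or.inl hv))
    · exact h.gM_ne_top T hT (top_le_iff.1 (h2 ▸ hFM))
  have hDN : gD α T ≤ Subgroup.normalizer (F : Set (H ⧸ Subgroup.center H)) := fun d hd =>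
    Lib.FS.mem_normalizer_of_conj_mem (hD1 d hd)
  have hNM := h.le_gM T hT hFα.normalizer hNne hDN
  exact hgM (h.mem_gM_of_conj T hT fun d hd => hNM (Lib.FS.mem_normalizer_of_conj_mem (hD2 d hd)))

end Cfsg.Agent.Lib.HHS57
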