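import Cfsg.Agent.Lib.HHS57.Main
import Cfsg.Agent.Lib.HHS57.PrimeAction
import Cfsg.Agent.Lib.Shult.Reduce
import Cfsg.Agent.Lib.Tech42.FpfAut.ClassTwo
import Cfsg.Agent.Lib.PGroups.Frattini

/-!
# `[G, R]` for `R` of prime order without fixed points on a faithful module (helper57)

`X = G R`, `R` of prime order `r ∤ |G|`, `V` a faithful elementary abelian `p`-module of `X` on which
`R` fixes only `1`, and `X` has no normal `p`-subgroup.  Then `[G, R] = 1`, or `r = 2 ^ m + 1` and
`[G, R]` is a nonabelian special `2`-group.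
-/

set_option autoImplicit false
set_option linter.style.haveILetI false
set_option linter.unusedSectionVars false

namespace Cfsg.Agent.Lib.HHS57

open Cfsg Cfsg.Agent.Lib
open Subgroup
open scoped commutatorElement

universe u

variable {X : Type u} [Group X] [Finite X]

/-- The automorphism of `G` induced by a generator of `R` has commutator subgroup `[G, R]`. -/
theorem map_cm_eq_commutator {G R : Subgroup X} {g : X} (hg : Stb (MulAut.conj g) G)
    (hRg : R = zpowers g) :
    (cm (resA (MulAut.conj g) G hg) (⊤ : Subgroup G)).map G.subtype = ⁅G, R⁆ := by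
  refine le_antisymm ?_ ?_
  · rw [map_le_iff_le_comap, cm_le_iff]
    intro x _
    have h1 : ⁅(x : X)⁻¹, g⁆ ∈ ⁅G, R⁆ :=
      commutator_mem_commutator (inv_mem x.2) (hRg ▸ mem_zpowers g)
    have e : ((x⁻¹ * resA (MulAut.conj g) G hg x : G) : X) = ⁅(x : X)⁻¹, g⁆ := by
      rw [Subgroup.coe_mul, Subgroup.coe_inv, resA_apply, MulAut.conj_apply, commutatorElement_def]
      group
    rw [← e] at h1
    exact h1
  · rw [commutator_le]
    intro x hx t ht
    obtain ⟨n, rfl⟩ : t ∈ Submonoid.powers g := mem_powers_iff_mem_zpowers.2 (hRg ▸ ht)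
    refine ⟨_, inv_mul_pow_mem_cm stb_top (mem_top (⟨x, hx⟩⁻¹ : G)) n, ?_⟩
    rw [map_mul, map_inv, Subgroup.coe_subtype, resA_conj_pow, commutatorElement_def]
    show x⁻¹⁻¹ * (g ^ n * x⁻¹ * (g ^ n)⁻¹) = x * g ^ n * x⁻¹ * (g ^ n)⁻¹
    group

/-- A nontrivial `2`-group `T = [T, x]` faithful on a module without fixed points of `x` is special
and nonabelian, and `r = 2 ^ m + 1`. -/
theorem special_of_twoGroup {r p : ℕ} (hr : r.Prime) (hp : p.Prime) (hp2 : p ≠ 2) (hr2 : r ≠ 2)
    {V : Type u} [CommGroup V] [Finite V] (hexp : ∀ v : V, v ^ p = 1) (hpr : p ≠ r)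
    (φ : X →* MulAut V) (hinj : Function.Injective φ) {g : X} (hgr : g ^ r = 1) (hg1 : g ≠ 1)
    (hfix : ∀ v, φ g v = v → v = 1) {T : Subgroup X} (hT : IsPGroup 2 T) (hne : T ≠ ⊥)
    (hst : Stb (MulAut.conj g) T) (hgen : cm (MulAut.conj g) T = T) :
    (∃ m : ℕ, r = 2 ^ m + 1) ∧ ¬ IsMulCommutative T ∧ Cfsg.IsSpecial 2 T := by
  haveI := Fact.mk hp
  haveI : Fact (Nat.Prime 2) := ⟨Nat.prime_two⟩
  haveI : Fact r.Prime := ⟨hr⟩
  set α : MulAut T := resA (MulAut.conj g) T hst with hα
  have hαv : ∀ u : T, (α u : X) = g * u * g⁻¹ := fun u => resA_apply hst u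
  have hαr : α ^ r = 1 := resA_pow_r (by rw [← map_pow, hgr, map_one]) hst
  have hgen' : Subgroup.closure {y : T | ∃ u, y = u⁻¹ * α u} = ⊤ := by
    refine eq_top_iff.2 ((cm_resA_top hst hgen).ge.trans (closure_mono ?_))
    rintro y ⟨u, -, rfl⟩
    exact ⟨u, rfl⟩
  -- the linearised module
  obtain ⟨W₀, _, _, _, ψ, hψ, hψfix⟩ := Shult.exists_linear (N := X) (p := p) hexp φ
  have hinj' : ∀ u : T, (ψ.comp T.subtype) u = 1 → u = 1 := fun u hu => Subtype.ext (hinj (by
    rw [Subgroup.coe_one, map_one]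
    exact MulEquiv.ext (hψ _ hu)))
  have hσr : ψ g ^ r = 1 := by rw [← map_pow, hgr, map_one]
  have hcompat : ∀ u : T, ψ g * (ψ.comp T.subtype) u = (ψ.comp T.subtype) (α u) * ψ g := fun u => by
    show ψ g * ψ (u : X) = ψ (α u : X) * ψ g
    rw [← map_mul, ← map_mul, hαv, inv_mul_cancel_right]
  have hunit : IsUnit ((2 : ℕ) : Module.End (AlgebraicClosure (ZMod p)) W₀) := by
    rw [← map_natCast (algebraMap (AlgebraicClosure (ZMod p)) _)]
    refine (isUnit_iff_ne_zero.2 ?_).map _
    rw [Ne, CharP.cast_eq_zero_iff (AlgebraicClosure (ZMod p)) p]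
    exact fun h1 => hp2 ((Nat.prime_dvd_prime_iff_eq hp Nat.prime_two).1 h1)
  have hab := FpfAut.fixes_abelian (ψ.comp T.subtype) hinj' (ψ g) hr Nat.prime_two hr2.symm hT hσr
    (Shult.sum_pow_eq_zero hσr (hψfix _ hfix)) α hcompat hαr hunit
  have hcen := FpfAut.commutator_mem_center hgen' hab hT
  have hsq := FpfAut.sq_mem_center hgen' hab hT
  have hfc := FpfAut.fixes_center hgen' hab
  have hα1 : α ≠ 1 := fun h1 => hne (by
    rw [← hgen, eq_bot_iff, cm_le_iff]
    intro x hx
    rw [mem_bot, inv_mul_eq_one]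
    exact (congrArg (fun f : MulAut T => ((f ⟨x, hx⟩ : T) : X)) h1).symm)
  have hnab : ¬ IsMulCommutative T := fun hc => hα1 (MulEquiv.ext fun u =>
    hab ⊤ (fun a _ b _ => hc.is_comm.comm a b) (fun a _ => mem_top _) u (mem_top u))
  have hspec : Cfsg.IsSpecial 2 T := by
    have h1 : commutator T ≤ Subgroup.center T := by
      rw [_root_.commutator_def, commutator_le]
      exact fun a _ b _ => hcen a b
    have h2 : frattini T ≤ Subgroup.center T := PGroups.frattini_le_of_pow_commutator _ hsq h1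
    have h3 : commutator T ≤ frattini T := PGroups.commutator_le_frattini hT
    have h4 : Subgroup.center T ≤ commutator T := by
      intro z hz
      have hchar : Stb α (commutator T) := stb_char
      set αb : MulAut (T ⧸ commutator T) :=
        QuotientGroup.congr (commutator T) (commutator T) α hchar.map_eq with hαb
      have hcomm : ∀ a b : T ⧸ commutator T, a * b = b * a := fun a b =>
        (Subgroup.Normal.quotient_commutative_iff_commutator_le.2 le_rfl).is_comm.comm a b
      have hfixq : ∀ q : T ⧸ commutator T, αb q = q → q = 1 := by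
        intro q hq
        obtain ⟨d, hd⟩ : ∃ d, q = d⁻¹ * αb d := by
          let f : T ⧸ commutator T →* T ⧸ commutator T := MonoidHom.mk' (fun y => y⁻¹ * αb y) fun a b => by
            rw [map_mul, mul_inv_rev, hcomm b⁻¹ a⁻¹]
            calc a⁻¹ * b⁻¹ * (αb a * αb b) = a⁻¹ * (b⁻¹ * αb a) * αb b := by group
              _ = a⁻¹ * αb a * (b⁻¹ * αb b) := by rw [hcomm b⁻¹ (αb a)]; group
          have htop : f.range = ⊤ := by
            refine eq_top_iff.2 fun y _ => ?_
            obtain ⟨u, rfl⟩ := QuotientGroup.mk'_surjective (commutator T) y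
            have hle : (⊤ : Subgroup T) ≤ f.range.comap (QuotientGroup.mk' (commutator T)) := by
              rw [← hgen', closure_le]
              rintro _ ⟨w, rfl⟩
              exact ⟨QuotientGroup.mk' (commutator T) w, by rw [map_mul, map_inv]; rfl⟩
            exact hle (mem_top u)
          obtain ⟨d, hd⟩ : q ∈ f.range := htop ▸ mem_top q
          exact ⟨d, hd.symm⟩
        have hbr : αb ^ r = 1 := MulEquiv.ext fun x => QuotientGroup.induction_on x fun a => by
          rw [congr_pow, hαr]; rfl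
        rw [hd, Shult.fixed_of_inv_mul_mem hr hr2.symm Nat.prime_two (hT.to_quotient _) hbr
          (hd ▸ hq), inv_mul_cancel]
      refine (QuotientGroup.eq_one_iff z).1 (hfixq _ ?_)
      show QuotientGroup.congr (commutator T) (commutator T) α hchar.map_eq (z : T ⧸ commutator T) = _
      exact congrArg (QuotientGroup.mk' (commutator T)) (hfc z hz)
    exact ⟨hT, le_antisymm h2 (h4.trans h3), le_antisymm h1 h4⟩
  refine ⟨?_, hnab, hspec⟩
  -- `r = 2 ^ m + 1` in the semidirect product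
  let Γ := V ⋊[φ] X
  haveI : Finite Γ := Finite.of_equiv _ SemidirectProduct.equivProd.symm
  let ιX : X →* Γ := SemidirectProduct.inr
  let ιV : V →* Γ := SemidirectProduct.inl
  have hconj : ∀ (x : X) (v : V), ιX x * ιV v * (ιX x)⁻¹ = ιV (φ x v) := fun x v => by
    rw [← map_inv ιX]; exact (SemidirectProduct.inl_aut x v).symm
  have hXn : ∀ S : Subgroup X, S.map ιX ≤ Subgroup.normalizer (ιV.range : Set Γ) := by
    rintro S _ ⟨x, -, rfl⟩
    refine mem_normalizer_iff.2 fun y => ⟨?_, ?_⟩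
    · rintro ⟨v, rfl⟩; exact ⟨φ x v, (hconj x v).symm⟩
    · rintro ⟨v, hv⟩
      refine ⟨φ x⁻¹ v, ?_⟩
      rw [← hconj, map_inv, hv]; simp [mul_assoc]
  have hcard : Nat.card ((zpowers g).map ιX : Subgroup Γ) = r := by
    rw [Subgroup.card_map_of_injective SemidirectProduct.inr_injective, Nat.card_zpowers,
      orderOf_eq_prime hgr hg1]
  refine (Shult.fixedPoint_cases hp Nat.prime_two hr hp2 hpr hr2.symm ((zpowers g).map ιX) (T.map ιX)
    ιV.range hcard (hT.map ιX) ?_ ?_ ?_ (hXn _) (hXn _) ?_ ?_).2.1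
  · rintro _ ⟨x, hx, rfl⟩
    refine mem_normalizer_iff.2 fun y => ⟨?_, ?_⟩
    · rintro ⟨t, ht, rfl⟩
      exact ⟨x * t * x⁻¹, (mem_normalizer_iff.1 ((zpowers_le.2
        (mem_normalizer_of_conj_le' fun z hz => hst z hz)) hx) t).1 ht,
        by rw [map_mul, map_mul, map_inv]⟩
    · rintro ⟨t, ht, hte⟩
      refine ⟨x⁻¹ * t * x, ?_, by rw [map_mul, map_mul, map_inv, hte]; group⟩
      have := (mem_normalizer_iff.1 ((zpowers_le.2
        (mem_normalizer_of_conj_le' fun z hz => hst z hz)) (inv_mem hx)) t).1 ht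
      rwa [inv_inv] at this
  · rw [eq_bot_iff]
    rintro _ ⟨⟨x, hx, rfl⟩, hxc⟩
    rw [mem_bot]
    by_contra hx1
    have hgx : g ∈ zpowers x := by
      have hco : orderOf x = r := orderOf_eq_prime (by
        obtain ⟨n, rfl⟩ := mem_zpowers_iff.1 hx
        rw [← zpow_natCast, ← zpow_mul, mul_comm, zpow_mul, zpow_natCast, hgr, one_zpow])
        (fun h1 => hx1 (by rw [h1, map_one]))
      have he : zpowers x = zpowers g := eq_of_le_of_card_ge (zpowers_le.2 hx)
        (by rw [Nat.card_zpowers, Nat.card_zpowers, hco, orderOf_eq_prime hgr hg1])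
      rw [he]
      exact mem_zpowers g
    refine hα1 (MulEquiv.ext fun u => Subtype.ext ?_)
    have hxu : x ∈ Subgroup.centralizer {(u : X)} := mem_centralizer_singleton_iff.2
      (SemidirectProduct.inr_injective (by
        rw [map_mul, map_mul]
        exact (mem_centralizer_iff.1 hxc _ ⟨u, u.2, rfl⟩).symm))
    have hgu := mem_centralizer_singleton_iff.1 (zpowers_le.2 hxu hgx)
    rw [hαv, hgu, mul_inv_cancel_right]
    rfl
  · refine ⟨⟨⟨?_⟩⟩, ?_⟩
    · rintro ⟨_, a, rfl⟩ ⟨_, b, rfl⟩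
      exact Subtype.ext (by show ιV a * ιV b = ιV b * ιV a; rw [← map_mul, ← map_mul, mul_comm])
    · rintro _ ⟨a, rfl⟩
      rw [← map_pow, hexp, map_one]
  · rw [← Subgroup.map_sup, eq_bot_iff]
    rintro _ ⟨⟨y, -, rfl⟩, hyc⟩
    rw [mem_bot, ← map_one ιX]
    refine congrArg ιX (hinj (MulEquiv.ext fun v => SemidirectProduct.inl_injective (φ := φ) ?_))
    rw [map_one, MulAut.one_apply]
    show ιV (φ y v) = ιV v
    rw [← hconj, ← mem_centralizer_iff.1 hyc _ ⟨v, rfl⟩, mul_inv_cancel_right]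
  · rw [eq_bot_iff]
    rintro _ ⟨⟨v, rfl⟩, hvc⟩
    rw [mem_bot, ← map_one ιV]
    refine congrArg ιV (hfix v (SemidirectProduct.inl_injective (φ := φ) ?_))
    show ιV (φ g v) = ιV v
    rw [← hconj, mem_centralizer_iff.1 hvc _ ⟨g, mem_zpowers g, rfl⟩, mul_inv_cancel_right]

/-- The finite form. -/
theorem shult_type (G R : Subgroup X) [G.Normal] (hX : G ⊔ R = ⊤) {r : ℕ} (hr : r.Prime)
    (hR : Nat.card R = r) (hcop : ¬ r ∣ Nat.card G) {p : ℕ} (hp : p.Prime) {V : Type u} [CommGroup V]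
    [Finite V] (hexp : ∀ v : V, v ^ p = 1) (φ : X →* MulAut V) (hinj : Function.Injective φ)
    (hfix : ∀ v, (∀ x ∈ R, φ x v = v) → v = 1)
    (hcore : ∀ N : Subgroup X, N.Normal → IsPGroup p N → N = ⊥) :
    ⁅G, R⁆ = ⊥ ∨ ((∃ m : ℕ, r = 2 ^ m + 1) ∧ ¬ IsMulCommutative ↥⁅G, R⁆ ∧
      Cfsg.IsSpecial 2 ↥⁅G, R⁆) := by
  haveI := Fact.mk hp
  obtain ⟨g, hg, hgR, hRg, hαr, -⟩ := exists_generator (G := G) hr hR
    (by rw [normalizer_eq_top_iff.2 ‹G.Normal›]; exact le_top)
  set α := resA (MulAut.conj g) G hg with hα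
  have hog : orderOf g = r := by rw [← Nat.card_zpowers, ← hRg, hR]
  have hgr : g ^ r = 1 := hog ▸ pow_orderOf_eq_one g
  have hg1 : g ≠ 1 := fun h1 => hr.one_lt.ne (by rw [← hog, h1, orderOf_one])
  have hfg : ∀ v, φ g v = v → v = 1 := fun v hv => hfix v fun x hx => by
    obtain ⟨n, rfl⟩ : x ∈ Submonoid.powers g := mem_powers_iff_mem_zpowers.2 (hRg ▸ hx)
    rw [map_pow]
    induction n with
    | zero => simp
    | succ n ih => rw [pow_succ, MulAut.mul_apply, hv]; exact ih (pow_mem hgR n)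
  have her : φ g ^ r = 1 := by rw [← map_pow, hgr, map_one]
  have hpr : p ≠ r := by
    obtain ⟨v, hv⟩ : ∃ v : V, v ≠ 1 := by
      by_contra hh
      push Not at hh
      exact hg1 (hinj (MulEquiv.ext fun v => by rw [hh v, map_one, map_one]))
    rintro rfl
    exact not_dvd_card_of_fpf hr her hfg ((orderOf_eq_prime (hexp v) hv) ▸ orderOf_dvd_natCard v)
  have hmap := map_cm_eq_commutator hg hRg
  set T := ⁅G, R⁆ with hTdef
  have hTn : T.Normal := by
    refine normalizer_eq_top_iff.1 (top_le_iff.1 (hX ▸ sup_le ?_ ?_))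
    · exact normalizer_commutator_ge_left G R
    · exact normalizer_commutator_ge_right G R
  have hT2 : IsPGroup 2 T := by
    rw [← hmap]
    refine IsPGroup.map ?_ _
    by_cases hp2 : p = 2
    · subst hp2
      intro x
      obtain ⟨k, hk⟩ := isPGroup_two_of_char_two hr hαr hcop (φ.comp G.subtype) hexp her hfg
        (fun y => by
          show φ (resA (MulAut.conj g) G hg y : X) = φ g * φ (y : X) * (φ g)⁻¹
          rw [resA_apply, MulAut.conj_apply, map_mul, map_mul, map_inv]) x x.2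
      refine ⟨k, Subtype.ext (Subtype.ext (hinj ?_))⟩
      show φ (((x : G) ^ 2 ^ k : G) : X) = φ 1
      rw [Subgroup.coe_pow, map_pow, map_one]
      exact hk
    · refine below_all _ G V p r α (φ.comp G.subtype) (φ g) (Nat.lt_succ_self _)
        { hp := hp, hp2 := hp2, hr := hr, hα := hαr, hco := hcop, hexp := hexp, he := her
          hfpf := hfg
          inj := fun a b hab => Subtype.ext (hinj hab)
          compat := fun y => by
            show φ (resA (MulAut.conj g) G hg y : X) = φ g * φ (y : X) * (φ g)⁻¹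
            rw [resA_apply, MulAut.conj_apply, map_mul, map_mul, map_inv]
          core := ?_ }
      have h1 := hcore ((pCore p G).map G.subtype) inferInstance
        ((Cores.pCore_isPGroup p).map _)
      exact (map_eq_bot_iff_of_injective _ G.subtype_injective).1 h1
  by_cases hne : T = ⊥
  · exact Or.inl hne
  refine Or.inr ?_
  have hp2 : p ≠ 2 := by
    rintro rfl
    exact hne (hcore T hTn hT2)
  have hTG : T ≤ G := hmap ▸ map_subtype_le _
  have hr2 : r ≠ 2 := by
    rintro rfl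
    haveI : Fact (Nat.Prime 2) := ⟨Nat.prime_two⟩
    refine hcop (dvd_trans ?_ (card_dvd_of_le hTG))
    haveI : Nontrivial T := T.nontrivial_iff_ne_bot.2 hne
    obtain ⟨n, hn, hn'⟩ := hT2.nontrivial_iff_card.1 inferInstance
    exact hn' ▸ dvd_pow_self 2 hn.ne'
  have hst : Stb (MulAut.conj g) T := fun x hx => hTn.conj_mem x hx g
  refine special_of_twoGroup hr hp hp2 hr2 hexp hpr φ hinj hgr hg1 hfg hT2 hne hst
    (le_antisymm (cm_le hst) ?_)
  refine hmap.ge.trans (map_le_iff_le_comap.2 ?_)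
  rw [← cm_cm hr hαr hcop stb_top, cm_le_iff]
  intro y hy
  have := mem_cm (β := MulAut.conj g) (show (y : X) ∈ T from hmap ▸ ⟨y, hy, rfl⟩)
  exact this

end Cfsg.Agent.Lib.HHS57
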