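import Cfsg.Agent.Lib.Shult.Twisted

/-!
# The spectrum of `σ` in Shult's core lemma (helper57; the first part is the proof of `Shult.index_eq_one_or`)
-/

set_option autoImplicit false
set_option linter.unusedSectionVars false

namespace Cfsg.Agent.Lib.HHS57

open Module Cfsg.Agent.Lib.Shult

variable {k : Type*} [Field k] [IsAlgClosed k] {Q : Type*} [Group Q] [Finite Q]
  {W : Type*} [AddCommGroup W] [Module k W] [FiniteDimensional k W] {Z : Subgroup Q}
  {ρ : Q →* Module.End k W}

/-- The spectrum in the core lemma: every nontrivial root of unity is an eigenvalue of `σ`. -/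
theorem eigen_of_index_ne_one [Nontrivial W] (h : IsTwisted Z ρ) {r : ℕ} (hr : r.Prime)
    (σ : Module.End k W) (hσr : σ ^ r = 1) (hσ : ∀ v, σ v = v → v = 0)
    (α : MulAut Q) (hcompat : ∀ x, σ * ρ x = ρ (α x) * σ) (hαr : α ^ r = 1)
    (hαZ : ∀ z ∈ Z, α z = z) (hfpf : ∀ x, x⁻¹ * α x ∈ Z → x ∈ Z)
    (hrk : (r : k) ≠ 0) (hnk : (Z.index : k) ≠ 0) (hne : Z.index ≠ 1) {μ : k} (hμr : μ ^ r = 1)
    (hμ : μ ≠ 1) : Z.index = (r - 1) ^ 2 ∧ ∃ v, v ≠ 0 ∧ σ v = μ • v := by
  classical
  have := Fintype.ofFinite (Q ⧸ Z)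
  obtain ⟨U, hU0, hUinv, hUmin⟩ := exists_minimal_invariant ρ
  have : Nontrivial U := (Submodule.nontrivial_iff_ne_bot).2 hU0
  let ρ₀ := subRep ρ U hUinv
  have hirr : ∀ U' : Submodule k U, (∀ x, ∀ u ∈ U', ρ₀ x u ∈ U') → U' = ⊥ ∨ U' = ⊤ := by
    intro U' hU'
    rcases hUmin (U'.map U.subtype) (Submodule.map_subtype_le _ _) (by
        rintro x _ ⟨u, hu, rfl⟩
        exact ⟨ρ₀ x u, hU' x u hu, rfl⟩) with h1 | h1
    · exact Or.inl (Submodule.map_injective_of_injective U.injective_subtype
        (by rw [h1, Submodule.map_bot]))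
    · exact Or.inr (Submodule.map_injective_of_injective U.injective_subtype
        (by rw [h1, Submodule.map_subtype_top]))
  have h₀ : IsTwisted Z ρ₀ := by
    refine ⟨fun z hz => ?_, fun x y => ?_, fun x hx => ?_⟩
    · obtain ⟨a, ha⟩ := h.scal z hz
      exact ⟨a, LinearMap.ext fun u => Subtype.ext (LinearMap.congr_fun ha (u : W))⟩
    · obtain ⟨a, ha⟩ := h.comm x y
      exact ⟨a, LinearMap.ext fun u => Subtype.ext (LinearMap.congr_fun ha (u : W))⟩
    · obtain ⟨y, hy⟩ := h.nondeg x hx
      obtain ⟨a, ha⟩ := h.comm x y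
      obtain ⟨u, hu⟩ := exists_ne (0 : U)
      refine ⟨y, fun e => hy ?_⟩
      have e2 : ∀ w : W, (ρ x * ρ y) w = 0 → w = 0 := fun w hw => by
        have := congrArg (ρ y⁻¹ * ρ x⁻¹) hw
        rwa [map_zero, ← Module.End.mul_apply, ← map_mul, ← map_mul, ← map_mul,
          show y⁻¹ * x⁻¹ * (x * y) = 1 by group, map_one] at this
      have e3 : (a - 1) • (ρ x * ρ y) (u : W) = 0 := by
        rw [sub_smul, one_smul, ← LinearMap.smul_apply, ← ha, sub_eq_zero]
        exact congrArg Subtype.val (LinearMap.congr_fun e u)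
      rcases smul_eq_zero.1 e3 with h1 | h1
      · rw [ha, sub_eq_zero.1 h1, one_smul]
      · exact absurd (Subtype.ext (e2 _ h1)) hu
  let b₀ : Basis (Q ⧸ Z) k (Module.End k U) :=
    Basis.mk h₀.linearIndependent (h₀.span_eq_top hirr hnk)
  have hb₀ : ∀ q, b₀ q = B ρ₀ q := fun q => by simp [b₀]
  have hdd : finrank k U * finrank k U = Z.index := by
    rw [← Module.finrank_linearMap k k U U, Module.finrank_eq_card_basis b₀,
      ← Nat.card_eq_fintype_card, Subgroup.index_eq_card]
  set d := finrank k U with hd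
  -- the extension of `ρ₀` to all endomorphisms, inside `W`
  let Φ : Module.End k U →ₗ[k] Module.End k W := b₀.constr k (B ρ)
  have hΦρ : ∀ x, Φ (ρ₀ x) = ρ x := by
    intro x
    obtain ⟨a, -, ha⟩ := h.exists_smul x
    have ha₀ : ρ₀ x = a • B ρ₀ (QuotientGroup.mk (s := Z) x) :=
      LinearMap.ext fun u => Subtype.ext (LinearMap.congr_fun ha (u : W))
    rw [ha₀, map_smul, ← hb₀, Basis.constr_basis, ha]
  have hΦmul : ∀ f g, Φ (f * g) = Φ f * Φ g := by
    intro f g
    have hbase : ∀ q q', Φ (b₀ q * b₀ q') = Φ (b₀ q) * Φ (b₀ q') := fun q q' => by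
      rw [hb₀, hb₀]
      simp only [B]
      rw [← map_mul, hΦρ, hΦρ, hΦρ, map_mul]
    conv_lhs => rw [← b₀.sum_repr f, ← b₀.sum_repr g]
    conv_rhs => rw [← b₀.sum_repr f, ← b₀.sum_repr g]
    simp only [map_sum, map_smul, Finset.sum_mul, Finset.mul_sum, smul_mul_assoc, mul_smul_comm,
      hbase]
  have hΦ1 : Φ 1 = 1 := by rw [← map_one ρ₀, hΦρ, map_one]
  have hΦpow : ∀ f (n : ℕ), Φ (f ^ n) = Φ f ^ n := fun f n => by
    induction n with
    | zero => rw [pow_zero, pow_zero, hΦ1]
    | succ n ih => rw [pow_succ, pow_succ, hΦmul, ih]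
  -- the intertwiner
  obtain ⟨f, hf⟩ : ∃ f : Module.End k U,
      ∑ q : Q ⧸ Z, ρ₀ (α q.out) * f * ρ₀ q.out⁻¹ ≠ 0 := by
    by_contra hall
    push Not at hall
    obtain ⟨u, hu⟩ := exists_ne (0 : U)
    obtain ⟨φ, hφ⟩ := Module.Projective.exists_dual_ne_zero k hu
    -- independence of the twisted family
    have hind : LinearIndependent k (fun q : Q ⧸ Z => ρ₀ (α q.out)) := by
      have := h₀.linearIndependent
      let π : Q ⧸ Z → Q ⧸ Z := fun q => QuotientGroup.mk (α q.out)
      choose a ha0 ha using fun q : Q ⧸ Z => h₀.exists_smul (α q.out)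
      have hπ : Function.Injective π := by
        intro q q' hqq
        have h1 : (α q.out)⁻¹ * α q'.out ∈ Z := QuotientGroup.eq.1 hqq
        rw [← map_inv, ← map_mul] at h1
        have h2 : q.out⁻¹ * q'.out = α (q.out⁻¹ * q'.out) :=
          α.injective (hαZ _ h1).symm
        rw [← QuotientGroup.out_eq' q, ← QuotientGroup.out_eq' q', QuotientGroup.eq, h2]
        exact h1
      convert (this.comp π hπ).units_smul (fun q => Units.mk0 (a q) (ha0 q)) using 1
      funext q
      exact ha q
    have h1 : ∀ v : U, (∑ q : Q ⧸ Z, φ (ρ₀ q.out⁻¹ v) • ρ₀ (α q.out)) = 0 := by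
      intro v
      refine LinearMap.ext fun w => ?_
      have := LinearMap.congr_fun (hall (φ.smulRight w)) v
      simpa [LinearMap.sum_apply] using this
    let q₁ : Q ⧸ Z := QuotientGroup.mk (1 : Q)
    have h2 := Fintype.linearIndependent_iff.1 hind _ (h1 (ρ₀ q₁.out u)) q₁
    rw [← Module.End.mul_apply, rho_inv_mul, Module.End.one_apply] at h2
    exact hφ h2
  set S := ∑ q : Q ⧸ Z, ρ₀ (α q.out) * f * ρ₀ q.out⁻¹ with hS
  have hSint : ∀ x, ρ₀ (α x) * S = S * ρ₀ x := fun x =>
    h₀.sum_conj_comm f α.toMonoidHom hαZ x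
  have hSinj : Function.Injective S := by
    rw [← LinearMap.ker_eq_bot]
    refine (hirr _ fun x u hu => ?_).resolve_right fun ht => hf (LinearMap.ker_eq_top.1 ht)
    rw [LinearMap.mem_ker] at hu ⊢
    rw [← Module.End.mul_apply, ← hSint, Module.End.mul_apply, hu, map_zero]
  have hSpow : ∀ (j : ℕ) (x : Q), ρ₀ ((α ^ j) x) * S ^ j = S ^ j * ρ₀ x := by
    intro j
    induction j with
    | zero => intro x; simp
    | succ j ih =>
        intro x
        rw [pow_succ', pow_succ' S, MulAut.mul_apply, ← mul_assoc, hSint, mul_assoc, ih,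
          mul_assoc]
  obtain ⟨a, ha⟩ := exists_eq_smul_one hirr (S ^ r) (fun x => by
    have := hSpow r x
    rwa [hαr, MulAut.one_apply] at this)
  have ha0 : a ≠ 0 := by
    rintro rfl
    obtain ⟨u, hu⟩ := exists_ne (0 : U)
    refine hu ((Module.End.iterate_injective hSinj r) ?_)
    simp [ha]
  obtain ⟨a', ha'⟩ := IsAlgClosed.exists_pow_nat_eq a hr.pos
  have ha'0 : a' ≠ 0 := by rintro rfl; exact ha0 (by rw [← ha', zero_pow hr.ne_zero])
  let s : Module.End k U := a'⁻¹ • S
  have hsr : s ^ r = 1 := by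
    rw [smul_pow, ha, smul_smul, inv_pow, ha', inv_mul_cancel₀ ha0, one_smul]
  have hsint : ∀ x, ρ₀ (α x) * s = s * ρ₀ x := fun x => by
    simp only [s, mul_smul_comm, smul_mul_assoc, hSint]
  -- `σ = Φ s * τ`
  let S' : Module.End k W := Φ s
  have hS'r : S' ^ r = 1 := by rw [← hΦpow, hsr, hΦ1]
  have hS'int : ∀ x, ρ (α x) * S' = S' * ρ x := fun x => by
    rw [← hΦρ, ← hΦρ, ← hΦmul, hsint, hΦmul]
  obtain ⟨r', hr'⟩ : ∃ r', r = r' + 1 := ⟨r - 1, by have := hr.pos; omega⟩
  let τ : Module.End k W := S' ^ r' * σ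
  have hτρ : ∀ x, τ * ρ x = ρ x * τ := by
    intro x
    have hpow : ∀ (j : ℕ) y, ρ ((α ^ j) y) * S' ^ j = S' ^ j * ρ y := by
      intro j
      induction j with
      | zero => intro y; simp
      | succ j ih =>
          intro y
          rw [pow_succ', pow_succ' S', MulAut.mul_apply, ← mul_assoc, hS'int, mul_assoc, ih,
            mul_assoc]
    have h1 : (α ^ r') (α x) = x := by
      rw [← MulAut.mul_apply, ← pow_succ, ← hr', hαr, MulAut.one_apply]
    calc τ * ρ x = S' ^ r' * (σ * ρ x) := mul_assoc _ _ _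
      _ = S' ^ r' * ρ (α x) * σ := by rw [hcompat, mul_assoc]
      _ = ρ ((α ^ r') (α x)) * (S' ^ r' * σ) := by rw [← hpow, mul_assoc]
      _ = ρ x * τ := by rw [h1]
  have hτΦ : ∀ g, τ * Φ g = Φ g * τ := by
    intro g
    rw [← b₀.sum_repr g]
    simp only [map_sum, map_smul, Finset.mul_sum, Finset.sum_mul, mul_smul_comm, smul_mul_assoc,
      hb₀]
    refine Finset.sum_congr rfl fun q _ => ?_
    simp only [B]
    rw [hΦρ, hτρ]
  have hστ : σ = S' * τ := by
    rw [← mul_assoc, ← pow_succ', ← hr', hS'r, one_mul]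
  have hτr : τ ^ r = 1 := by
    have h1 : Commute S' τ := (hτΦ s).symm
    have h2 := hσr
    rw [hστ, h1.mul_pow, hS'r, one_mul] at h2
    exact h2
  obtain ⟨c, hc⟩ := τ.exists_eigenvalue
  obtain ⟨v₁, hv₁⟩ := hc.exists_hasEigenvector
  have hcr : c ^ r = 1 := by
    have h1 : (τ ^ r) v₁ = c ^ r • v₁ := Module.End.HasEigenvector.pow_apply hv₁ r
    rw [hτr, Module.End.one_apply] at h1
    by_contra hne
    have h2 : (c ^ r - 1) • v₁ = 0 := by rw [sub_smul, ← h1, one_smul, sub_self]
    exact hv₁.2 ((smul_eq_zero.1 h2).resolve_left (sub_ne_zero.2 hne))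
  have hc0 : c ≠ 0 := by rintro rfl; rw [zero_pow hr.ne_zero] at hcr; exact zero_ne_one hcr
  let t : Module.End k U := c • s
  have htr : t ^ r = 1 := by rw [smul_pow, hsr, hcr, one_smul]
  -- `t` has no fixed vector
  have ht1 : ∀ u, t u = u → u = 0 := by
    intro u hu
    let P : Module.End k U := ∑ j ∈ Finset.range r, t ^ j
    have hPu : P u = (r : k) • u := by
      have : ∀ j : ℕ, (t ^ j) u = u := fun j => by
        induction j with
        | zero => simp
        | succ j ih => rw [pow_succ, Module.End.mul_apply, hu, ih]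
      simp [P, this, Nat.cast_smul_eq_nsmul]
    have hEinv : ∀ x, ∀ w ∈ τ.eigenspace c, ρ x w ∈ τ.eigenspace c := fun x w hw => by
      rw [Module.End.mem_eigenspace_iff] at hw ⊢
      rw [← Module.End.mul_apply, hτρ, Module.End.mul_apply, hw, map_smul]
    have hΦP : ∀ w ∈ τ.eigenspace c, Φ P w = 0 := by
      intro w hw
      have hσw : ∀ (j : ℕ) (w : W), w ∈ τ.eigenspace c → (σ ^ j) w = Φ (t ^ j) w := by
        intro j
        induction j with
        | zero => intro w _; simp [hΦ1]
        | succ j ih =>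
            intro w hw
            rw [pow_succ, pow_succ, Module.End.mul_apply, hΦmul, Module.End.mul_apply]
            have e : σ w = Φ t w := by
              rw [hστ, Module.End.mul_apply, Module.End.mem_eigenspace_iff.1 hw, map_smul,
                map_smul]
              rfl
            rw [e]
            refine ih _ ?_
            rw [Module.End.mem_eigenspace_iff] at hw ⊢
            rw [← Module.End.mul_apply, hτΦ, Module.End.mul_apply, hw, map_smul]
      refine hσ _ ?_
      have eP : Φ P w = ∑ j ∈ Finset.range r, (σ ^ j) w := by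
        simp only [P, map_sum, LinearMap.sum_apply]
        exact Finset.sum_congr rfl fun j _ => (hσw j w hw).symm
      rw [eP, map_sum]
      have h2 := Finset.sum_range_succ' (fun j => (σ ^ j) w) r
      rw [Finset.sum_range_succ, hσr, pow_zero] at h2
      simp only [pow_succ', Module.End.mul_apply] at h2
      exact (add_right_cancel h2).symm
    -- restrict to the eigenspace
    have : Nontrivial (τ.eigenspace c) := Submodule.nontrivial_iff_ne_bot.2
      (Module.End.hasEigenvalue_iff.1 hc)
    let ρE := subRep ρ (τ.eigenspace c) hEinv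
    have hE : IsTwisted Z ρE := by
      refine ⟨fun z hz => ?_, fun x y => ?_, fun x hx => ?_⟩
      · obtain ⟨a, ha⟩ := h.scal z hz
        exact ⟨a, LinearMap.ext fun u => Subtype.ext (LinearMap.congr_fun ha (u : W))⟩
      · obtain ⟨a, ha⟩ := h.comm x y
        exact ⟨a, LinearMap.ext fun u => Subtype.ext (LinearMap.congr_fun ha (u : W))⟩
      · obtain ⟨y, hy⟩ := h₀.nondeg x hx
        obtain ⟨a, ha⟩ := h.comm x y
        refine ⟨y, fun e => hy ?_⟩
        have ha1 : (a - 1) • (ρE x * ρE y) = 0 := by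
          refine (sub_smul a 1 (ρE x * ρE y)).trans ?_
          refine sub_eq_zero.2 ((?_ : _ = ρE x * ρE y).trans (one_smul k _).symm)
          conv_rhs => rw [← e]
          exact LinearMap.ext fun u => Subtype.ext (LinearMap.congr_fun ha (u : W)).symm
        rcases smul_eq_zero.1 ha1 with h1 | h1
        · refine LinearMap.ext fun u => Subtype.ext ?_
          have := LinearMap.congr_fun ha (u : W)
          rw [sub_eq_zero.1 h1, one_smul] at this
          exact this
        · rw [← map_mul] at h1; exact absurd h1 (rho_ne_zero _)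
    have hP0 : P = 0 := by
      rw [← b₀.sum_repr P]
      refine Finset.sum_eq_zero fun q _ => ?_
      have h1 : ∑ q, b₀.repr P q • B ρE q = 0 := by
        refine LinearMap.ext fun w => Subtype.ext ?_
        have h2 := hΦP w w.2
        rw [← b₀.sum_repr P] at h2
        simp only [map_sum, map_smul, LinearMap.sum_apply, LinearMap.smul_apply,
          Basis.constr_basis, Φ] at h2
        simpa [LinearMap.sum_apply, B, ρE, subRep] using h2
      rw [Fintype.linearIndependent_iff.1 hE.linearIndependent _ h1 q, zero_smul]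
    rw [hP0, LinearMap.zero_apply] at hPu
    exact (smul_eq_zero.1 hPu.symm).resolve_left hrk
  -- the orbit count
  have htint : ∀ x, t * ρ₀ x = ρ₀ (α x) * t := fun x => by
    simp only [t, smul_mul_assoc, mul_smul_comm, hsint]
  obtain ⟨t', ht'⟩ : ∃ t', t' * t = 1 ∧ t * t' = 1 :=
    ⟨t ^ r', by rw [← pow_succ, ← hr', htr], by rw [← pow_succ', ← hr', htr]⟩
  let T : Module.End k U →ₗ[k] Module.End k U :=
    (LinearMap.mulLeft k t).comp (LinearMap.mulRight k t')
  have hT : ∀ g, T g = t * g * t' := fun g => (mul_assoc _ _ _).symm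
  have hTρ : ∀ x, T (ρ₀ x) = ρ₀ (α x) := fun x => by
    rw [hT, htint, mul_assoc, ht'.2, mul_one]
  have hTr : T ^ r = 1 := by
    have hTj : ∀ (j : ℕ) g, (T ^ j) g = t ^ j * g * t' ^ j := by
      intro j
      induction j with
      | zero => intro g; simp
      | succ j ih =>
          intro g
          rw [pow_succ', Module.End.mul_apply, hT, ih, pow_succ', pow_succ]
          noncomm_ring
    refine LinearMap.ext fun g => ?_
    have hc' : t' ^ r = 1 := by
      have h2 : t' ^ r * t ^ r = 1 := by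
        rw [← (show Commute t' t from ht'.1.trans ht'.2.symm).mul_pow, ht'.1, one_pow]
      rwa [htr, mul_one] at h2
    rw [hTj, htr, hc', one_mul, mul_one, Module.End.one_apply]
  choose cq hcq0 hcq using fun q : Q ⧸ Z => h₀.exists_smul (α q.out)
  have horb := finrank_fixed_monomial hr b₀ T hTr (fun q => QuotientGroup.mk (α q.out)) cq hcq0
    (fun q => by rw [hb₀, hb₀, ← hcq]; exact hTρ _) (QuotientGroup.mk 1) ?_ ?_
  rotate_left
  · rw [hb₀]
    have hz : (QuotientGroup.mk (s := Z) (1 : Q)).out ∈ Z := by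
      have := QuotientGroup.eq.1 (QuotientGroup.out_eq' (QuotientGroup.mk (s := Z) (1 : Q)))
      simpa using Z.inv_mem this
    exact (hTρ _).trans (by rw [hαZ _ hz]; rfl)
  · intro q hq
    have h1 : q.out⁻¹ * α q.out ∈ Z := by
      have := QuotientGroup.eq.1 (hq.trans (QuotientGroup.out_eq' q).symm)
      simpa [mul_inv_rev] using Z.inv_mem this
    rw [← QuotientGroup.out_eq' q, QuotientGroup.eq, mul_one]
    exact Z.inv_mem (hfpf _ h1)
  have heq : LinearMap.eqLocus T LinearMap.id = commutant t := by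
    ext g
    rw [LinearMap.mem_eqLocus, LinearMap.id_apply, hT, mem_commutant]
    constructor
    · intro hg
      conv_lhs => rw [← hg, mul_assoc, ht'.1, mul_one]
    · intro hg
      rw [← hg, mul_assoc, ht'.2, mul_one]
  rw [heq, ← Subgroup.index_eq_card, ← hdd] at horb
  -- an eigenbasis of `t`
  have hss : t.IsSemisimple := by
    refine Module.End.isSemisimple_of_squarefree_aeval_eq_zero
      (p := (Polynomial.X ^ r - 1 : Polynomial k)) ?_ ?_
    · exact (Polynomial.X_pow_sub_one_separable_iff.mpr hrk).squarefree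
    · simp [htr]
  have hint := DirectSum.isInternal_submodule_of_iSupIndep_of_iSup_eq_top
    (Module.End.eigenspaces_iSupIndep t) hss.iSup_eigenspace_eq_top
  let bs := hint.collectedBasis fun μ => Module.Free.chooseBasis k (t.eigenspace μ)
  have := FiniteDimensional.fintypeBasisIndex bs
  have hbs : ∀ i, t (bs i) = i.1 • bs i := fun i =>
    Module.End.mem_eigenspace_iff.1 (hint.collectedBasis_mem _ i)
  rw [finrank_commutant bs hbs] at horb
  let ev : ((μ : k) × Module.Free.ChooseBasisIndex k (t.eigenspace μ)) → k := fun i => i.1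
  obtain ⟨hle, hko⟩ := card_sq_le ev
  rw [← Module.finrank_eq_card_basis bs, ← hd] at hle
  have hkd : (Finset.univ.image ev).card ≤ d := by
    rw [hd, Module.finrank_eq_card_basis bs]
    exact card_image_le_card _
  set K := (Finset.univ.image ev) with hK
  have hK1 : 1 ≤ K.card := by
    refine Finset.card_pos.2 (Finset.Nonempty.image ?_ _)
    rw [Finset.univ_nonempty_iff]
    exact bs.index_nonempty
  have hKr : K.card < r := by
    have hsub : K ⊆ (Polynomial.nthRootsFinset r (1 : k)).erase 1 := by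
      intro μ hμ
      obtain ⟨i, -, rfl⟩ := Finset.mem_image.1 hμ
      rw [Finset.mem_erase, Polynomial.mem_nthRootsFinset hr.pos]
      refine ⟨fun h1 => bs.ne_zero i (ht1 _ (by rw [hbs]; change ev i • bs i = bs i; rw [h1, one_smul])), ?_⟩
      have h1 := Module.End.HasEigenvector.pow_apply (μ := i.1)
        ⟨hint.collectedBasis_mem _ i, bs.ne_zero i⟩ r
      rw [htr, Module.End.one_apply] at h1
      by_contra hne
      have h2 : (i.1 ^ r - 1) • bs i = 0 := by rw [sub_smul, ← h1, one_smul, sub_self]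
      exact bs.ne_zero i ((smul_eq_zero.1 h2).resolve_left (sub_ne_zero.2 hne))
    refine lt_of_le_of_lt (Finset.card_le_card hsub) ?_
    have h1 : (1 : k) ∈ Polynomial.nthRootsFinset r (1 : k) := by
      rw [Polynomial.mem_nthRootsFinset hr.pos, one_pow]
    refine lt_of_lt_of_le (Finset.card_erase_lt_of_mem h1) ?_
    rw [Polynomial.nthRootsFinset_def]
    exact (Multiset.toFinset_card_le _).trans (Polynomial.card_nthRoots r 1)
  have h1 := (count_arith hKr hK1 hko hkd hle horb).resolve_left fun h1 => hne (hdd ▸ h1)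
  refine ⟨by rw [← hdd, h1, sq], ?_⟩
  have hd1 : d = r - 1 := Nat.mul_self_inj.1 h1
  have hKset : (Polynomial.nthRootsFinset r (1 : k)).erase 1 = K := by
    refine (Finset.eq_of_subset_of_card_le ?_ ?_).symm
    · intro ν hν
      obtain ⟨i, -, rfl⟩ := Finset.mem_image.1 hν
      rw [Finset.mem_erase, Polynomial.mem_nthRootsFinset hr.pos]
      refine ⟨fun h2 => bs.ne_zero i (ht1 _ (by rw [hbs]; change ev i • bs i = bs i; rw [h2, one_smul])), ?_⟩
      have h2 := Module.End.HasEigenvector.pow_apply (μ := i.1)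
        ⟨hint.collectedBasis_mem _ i, bs.ne_zero i⟩ r
      rw [htr, Module.End.one_apply] at h2
      by_contra hne'
      have h3 : (i.1 ^ r - 1) • bs i = 0 := by rw [sub_smul, ← h2, one_smul, sub_self]
      exact bs.ne_zero i ((smul_eq_zero.1 h3).resolve_left (sub_ne_zero.2 hne'))
    · have h2 : ((Polynomial.nthRootsFinset r (1 : k)).erase 1).card ≤ r - 1 := by
        have h4 : (1 : k) ∈ Polynomial.nthRootsFinset r (1 : k) := by
          rw [Polynomial.mem_nthRootsFinset hr.pos, one_pow]
        rw [Finset.card_erase_of_mem h4]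
        refine Nat.sub_le_sub_right ?_ 1
        rw [Polynomial.nthRootsFinset_def]
        exact (Multiset.toFinset_card_le _).trans (Polynomial.card_nthRoots r 1)
      refine h2.trans ?_
      have hcount : ∀ o : ℕ, d * d ≤ K.card * o → r * o + 1 = r + d * d → r - 1 ≤ K.card := by
        intro o hle horb
        rw [hd1] at hle horb
        have hr2 := hr.two_le
        obtain ⟨a, hra⟩ : ∃ a, r = a + 1 := ⟨r - 1, by omega⟩
        rw [show r - 1 = a by omega] at hle horb ⊢
        have e1 : r * o = r * a := by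
          rw [hra] at horb ⊢
          nlinarith
        have e2 : o = a := Nat.eq_of_mul_eq_mul_left hr.pos e1
        rw [e2] at hle
        exact Nat.le_of_mul_le_mul_right hle (by omega)
      exact hcount _ hle horb
  have hμK : μ ∈ K := by
    rw [← hKset, Finset.mem_erase, Polynomial.mem_nthRootsFinset hr.pos]
    exact ⟨hμ, hμr⟩
  obtain ⟨i, -, hi⟩ := Finset.mem_image.1 hμK
  obtain ⟨φ, hφ⟩ := Module.Projective.exists_dual_ne_zero k (bs.ne_zero i)
  let g : Module.End k U := φ.smulRight (bs i)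
  have htg : t * g = μ • g := LinearMap.ext fun u => by
    show t (φ u • bs i) = μ • (φ u • bs i)
    rw [map_smul, hbs, ← hi, smul_comm]
  have hg0 : g ≠ 0 := fun e1 => bs.ne_zero i (by
    have e2 : φ (bs i) • bs i = 0 := LinearMap.congr_fun e1 (bs i)
    exact (smul_eq_zero.1 e2).resolve_left hφ)
  have hEinv : ∀ x, ∀ w ∈ τ.eigenspace c, ρ x w ∈ τ.eigenspace c := fun x w hw => by
    rw [Module.End.mem_eigenspace_iff] at hw ⊢
    rw [← Module.End.mul_apply, hτρ, Module.End.mul_apply, hw, map_smul]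
  obtain ⟨w, hw, hgw⟩ : ∃ w ∈ τ.eigenspace c, Φ g w ≠ 0 := by
    by_contra hall
    push Not at hall
    have : Nontrivial (τ.eigenspace c) := Submodule.nontrivial_iff_ne_bot.2
      (Module.End.hasEigenvalue_iff.1 hc)
    let ρE := subRep ρ (τ.eigenspace c) hEinv
    have hE : IsTwisted Z ρE := by
      refine ⟨fun z hz => ?_, fun x y => ?_, fun x hx => ?_⟩
      · obtain ⟨a, ha⟩ := h.scal z hz
        exact ⟨a, LinearMap.ext fun u => Subtype.ext (LinearMap.congr_fun ha (u : W))⟩
      · obtain ⟨a, ha⟩ := h.comm x y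
        exact ⟨a, LinearMap.ext fun u => Subtype.ext (LinearMap.congr_fun ha (u : W))⟩
      · obtain ⟨y, hy⟩ := h₀.nondeg x hx
        obtain ⟨a, ha⟩ := h.comm x y
        refine ⟨y, fun e => hy ?_⟩
        have ha1 : (a - 1) • (ρE x * ρE y) = 0 := by
          refine (sub_smul a 1 (ρE x * ρE y)).trans ?_
          refine sub_eq_zero.2 ((?_ : _ = ρE x * ρE y).trans (one_smul k _).symm)
          conv_rhs => rw [← e]
          exact LinearMap.ext fun u => Subtype.ext (LinearMap.congr_fun ha (u : W)).symm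
        rcases smul_eq_zero.1 ha1 with h1 | h1
        · refine LinearMap.ext fun u => Subtype.ext ?_
          have := LinearMap.congr_fun ha (u : W)
          rw [sub_eq_zero.1 h1, one_smul] at this
          exact this
        · rw [← map_mul] at h1; exact absurd h1 (rho_ne_zero _)
    refine hg0 ?_
    rw [← b₀.sum_repr g]
    refine Finset.sum_eq_zero fun q _ => ?_
    have e1 : ∑ q, b₀.repr g q • B ρE q = 0 := by
      refine LinearMap.ext fun v => Subtype.ext ?_
      have e2 := hall v v.2
      rw [← b₀.sum_repr g] at e2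
      simp only [map_sum, map_smul, LinearMap.sum_apply, LinearMap.smul_apply,
        Basis.constr_basis, Φ] at e2
      simpa [LinearMap.sum_apply, B, ρE, subRep] using e2
    rw [Fintype.linearIndependent_iff.1 hE.linearIndependent _ e1 q, zero_smul]
  refine ⟨Φ g w, hgw, ?_⟩
  have hwg : τ (Φ g w) = c • Φ g w := by
    rw [← Module.End.mul_apply, hτΦ, Module.End.mul_apply, Module.End.mem_eigenspace_iff.1 hw, map_smul]
  calc σ (Φ g w) = Φ t (Φ g w) := by
        rw [hστ, Module.End.mul_apply, hwg, map_smul, map_smul]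
        rfl
    _ = Φ (t * g) w := by rw [hΦmul]; rfl
    _ = μ • Φ g w := by rw [htg, map_smul]; rfl

end Cfsg.Agent.Lib.HHS57
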