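import Cfsg.Agent.Lib.HHS57.Basics
import Cfsg.Agent.Lib.Tech42.FpfAut.Eigen
import Cfsg.Agent.Lib.Tech42.FpfAut.Stab
import Mathlib.GroupTheory.Perm.Basic
import Mathlib.Algebra.GroupWithZero.Action.End
import Mathlib.Tactic.NoncommRing

/-!
# A quadratic `p`-element normalising a `2`-group of class two (helper57)

`u` acts quadratically on the `p`-group `N` of exponent `p` and normalises the image of the `2`-group
`D`, whose central subgroup `Z` contains commutators and squares.  If an automorphism `β` of prime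
order `r ≠ p` of `D`, commuting with the action of `u`, fixes `Z` and has no other fixed point on
`D / Z`, then `u` centralises the image of `D`.
-/

set_option autoImplicit false
set_option linter.style.haveILetI false

namespace Cfsg.Agent.Lib.HHS57

open Cfsg.Agent.Lib
open Cfsg.Agent.Lib.FpfAut (stabS resS mem_stabS resS_apply exists_fixed_mul Sgn eigen_span)
open Subgroup
open scoped commutatorElement

universe u v

theorem commute_conj_of_nil {R : Type*} [Ring R] (h2 : ∀ x : R, x + x = 0 → x = 0) {N Y : R}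
    (hN : N * N = 0) (h1 : Y * ((1 + N) * Y * (1 - N)) = (1 + N) * Y * (1 - N) * Y)
    (hm : Y * ((1 - N) * Y * (1 + N)) = (1 - N) * Y * (1 + N) * Y) (i : ℕ) :
    Y * ((1 + N) ^ i * Y * (1 - N) ^ i) = (1 + N) ^ i * Y * (1 - N) ^ i * Y := by
  have ha : Y * (N * Y * N) - N * Y * N * Y = 0 := h2 _ (by
    have e1 := sub_eq_zero.2 h1
    have e2 := sub_eq_zero.2 hm
    calc _ = -((Y * ((1 + N) * Y * (1 - N)) - (1 + N) * Y * (1 - N) * Y) +
          (Y * ((1 - N) * Y * (1 + N)) - (1 - N) * Y * (1 + N) * Y)) := by noncomm_ring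
      _ = 0 := by rw [e1, e2, add_zero, neg_zero])
  have hb : Y * (N * Y - Y * N) - (N * Y - Y * N) * Y = 0 := by
    have e1 := sub_eq_zero.2 h1
    calc _ = (Y * ((1 + N) * Y * (1 - N)) - (1 + N) * Y * (1 - N) * Y) +
          (Y * (N * Y * N) - N * Y * N * Y) := by noncomm_ring
      _ = 0 := by rw [e1, ha, add_zero]
  have hp : ∀ j : ℕ, (1 + N) ^ j = 1 + j • N ∧ (1 - N) ^ j = 1 - j • N := by
    intro j
    induction j with
    | zero => simp
    | succ j ih =>
      rw [pow_succ', pow_succ', ih.1, ih.2, add_mul, sub_mul, one_mul, one_mul, mul_add, mul_sub, mul_one,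
        mul_smul_comm, hN, smul_zero, succ_nsmul]
      constructor <;> abel
  rw [(hp i).1, (hp i).2, ← sub_eq_zero]
  calc _ = i • (Y * (N * Y - Y * N) - (N * Y - Y * N) * Y) -
        (i * i) • (Y * (N * Y * N) - N * Y * N * Y) := by
        simp only [add_mul, mul_add, sub_mul, mul_sub, one_mul, mul_one, smul_mul_assoc, mul_smul_comm,
          smul_sub, smul_add, mul_smul, mul_assoc]
        abel
    _ = 0 := by rw [ha, hb, smul_zero, smul_zero, sub_zero]

variable {M : Type v} [CommGroup M]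

/-- The operators as additive endomorphisms. -/
def toEnd : MulAut M →* AddMonoid.End (Additive M) where
  toFun f := f.toMonoidHom.toAdditive
  map_one' := rfl
  map_mul' _ _ := rfl

theorem toEnd_apply (f : MulAut M) (v : M) : toEnd f (Additive.ofMul v) = Additive.ofMul (f v) := rfl

theorem toEnd_injective : Function.Injective (toEnd (M := M)) := fun f g h =>
  MulEquiv.ext fun v => congrArg Additive.toMul (DFunLike.congr_fun h (Additive.ofMul v))

variable [Finite M] {p : ℕ}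

theorem eq_one_of_sq_eq_one (hp : Odd p) (hexp : ∀ t : M, t ^ p = 1) {t : M} (ht : t * t = 1) :
    t = 1 := by
  obtain ⟨k, rfl⟩ := hp
  have := hexp t
  rwa [pow_succ, pow_mul, pow_two, ht, one_pow, one_mul] at this

/-- A quadratic element normalising commuting involutions centralises them. -/
theorem sign_commute (hp : Odd p) (hexp : ∀ t : M, t ^ p = 1) (u : MulAut M)
    (hq : ∀ v, u (u v / v) = u v / v) (S : Set (MulAut M)) (hS : S.Finite)
    (hinv : ∀ f ∈ S, f * f = 1) (hcomm : ∀ f ∈ S, ∀ g ∈ S, f * g = g * f)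
    (hSu : ∀ f ∈ S, u⁻¹ * f * u ∈ S) : ∀ f ∈ S, u * f = f * u := by
  intro f hf
  refine MulEquiv.ext fun t => ?_
  have ht := eigen_span hp hexp hS.toFinset.toList
    (fun z hz => hinv z (by simpa using hz))
    (fun z hz w hw => hcomm z (by simpa using hz) w (by simpa using hw)) t
  induction ht using closure_induction with
  | one => simp
  | mul a b _ _ ha hb => simp only [MulAut.mul_apply, map_mul] at ha hb ⊢; rw [ha, hb]
  | inv a _ ha => simp only [MulAut.mul_apply, map_inv] at ha ⊢; rw [ha]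
  | mem w hw =>
    simp only [Set.mem_setOf_eq, Finset.mem_toList, Set.Finite.mem_toFinset] at hw
    have h1 : ∀ g ∈ S, Sgn g (u w) := fun g hg => by
      have e : g (u w) = u ((u⁻¹ * g * u) w) := by simp [MulAut.mul_apply]
      rcases hw _ (hSu g hg) with h | h
      · exact Or.inl (by rw [e, h])
      · exact Or.inr (by rw [e, h, map_inv])
    have h2 : ∀ g ∈ S, Sgn g (u (u w)) := fun g hg => by
      have e : g (u (u w)) = u ((u⁻¹ * g * u) (u w)) := by simp [MulAut.mul_apply]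
      rcases h1 _ (hSu g hg) with h | h
      · exact Or.inl (by rw [e, h])
      · exact Or.inr (by rw [e, h, map_inv])
    set a := u w with ha
    have hq' : u a = a * a / w := by
      have h := hq w
      rw [map_div, ← ha, div_eq_iff_eq_mul] at h
      rw [h, div_mul_eq_mul_div]
    have hd : f (u a) * f w = f a * f a := by rw [hq', map_div, div_mul_cancel, map_mul]
    show u (f w) = f a
    have hdeg : w = 1 → u (f w) = f a := fun hw1 => by
      have ha1 : a = 1 := by rw [ha, hw1, map_one]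
      rw [hw1, ha1]; simp
    have ha1 : a = 1 → w = 1 := fun h => u.injective (by rw [← ha, h, map_one])
    have hone := fun (x : M) => eq_one_of_sq_eq_one hp hexp (t := x)
    rcases hw f hf with h0 | h0 <;> rcases h1 f hf with h1' | h1'
    · rw [h0, h1']
    · refine hdeg ?_
      rcases h2 f hf with h3 | h3 <;> rw [h3, h0, h1', hq'] at hd
      · rw [div_mul_cancel] at hd
        exact ha1 (hone a (hone _ (by nth_rw 1 [hd]; group)))
      · rw [inv_div] at hd
        refine hone w ?_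
        calc w * w = w / (a * a) * w * (a * a) := by rw [div_mul_eq_mul_div, div_mul_cancel]
          _ = 1 := by rw [hd]; group
    · refine hdeg ?_
      rcases h2 f hf with h3 | h3 <;> rw [h3, h0, h1', hq'] at hd
      · refine hone w ?_
        have e : a * a / w * w⁻¹ = (a * a) / (w * w) := by rw [div_mul_eq_div_div, ← div_eq_mul_inv]
        rw [e, div_eq_self] at hd
        exact hd
      · rw [inv_div, div_mul_eq_mul_div, mul_inv_cancel, one_div] at hd
        exact ha1 (hone a (hone _ (by nth_rw 1 [← hd]; group)))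
    · rw [h0, h1', map_inv, ← ha]

/-- If `Y` commutes with its conjugate by `u`, and `Y ^ 2` commutes with `u`, so does `Y`. -/
theorem commute_of_commute_conj (hp : Odd p) (hexp : ∀ t : M, t ^ p = 1) (u : MulAut M)
    (hq : ∀ v, u (u v / v) = u v / v) {n : ℕ} (hn : Odd n) (hun : u ^ n = 1) (Y : MulAut M)
    (hY : Y * (u * Y * u⁻¹) = u * Y * u⁻¹ * Y) (hY2 : u * (Y * Y) = Y * Y * u) :
    u * Y = Y * u := by
  set ι := toEnd (M := M)
  set N : AddMonoid.End (Additive M) := ι u - 1 with hN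
  have hNN : N * N = 0 := by
    refine AddMonoidHom.ext fun x => congrArg Additive.ofMul (?_ :
      u (u x.toMul / x.toMul) / (u x.toMul / x.toMul) = 1)
    rw [hq, div_self']
  have hu1 : ι u = 1 + N := by rw [hN]; abel
  have hu2 : ι u⁻¹ = 1 - N := by
    have e1 : (1 - N) * ι u = 1 := by
      rw [hu1, sub_mul, one_mul, mul_add, mul_one, hNN, add_zero, add_sub_cancel_right]
    calc ι u⁻¹ = (1 - N) * ι u * ι u⁻¹ := by rw [e1, one_mul]
      _ = 1 - N := by rw [mul_assoc, ← map_mul, mul_inv_cancel, map_one, mul_one]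
  have h2 : ∀ x : AddMonoid.End (Additive M), x + x = 0 → x = 0 := fun x hx =>
    AddMonoidHom.ext fun v => congrArg Additive.ofMul (eq_one_of_sq_eq_one hp hexp
      (congrArg Additive.toMul (DFunLike.congr_fun hx v)) :)
  have hm : Y * (u⁻¹ * Y * u) = u⁻¹ * Y * u * Y := by
    have := congrArg (fun g => u⁻¹ * g * u) hY
    calc Y * (u⁻¹ * Y * u) = u⁻¹ * (u * Y * u⁻¹ * Y) * u := by group
      _ = u⁻¹ * (Y * (u * Y * u⁻¹)) * u := this.symm
      _ = u⁻¹ * Y * u * Y := by group
  let E : ℕ → MulAut M := fun i => u ^ i * Y * (u⁻¹) ^ i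
  have hE : ∀ i, Y * E i = E i * Y := fun i => toEnd_injective (by
    have := commute_conj_of_nil h2 hNN (Y := ι Y)
      (by rw [← hu1, ← hu2, ← map_mul, ← map_mul, ← map_mul, ← map_mul, hY])
      (by rw [← hu1, ← hu2, ← map_mul, ← map_mul, ← map_mul, ← map_mul, hm]) i
    rw [← hu1, ← hu2] at this
    simpa only [E, map_mul, map_pow] using this)
  set d := Y⁻¹ * (u * Y * u⁻¹) with hd
  let S : Set (MulAut M) := Set.range fun i : ℕ => u ^ i * d * (u⁻¹) ^ i
  have hall : ∀ i j, E i * E j = E j * E i := by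
    have hle : ∀ i k, E i * E (i + k) = E (i + k) * E i := by
      intro i k
      calc E i * E (i + k) = u ^ i * (Y * E k) * (u⁻¹) ^ i := by
            simp only [E, inv_pow, pow_add]; group
        _ = u ^ i * (E k * Y) * (u⁻¹) ^ i := by rw [hE]
        _ = E (i + k) * E i := by simp only [E, inv_pow, pow_add]; group
    intro i j
    rcases le_total i j with h | h
    · obtain ⟨k, rfl⟩ := Nat.exists_eq_add_of_le h; exact hle i k
    · obtain ⟨k, rfl⟩ := Nat.exists_eq_add_of_le h; exact (hle j k).symm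
  have hS' : ∀ i : ℕ, u ^ i * d * (u⁻¹) ^ i = (E i)⁻¹ * E (i + 1) := fun i => by
    simp only [hd, E, inv_pow, pow_succ]; group
  have hd2 : d * d = 1 := by
    have e1 : u * Y * u⁻¹ * (u * Y * u⁻¹) = Y * Y := by
      rw [show u * Y * u⁻¹ * (u * Y * u⁻¹) = u * (Y * Y) * u⁻¹ by group, hY2, mul_inv_cancel_right]
    have hc : Commute Y⁻¹ (u * Y * u⁻¹) := Commute.inv_left hY
    rw [hd, show Y⁻¹ * (u * Y * u⁻¹) * (Y⁻¹ * (u * Y * u⁻¹)) =
      Y⁻¹ * ((u * Y * u⁻¹) * Y⁻¹) * (u * Y * u⁻¹) by group, ← hc.eq, ← mul_assoc Y⁻¹, mul_assoc _ _ (u * Y * u⁻¹), e1]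
    group
  have hcomm := sign_commute hp hexp u hq S (Set.toFinite _ )
    (by
      rintro _ ⟨i, rfl⟩
      show u ^ i * d * (u⁻¹) ^ i * (u ^ i * d * (u⁻¹) ^ i) = 1
      rw [show u ^ i * d * (u⁻¹) ^ i * (u ^ i * d * (u⁻¹) ^ i) = u ^ i * (d * d) * (u⁻¹) ^ i by
        rw [inv_pow]; group, hd2, mul_one, inv_pow, mul_inv_cancel])
    (by
      rintro _ ⟨i, rfl⟩ _ ⟨j, rfl⟩
      simp only [hS']
      have hc : ∀ i j, Commute (E i) (E j) := hall
      exact (((hc i j).inv_left.inv_right).mul_right (hc i (j + 1)).inv_left).mul_left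
        ((hc (i + 1) j).inv_right.mul_right (hc (i + 1) (j + 1))))
    (by
      rintro _ ⟨i, rfl⟩
      refine ⟨i + (n - 1), ?_⟩
      have hn1 : u ^ (n - 1) = u⁻¹ := by
        rw [eq_inv_iff_mul_eq_one, ← pow_succ, Nat.sub_add_cancel hn.pos, hun]
      show u ^ (i + (n - 1)) * d * (u⁻¹) ^ (i + (n - 1)) = u⁻¹ * (u ^ i * d * (u⁻¹) ^ i) * u
      rw [pow_add, inv_pow, pow_add, hn1, inv_pow]
      group) d ⟨0, by simp⟩
  have hYd : Commute Y d := (Commute.refl Y).inv_right.mul_right hY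
  have hstep : ∀ i : ℕ, u ^ i * Y = Y * d ^ i * u ^ i := by
    intro i
    induction i with
    | zero => simp
    | succ i ih =>
      have h1 : u * Y = Y * d * u := by rw [hd]; group
      rw [pow_succ' u, mul_assoc, ih, ← mul_assoc, ← mul_assoc, h1, mul_assoc (Y * d) u,
        (Commute.pow_right hcomm i : Commute u (d ^ i)).eq, pow_succ' d]
      simp only [mul_assoc]
  have hdn : d ^ n = 1 := by
    have := hstep n
    rwa [hun, one_mul, mul_one, eq_comm, mul_eq_left] at this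
  have hd1 : d = 1 := by
    obtain ⟨k, rfl⟩ := hn
    rwa [pow_succ, pow_mul, pow_two, hd2, one_pow, one_mul] at hdn
  rw [hd] at hd1
  calc u * Y = Y * (Y⁻¹ * (u * Y * u⁻¹)) * u := by group
    _ = Y * u := by rw [hd1, mul_one]

variable {D : Type u} [Group D] [Finite D] {Z : Subgroup D} {r : ℕ}

/-- The inner step: `u` already centralises the image of `Z`. -/
theorem commute_of_quadratic_aux (hD : IsPGroup 2 D) (hZc : Z ≤ center D)
    (hcomm : ∀ a b : D, ⁅a, b⁆ ∈ Z) (hsq : ∀ a : D, a * a ∈ Z) (hZ2 : ∀ z ∈ Z, z * z = 1)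
    (β : MulAut D) (hβ : β ^ r = 1) (hβZ : ∀ z ∈ Z, β z = z) (hfpf : ∀ x, x⁻¹ * β x ∈ Z → x ∈ Z)
    (c : MulAut D) (hcβ : ∀ x, c (β x) = β (c x)) (hp : p.Prime) (hp2 : p ≠ 2) (hr : r.Prime)
    (hr2 : r ≠ 2) (hrp : r ≠ p) :
    ∀ (m : ℕ) (N : Type v) [CommGroup N] [Finite N], Nat.card N = m → (∀ t : N, t ^ p = 1) →
      ∀ (δ : D →* MulAut N) (u : MulAut N), (∀ d, u * δ d * u⁻¹ = δ (c d)) →
        (∃ k, u ^ p ^ k = 1) → (∀ v, u (u v / v) = u v / v) → (∀ z ∈ Z, u * δ z = δ z * u) →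
        ∀ d, u * δ d = δ d * u := by
  classical
  intro m
  induction m using Nat.strong_induction_on with
  | _ m ih =>
  intro N _ _ hm hexp δ u hu hup hq hzu
  have hodd := hp.odd_of_ne_two hp2
  by_cases hsplit : ∃ z ∈ Z, (∃ v, δ z v ≠ v) ∧ ∃ v, δ z v ≠ v⁻¹
  · obtain ⟨z, hz, ⟨v₁, hv₁⟩, v₂, hv₂⟩ := hsplit
    have hzz : ∀ v, δ z (δ z v) = v := fun v => by
      rw [← MulAut.mul_apply, ← map_mul, hZ2 z hz, map_one, MulAut.one_apply]
    have hdz : ∀ d v, δ z (δ d v) = δ d (δ z v) := fun d v => by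
      rw [← MulAut.mul_apply, ← map_mul, ← mem_center_iff.1 (hZc hz) d, map_mul, MulAut.mul_apply]
    have huz : ∀ v, δ z (u v) = u (δ z v) := fun v => (DFunLike.congr_fun (hzu z hz) v).symm
    have key : ∀ A : Subgroup N, A ≠ ⊤ → (∀ d, ∀ v ∈ A, δ d v ∈ A) → (∀ v ∈ A, u v ∈ A) →
        ∀ d, ∀ v ∈ A, u (δ d v) = δ d (u v) := by
      intro A hA hAd hAu d v hv
      let δ' : D →* MulAut A := (resS A).comp (δ.codRestrict _ fun x => mem_stabS (hAd x))
      let u' : MulAut A := resS A ⟨u, mem_stabS hAu⟩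
      have hlt : Nat.card A < m := hm ▸ lt_of_le_of_ne A.card_le_card_group
        fun hc => hA (A.eq_top_of_card_eq hc)
      have h1 := ih _ hlt A rfl (fun t => Subtype.ext (hexp t)) δ' u'
        (fun x => by
          show resS A _ * resS A _ * (resS A _)⁻¹ = resS A _
          rw [← map_inv, ← map_mul, ← map_mul]
          exact congrArg _ (Subtype.ext (hu x)))
        (by
          obtain ⟨k, hk⟩ := hup
          exact ⟨k, by rw [← map_pow, show (⟨u, mem_stabS hAu⟩ : stabS A) ^ p ^ k = 1 from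
            Subtype.ext hk, map_one]⟩)
        (fun w => Subtype.ext (hq w))
        (fun z hz => MulEquiv.ext fun w => Subtype.ext (DFunLike.congr_fun (hzu z hz) (w : N))) d
      exact congrArg Subtype.val (DFunLike.congr_fun h1 ⟨v, hv⟩)
    let A₁ : Subgroup N := (δ z).toMonoidHom.eqLocus (MonoidHom.id N)
    let A₂ : Subgroup N := (δ z).toMonoidHom.eqLocus (invMonoidHom : N →* N)
    have k₁ := key A₁ (fun e => hv₁ (show v₁ ∈ A₁ by rw [e]; exact mem_top _))
      (fun d v hv => show δ z (δ d v) = δ d v by rw [hdz]; exact congrArg _ hv)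
      (fun v hv => show δ z (u v) = u v by rw [huz]; exact congrArg _ hv)
    have k₂ := key A₂ (fun e => hv₂ (show v₂ ∈ A₂ by rw [e]; exact mem_top _))
      (fun d v hv => show δ z (δ d v) = (δ d v)⁻¹ by
        rw [hdz, show δ z v = v⁻¹ from hv, map_inv])
      (fun v hv => show δ z (u v) = (u v)⁻¹ by rw [huz, show δ z v = v⁻¹ from hv, map_inv])
    intro d
    refine MulEquiv.ext fun v => ?_
    obtain ⟨k, hk⟩ := hodd
    have h1 : v * δ z v ∈ A₁ := show δ z (v * δ z v) = v * δ z v by rw [map_mul, hzz, mul_comm]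
    have h2 : v / δ z v ∈ A₂ := show δ z (v / δ z v) = (v / δ z v)⁻¹ by rw [map_div, hzz, inv_div]
    have hv : v = (v * δ z v) ^ (k + 1) * (v / δ z v) ^ (k + 1) := by
      rw [← mul_pow, mul_mul_div_cancel, ← pow_two, ← pow_mul,
        show 2 * (k + 1) = (2 * k + 1) + 1 by omega, ← hk, pow_succ, hexp, one_mul]
    rw [hv]
    generalize hx : v * δ z v = x at h1
    generalize hy : v / δ z v = y at h2
    simp only [MulAut.mul_apply, map_mul, map_pow]
    rw [k₁ d _ h1, k₂ d _ h2]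
  -- now `Z` acts by signs
  push Not at hsplit
  have hscal : ∀ z ∈ Z, ∀ g : MulAut N, δ z * g = g * δ z := fun z hz g => MulEquiv.ext fun v => by
    by_cases h1 : ∀ v, δ z v = v
    · simp [MulAut.mul_apply, h1]
    · push Not at h1
      simp [MulAut.mul_apply, hsplit z hz h1]
  obtain ⟨k, hk⟩ := hup
  have hn : Odd (p ^ k) := hodd.pow
  have key : ∀ x, δ x * δ (c x) = δ (c x) * δ x → u * δ x = δ x * u := fun x hx =>
    commute_of_commute_conj hodd hexp u hq hn hk (δ x) (by rw [hu]; exact hx)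
      (by rw [← map_mul]; exact (hscal _ (hsq x) u).symm)
  let C : Subgroup D := ((Subgroup.centralizer {u}).comap δ)
  have hCmem : ∀ x, x ∈ C ↔ u * δ x = δ x * u := fun x => by
    rw [Subgroup.mem_comap, mem_centralizer_singleton_iff]; exact eq_comm
  have hCc : ∀ x ∈ C, δ (c x) = δ x := fun x hx => by
    rw [← hu, (hCmem x).1 hx, mul_inv_cancel_right]
  have hZC : Z ≤ C := fun z hz => (hCmem z).2 (hzu z hz)
  haveI hCn : C.Normal := ⟨fun x hx g => by
    rw [show g * x * g⁻¹ = ⁅g, x⁆ * x by rw [commutatorElement_def]; group]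
    exact C.mul_mem (hZC (hcomm g x)) hx⟩
  suffices hC : C = ⊤ from fun d => (hCmem d).1 (hC ▸ mem_top d)
  -- signs
  let ι : MulAut N := MulEquiv.inv N
  have hιι : ι * ι = 1 := MulEquiv.ext fun v => inv_inv v
  have hsign : ∀ z ∈ Z, δ z = 1 ∨ δ z = ι := fun z hz => by
    by_cases h1 : ∀ v, δ z v = v
    · exact Or.inl (MulEquiv.ext h1)
    · push Not at h1
      exact Or.inr (MulEquiv.ext (hsplit z hz h1))
  have hbl : ∀ a b d : D, ⁅a * b, d⁆ = ⁅a, d⁆ * ⁅b, d⁆ ∧ ⁅d, a * b⁆ = ⁅d, a⁆ * ⁅d, b⁆ := fun a b d => by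
    have hcz := fun x (hx : x ∈ Z) (g : D) => mem_center_iff.1 (hZc hx) g
    constructor
    · calc ⁅a * b, d⁆ = a * ⁅b, d⁆ * a⁻¹ * ⁅a, d⁆ := by simp only [commutatorElement_def]; group
        _ = ⁅b, d⁆ * ⁅a, d⁆ := by rw [hcz _ (hcomm b d) a, mul_inv_cancel_right]
        _ = _ := hcz _ (hcomm a d) _
    · calc ⁅d, a * b⁆ = ⁅d, a⁆ * (a * ⁅d, b⁆ * a⁻¹) := by simp only [commutatorElement_def]; group
        _ = _ := by rw [hcz _ (hcomm d b) a, mul_inv_cancel_right]
  -- outside `C` the sign of `⁅x, c x⁆` is `-1`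
  have hout : ∀ x, x ∉ C → δ ⁅x, c x⁆ = ι ∧ δ ⁅x, c x⁆ ≠ 1 := by
    intro x hx
    have hne : δ ⁅x, c x⁆ ≠ 1 := fun h1 => hx ((hCmem x).2 (key x (by
      rw [map_commutatorElement] at h1
      exact commutatorElement_eq_one_iff_mul_comm.1 h1)))
    exact ⟨(hsign _ (hcomm _ _)).resolve_left hne, hne⟩
  have hsz : ∀ a b : D, δ (⁅a, b⁆ * ⁅b, a⁆) = 1 := fun a b => by
    rw [← commutatorElement_inv a b, mul_inv_cancel, map_one]
  have hfour : Nat.card (D ⧸ C) ≤ 4 := by
    by_cases hall : C = ⊤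
    · rw [hall, ← Subgroup.index_eq_card, Subgroup.index_top]; omega
    obtain ⟨y, -, hy⟩ := SetLike.exists_of_lt (lt_top_iff_ne_top.2 hall)
    let f : D →* MulAut N :=
      { toFun := fun x => δ (⁅y, c x⁆ * ⁅x, c y⁆)
        map_one' := by simp
        map_mul' := fun a b => by
          show δ (⁅y, c (a * b)⁆ * ⁅a * b, c y⁆) = δ (⁅y, c a⁆ * ⁅a, c y⁆) * δ (⁅y, c b⁆ * ⁅b, c y⁆)
          rw [map_mul c, (hbl _ _ _).2, (hbl _ _ _).1, ← map_mul]
          refine congrArg δ ?_
          have h := mem_center_iff.1 (hZc (hcomm y (c b))) ⁅a, c y⁆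
          rw [mul_assoc, ← mul_assoc ⁅y, c b⁆, ← h]
          group }
    have hker : ∀ x, f x = 1 → x ∈ C ∨ y * x ∈ C := by
      intro x hx
      by_contra hne
      push Not at hne
      have e1 := (hout _ hne.2).1
      rw [map_mul c, (hbl _ _ _).1, (hbl _ _ _).2, (hbl _ _ _).2] at e1
      simp only [map_mul] at e1
      rw [(hout y hy).1, (hout x hne.1).1] at e1
      have hx' : δ ⁅y, c x⁆ * δ ⁅x, c y⁆ = 1 := by rw [← map_mul]; exact hx
      rw [mul_assoc, ← mul_assoc (δ ⁅y, c x⁆), hx', one_mul, hιι] at e1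
      exact (hout x hne.1).2 ((hout x hne.1).1.trans e1.symm)
    have hrange : ∀ x, f x = 1 ∨ f x = ι := fun x => hsign _ (mul_mem (hcomm _ _) (hcomm _ _))
    have hcov : ∃ g, ∀ x, f x = 1 ∨ f (g⁻¹ * x) = 1 := by
      by_cases h1 : ∀ x, f x = 1
      · exact ⟨1, fun x => Or.inl (h1 x)⟩
      · push Not at h1
        obtain ⟨g, hg⟩ := h1
        exact ⟨g, fun x => (hrange x).imp_right fun hx => by
          rw [map_mul, map_inv, hx, (hrange g).resolve_left hg, inv_mul_cancel]⟩
    obtain ⟨g, hg⟩ := hcov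
    let q : Fin 4 → D ⧸ C := ![QuotientGroup.mk 1, QuotientGroup.mk y⁻¹, QuotientGroup.mk g,
      QuotientGroup.mk (g * y⁻¹)]
    refine (Nat.card_le_card_of_surjective q fun w => ?_).trans (by simp)
    induction w using QuotientGroup.induction_on with | H x => ?_
    rcases hg x with h | h <;> rcases hker _ h with h' | h'
    · exact ⟨0, QuotientGroup.eq.2 (by simpa using h')⟩
    · exact ⟨1, QuotientGroup.eq.2 (by simpa using h')⟩
    · exact ⟨2, QuotientGroup.eq.2 (by simpa using h')⟩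
    · exact ⟨3, QuotientGroup.eq.2 (by simpa [mul_assoc] using h')⟩
  -- `β` acts on `D ⧸ C` without fixed point
  have hCR : ∀ x, x ∈ C ↔ ∀ y, δ ⁅x⁻¹ * c x, y⁆ = 1 := by
    intro x
    refine ⟨fun hx y => ?_, fun hx => (hCmem x).2 (key x ?_)⟩
    · rw [map_commutatorElement, map_mul, map_inv, hCc x hx, inv_mul_cancel, commutatorElement_one_left]
    · have h1 := hx x
      rw [map_commutatorElement, commutatorElement_eq_one_iff_mul_comm] at h1
      rw [show c x = x * (x⁻¹ * c x) by group, map_mul, mul_assoc, h1, ← mul_assoc]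
  have hCβ : Stb β C := fun x hx => (hCR _).2 fun y => by
    rw [hcβ, ← map_inv, ← map_mul, ← β.apply_symm_apply y, ← map_commutatorElement,
      hβZ _ (hcomm _ _)]
    exact (hCR x).1 hx _
  have hco : ¬ r ∣ Nat.card D := by
    obtain ⟨j, hj⟩ := IsPGroup.iff_card.1 hD
    rw [hj]
    exact fun h => hr2 ((Nat.prime_dvd_prime_iff_eq hr Nat.prime_two).1 (hr.dvd_of_dvd_pow h))
  set γ : MulAut (D ⧸ C) := QuotientGroup.congr C C β hCβ.map_eq
  have hγ : γ ^ r = 1 := by
    have hpow : ∀ (i : ℕ) (g : D), (γ ^ i) (QuotientGroup.mk g) = QuotientGroup.mk ((β ^ i) g) := by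
      intro i
      induction i with
      | zero => intro g; rfl
      | succ i ih => intro g; rw [pow_succ, pow_succ, MulAut.mul_apply, MulAut.mul_apply, ← ih]; rfl
    exact MulEquiv.ext fun x => QuotientGroup.induction_on x fun g => by rw [hpow, hβ]; rfl
  have hmod := FpfAut.card_modEq_one hr hγ fun x => QuotientGroup.induction_on x fun g hg => by
    obtain ⟨m', hm', hf⟩ := exists_fixed_mul hr hβ hCβ (not_dvd_sub hco C)
      (QuotientGroup.eq.1 (show (QuotientGroup.mk g : D ⧸ C) = QuotientGroup.mk (β g) from hg.symm))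
    rw [QuotientGroup.eq_one_iff]
    have h1 : g * m' ∈ C := hZC (hfpf _ (by rw [hf, inv_mul_cancel]; exact one_mem _))
    simpa using mul_mem h1 (inv_mem hm')
  obtain ⟨j, hj⟩ := IsPGroup.iff_card.1 (hD.to_quotient C)
  rw [hj] at hfour hmod
  have hj2 : j ≤ 2 := by
    by_contra hlt
    have : 2 ^ 3 ≤ 2 ^ j := Nat.pow_le_pow_right two_pos (by omega)
    omega
  by_cases hr3 : r = 3
  swap
  · have hj0 : j = 0 := by
      have hdv := (Nat.modEq_iff_dvd' (Nat.one_le_two_pow)).1 hmod.symm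
      interval_cases j
      · rfl
      · exact absurd (Nat.le_of_dvd one_pos hdv) (not_le.2 hr.one_lt)
      · exact absurd ((Nat.prime_dvd_prime_iff_eq hr Nat.prime_three).1 hdv) hr3
    rw [hj0, pow_zero] at hj
    exact Subgroup.index_eq_one.1 ((Subgroup.index_eq_card C).trans hj)
  -- `r = 3`, so `p ≥ 5` and `u` is trivial on `D ⧸ C`
  have hcC : C.map c.toMonoidHom = C := by
    refine Subgroup.eq_of_le_of_card_ge ?_ ?_
    · rintro _ ⟨x, hx, rfl⟩
      show c x ∈ C
      rw [hCmem, hCc x hx]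
      exact (hCmem x).1 hx
    · rw [← Nat.card_congr (C.equivMapOfInjective c.toMonoidHom c.injective).toEquiv]
  set σ : MulAut (D ⧸ C) := QuotientGroup.congr C C c hcC
  have hupow : ∀ (i : ℕ) (x : D), δ ((c ^ i) x) = u ^ i * δ x * (u ^ i)⁻¹ := by
    intro i
    induction i with
    | zero => intro x; simp
    | succ i ih => intro x; rw [pow_succ', MulAut.mul_apply, ← hu, ih, pow_succ' u]; group
  have hσn : σ ^ p ^ k = 1 := by
    have hpow : ∀ (i : ℕ) (g : D), (σ ^ i) (QuotientGroup.mk g) = QuotientGroup.mk ((c ^ i) g) := by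
      intro i
      induction i with
      | zero => intro g; rfl
      | succ i ih => intro g; rw [pow_succ, pow_succ, MulAut.mul_apply, MulAut.mul_apply, ← ih]; rfl
    refine MulEquiv.ext fun x => QuotientGroup.induction_on x fun g => ?_
    rw [hpow, MulAut.one_apply, QuotientGroup.eq, hCmem]
    have e1 : δ (((c ^ p ^ k) g)⁻¹ * g) = 1 := by
      rw [map_mul, map_inv, hupow, hk, inv_one, mul_one, one_mul, inv_mul_cancel]
    rw [e1, mul_one, one_mul]
  have hσ1 : σ = 1 := by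
    have h1 : orderOf (MulEquiv.toEquiv σ : Equiv.Perm (D ⧸ C)) ∣ p ^ k := by
      refine orderOf_dvd_of_pow_eq_one ?_
      have hperm : ∀ i : ℕ, (MulEquiv.toEquiv σ : Equiv.Perm (D ⧸ C)) ^ i = MulEquiv.toEquiv (σ ^ i) := by
        intro i
        induction i with
        | zero => rfl
        | succ i ih => rw [pow_succ, pow_succ, ih]; rfl
      rw [hperm, hσn]; rfl
    have h2 : orderOf (MulEquiv.toEquiv σ : Equiv.Perm (D ⧸ C)) ∣ (2 ^ j).factorial := by
      rw [← hj, ← Nat.card_perm]; exact orderOf_dvd_natCard _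
    have hcop : Nat.Coprime (p ^ k) ((2 ^ j).factorial) := by
      refine Nat.Coprime.pow_left k ((Nat.Prime.coprime_iff_not_dvd hp).2 fun hd => ?_)
      have := hp.dvd_factorial.1 hd
      have hp3 : p ≠ 3 := fun h => hrp (hr3.trans h.symm)
      have hp4 : p ≠ 4 := fun h => by rw [h] at hp; norm_num at hp
      have := hp.two_le
      omega
    have h3 := orderOf_eq_one_iff.1 (Nat.eq_one_of_dvd_coprimes hcop h1 h2)
    exact MulEquiv.ext fun x => Equiv.congr_fun h3 x
  rw [eq_top_iff]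
  intro x _
  have hc0 : x⁻¹ * c x ∈ C := QuotientGroup.eq.1
    (show (QuotientGroup.mk x : D ⧸ C) = QuotientGroup.mk (c x) from
      (DFunLike.congr_fun hσ1 (QuotientGroup.mk x)).symm)
  set c₀ := x⁻¹ * c x
  have hstep : ∀ i : ℕ, u ^ i * δ x = δ x * δ c₀ ^ i * u ^ i := by
    intro i
    induction i with
    | zero => simp
    | succ i ih =>
      have h1 : u * δ x = δ x * δ c₀ * u := by
        rw [← map_mul, show x * c₀ = c x by simp [c₀], ← hu, inv_mul_cancel_right]
      rw [pow_succ' u, mul_assoc, ih, ← mul_assoc, ← mul_assoc, h1, mul_assoc (δ x * δ c₀) u,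
        (Commute.pow_right ((hCmem _).1 hc0) i : Commute u (δ c₀ ^ i)).eq, pow_succ' (δ c₀)]
      simp only [mul_assoc]
  have h1 : δ c₀ ^ p ^ k = 1 := by
    have := hstep (p ^ k)
    rwa [hk, one_mul, mul_one, eq_comm, mul_eq_left] at this
  obtain ⟨i, hi⟩ := hD c₀
  have h2 : δ c₀ ^ (p ^ k).gcd (2 ^ i) = 1 :=
    pow_gcd_eq_one.mpr ⟨h1, by rw [← map_pow, hi, map_one]⟩
  rw [Nat.Coprime.gcd_eq_one (((Nat.coprime_primes hp Nat.prime_two).2 hp2).pow k i), pow_one] at h2
  rw [hCmem]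
  have := hstep 1
  rwa [pow_one, pow_one, h2, mul_one] at this

/-- A quadratic element centralises the image of `D`. -/
theorem commute_of_quadratic (hD : IsPGroup 2 D) (hZc : Z ≤ center D)
    (hcomm : ∀ a b : D, ⁅a, b⁆ ∈ Z) (hsq : ∀ a : D, a * a ∈ Z) (hZ2 : ∀ z ∈ Z, z * z = 1)
    (β : MulAut D) (hβ : β ^ r = 1) (hβZ : ∀ z ∈ Z, β z = z) (hfpf : ∀ x, x⁻¹ * β x ∈ Z → x ∈ Z)
    (c : MulAut D) (hcβ : ∀ x, c (β x) = β (c x)) (hcZ : ∀ z ∈ Z, c z ∈ Z) (hp : p.Prime)
    (hp2 : p ≠ 2) (hr : r.Prime) (hr2 : r ≠ 2) (hrp : r ≠ p) (hexp : ∀ t : M, t ^ p = 1)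
    (δ : D →* MulAut M) (u : MulAut M) (hu : ∀ d, u * δ d * u⁻¹ = δ (c d))
    (hup : ∃ k, u ^ p ^ k = 1) (hq : ∀ v, u (u v / v) = u v / v) : ∀ d, u * δ d = δ d * u := by
  refine commute_of_quadratic_aux hD hZc hcomm hsq hZ2 β hβ hβZ hfpf c hcβ hp hp2 hr hr2 hrp _ M rfl
    hexp δ u hu hup hq fun z hz => ?_
  refine sign_commute (hp.odd_of_ne_two hp2) hexp u hq (δ '' (Z : Set D)) (Set.toFinite _) ?_ ?_ ?_ _
    ⟨z, hz, rfl⟩
  · rintro _ ⟨w, hw, rfl⟩; rw [← map_mul, hZ2 w hw, map_one]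
  · rintro _ ⟨w, hw, rfl⟩ _ ⟨w', -, rfl⟩
    rw [← map_mul, ← map_mul, mem_center_iff.1 (hZc hw) w']
  · rintro _ ⟨w, hw, rfl⟩
    have hcZ' : Z.map c.toMonoidHom = Z := Stb.map_eq (β := c) hcZ
    obtain ⟨w', hw', he⟩ := hcZ'.ge hw
    exact ⟨w', hw', by rw [← show c w' = w from he, ← hu]; group⟩

end Cfsg.Agent.Lib.HHS57
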