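import Cfsg.Agent.Lib.HHS57.Family

/-!
# The trichotomy for members of a family inside a group equal to its layer (helper57)
-/

set_option autoImplicit false
set_option linter.style.haveILetI false
set_option linter.unusedSectionVars false

namespace Cfsg.Agent.Lib.HHS57

open Cfsg Cfsg.Agent.Lib Cfsg.Agent.Lib.Components
open Subgroup
open scoped commutatorElement

universe u

/-- A subgroup commuting with its other conjugates under a subnormal `L` containing it is
subnormal. -/
theorem isSubnormal_of_conj {X : Type u} [Group X] {K L : Subgroup X} (hKL : K ≤ L)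
    (hL : L.IsSubnormal) (h : ∀ l ∈ L, K.map (MulAut.conj l).toMonoidHom = K ∨
      ⁅K, K.map (MulAut.conj l).toMonoidHom⁆ = ⊥) : K.IsSubnormal := by
  set N : Subgroup X := ⨆ l : L, K.map (MulAut.conj (l : X)).toMonoidHom with hN
  have hKN : K ≤ N := fun k hk =>
    le_iSup (fun l : L => K.map (MulAut.conj (l : X)).toMonoidHom) 1 ⟨k, hk, by simp⟩
  have hNL : N ≤ L := iSup_le fun l => by
    rintro _ ⟨k, hk, rfl⟩
    exact L.mul_mem (L.mul_mem l.2 (hKL hk)) (L.inv_mem l.2)
  have hconj : ∀ l ∈ L, ∀ y ∈ N, l * y * l⁻¹ ∈ N := by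
    intro l hl
    suffices h1 : N ≤ N.comap (MulAut.conj l).toMonoidHom from fun y hy => h1 hy
    refine iSup_le fun m => ?_
    rintro _ ⟨k, hk, rfl⟩
    refine le_iSup (fun n : L => K.map (MulAut.conj (n : X)).toMonoidHom)
      (⟨l, hl⟩ * m) ⟨k, hk, ?_⟩
    simp [mul_assoc]
  have hLN : L ≤ Subgroup.normalizer (N : Set X) := fun l hl => mem_normalizer_iff.2 fun y =>
    ⟨hconj l hl y, fun hy => by
      have := hconj l⁻¹ (L.inv_mem hl) _ hy
      simpa [mul_assoc] using this⟩
  have hNK : N ≤ Subgroup.normalizer (K : Set X) := iSup_le fun l => by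
    rcases h l l.2 with h1 | h1
    · rw [h1]; exact le_normalizer
    · exact (commutator_eq_bot_iff_le_centralizer.1 (by rwa [commutator_comm] at h1)).trans
        (centralizer_le_normalizer _)
  exact IsSubnormal.step _ _ hKN
    (IsSubnormal.step _ _ hNL hL ((normal_subgroupOf_iff_le_normalizer hNL).2 hLN))
    ((normal_subgroupOf_iff_le_normalizer hKN).2 hNK)

variable {X : Type u} [Group X] [Finite X] {r : ℕ} {β : MulAut X}

theorem normal_of_component (htop : layer X = ⊤) {L : Subgroup X} (hL : IsComponent L) : L.Normal :=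
  normalizer_eq_top_iff.1 (top_le_iff.1 (htop ▸ Layer.layer_le_normalizer hL))

theorem component_pow {L : Subgroup X} (hL : IsComponent L) (j : ℕ) :
    IsComponent (L.map (β ^ j).toMonoidHom) := Component.map_equiv (β ^ j) hL

theorem normal_orb (htop : layer X = ⊤) {L : Subgroup X} (hL : IsComponent L) :
    (orb β L).Normal := by
  refine ⟨fun y hy x => (show orb β L ≤ (orb β L).comap (MulAut.conj x).toMonoidHom from ?_) hy⟩
  refine iSup_le fun j => fun z hz => ?_
  exact le_iSup (fun j : ℕ => L.map (β ^ j).toMonoidHom) j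
    ((normal_of_component htop (component_pow hL j)).conj_mem z hz x)

/-- `L ⊔ C(L)` is everything. -/
theorem component_sup_centralizer (htop : layer X = ⊤) {L : Subgroup X} (hL : IsComponent L) :
    L ⊔ Subgroup.centralizer (L : Set X) = ⊤ := by
  refine top_le_iff.1 (htop ▸ sSup_le fun L' hL' => ?_)
  by_cases h : L' = L
  · exact h ▸ le_sup_left
  · exact (Component.le_centralizer_of_ne hL' hL h).trans le_sup_right

theorem eq_of_pow (hr : r.Prime) (hβ : β ^ r = 1) {L : Subgroup X} {j : ℕ} (hj : ¬ r ∣ j)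
    (h : L.map (β ^ j).toMonoidHom = L) : L.map β.toMonoidHom = L := by
  have hco : j.Coprime (orderOf β) :=
    (((hr.coprime_iff_not_dvd).2 hj).symm).coprime_dvd_right (orderOf_dvd_of_pow_eq_one hβ)
  obtain ⟨m, hm⟩ := exists_pow_eq_self_of_coprime hco
  have hst : Stb (β ^ j) L := fun x hx => h.le ⟨x, hx, rfl⟩
  have h2 : Stb β L := hm ▸ hst.pow m
  exact h2.map_eq

theorem map_pow_mod (hβ : β ^ r = 1) (L : Subgroup X) {j : ℕ} (hj : r ∣ j) :
    L.map (β ^ j).toMonoidHom = L := by
  obtain ⟨k, rfl⟩ := hj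
  rw [pow_mul, hβ, one_pow]
  exact L.map_id

/-- A fixed element inducing a given inner automorphism on a moved component. -/
theorem exists_fixed_lift_component (hr : r.Prime) (hβ : β ^ r = 1) {L : Subgroup X} (hL : IsComponent L)
    (hne : L.map β.toMonoidHom ≠ L) {l : X} (hl : l ∈ L) :
    ∃ c, β c = c ∧ l⁻¹ * c ∈ Subgroup.centralizer (L : Set X) := by
  let q : ℕ → X := fun n => ((List.range n).map fun i => (β ^ (i + 1)) l).prod
  have hq1 : ∀ n, q (n + 1) = q n * (β ^ (n + 1)) l := fun n => by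
    simp [q, List.range_succ]
  have hq2 : ∀ n, β l * β (q n) = q (n + 1) := by
    intro n
    induction n with
    | zero => simp [q]
    | succ n ihn =>
      rw [hq1 n, map_mul, ← mul_assoc, ihn, ← MulAut.mul_apply, ← pow_succ', ← hq1 (n + 1)]
  obtain ⟨m, rfl⟩ : ∃ m, r = m + 1 := ⟨r - 1, (Nat.succ_pred_eq_of_pos hr.pos).symm⟩
  have hqC : q m ∈ Subgroup.centralizer (L : Set X) := by
    refine list_prod_mem fun x hx => ?_
    obtain ⟨i, hi, rfl⟩ := List.mem_map.1 hx
    rw [List.mem_range] at hi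
    have hne' : L.map (β ^ (i + 1)).toMonoidHom ≠ L := fun e => hne
      (eq_of_pow hr hβ (fun hd => absurd (Nat.le_of_dvd (Nat.succ_pos i) hd) (by omega)) e)
    exact Component.le_centralizer_of_ne (component_pow hL (i + 1)) hL hne' ⟨l, hl, rfl⟩
  refine ⟨l * q m, ?_, by rwa [inv_mul_cancel_left]⟩
  rw [map_mul, hq2, hq1, hβ, MulAut.one_apply]
  exact (mem_centralizer_iff.1 hqC l hl).symm

variable {S : Set (Subgroup X)} (hS : Fam β S)
include hS

/-- Members covering the same `X / C(L)` are equal. -/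
theorem Fam.eq_of_cover {K M : Subgroup X} (hK : K ∈ S) (hM : M ∈ S) {C : Subgroup X} [C.Normal]
    (hKC : ¬ K ≤ C) (hMcov : M ⊔ C = ⊤) : M = K := by
  by_contra hne
  have hc := commutator_eq_bot_iff_le_centralizer.1 (hS.comm K hK M hM (fun e => hne e.symm))
  refine hKC ?_
  rw [← commutator_self_of_qs (hS.qs K hK), commutator_le]
  intro a ha b _
  obtain ⟨m, hm, z, hz, rfl⟩ := mem_sup_of_normal_right.1 (hMcov ▸ mem_top b)
  rw [← QuotientGroup.eq_one_iff, ← QuotientGroup.mk'_apply, map_commutatorElement,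
    commutatorElement_eq_one_iff_mul_comm, map_mul,
    show QuotientGroup.mk' C z = 1 from (QuotientGroup.eq_one_iff z).2 hz, mul_one, ← map_mul, ← map_mul,
    (mem_centralizer_iff.1 (hc ha) m hm).symm]

theorem Fam.component_or_contained (hr : r.Prime) (hβ : β ^ r = 1) (hco : ¬ r ∣ Nat.card X)
    (htop : layer X = ⊤) {K : Subgroup X} (hK : K ∈ S) (hnf : ¬ K ≤ fixG β) :
    IsComponent K ∨ ∃ L, IsComponent L ∧ L.map β.toMonoidHom = L ∧ K ≤ L := by
  have hq := hS.qs K hK
  -- the components not centralising `K` form one orbit containing `K` in its join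
  have horb : ∀ L, IsComponent L → ¬ K ≤ Subgroup.centralizer (L : Set X) → K ≤ orb β L := by
    intro L hL hKL
    haveI := normal_orb (β := β) htop hL
    by_contra hne
    exact hKL ((hS.le_centralizer hr hβ hco hK hnf (stb_orb L) hne).trans
      (Subgroup.centralizer_le (SetLike.coe_subset_coe.2 (le_orb L))))
  have hone : ∀ L, IsComponent L → ¬ K ≤ Subgroup.centralizer (L : Set X) → ∀ L', IsComponent L' →
      ¬ K ≤ Subgroup.centralizer (L' : Set X) → ∃ j : ℕ, L.map (β ^ j).toMonoidHom = L' := by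
    intro L hL hKL L' hL' hKL'
    by_contra hne
    push Not at hne
    refine hKL' ((horb L hL hKL).trans (iSup_le fun j => ?_))
    exact Component.le_centralizer_of_ne (component_pow hL j) hL' (hne j)
  obtain ⟨L, hL, hKL⟩ : ∃ L : Subgroup X, IsComponent L ∧ ¬ K ≤ Subgroup.centralizer (L : Set X) := by
    by_contra hne
    push Not at hne
    refine not_le_centralizer_of_qs hq fun k hk => mem_centralizer_iff.2 fun k' _ => ?_
    have : (⊤ : Subgroup X) ≤ Subgroup.centralizer {k} := htop ▸ sSup_le fun M hM => fun m hm =>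
      mem_centralizer_singleton_iff.2 (Subgroup.mem_centralizer_iff.1 ((hne M hM : K ≤ Subgroup.centralizer (M : Set X)) hk) m hm)
    exact mem_centralizer_singleton_iff.1 (this (mem_top k'))
  by_cases huniq : ∀ L', IsComponent L' → ¬ K ≤ Subgroup.centralizer (L' : Set X) → L' = L
  · -- `K` lies in `L`
    haveI := normal_of_component htop hL
    have hKle : K ≤ L := by
      set q := QuotientGroup.mk' L
      have hZ : (⊤ : Subgroup X) ≤ (Subgroup.centralizer (K.map q : Set (X ⧸ L))).comap q := by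
        refine htop ▸ sSup_le fun M hM => fun m hm => ?_
        rw [mem_comap, mem_centralizer_iff]
        rintro _ ⟨k, hk, rfl⟩
        by_cases hMK : K ≤ Subgroup.centralizer (M : Set X)
        · rw [← map_mul, ← map_mul, mem_centralizer_iff.1 (hMK hk) m hm]
        · rw [huniq M hM hMK] at hm
          rw [show q m = 1 from (QuotientGroup.eq_one_iff m).2 hm, mul_one, one_mul]
      rw [← commutator_self_of_qs hq, ← QuotientGroup.ker_mk' L, ← Subgroup.map_eq_bot_iff, map_commutator,
        commutator_eq_bot_iff_le_centralizer]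
      exact map_le_iff_le_comap.2 (le_top.trans hZ)
    by_cases hβL : L.map β.toMonoidHom = L
    · exact Or.inr ⟨L, hL, hβL, hKle⟩
    refine Or.inl ⟨isSubnormal_of_conj hKle hL.1 fun l hl => ?_, hq⟩
    obtain ⟨c, hc, hlc⟩ := exists_fixed_lift_component hr hβ hL hβL hl
    have he : K.map (MulAut.conj l).toMonoidHom = K.map (MulAut.conj c).toMonoidHom := by
      have hval : ∀ k ∈ K, c * k * c⁻¹ = l * k * l⁻¹ := fun k hk => by
        have := mem_centralizer_iff.1 hlc k (hKle hk)
        calc c * k * c⁻¹ = l * (l⁻¹ * c * k) * c⁻¹ := by group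
          _ = l * (k * (l⁻¹ * c)) * c⁻¹ := by rw [this]
          _ = l * k * l⁻¹ := by group
      ext y
      constructor <;> rintro ⟨k, hk, rfl⟩ <;> refine ⟨k, hk, ?_⟩
      · exact hval k hk
      · exact (hval k hk).symm
    rw [he]
    by_cases h1 : K.map (MulAut.conj c).toMonoidHom = K
    · exact Or.inl h1
    · exact Or.inr (hS.comm K hK _ (hS.fixed K hK c hc) (fun e => h1 e.symm))
  -- several components: impossible
  exfalso
  push Not at huniq
  obtain ⟨L', hL', hKL', hne⟩ := huniq
  obtain ⟨j, hj⟩ := hone L hL hKL L' hL' hKL'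
  have hjr : ¬ r ∣ j := fun hd => hne (hj ▸ map_pow_mod hβ L hd)
  have hβL : L.map β.toMonoidHom ≠ L := fun e => hne (by
    rw [← hj]
    exact ((show Stb β L from fun x hx => e.le ⟨x, hx, rfl⟩).pow j).map_eq)
  haveI := normal_of_component htop hL
  haveI := normal_of_component htop hL'
  set C := Subgroup.centralizer (L : Set X) with hC
  haveI hCn : C.Normal := inferInstance
  have hlift : ∀ x : X, ∃ c, β c = c ∧ c⁻¹ * x ∈ C := by
    intro x
    obtain ⟨l, hl, z, hz, rfl⟩ := mem_sup_of_normal_right.1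
      (component_sup_centralizer htop hL ▸ mem_top x)
    obtain ⟨c, hc, hlc⟩ := exists_fixed_lift_component hr hβ hL hβL hl
    exact ⟨c, hc, by simpa [mul_assoc] using mul_mem (inv_mem hlc) hz⟩
  -- `K` covers `X / C(L)`
  have hcov : K ⊔ C = ⊤ := by
    have hsn : (K.map (QuotientGroup.mk' C)).IsSubnormal := by
      refine isSubnormal_of_conj le_top (Subgroup.Normal.isSubnormal inferInstance) fun y _ => ?_
      obtain ⟨x, rfl⟩ := QuotientGroup.mk'_surjective C y
      obtain ⟨c, hc, hcx⟩ := hlift x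
      have he : QuotientGroup.mk' C x = QuotientGroup.mk' C c := (QuotientGroup.eq.2 hcx).symm
      rw [he]
      have he2 : (K.map (QuotientGroup.mk' C)).map
          (MulAut.conj (QuotientGroup.mk' C c)).toMonoidHom =
          (K.map (MulAut.conj c).toMonoidHom).map (QuotientGroup.mk' C) := by
        rw [map_map, map_map]
        congr 1
      rw [he2, ← map_commutator]
      by_cases h1 : K.map (MulAut.conj c).toMonoidHom = K
      · exact Or.inl (by rw [h1])
      · exact Or.inr (by rw [hS.comm K hK _ (hS.fixed K hK c hc) (fun e => h1 e.symm), Subgroup.map_bot])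
    have hW := hsn.comap (QuotientGroup.mk' C)
    rw [comap_map_eq, QuotientGroup.ker_mk'] at hW
    rcases Component.le_or_commutator_eq_bot hL hW with h1 | h1
    · exact top_le_iff.1 (component_sup_centralizer htop hL ▸ sup_le h1 le_sup_right)
    · exact absurd (le_sup_left.trans (commutator_eq_bot_iff_le_centralizer.1 h1)) hKL
  -- the `β`-images of `K` are equal
  have hjK : K.map (β ^ j).toMonoidHom = K := by
    refine hS.eq_of_cover (C := Subgroup.centralizer (L' : Set X)) hK (hS.pow_mem hK j) hKL'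
      (top_le_iff.1 ?_)
    rw [← map_top_of_surjective (β ^ j).toMonoidHom (β ^ j).surjective, ← hcov, Subgroup.map_sup]
    refine sup_le_sup_left ?_ _
    rw [← hj, Subgroup.coe_map]
    exact map_centralizer_le_centralizer_image _ _
  have hKβ : Stb β K := fun x hx => (eq_of_pow hr hβ hjr hjK).le ⟨x, hx, rfl⟩
  have hnormC : ∀ k ∈ K, ∀ y ∈ C, k * y * k⁻¹ ∈ C := fun k _ y hy => hCn.conj_mem y hy k
  refine hnf fun k hk => mem_fixG.2 ?_
  refine congrArg Subtype.val (eq_of_central_diff (commutator_top_of_qs hq)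
    (resA β K hKβ).toMonoidHom (fun a => ?_) ⟨k, hk⟩)
  obtain ⟨c, hc, hca⟩ := hlift a
  have hcK : K.map (MulAut.conj c).toMonoidHom = K :=
    hS.eq_of_cover hK (hS.fixed K hK c hc) hKL (by
      rw [← map_top_of_surjective (MulAut.conj c).toMonoidHom (MulAut.conj c).surjective, ← hcov,
        Subgroup.map_sup]
      congr 1
      exact le_antisymm (fun y hy => ⟨c⁻¹ * y * c, by simpa using hCn.conj_mem y hy c⁻¹, by simp [mul_assoc]⟩)
        (map_le_iff_le_comap.2 fun y hy => hCn.conj_mem y hy c))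
  have hinv : ∀ y ∈ K, c⁻¹ * y * c ∈ K := fun y hy => by
    obtain ⟨x, hx, e⟩ := hcK.ge hy
    have e' : c * x * c⁻¹ = y := e
    rwa [← e', show c⁻¹ * (c * x * c⁻¹) * c = x by group]
  have hz : c⁻¹ * (a : X) ∈ Subgroup.centralizer (K : Set X) := by
    refine commute_of_normalizes hq hnormC hKL (fun y hy => ?_) fun y hy => ?_
    · rw [show c⁻¹ * (a : X) * y * (c⁻¹ * a)⁻¹ = c⁻¹ * ((a : X) * y * (a : X)⁻¹) * c by group]
      exact hinv _ (mul_mem (mul_mem a.2 hy) (inv_mem a.2))
    · rw [show y⁻¹ * (c⁻¹ * (a : X) * y * (c⁻¹ * a)⁻¹) = y⁻¹ * (c⁻¹ * a) * (y⁻¹)⁻¹ * (c⁻¹ * a)⁻¹ by group]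
      exact C.mul_mem (hCn.conj_mem _ hca _) (inv_mem hca)
  have hz2 : c⁻¹ * β (a : X) ∈ Subgroup.centralizer (K : Set X) := by
    refine mem_centralizer_iff.2 fun y hy => ?_
    have e1 := congrArg β (mem_centralizer_iff.1 hz _ (hKβ.symm_mem hy))
    simpa only [map_mul, map_inv, hc, MulEquiv.apply_symm_apply] using e1
  refine mem_center_iff.2 fun y => Subtype.ext ?_
  show (y : X) * ((a : X)⁻¹ * β (a : X)) = (a : X)⁻¹ * β (a : X) * y
  have e2 : (a : X)⁻¹ * β (a : X) = (c⁻¹ * a)⁻¹ * (c⁻¹ * β (a : X)) := by group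
  rw [e2]
  exact mem_centralizer_iff.1 (mul_mem (inv_mem hz) hz2) y y.2

end Cfsg.Agent.Lib.HHS57
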