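import Cfsg.Agent.Lib.HHS57.Proper

/-!
# `D` is weakly closed, `Z` is TI modulo the centre, exact elements (helper18)
-/

set_option autoImplicit false
set_option linter.style.haveILetI false
set_option linter.unusedSectionVars false

namespace Cfsg.Agent.Lib.HHS57

open Cfsg Cfsg.Agent.Lib
open Subgroup
open scoped commutatorElement

universe u

variable {H : Type u} [Group H] [Finite H] {p r : ℕ} {α : MulAut H} {V : Type u} [CommGroup V]
  [Finite V] {ψ : H →* MulAut V} {e : MulAut V}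

/-- The elements commuting with `a` modulo the centre. -/
def cStar (a : H) : Subgroup H :=
  (Subgroup.centralizer {(QuotientGroup.mk a : H ⧸ Subgroup.center H)}).comap
    (QuotientGroup.mk' (Subgroup.center H))

theorem mem_cStar {a x : H} : x ∈ cStar a ↔ ⁅x, a⁆ ∈ Subgroup.center H := by
  rw [cStar, Subgroup.mem_comap, mem_centralizer_singleton_iff, ← QuotientGroup.eq_one_iff,
    QuotientGroup.mk'_apply]
  show _ ↔ QuotientGroup.mk' (Subgroup.center H) ⁅x, a⁆ = 1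
  rw [map_commutatorElement, commutatorElement_eq_one_iff_mul_comm]
  rfl

theorem centralizer_le_cStar (a : H) : Subgroup.centralizer ({a} : Set H) ≤ cStar a := fun x hx => by
  rw [mem_centralizer_singleton_iff] at hx
  rw [mem_cStar, commutatorElement_eq_one_iff_mul_comm.2 hx]
  exact one_mem _

theorem stb_cStar {a : H} (ha : α a = a) : Stb α (cStar a) := fun x hx => by
  rw [mem_cStar] at hx ⊢
  rw [← ha, ← map_commutatorElement]
  exact stb_center _ hx

variable (h : Min p r α ψ e)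

include h

/-- Only central elements are central modulo the centre. -/
theorem Min.mem_center_of_cStar_eq_top (T : Sylow 2 H) (hT : Stb α (T : Subgroup H)) {a : H}
    (ha : cStar a = ⊤) : a ∈ Subgroup.center H := by
  set Z₂ := (Subgroup.center (H ⧸ Subgroup.center H)).comap (QuotientGroup.mk' (Subgroup.center H))
  haveI : Z₂.Normal := inferInstance
  have hmem : ∀ x : H, x ∈ Z₂ ↔ ∀ g : H, ⁅g, x⁆ ∈ Subgroup.center H := by
    intro x
    rw [Subgroup.mem_comap, mem_center_iff]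
    constructor
    · intro hx g
      rw [← mem_cStar, cStar, Subgroup.mem_comap, mem_centralizer_singleton_iff]
      exact hx _
    · intro hx g
      obtain ⟨g, rfl⟩ := QuotientGroup.mk'_surjective (Subgroup.center H) g
      have := mem_cStar.2 (hx g)
      rw [cStar, Subgroup.mem_comap, mem_centralizer_singleton_iff] at this
      exact this
  have hα : Stb α Z₂ := fun x hx => (hmem _).2 fun g => by
    obtain ⟨g', rfl⟩ := α.surjective g
    rw [← map_commutatorElement]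
    exact stb_center _ ((hmem x).1 hx g')
  by_cases htop : Z₂ = ⊤
  · exfalso
    haveI : Group.IsNilpotent (H ⧸ Subgroup.center H) := by
      letI : CommGroup (H ⧸ Subgroup.center H) :=
        { (inferInstance : Group (H ⧸ Subgroup.center H)) with
          mul_comm := fun x y => by
            obtain ⟨y, rfl⟩ := QuotientGroup.mk'_surjective (Subgroup.center H) y
            have hy : y ∈ Z₂ := htop ▸ mem_top y
            exact mem_center_iff.1 hy x }
      infer_instance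
    haveI : Group.IsNilpotent H :=
      Subgroup.isNilpotent_of_ker_le_center (QuotientGroup.mk' (Subgroup.center H))
        (by rw [QuotientGroup.ker_mk'])
    haveI : Fact (Nat.Prime 2) := ⟨Nat.prime_two⟩
    exact h.not_normal_T T hT
      (Sylow.normal_of_normalizerCondition Group.normalizerCondition_of_isNilpotent T)
  · exact h.le_center T hT hα htop ((hmem a).2 fun g => mem_cStar.1 (ha ▸ mem_top g : g ∈ cStar a))

variable (T : Sylow 2 H) (hT : Stb α (T : Subgroup H))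

include hT

/-- `M = C_M(α) D`. -/
theorem Min.mGrp_eq {x : H} (hx : x ∈ mGrp α T) :
    ∃ c ∈ mGrp α T, α c = c ∧ ∃ d ∈ dGrp α T, x = c * d := by
  obtain ⟨c, hc, hcf, d, hd, rfl⟩ := exists_fixed_mul_cm h.hr h.hα h.hco (stb_mGrp T hT) hx
  exact ⟨c, hc, hcf, d, h.cm_mGrp T hT ▸ hd, rfl⟩

/-- Subgroups between `D` and `M` are invariant. -/
theorem Min.stb_of_mid {X : Subgroup H} (hDX : dGrp α T ≤ X) (hXM : X ≤ mGrp α T) : Stb α X :=
  fun x hx => by
    have h1 : x⁻¹ * α x ∈ X := hDX (h.cm_mGrp T hT ▸ mem_cm (hXM hx))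
    simpa using X.mul_mem hx h1

/-- `D` is not central. -/
theorem Min.not_le_center {X : Subgroup H} (hDX : dGrp α T ≤ X) : ¬ X ≤ Subgroup.center H := fun hc => by
  obtain ⟨a, ha, b, hb, hab⟩ := h.exists_not_commute T hT
  exact hab (commutatorElement_eq_one_iff_mul_comm.2 (mem_center_iff.1 (hc (hDX ha)) b).symm)

/-- A proper normaliser above `D` lies in `M`. -/
theorem Min.normalizer_le_mGrp {X : Subgroup H} (hX : Stb α X) (hne : X ≠ ⊤) (hDX : dGrp α T ≤ X) :
    Subgroup.normalizer (X : Set H) ≤ mGrp α T := by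
  refine h.le_mGrp T hT hX.normalizer (fun e1 => ?_) (hDX.trans Subgroup.le_normalizer)
  haveI := Subgroup.normalizer_eq_top_iff.1 e1
  exact h.not_le_center T hT hDX (h.le_center T hT hX hne)

/-- Every `2`-group containing `D` lies in `M`. -/
theorem Min.two_le_mGrp {Q : Subgroup H} (hQ : IsPGroup 2 Q) (hDQ : dGrp α T ≤ Q) : Q ≤ mGrp α T := by
  haveI : Fact (Nat.Prime 2) := ⟨Nat.prime_two⟩
  set X := Q ⊓ mGrp α T with hXdef
  have hDX : dGrp α T ≤ X := le_inf hDQ (dGrp_le_mGrp T hT)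
  have hXα : Stb α X := h.stb_of_mid T hT hDX inf_le_right
  have hXne : X ≠ ⊤ := fun e1 => h.mGrp_ne_top T hT (top_le_iff.1 (e1 ▸ inf_le_right))
  by_contra hne
  have hlt : X.subgroupOf Q < ⊤ := lt_top_iff_ne_top.2 fun e1 =>
    hne ((Subgroup.subgroupOf_eq_top.1 e1).trans inf_le_right)
  haveI := hQ.isNilpotent
  obtain ⟨⟨x, hxQ⟩, hx, hxX⟩ := SetLike.exists_of_lt
    (Group.normalizerCondition_of_isNilpotent (G := Q) _ hlt)
  rw [mem_subgroupOf] at hxX
  have hxN : x ∈ Subgroup.normalizer (X : Set H) := by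
    rw [Subgroup.mem_normalizer_iff]
    intro y
    refine ⟨fun hy => (mem_normalizer_iff.1 hx ⟨y, hy.1⟩).1 hy, fun hy => ?_⟩
    have hyQ : y ∈ Q := by
      have := mul_mem (mul_mem (inv_mem hxQ) hy.1) hxQ
      simpa [mul_assoc] using this
    exact (mem_normalizer_iff.1 hx ⟨y, hyQ⟩).2 hy
  exact hxX ⟨hxQ, h.normalizer_le_mGrp T hT hXα hXne hDX hxN⟩

/-- A conjugate of `D` inside `M` is `D`. -/
theorem Min.mem_mGrp_of_conj_le {g : H} (hg : ∀ d ∈ dGrp α T, g * d * g⁻¹ ∈ mGrp α T) :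
    g ∈ mGrp α T := by
  haveI : Fact (Nat.Prime 2) := ⟨Nat.prime_two⟩
  set M := mGrp α T with hM
  set D' := (dGrp α T).map (MulAut.conj g).toMonoidHom with hD'
  have hD'M : D' ≤ M := by rintro _ ⟨d, hd, rfl⟩; exact hg d hd
  obtain ⟨R, hR⟩ : ∃ R : Sylow 2 M, D'.subgroupOf M ≤ (R : Subgroup M) :=
    (((isPGroup_dGrp T hT).map _).of_equiv (Subgroup.subgroupOfEquivOfLe hD'M).symm).exists_le_sylow
  have hDR : (dGrp α T).subgroupOf M ≤ (R : Subgroup M) := by
    haveI : ((dGrp α T).subgroupOf M).Normal := normal_subgroupOf_of_le_normalizer le_rfl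
    exact le_trans (Cores.le_pCore ((isPGroup_dGrp T hT).of_equiv
      (Subgroup.subgroupOfEquivOfLe (dGrp_le_mGrp T hT)).symm)) (Cores.pCore_le_sylow R)
  set Q := (R : Subgroup M).map M.subtype with hQdef
  have hDQ : dGrp α T ≤ Q := fun d hd => ⟨⟨d, dGrp_le_mGrp T hT hd⟩, hDR hd, rfl⟩
  have hD'Q : D' ≤ Q := fun d hd => ⟨⟨d, hD'M hd⟩, hR hd, rfl⟩
  obtain ⟨P, hQP⟩ := (R.isPGroup'.map M.subtype).exists_le_sylow
  have hPM : (P : Subgroup H) ≤ M := h.two_le_mGrp T hT P.isPGroup' (hDQ.trans hQP)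
  have hPα : Stb α (P : Subgroup H) := h.stb_of_mid T hT (hDQ.trans hQP) hPM
  set P' : Sylow 2 H := g⁻¹ • P with hP'
  have hP'mem : ∀ y, y ∈ (P' : Subgroup H) ↔ g * y * g⁻¹ ∈ (P : Subgroup H) := by
    intro y
    rw [hP', Sylow.coe_subgroup_smul, Subgroup.mem_pointwise_smul_iff_inv_smul_mem]
    simp [MulAut.smul_def, mul_assoc]
  have hDP' : dGrp α T ≤ (P' : Subgroup H) := fun d hd =>
    (hP'mem d).2 (hQP (hD'Q ⟨d, hd, rfl⟩))
  have hP'M : (P' : Subgroup H) ≤ M := h.two_le_mGrp T hT P'.isPGroup' hDP'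
  obtain ⟨m, hm⟩ := MulAction.exists_smul_eq M (P.subtype hPM) (P'.subtype hP'M)
  rw [Sylow.smul_subtype hPM] at hm
  have hmP : ((m : H) • P : Sylow 2 H) = g⁻¹ • P := Sylow.subtype_injective hm
  have hN : g * (m : H) ∈ Subgroup.normalizer ((P : Subgroup H) : Set H) := by
    refine Sylow.smul_eq_iff_mem_normalizer.1 ?_
    rw [mul_smul, hmP, smul_inv_smul]
  have hPne : (P : Subgroup H) ≠ ⊤ := fun e1 => h.mGrp_ne_top T hT (top_le_iff.1 (e1 ▸ hPM))
  have h1 := h.normalizer_le_mGrp T hT hPα hPne (hDQ.trans hQP) hN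
  simpa using M.mul_mem h1 (M.inv_mem m.2)

/-- `Z` is normal in `M`. -/
theorem Min.conj_mem_zGrp {m z : H} (hm : m ∈ mGrp α T) (hz : z ∈ zGrp α T) :
    m * z * m⁻¹ ∈ zGrp α T := by
  refine (h.mem_zGrp_iff T hT).2 ⟨(Subgroup.mem_normalizer_iff.1 hm z).1 hz.1, fun y hy => ?_⟩
  have hy' : m⁻¹ * y * m ∈ dGrp α T := by
    have := (Subgroup.mem_normalizer_iff.1 (inv_mem hm) y).1 hy
    simpa using this
  have h1 := h.zGrp_le_centralizer T hT hz hy'
  calc m * z * m⁻¹ * y = m * (z * (m⁻¹ * y * m)) * m⁻¹ := by group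
    _ = y * (m * z * m⁻¹) := by rw [h1]; group

/-- For `z ∈ Z` outside the centre the elements commuting with `z` modulo the centre lie in `M`. -/
theorem Min.cStar_le_mGrp {z : H} (hz : z ∈ zGrp α T) (hzc : z ∉ Subgroup.center H) :
    cStar z ≤ mGrp α T := by
  refine h.le_mGrp T hT (stb_cStar (mem_fixG.1 hz.2)) (fun e1 => hzc (h.mem_center_of_cStar_eq_top T hT e1))
    fun d hd => ?_
  rw [mem_cStar, commutatorElement_eq_one_iff_mul_comm.2 (h.zGrp_le_centralizer T hT hz hd).symm]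
  exact one_mem _

/-- `Z` is a TI set modulo the centre. -/
theorem Min.mem_mGrp_of_conj_zGrp {g z z' c : H} (hz : z ∈ zGrp α T) (hzc : z ∉ Subgroup.center H)
    (hz' : z' ∈ zGrp α T) (hc : c ∈ Subgroup.center H) (heq : g * z' * g⁻¹ = z * c) :
    g ∈ mGrp α T := by
  refine h.mem_mGrp_of_conj_le T hT fun d hd => h.cStar_le_mGrp T hT hz hzc ?_
  have h1 : (g * d * g⁻¹) * (g * z' * g⁻¹) = (g * z' * g⁻¹) * (g * d * g⁻¹) := by
    calc (g * d * g⁻¹) * (g * z' * g⁻¹) = g * (d * z') * g⁻¹ := by group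
      _ = g * (z' * d) * g⁻¹ := by rw [h.zGrp_le_centralizer T hT hz' hd]
      _ = _ := by group
  rw [heq] at h1
  refine centralizer_le_cStar z (mem_centralizer_singleton_iff.2 ?_)
  refine mul_right_cancel (b := c) ?_
  calc g * d * g⁻¹ * z * c = z * c * (g * d * g⁻¹) := by rw [mul_assoc _ z c, h1]
    _ = z * (g * d * g⁻¹) * c := by
      rw [mul_assoc z c, ← mem_center_iff.1 hc (g * d * g⁻¹), ← mul_assoc]

/-- A fixed element of `M` commuting with `D` modulo `Z` commutes with `D`. -/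
theorem Min.commute_of_trivial_mod {c : H} (hc : α c = c)
    (hZ : ∀ d ∈ dGrp α T, d⁻¹ * (c * d * c⁻¹) ∈ zGrp α T) :
    ∀ d ∈ dGrp α T, c * d = d * c := by
  intro d hd
  let U : Subgroup H :=
    { carrier := {y | y ∈ dGrp α T ∧ c * y = y * c}
      one_mem' := ⟨one_mem _, by simp⟩
      mul_mem' := fun {a b} ha hb => ⟨mul_mem ha.1 hb.1, by
        rw [← mul_assoc, ha.2, mul_assoc, hb.2, mul_assoc]⟩
      inv_mem' := fun {a} ha => ⟨inv_mem ha.1, by
        calc c * a⁻¹ = a⁻¹ * (a * c) * a⁻¹ := by group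
          _ = a⁻¹ * c := by rw [← ha.2]; group⟩ }
  have hle : cm α (dGrp α T) ≤ U := cm_le_iff.2 fun y hy => by
    have hy' := stb_dGrp T hT y hy
    refine ⟨mul_mem (inv_mem hy) hy', ?_⟩
    set z := y⁻¹ * (c * y * c⁻¹) with hz
    have hzZ := hZ y hy
    have h1 : c * y * c⁻¹ = y * z := by rw [hz]; group
    have h2 : c * α y * c⁻¹ = α y * z := by
      have := congrArg α h1
      rwa [map_mul, map_mul, map_inv, map_mul, hc, mem_fixG.1 hzZ.2] at this
    have hzc := h.zGrp_le_centralizer T hT hzZ (mul_mem (inv_mem hy) hy')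
    refine mul_inv_eq_iff_eq_mul.1 ?_
    calc c * (y⁻¹ * α y) * c⁻¹ = (c * y * c⁻¹)⁻¹ * (c * α y * c⁻¹) := by group
      _ = z⁻¹ * ((y⁻¹ * α y) * z) := by rw [h1, h2]; group
      _ = y⁻¹ * α y := by rw [← hzc, inv_mul_cancel_left]
  exact ((h.cm_dGrp T hT).symm ▸ hle : dGrp α T ≤ U) hd |>.2

/-- A fixed `2`-element of `M` centralising `Z` centralises `D`. -/
theorem Min.exact_of_centralizes {c : H} (hc : α c = c) (hcM : c ∈ mGrp α T) {k : ℕ}
    (hck : c ^ 2 ^ k = 1) (hcZ : ∀ z ∈ zGrp α T, c * z = z * c) :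
    ∀ d ∈ dGrp α T, c * d = d * c := by
  refine h.commute_of_trivial_mod T hT hc ?_
  set D := dGrp α T with hD
  set Z := zGrp α T with hZdef
  have hconjD : ∀ d ∈ D, c * d * c⁻¹ ∈ D := fun d hd => (Subgroup.mem_normalizer_iff.1 hcM d).1 hd
  have hconjZ : ∀ z ∈ Z, c * z * c⁻¹ = z := fun z hz => by rw [hcZ z hz, mul_inv_cancel_right]
  let F : Subgroup H :=
    { carrier := {a | a ∈ D ∧ a⁻¹ * (c * a * c⁻¹) ∈ Z}
      one_mem' := ⟨one_mem _, by simp⟩
      mul_mem' := fun {a b} ha hb => ⟨mul_mem ha.1 hb.1, by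
        rw [show (a * b)⁻¹ * (c * (a * b) * c⁻¹) =
          b⁻¹ * ((a⁻¹ * (c * a * c⁻¹)) * b) * (b⁻¹ * (c * b * c⁻¹)) by group,
          h.zGrp_le_centralizer T hT ha.2 hb.1, inv_mul_cancel_left]
        exact mul_mem ha.2 hb.2⟩
      inv_mem' := fun {a} ha => ⟨inv_mem ha.1, by
        rw [show a⁻¹⁻¹ * (c * a⁻¹ * c⁻¹) = a * (a⁻¹ * (c * a * c⁻¹))⁻¹ * a⁻¹ by group,
          ← h.zGrp_le_centralizer T hT (inv_mem ha.2) ha.1, mul_inv_cancel_right]
        exact inv_mem ha.2⟩ }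
  set N := closure ({y | ∃ b ∈ D, y = b⁻¹ * (c * b * c⁻¹)} ∪ (Z : Set H)) with hN
  have hND : N ≤ D := (closure_le _).2 (by
    rintro y (⟨b, hb, rfl⟩ | hy)
    · exact mul_mem (inv_mem hb) (hconjD b hb)
    · exact hy.1)
  have hFN : ∀ a ∈ F, ∀ y ∈ N, a * y = y * a := by
    intro a ha y hy
    refine (mem_centralizer_singleton_iff.1 ((show N ≤ Subgroup.centralizer {a} from ?_) hy)).symm
    rw [hN, closure_le]
    rintro w (⟨b, hb, rfl⟩ | hw)
    · rw [SetLike.mem_coe, mem_centralizer_singleton_iff]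
      have h1 := h.commutator_mem_zGrp T hT ha.1 hb
      set z := a⁻¹ * (c * a * c⁻¹) with hz
      have hca : c * a * c⁻¹ = a * z := by rw [hz]; group
      have hzb := h.zGrp_le_centralizer T hT ha.2 (hconjD b hb)
      have h2 : ⁅a, c * b * c⁻¹⁆ = ⁅a, b⁆ := by
        symm
        calc ⁅a, b⁆ = c * ⁅a, b⁆ * c⁻¹ := (hconjZ _ h1).symm
          _ = ⁅c * a * c⁻¹, c * b * c⁻¹⁆ := by simp only [commutatorElement_def]; group
          _ = ⁅a * z, c * b * c⁻¹⁆ := by rw [hca]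
          _ = a * (z * (c * b * c⁻¹) * z⁻¹) * a⁻¹ * (c * b * c⁻¹)⁻¹ := by
            simp only [commutatorElement_def]; group
          _ = ⁅a, c * b * c⁻¹⁆ := by rw [hzb, mul_inv_cancel_right]; rfl
      symm
      rw [← commutatorElement_eq_one_iff_mul_comm]
      have hbz := h.zGrp_le_centralizer T hT h1 hb
      have h3 : ⁅a, b⁻¹ * (c * b * c⁻¹)⁆ = b⁻¹ * (⁅a, b⁆⁻¹ * ⁅a, c * b * c⁻¹⁆) * b := by
        simp only [commutatorElement_def]; group
      rw [h3, h2, inv_mul_cancel, mul_one, inv_mul_cancel]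
    · rw [SetLike.mem_coe, mem_centralizer_singleton_iff]
      exact h.zGrp_le_centralizer T hT hw ha.1
  have hFα : Stb α F := fun a ha => ⟨stb_dGrp T hT a ha.1, by
    rw [show (α a)⁻¹ * (c * α a * c⁻¹) = α (a⁻¹ * (c * a * c⁻¹)) by
      rw [map_mul, map_inv, map_mul, map_mul, map_inv, hc], mem_fixG.1 ha.2.2]
    exact ha.2⟩
  have hNα : Stb α N := by
    refine stb_closure ?_
    rintro y (⟨b, hb, rfl⟩ | hy)
    · refine subset_closure (Or.inl ⟨α b, stb_dGrp T hT b hb, ?_⟩)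
      rw [map_mul, map_inv, map_mul, map_mul, map_inv, hc]
    · rw [show α y = y from mem_fixG.1 hy.2]
      exact subset_closure (Or.inr hy)
  have hFNZ : F ⊓ N ≤ Z := by
    intro x hx
    have hab := (h.dRep T hT).fixes_abelian ((F ⊓ N).subgroupOf D)
      (fun a ha b hb => Subtype.ext (hFN a ha.1 b hb.2))
      (fun a ha => ⟨hFα _ ha.1, hNα _ ha.2⟩) ⟨x, hx.1.1⟩ hx
    exact ⟨hx.1.1, congrArg Subtype.val hab⟩
  -- the action of `c` on `N / Z`
  intro d hd
  have hdN : d⁻¹ * (c * d * c⁻¹) ∈ N := subset_closure (Or.inl ⟨d, hd, rfl⟩)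
  have hNc : ∀ y ∈ N, c * y * c⁻¹ ∈ N := by
    intro y hy
    refine (show N ≤ N.comap (MulAut.conj c).toMonoidHom from ?_) hy
    rw [hN, closure_le]
    rintro w (⟨b, hb, rfl⟩ | hw)
    · refine subset_closure (Or.inl ⟨c * b * c⁻¹, hconjD b hb, ?_⟩)
      show c * (b⁻¹ * (c * b * c⁻¹)) * c⁻¹ = _
      group
    · rw [SetLike.mem_coe, Subgroup.mem_comap]
      simp only [MulEquiv.coe_toMonoidHom, MulAut.conj_apply]
      rw [hconjZ w hw]
      exact subset_closure (Or.inr hw)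
  haveI : Fact (Nat.Prime 2) := ⟨Nat.prime_two⟩
  by_contra hdZ
  set ZN := Z.subgroupOf N with hZN
  haveI : ZN.Normal := ⟨fun z hz g => Subgroup.mem_subgroupOf.2 (by
    show (g : H) * z * (g : H)⁻¹ ∈ Z
    rw [← h.zGrp_le_centralizer T hT (Subgroup.mem_subgroupOf.1 hz) (hND g.2), mul_inv_cancel_right]
    exact hz)⟩
  have hcN : c ∈ Subgroup.normalizer (N : Set H) := Lib.FS.mem_normalizer_of_conj_mem hNc
  set κ : MulAut N := N.normalizerMonoidHom ⟨c, hcN⟩ with hκ
  have hκv : ∀ y : N, (κ y : H) = c * y * c⁻¹ := fun y => rfl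
  have hκZ : ZN.map κ.toMonoidHom = ZN := by
    refine Stb.map_eq (β := κ) fun y hy => Subgroup.mem_subgroupOf.2 ?_
    rw [hκv, hconjZ (y : H) (Subgroup.mem_subgroupOf.1 hy)]
    exact Subgroup.mem_subgroupOf.1 hy
  set κb : MulAut (N ⧸ ZN) := QuotientGroup.congr ZN ZN κ hκZ with hκb
  have hκb2 : IsPGroup 2 (Subgroup.zpowers κb) := by
    have hpow : ∀ (j : ℕ) (y : N), (κb ^ j) (QuotientGroup.mk y) = QuotientGroup.mk ((κ ^ j) y) := by
      intro j
      induction j with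
      | zero => intro y; rfl
      | succ j ih => intro y; rw [pow_succ, pow_succ, MulAut.mul_apply, MulAut.mul_apply, ← ih]; rfl
    have hκk : κ ^ 2 ^ k = 1 := by
      rw [hκ, ← map_pow, show (⟨c, hcN⟩ : Subgroup.normalizer (N : Set H)) ^ 2 ^ k = 1 from
        Subtype.ext hck, map_one]
    have hb : κb ^ 2 ^ k = 1 := MulEquiv.ext fun x => QuotientGroup.induction_on x fun y => by
      rw [hpow, hκk]; rfl
    rintro ⟨g, i, rfl⟩
    refine ⟨k, Subtype.ext ?_⟩
    show (κb ^ i) ^ 2 ^ k = 1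
    rw [← zpow_natCast (κb ^ i), ← zpow_mul, mul_comm, zpow_mul, zpow_natCast, hb, one_zpow]
  haveI : Finite (MulAut (N ⧸ ZN)) :=
    Finite.of_injective (fun f : MulAut (N ⧸ ZN) => (f : N ⧸ ZN → N ⧸ ZN)) DFunLike.coe_injective
  have hdvd : 2 ∣ Nat.card (N ⧸ ZN) := by
    have hN2 : IsPGroup 2 (N ⧸ ZN) := ((isPGroup_dGrp T hT).to_le hND).to_quotient ZN
    obtain ⟨i, hi⟩ := IsPGroup.iff_card.1 hN2
    rw [hi]
    refine dvd_pow_self 2 fun h0 => hdZ ?_
    rw [h0, pow_zero] at hi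
    haveI := (Nat.card_eq_one_iff_unique.1 hi).1
    exact Subgroup.mem_subgroupOf.1 ((QuotientGroup.eq_one_iff (⟨_, hdN⟩ : N)).1 (Subsingleton.elim _ _))
  obtain ⟨v, hv, hv1⟩ := hκb2.exists_fixed_point_of_prime_dvd_card_of_fixed_point (α := N ⧸ ZN) hdvd
    (a := 1) (fun g => map_one (g : MulAut (N ⧸ ZN)))
  induction v using QuotientGroup.induction_on with
  | H y =>
    apply hv1
    symm
    refine (QuotientGroup.eq_one_iff y).2 (Subgroup.mem_subgroupOf.2 (hFNZ ⟨⟨hND y.2, ?_⟩, y.2⟩))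
    have h1 : (QuotientGroup.mk (κ y) : N ⧸ ZN) = QuotientGroup.mk y := hv ⟨κb, Subgroup.mem_zpowers κb⟩
    have h2 := Subgroup.mem_subgroupOf.1 (QuotientGroup.eq.1 h1.symm)
    exact h2

end Cfsg.Agent.Lib.HHS57
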