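import Cfsg.Agent.Lib.HHS57.Local
import Cfsg.Agent.Lib.Tech42.FpfAut.Stab
import Cfsg.Agent.Lib.Tech42.FpfAut.Eigen

/-!
# `D` on an invariant subspace on which `Z` acts by signs (helper18)

The radical of the induced commutator form has index `(r - 1) ^ 2` in `D`.
-/

set_option autoImplicit false
set_option linter.style.haveILetI false
set_option linter.unusedSectionVars false

namespace Cfsg.Agent.Lib.HHS57

open Cfsg Cfsg.Agent.Lib
open Cfsg.Agent.Lib.FpfAut (stabS resS mem_stabS resS_apply)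
open Subgroup
open scoped commutatorElement

universe u

variable {H : Type u} [Group H] [Finite H] {p r : ℕ} {α : MulAut H} {V : Type u} [CommGroup V]
  [Finite V] {ψ : H →* MulAut V} {e : MulAut V}

/-- `z` acts on `E` as a sign. -/
def SignOn (ψ : H →* MulAut V) (E : Subgroup V) (z : H) : Prop :=
  (∀ t ∈ E, ψ z t = t) ∨ ∀ t ∈ E, ψ z t = t⁻¹

variable (h : Min p r α ψ e) (T : Sylow 2 H) (hT : Stb α (T : Subgroup H))

include h hT

/-- The radical on a sign space. -/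
theorem Min.eigen_index (E : Subgroup V) (hDE : ∀ d ∈ dGrp α T, ∀ t ∈ E, ψ d t ∈ E)
    (heE : ∀ t ∈ E, e t ∈ E) (hsgn : ∀ z ∈ zGrp α T, SignOn ψ E z)
    (hne : ∃ a ∈ dGrp α T, ∃ b ∈ dGrp α T, ∃ t ∈ E, ψ ⁅a, b⁆ t ≠ t) :
    ∃ R : Subgroup H, ∃ m : ℕ,
      (∀ d, d ∈ R ↔ d ∈ dGrp α T ∧ ∀ y ∈ dGrp α T, ∀ t ∈ E, ψ ⁅d, y⁆ t = t) ∧
      0 < m ∧ r = 2 ^ m + 1 ∧ R.relIndex (dGrp α T) = 2 ^ (2 * m) ∧
      (∀ d ∈ dGrp α T, d⁻¹ * α d ∈ R → d ∈ R) := by
  set D := dGrp α T with hD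
  set β := resA α D (stb_dGrp T hT) with hβ
  let f : D →* stabS E := (ψ.comp D.subtype).codRestrict _ fun d => mem_stabS (hDE d d.2)
  let θ₀ : D →* MulAut E := (resS E).comp f
  have hθ₀ : ∀ (d : D) (t : E), ((θ₀ d t : E) : V) = ψ d t := fun d t => rfl
  let eE : MulAut E := resS E ⟨e, mem_stabS heE⟩
  have heE' : ∀ t : E, ((eE t : E) : V) = e t := fun t => rfl
  have hcompat : ∀ d : D, θ₀ (β d) = eE * θ₀ d * eE⁻¹ := fun d => by
    refine MulEquiv.ext fun t => Subtype.ext ?_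
    show ψ (β d : H) (t : V) = _
    rw [resA_apply, h.compat]
    rfl
  set Q := θ₀.range with hQ
  have hQmem : ∀ q ∈ Q, eE * q * eE⁻¹ ∈ Q := by
    rintro _ ⟨d, rfl⟩
    exact ⟨β d, hcompat d⟩
  have hQst : Stb (MulAut.conj eE) Q := fun q hq => hQmem q hq
  set γ := resA (MulAut.conj eE) Q hQst with hγ
  let π : D →* Q := θ₀.rangeRestrict
  have hπ : ∀ d, γ (π d) = π (β d) := fun d => Subtype.ext (hcompat d).symm
  have heEr : eE ^ r = 1 := by
    show (resS E ⟨e, mem_stabS heE⟩) ^ r = 1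
    rw [← map_pow, show (⟨e, mem_stabS heE⟩ : stabS E) ^ r = 1 from Subtype.ext h.he, map_one]
  have hrep : FpfRep p r γ Q.subtype eE :=
    { hp := h.hp, hp2 := h.hp2, hr := h.hr, hr2 := h.r_ne_two T hT, hrp := h.r_ne_p
      hQ := (isPGroup_dGrp T hT).of_surjective π θ₀.rangeRestrict_surjective
      hexp := fun t => Subtype.ext (h.hexp t)
      hα := resA_pow_r (by rw [← map_pow, heEr, map_one]) hQst
      he := heEr
      hfpf := fun t ht => Subtype.ext (h.hfpf _ (congrArg Subtype.val ht))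
      inj := Q.subtype_injective
      compat := fun q => rfl }
  have hgen : cm γ (⊤ : Subgroup Q) = ⊤ := by
    rw [eq_top_iff]
    rintro q -
    obtain ⟨d, rfl⟩ := θ₀.rangeRestrict_surjective q
    have h1 : d ∈ cm β (⊤ : Subgroup D) := by rw [h.cm_resA_dGrp T hT]; exact mem_top d
    induction h1 using closure_induction with
    | mem y hy =>
      obtain ⟨w, -, rfl⟩ := hy
      rw [map_mul, map_inv, ← hπ]
      exact mem_cm (mem_top _)
    | one => simp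
    | mul a b _ _ ha hb => rw [map_mul]; exact mul_mem ha hb
    | inv a _ ha => rw [map_inv]; exact inv_mem ha
  obtain ⟨a₀, ha₀, b₀, hb₀, t₀, ht₀, hne₀⟩ := hne
  have hcomm : ∀ a b : D, (⁅π a, π b⁆ : Q) = π ⁅a, b⁆ := fun a b => (map_commutatorElement π a b).symm
  have hsign : ∀ a b : D, ⁅π a, π b⁆ = 1 ∨ ⁅π a, π b⁆ = ⁅π ⟨a₀, ha₀⟩, π ⟨b₀, hb₀⟩⁆ := by
    intro a b
    rw [hcomm, hcomm]
    rcases hsgn _ (h.commutator_mem_zGrp T hT a.2 b.2) with h1 | h1
    · exact Or.inl (Subtype.ext (MulEquiv.ext fun t => Subtype.ext (h1 t t.2)))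
    · rcases hsgn _ (h.commutator_mem_zGrp T hT ha₀ hb₀) with h2 | h2
      · exact absurd (h2 t₀ ht₀) hne₀
      · exact Or.inr (Subtype.ext (MulEquiv.ext fun t => Subtype.ext ((h1 t t.2).trans (h2 t t.2).symm)))
  obtain ⟨m, hm0, hrm, hidx, -⟩ := hrep.index_center hgen ⟨π ⁅(⟨a₀, ha₀⟩ : D), ⟨b₀, hb₀⟩⁆, fun e1 => hne₀
    (congrArg Subtype.val (DFunLike.congr_fun (congrArg Subtype.val e1) (⟨t₀, ht₀⟩ : E)))⟩ _ (fun x y => by
      obtain ⟨a, rfl⟩ := θ₀.rangeRestrict_surjective x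
      obtain ⟨b, rfl⟩ := θ₀.rangeRestrict_surjective y
      exact hsign a b)
  have hcen : ∀ d : D, d ∈ (center Q).comap π ↔ ∀ y ∈ D, ∀ t ∈ E, ψ ⁅(d : H), y⁆ t = t := by
    intro d
    rw [Subgroup.mem_comap, mem_center_iff]
    constructor
    · intro hd y hy t ht
      have h1 : ⁅π d, π ⟨y, hy⟩⁆ = 1 := commutatorElement_eq_one_iff_mul_comm.2 (hd _).symm
      rw [hcomm] at h1
      exact congrArg Subtype.val (DFunLike.congr_fun (congrArg Subtype.val h1) (⟨t, ht⟩ : E))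
    · intro hd q
      obtain ⟨y, rfl⟩ := θ₀.rangeRestrict_surjective q
      symm
      rw [← commutatorElement_eq_one_iff_mul_comm, hcomm]
      exact Subtype.ext (MulEquiv.ext fun t => Subtype.ext (hd y y.2 t t.2))
  refine ⟨((center Q).comap π).map D.subtype, m, fun d => ⟨?_, fun hd => ⟨⟨d, hd.1⟩, (hcen _).2 hd.2, rfl⟩⟩,
    hm0, hrm, ?_, ?_⟩
  · rintro ⟨x, hx, rfl⟩
    exact ⟨x.2, (hcen x).1 hx⟩
  · rw [Subgroup.relIndex, Subgroup.subgroupOf, Subgroup.comap_map_eq_self_of_injective D.subtype_injective,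
      Subgroup.index_comap_of_surjective _ θ₀.rangeRestrict_surjective, hidx]
  · intro d hd hx
    obtain ⟨x, hx1, hx2⟩ := hx
    have hxd : x = (⟨d, hd⟩ : D)⁻¹ * β ⟨d, hd⟩ := Subtype.ext hx2
    refine ⟨⟨d, hd⟩, hrep.mem_center_of_inv_mul hgen ?_, rfl⟩
    rw [hπ, ← map_inv, ← map_mul, ← hxd]
    exact hx1

end Cfsg.Agent.Lib.HHS57
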